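import Mathlib
import Cfsg.Prelude.Def_GeometricClasses
import Cfsg.Agent.Lib.Helper99.AschDefs

/-!
# Project ASCH (helper99), module [BURNSIDE] (helper39)

Burnside's theorem: an absolutely irreducible matrix group spans the full matrix algebra.
Proof by the Jacobson density theorem (`jacobson_density`).
-/

set_option autoImplicit false

namespace Cfsg.Agent.Lib.Helper39.AschBurnside

open Cfsg Cfsg.Geo Module

variable {ι : Type} [Fintype ι] [DecidableEq ι] {F : Type*} [Field F]

/-- the linear maps of the elements of `S` -/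
def linSet (S : Subgroup (GL ι F)) : Set (Module.End F (ι → F)) :=
  (fun s : Matrix ι ι F => Matrix.toLin' s) '' matrixSet S

/-- the subalgebra of `End_F(F^ι)` generated by `S` -/
def linAlg (S : Subgroup (GL ι F)) : Subalgebra F (Module.End F (ι → F)) :=
  Algebra.adjoin F (linSet S)

theorem toLin_mem_linAlg (S : Subgroup (GL ι F)) {s : Matrix ι ι F} (hs : s ∈ matrixSet S) :
    Matrix.toLin' s ∈ linAlg S :=
  Algebra.subset_adjoin ⟨s, hs, rfl⟩

/-- `linSet S` is (the carrier of) a submonoid -/
def linMonoid (S : Subgroup (GL ι F)) : Submonoid (Module.End F (ι → F)) where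
  carrier := linSet S
  one_mem' := ⟨1, ⟨1, S.one_mem, rfl⟩, by show Matrix.toLin' (1 : Matrix ι ι F) = 1; rw [Matrix.toLin'_one]; rfl⟩
  mul_mem' := by
    rintro _ _ ⟨_, ⟨a, ha, rfl⟩, rfl⟩ ⟨_, ⟨b, hb, rfl⟩, rfl⟩
    refine ⟨((a * b : GL ι F) : Matrix ι ι F), ⟨a * b, S.mul_mem ha hb, rfl⟩, ?_⟩
    simp [Matrix.toLin'_mul, Module.End.mul_eq_comp]

theorem linAlg_toSubmodule (S : Subgroup (GL ι F)) :
    Subalgebra.toSubmodule (linAlg S) = Submodule.span F (linSet S) := by
  unfold linAlg
  rw [Algebra.adjoin_eq_span]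
  congr 1
  exact (linMonoid S).closure_eq ▸ rfl

/-- irreducibility gives a simple module over `linAlg S` -/
theorem isSimpleModule_of_irred [Nonempty ι] (S : Subgroup (GL ι F))
    (hS : ActsIrreducibly (matrixSet S)) : IsSimpleModule (linAlg S) (ι → F) := by
  rw [isSimpleModule_iff]
  refine { exists_pair_ne := ⟨⊥, ⊤, bot_ne_top⟩, eq_bot_or_eq_top := ?_ }
  intro W
  have h := hS (W.restrictScalars F) (by
    intro s hs
    rintro _ ⟨w, hw, rfl⟩
    have : (⟨Matrix.toLin' s, toLin_mem_linAlg S hs⟩ : linAlg S) • w ∈ W := W.smul_mem _ hw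
    exact this)
  rcases h with h | h
  · left
    exact (Submodule.restrictScalars_eq_bot_iff F _ _).mp h
  · right
    exact (Submodule.restrictScalars_eq_top_iff F _ _).mp h

/-- endomorphisms of the `linAlg S`-module are scalar -/
theorem end_scalar (S : Subgroup (GL ι F))
    (hS : ∀ M : Matrix ι ι F, (∀ s ∈ matrixSet S, M * s = s * M) → ∃ c : F, M = c • (1 : Matrix ι ι F))
    (φ : Module.End (linAlg S) (ι → F)) : ∃ c : F, ∀ v, φ v = c • v := by
  let φF : (ι → F) →ₗ[F] (ι → F) := φ.restrictScalars F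
  have hφF : ∀ v, φF v = φ v := fun v => rfl
  obtain ⟨c, hc⟩ := hS (LinearMap.toMatrix' φF) (by
    intro s hs
    apply Matrix.toLin'.injective
    rw [Matrix.toLin'_mul, Matrix.toLin'_mul, Matrix.toLin'_toMatrix']
    apply LinearMap.ext
    intro v
    rw [LinearMap.comp_apply, LinearMap.comp_apply, hφF, hφF]
    have := φ.map_smul (⟨Matrix.toLin' s, toLin_mem_linAlg S hs⟩ : linAlg S) v
    exact this)
  refine ⟨c, fun v => ?_⟩
  have h1 : φF = Matrix.toLin' (c • (1 : Matrix ι ι F)) := by
    rw [← hc, Matrix.toLin'_toMatrix']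
  rw [← hφF, h1]
  simp

/-- density: `linAlg S = ⊤` -/
theorem linAlg_eq_top [Nonempty ι] (S : Subgroup (GL ι F))
    (hS : ActsAbsolutelyIrreducibly (matrixSet S)) : linAlg S = ⊤ := by
  classical
  have hsimple := isSimpleModule_of_irred S hS.1
  rw [eq_top_iff]
  intro g _
  -- `g` as an endomorphism over `End_{linAlg S}`
  let f : Module.End (Module.End (linAlg S) (ι → F)) (ι → F) :=
    { toFun := g
      map_add' := g.map_add
      map_smul' := by
        intro φ v
        obtain ⟨c, hc⟩ := end_scalar S hS.2 φ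
        show g (φ v) = φ (g v)
        rw [hc, hc, map_smul] }
  obtain ⟨r, hr⟩ := jacobson_density (R := ↥(linAlg S)) (M := ι → F) f (Finset.univ.image (fun i : ι => (Pi.single i 1 : ι → F)))
  have hg : g = (r : Module.End F (ι → F)) := by
    apply LinearMap.pi_ext'
    intro i
    apply LinearMap.ext_ring
    have := hr (Pi.single i 1) (Finset.mem_image.mpr ⟨i, Finset.mem_univ _, rfl⟩)
    show g (Pi.single i 1) = (r : Module.End F (ι → F)) (Pi.single i 1)
    exact this
  rw [hg]
  exact r.2

end Cfsg.Agent.Lib.Helper39.AschBurnside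

namespace Cfsg.Agent.Lib.Helper99.Asch

open Cfsg Cfsg.Geo
open Cfsg.Agent.Lib.Helper39.AschBurnside

/-- ASCH-[BURNSIDE]: Burnside's theorem (general index type, any field) -/
theorem span_eq_top_of_absIrred' {ι : Type} [Fintype ι] [DecidableEq ι] {F : Type*} [Field F]
    (S : Subgroup (GL ι F)) (hS : ActsAbsolutelyIrreducibly (matrixSet S)) :
    Submodule.span F (matrixSet S) = ⊤ := by
  rcases isEmpty_or_nonempty ι with hι | hι
  · rw [eq_top_iff]
    intro x _
    have : x = 0 := Subsingleton.elim _ _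
    rw [this]
    exact Submodule.zero_mem _
  · rw [eq_top_iff]
    intro M _
    have h1 : Matrix.toLin' M ∈ Subalgebra.toSubmodule (linAlg S) := by
      rw [Subalgebra.mem_toSubmodule, linAlg_eq_top S hS]
      exact Algebra.mem_top
    rw [linAlg_toSubmodule] at h1
    have h2 : Submodule.span F (linSet S) =
        (Submodule.span F (matrixSet S)).map (Matrix.toLin' : Matrix ι ι F ≃ₗ[F] _).toLinearMap := by
      rw [Submodule.map_span]
      rfl
    rw [h2] at h1
    obtain ⟨M', hM', hMM'⟩ := h1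
    have : M' = M := (Matrix.toLin' : Matrix ι ι F ≃ₗ[F] _).injective hMM'
    rw [← this]
    exact hM'

/-- ASCH-[BURNSIDE]  Burnside's theorem. -/
theorem span_eq_top_of_absIrred {n : ℕ} {F : Type*} [Field F] [Fintype F]
    (S : Subgroup (GL (Fin n) F))
    (hS : ActsAbsolutelyIrreducibly (matrixSet S)) :
    Submodule.span F (matrixSet S) = ⊤ :=
  span_eq_top_of_absIrred' S hS

end Cfsg.Agent.Lib.Helper99.Asch
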