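import Mathlib

/-!
# Twisted averaging projections (helper39)

For a representation `ρ` of `G` on a finite-dimensional complex space `V`, a finite group
`H` with a homomorphism `φ : H →* G` and a linear character `lam : H →* ℂˣ`, the operator
`|H|⁻¹ ∑ h, (lam h)⁻¹ • ρ (φ h)` is the projection onto the `lam`-eigenspace
`{v | ∀ h, ρ (φ h) v = lam h • v}`; taking traces gives
`∑ h, (lam h)⁻¹ * χ (φ h) = |H| * dim (eigenspace)`.
-/

set_option autoImplicit false
set_option linter.style.haveILetI false

namespace Cfsg.Agent.Lib.Helper39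

open Representation

variable {G : Type*} [Group G] {H : Type*} [Group H] {V : Type*} [AddCommGroup V] [Module ℂ V]

/-- The representation of `H` on `V` given by `h ↦ (lam h)⁻¹ • ρ (φ h)`. -/
noncomputable def twistRep (ρ : Representation ℂ G V) (φ : H →* G) (lam : H →* ℂˣ) :
    Representation ℂ H V where
  toFun h := (((lam h)⁻¹ : ℂˣ) : ℂ) • ρ (φ h)
  map_one' := by simp
  map_mul' h k := by
    rw [smul_mul_smul_comm]
    simp [mul_comm]

theorem twistRep_apply (ρ : Representation ℂ G V) (φ : H →* G) (lam : H →* ℂˣ) (h : H) :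
    twistRep ρ φ lam h = (((lam h)⁻¹ : ℂˣ) : ℂ) • ρ (φ h) := rfl

/-- The `lam`-eigenspace of `H` in `V`. -/
noncomputable def eigenSub (ρ : Representation ℂ G V) (φ : H →* G) (lam : H →* ℂˣ) :
    Submodule ℂ V := (twistRep ρ φ lam).invariants

theorem mem_eigenSub (ρ : Representation ℂ G V) (φ : H →* G) (lam : H →* ℂˣ) (v : V) :
    v ∈ eigenSub ρ φ lam ↔ ∀ h : H, ρ (φ h) v = ((lam h : ℂˣ) : ℂ) • v := by
  unfold eigenSub
  rw [Representation.mem_invariants]
  refine forall_congr' fun h => ?_
  rw [twistRep_apply, LinearMap.smul_apply]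
  constructor
  · intro hv
    have := congrArg (fun w => ((lam h : ℂˣ) : ℂ) • w) hv
    simpa [smul_smul] using this
  · intro hv
    rw [hv, smul_smul]
    simp

/-- The (unnormalised) twisted averaging operator. -/
noncomputable def twistSum (ρ : Representation ℂ G V) (φ : H →* G) (lam : H →* ℂˣ) [Fintype H] :
    Module.End ℂ V := ∑ h : H, (((lam h)⁻¹ : ℂˣ) : ℂ) • ρ (φ h)

theorem twistSum_eq [Fintype H] (ρ : Representation ℂ G V) (φ : H →* G) (lam : H →* ℂˣ)
    [Invertible (Fintype.card H : ℂ)] :
    twistSum ρ φ lam = (Fintype.card H : ℂ) • (twistRep ρ φ lam).averageMap := by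
  have hne : (Fintype.card H : ℂ) ≠ 0 := by exact_mod_cast Fintype.card_ne_zero
  simp [Representation.averageMap, GroupAlgebra.average, map_sum, twistRep_apply, twistSum,
    smul_smul, hne]

theorem twistSum_mem [Fintype H] (ρ : Representation ℂ G V) (φ : H →* G) (lam : H →* ℂˣ)
    (v : V) : twistSum ρ φ lam v ∈ eigenSub ρ φ lam := by
  have hne : (Fintype.card H : ℂ) ≠ 0 := by exact_mod_cast Fintype.card_ne_zero
  haveI : Invertible (Fintype.card H : ℂ) := invertibleOfNonzero hne
  rw [twistSum_eq, LinearMap.smul_apply]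
  exact Submodule.smul_mem _ _ (Representation.averageMap_invariant _ v)

theorem twistSum_apply_of_mem [Fintype H] (ρ : Representation ℂ G V) (φ : H →* G)
    (lam : H →* ℂˣ) {v : V} (hv : v ∈ eigenSub ρ φ lam) :
    twistSum ρ φ lam v = (Fintype.card H : ℂ) • v := by
  have hne : (Fintype.card H : ℂ) ≠ 0 := by exact_mod_cast Fintype.card_ne_zero
  haveI : Invertible (Fintype.card H : ℂ) := invertibleOfNonzero hne
  rw [twistSum_eq, LinearMap.smul_apply, Representation.averageMap_id _ v hv]

/-- Trace formula for the twisted average. -/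
theorem sum_twist_character (ρ : Representation ℂ G V) [FiniteDimensional ℂ V]
    [Fintype H] (φ : H →* G) (lam : H →* ℂˣ) :
    ∑ h : H, (((lam h)⁻¹ : ℂˣ) : ℂ) * ρ.character (φ h) =
      (Fintype.card H : ℂ) * (Module.finrank ℂ (eigenSub ρ φ lam) : ℂ) := by
  have hne : (Fintype.card H : ℂ) ≠ 0 := by exact_mod_cast Fintype.card_ne_zero
  haveI : Invertible (Fintype.card H : ℂ) := invertibleOfNonzero hne
  have h1 := (Representation.isProj_averageMap (twistRep ρ φ lam)).trace
  have h2 : LinearMap.trace ℂ V (twistSum ρ φ lam) =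
      ∑ h : H, (((lam h)⁻¹ : ℂˣ) : ℂ) * ρ.character (φ h) := by
    simp [twistSum, map_sum, Representation.character]
  rw [← h2, twistSum_eq, map_smul, h1, smul_eq_mul]
  rfl

/-- If the twisted sum vanishes then so does the eigenspace, and conversely. -/
theorem twistSum_eq_zero_iff [Fintype H] (ρ : Representation ℂ G V) (φ : H →* G)
    (lam : H →* ℂˣ) : twistSum ρ φ lam = 0 ↔ eigenSub ρ φ lam = ⊥ := by
  have hne : (Fintype.card H : ℂ) ≠ 0 := by exact_mod_cast Fintype.card_ne_zero
  constructor
  · intro h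
    rw [eq_bot_iff]
    intro v hv
    have := twistSum_apply_of_mem ρ φ lam hv
    rw [h, LinearMap.zero_apply] at this
    rw [Submodule.mem_bot]
    exact (smul_eq_zero.mp this.symm).resolve_left hne
  · intro h
    ext v
    have := twistSum_mem ρ φ lam v
    rw [h, Submodule.mem_bot] at this
    simpa using this

end Cfsg.Agent.Lib.Helper39
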