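import Mathlib
import Cfsg.Prelude.Def_Characters

/-!
# Elementary matrices in `GL₂` (helper39)

`uT x`, `lT x`, `dT a b`, `wT` and their relations; every determinant-one element is a product
of elementary unipotent matrices.
-/

set_option autoImplicit false

namespace Cfsg.Agent.Lib.Helper39

open Matrix

variable {F : Type*} [Field F]

/-- upper unitriangular matrix -/
noncomputable def uT (x : F) : GL (Fin 2) F :=
  Matrix.GeneralLinearGroup.mkOfDetNeZero !![1, x; 0, 1] (by simp [Matrix.det_fin_two_of])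

/-- lower unitriangular matrix -/
noncomputable def lT (x : F) : GL (Fin 2) F :=
  Matrix.GeneralLinearGroup.mkOfDetNeZero !![1, 0; x, 1] (by simp [Matrix.det_fin_two_of])

/-- diagonal matrix -/
noncomputable def dT (a b : Fˣ) : GL (Fin 2) F :=
  Matrix.GeneralLinearGroup.mkOfDetNeZero !![(a : F), 0; 0, (b : F)]
    (by simp [Matrix.det_fin_two_of])

/-- the Weyl element -/
noncomputable def wT : GL (Fin 2) F :=
  Matrix.GeneralLinearGroup.mkOfDetNeZero !![0, 1; 1, 0] (by simp [Matrix.det_fin_two_of])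

theorem uT_val (x : F) : ((uT x : GL (Fin 2) F) : Matrix (Fin 2) (Fin 2) F) = !![1, x; 0, 1] := rfl
theorem lT_val (x : F) : ((lT x : GL (Fin 2) F) : Matrix (Fin 2) (Fin 2) F) = !![1, 0; x, 1] := rfl
theorem dT_val (a b : Fˣ) :
    ((dT a b : GL (Fin 2) F) : Matrix (Fin 2) (Fin 2) F) = !![(a : F), 0; 0, (b : F)] := rfl
theorem wT_val : ((wT : GL (Fin 2) F) : Matrix (Fin 2) (Fin 2) F) = !![0, 1; 1, 0] := rfl

theorem gl2_ext {g h : GL (Fin 2) F}
    (h00 : (g : Matrix (Fin 2) (Fin 2) F) 0 0 = (h : Matrix (Fin 2) (Fin 2) F) 0 0)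
    (h01 : (g : Matrix (Fin 2) (Fin 2) F) 0 1 = (h : Matrix (Fin 2) (Fin 2) F) 0 1)
    (h10 : (g : Matrix (Fin 2) (Fin 2) F) 1 0 = (h : Matrix (Fin 2) (Fin 2) F) 1 0)
    (h11 : (g : Matrix (Fin 2) (Fin 2) F) 1 1 = (h : Matrix (Fin 2) (Fin 2) F) 1 1) : g = h := by
  apply Units.ext
  ext i j
  fin_cases i <;> fin_cases j <;> assumption

theorem uT_add (x y : F) : uT (x + y) = uT x * uT y := by
  apply gl2_ext <;> simp [uT_val, Matrix.mul_apply, Fin.sum_univ_two, add_comm]

theorem uT_zero : uT (0 : F) = 1 := by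
  apply gl2_ext <;> simp [uT_val]

theorem lT_add (x y : F) : lT (x + y) = lT x * lT y := by
  apply gl2_ext <;> simp [lT_val, Matrix.mul_apply, Fin.sum_univ_two, add_comm]

theorem lT_zero : lT (0 : F) = 1 := by
  apply gl2_ext <;> simp [lT_val]

theorem uT_injective : Function.Injective (uT : F → GL (Fin 2) F) := by
  intro x y h
  have := congrArg (fun g : GL (Fin 2) F => (g : Matrix (Fin 2) (Fin 2) F) 0 1) h
  simpa [uT_val] using this

/-- `x ↦ uT x` as a homomorphism -/
noncomputable def uHom : Multiplicative F →* GL (Fin 2) F where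
  toFun x := uT x.toAdd
  map_one' := uT_zero
  map_mul' _ _ := uT_add _ _

theorem uHom_apply (x : Multiplicative F) : uHom x = uT x.toAdd := rfl

theorem dT_mul_uT (a b : Fˣ) (x : F) :
    dT a b * uT x = uT ((a : F) * x * ((b⁻¹ : Fˣ) : F)) * dT a b := by
  apply gl2_ext <;> simp [uT_val, dT_val, Matrix.mul_apply, Fin.sum_univ_two, mul_assoc]

theorem dT_mul_dT (a b a' b' : Fˣ) : dT a b * dT a' b' = dT (a * a') (b * b') := by
  apply gl2_ext <;> simp [dT_val, Matrix.mul_apply, Fin.sum_univ_two]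

theorem dT_one : dT (1 : Fˣ) 1 = 1 := by
  apply gl2_ext <;> simp [dT_val]

theorem wT_mul_uT (x : F) : wT * uT x = lT x * wT := by
  apply gl2_ext <;> simp [uT_val, lT_val, wT_val, Matrix.mul_apply, Fin.sum_univ_two]

theorem wT_mul_wT : (wT : GL (Fin 2) F) * wT = 1 := by
  apply gl2_ext <;> simp [wT_val, Matrix.mul_apply, Fin.sum_univ_two]

theorem wT_inv : (wT : GL (Fin 2) F)⁻¹ = wT := inv_eq_of_mul_eq_one_left wT_mul_wT

theorem wT_mul_dT (a b : Fˣ) : wT * dT a b = dT b a * wT := by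
  apply gl2_ext <;> simp [dT_val, wT_val, Matrix.mul_apply, Fin.sum_univ_two]

theorem uT_conj (x : F) (hx : x ≠ 0) :
    dT (Units.mk0 x hx) 1 * uT 1 * (dT (Units.mk0 x hx) 1)⁻¹ = uT x := by
  rw [dT_mul_uT]
  simp

theorem lT_conj (x : F) : wT * uT x * wT⁻¹ = lT x := by
  rw [wT_mul_uT]
  simp

/-- every element of determinant one is a product of elementary matrices -/
theorem exists_prod_of_det_eq_one (g : GL (Fin 2) F)
    (hg : (g : Matrix (Fin 2) (Fin 2) F).det = 1) :
    ∃ x y z w : F, g = lT w * uT x * lT y * uT z := by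
  rw [Matrix.det_fin_two] at hg
  by_cases hc : (g : Matrix (Fin 2) (Fin 2) F) 1 0 = 0
  · -- multiply by lT 1 first
    have ha : (g : Matrix (Fin 2) (Fin 2) F) 0 0 ≠ 0 := by
      intro h0; rw [h0, hc] at hg; simp at hg
    rw [hc] at hg
    refine ⟨((g : Matrix (Fin 2) (Fin 2) F) 0 0 - 1) / (g : Matrix (Fin 2) (Fin 2) F) 0 0,
      (g : Matrix (Fin 2) (Fin 2) F) 0 0,
      ((g : Matrix (Fin 2) (Fin 2) F) 0 1 + (g : Matrix (Fin 2) (Fin 2) F) 1 1 - 1)
        / (g : Matrix (Fin 2) (Fin 2) F) 0 0, -1, ?_⟩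
    apply gl2_ext
    · simp [uT_val, lT_val, Matrix.mul_apply, Fin.sum_univ_two]
      field_simp
      ring
    · simp [uT_val, lT_val, Matrix.mul_apply, Fin.sum_univ_two]
      field_simp
      linear_combination -hg
    · simp [uT_val, lT_val, Matrix.mul_apply, Fin.sum_univ_two]
      field_simp
      rw [hc]; ring
    · simp [uT_val, lT_val, Matrix.mul_apply, Fin.sum_univ_two]
      field_simp
      linear_combination hg
  · refine ⟨((g : Matrix (Fin 2) (Fin 2) F) 0 0 - 1) / (g : Matrix (Fin 2) (Fin 2) F) 1 0,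
      (g : Matrix (Fin 2) (Fin 2) F) 1 0,
      ((g : Matrix (Fin 2) (Fin 2) F) 1 1 - 1) / (g : Matrix (Fin 2) (Fin 2) F) 1 0, 0, ?_⟩
    apply gl2_ext
    · simp [uT_val, lT_val, Matrix.mul_apply, Fin.sum_univ_two]
      field_simp
      ring
    · simp [uT_val, lT_val, Matrix.mul_apply, Fin.sum_univ_two]
      field_simp
      linear_combination -hg
    · simp [uT_val, lT_val, Matrix.mul_apply, Fin.sum_univ_two]
    · simp [uT_val, lT_val, Matrix.mul_apply, Fin.sum_univ_two]
      field_simp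
      ring

end Cfsg.Agent.Lib.Helper39
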