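import Mathlib
import Cfsg.Prelude.Def_Characters
import Cfsg.Agent.Lib.Helper39.TwistProj
import Cfsg.Agent.Lib.Helper39.GL2Elem
import Cfsg.Agent.Lib.Helper78.CharMore
import Cfsg.Agent.Lib.Helper3.Integrality

/-!
# Characters of `GL₂(q)` at unipotent elements (helper39)

For a representation `ρ` of `GL₂(F)`, `q = |F|`, with `a = dim V^U` (`fixU ρ`), there is a natural
number `b` with `dim V = a + b (q - 1)` and `χ (uT 1) = a - b`; if `ρ` is irreducible of dimension
`> 1` then `V^U ≠ V`.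
-/

set_option autoImplicit false
set_option linter.style.haveILetI false

namespace Cfsg.Agent.Lib.Helper39

open Matrix

/-- An irreducible representation all of whose operators are scalars is one-dimensional. -/
theorem finrank_eq_one_of_scalar {G V : Type*} [Group G] [AddCommGroup V] [Module ℂ V]
    (ρ : Representation ℂ G V) (hρ : ρ.IsIrreducible)
    (h : ∀ g, ∃ c : ℂ, ρ g = c • (1 : Module.End ℂ V)) : Module.finrank ℂ V = 1 := by
  haveI := Cfsg.Agent.Lib.Helper78.nontrivial_of_isIrreducible ρ hρ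
  obtain ⟨v, hv⟩ := exists_ne (0 : V)
  let S : Subrepresentation ρ := ⟨Submodule.span ℂ {v}, by
    intro g w hw
    obtain ⟨c, hc⟩ := h g
    rw [hc]
    simpa using Submodule.smul_mem _ c hw⟩
  have hS : S ≠ ⊥ := by
    intro h0
    have : v ∈ S.toSubmodule := Submodule.mem_span_singleton_self v
    rw [h0] at this
    exact hv ((Submodule.mem_bot ℂ).mp this)
  have hT : S = ⊤ := (hρ.eq_bot_or_eq_top S).resolve_left hS
  have hT' : Submodule.span ℂ {v} = ⊤ := congrArg Subrepresentation.toSubmodule hT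
  exact (finrank_eq_one_iff_of_nonzero v hv).mpr hT'

variable {F : Type*} [Field F] {V : Type*} [AddCommGroup V] [Module ℂ V]

/-- the space of `U`-fixed vectors -/
noncomputable def fixUSub (ρ : Representation ℂ (GL (Fin 2) F) V) : Submodule ℂ V :=
  eigenSub ρ (uHom (F := F)) 1

theorem mem_fixUSub (ρ : Representation ℂ (GL (Fin 2) F) V) (v : V) :
    v ∈ fixUSub ρ ↔ ∀ x : F, ρ (uT x) v = v := by
  unfold fixUSub
  rw [mem_eigenSub]
  constructor
  · intro h x
    simpa [uHom_apply] using h (Multiplicative.ofAdd x)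
  · intro h x
    simpa [uHom_apply] using h x.toAdd

/-- the dimension of the space of `U`-fixed vectors -/
noncomputable def fixU (ρ : Representation ℂ (GL (Fin 2) F) V) : ℕ :=
  Module.finrank ℂ (fixUSub ρ)

theorem char_uT_eq [FiniteDimensional ℂ V] (ρ : Representation ℂ (GL (Fin 2) F) V) (x : F)
    (hx : x ≠ 0) : ρ.character (uT x) = ρ.character (uT 1) := by
  rw [← uT_conj x hx, Representation.char_conj]

theorem fixU_le [FiniteDimensional ℂ V] (ρ : Representation ℂ (GL (Fin 2) F) V) :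
    fixU ρ ≤ Module.finrank ℂ V := Submodule.finrank_le _

variable [Fintype F]

theorem sum_char_uT [FiniteDimensional ℂ V] (ρ : Representation ℂ (GL (Fin 2) F) V) :
    ∑ x : F, ρ.character (uT x) = (Fintype.card F : ℂ) * (fixU ρ : ℂ) := by
  have h := sum_twist_character ρ (uHom (F := F)) 1
  simp only [MonoidHom.one_apply, inv_one, Units.val_one, one_mul, uHom_apply] at h
  have hc : Fintype.card (Multiplicative F) = Fintype.card F := Fintype.card_multiplicative F
  rw [hc] at h
  rw [fixU, fixUSub, ← h]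
  exact Fintype.sum_equiv Multiplicative.ofAdd _ _ (fun x => rfl)

theorem char_one_add [FiniteDimensional ℂ V] (ρ : Representation ℂ (GL (Fin 2) F) V) :
    (Module.finrank ℂ V : ℂ) + ((Fintype.card F : ℂ) - 1) * ρ.character (uT 1) =
      (Fintype.card F : ℂ) * (fixU ρ : ℂ) := by
  classical
  rw [← sum_char_uT, ← Finset.add_sum_erase Finset.univ _ (Finset.mem_univ (0 : F)), uT_zero,
    Representation.char_one]
  congr 1
  rw [Finset.sum_congr rfl (fun x hx => char_uT_eq ρ x (Finset.ne_of_mem_erase hx)),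
    Finset.sum_const, Finset.card_erase_of_mem (Finset.mem_univ _), Finset.card_univ, nsmul_eq_mul,
    Nat.cast_sub Fintype.card_pos, Nat.cast_one]

/-- the structure of the restriction to `U`: `dim V = a + b (q-1)`, `χ(u) = a - b`. -/
theorem exists_b [FiniteDimensional ℂ V] (ρ : Representation ℂ (GL (Fin 2) F) V) :
    ∃ b : ℕ, Module.finrank ℂ V = fixU ρ + b * (Fintype.card F - 1) ∧
      ρ.character (uT 1) = (fixU ρ : ℂ) - (b : ℂ) := by
  have hq : 2 ≤ Fintype.card F := Fintype.one_lt_card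
  have h1 := char_one_add ρ
  have hq1 : ((Fintype.card F : ℂ) - 1) ≠ 0 := by
    have : (Fintype.card F : ℂ) ≠ 1 := by
      have : Fintype.card F ≠ 1 := by omega
      exact_mod_cast this
    exact sub_ne_zero.mpr this
  have hc : ρ.character (uT 1) =
      ((((Fintype.card F : ℚ) * (fixU ρ : ℚ) - (Module.finrank ℂ V : ℚ)) /
        ((Fintype.card F : ℚ) - 1) : ℚ) : ℂ) := by
    push_cast
    rw [eq_div_iff hq1]
    linear_combination h1
  have hint : IsIntegral ℤ (ρ.character (uT (1 : F))) :=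
    Cfsg.Agent.Lib.Helper78.character_isIntegral ρ _
  rw [hc] at hint
  obtain ⟨m, hm⟩ := Cfsg.Agent.Lib.Helper3.exists_int_of_isIntegral_ratCast _ hint
  have hcm : ρ.character (uT 1) = (m : ℂ) := by
    rw [hc, ← hm]; push_cast; rfl
  rw [hcm] at h1
  have h2 : (Module.finrank ℂ V : ℤ) + ((Fintype.card F : ℤ) - 1) * m =
      (Fintype.card F : ℤ) * (fixU ρ : ℤ) := by exact_mod_cast h1
  have hle : (fixU ρ : ℤ) ≤ (Module.finrank ℂ V : ℤ) := by exact_mod_cast fixU_le ρ
  have hq' : (2 : ℤ) ≤ (Fintype.card F : ℤ) := by exact_mod_cast hq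
  have hb : 0 ≤ (fixU ρ : ℤ) - m := by
    by_contra hneg
    rw [not_le] at hneg
    nlinarith
  obtain ⟨b, hb'⟩ := Int.eq_ofNat_of_zero_le hb
  refine ⟨b, ?_, ?_⟩
  · have : (Module.finrank ℂ V : ℤ) = (fixU ρ : ℤ) + (b : ℤ) * ((Fintype.card F : ℤ) - 1) := by
      rw [← hb']; linear_combination h2
    zify
    rw [Nat.cast_sub (by omega)]
    exact_mod_cast this
  · rw [hcm]
    have : (m : ℤ) = (fixU ρ : ℤ) - b := by omega
    rw [this]; push_cast; ring


end Cfsg.Agent.Lib.Helper39

namespace Cfsg.Agent.Lib.Helper39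

open Matrix
open scoped ComplexConjugate

variable {F : Type*} [Field F] {V : Type*} [AddCommGroup V] [Module ℂ V]

theorem rho_uT_eq_one_of_fixU [FiniteDimensional ℂ V] (ρ : Representation ℂ (GL (Fin 2) F) V)
    (h : fixU ρ = Module.finrank ℂ V) (x : F) : ρ (uT x) = 1 := by
  have htop : fixUSub ρ = ⊤ := Submodule.eq_top_of_finrank_eq h
  ext v
  have hv : v ∈ fixUSub ρ := by rw [htop]; trivial
  exact (mem_fixUSub ρ v).mp hv x

theorem rho_eq_one_of_det [FiniteDimensional ℂ V] (ρ : Representation ℂ (GL (Fin 2) F) V)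
    (h : fixU ρ = Module.finrank ℂ V) (g : GL (Fin 2) F)
    (hg : (g : Matrix (Fin 2) (Fin 2) F).det = 1) : ρ g = 1 := by
  have hu := rho_uT_eq_one_of_fixU ρ h
  have hl : ∀ x : F, ρ (lT x) = 1 := by
    intro x
    rw [← lT_conj, map_mul, map_mul, hu, mul_one, ← map_mul, mul_inv_cancel, map_one]
  obtain ⟨x, y, z, w, rfl⟩ := exists_prod_of_det_eq_one g hg
  simp [map_mul, hu, hl]

theorem finrank_eq_one_of_fixU [FiniteDimensional ℂ V] (ρ : Representation ℂ (GL (Fin 2) F) V)
    (hρ : ρ.IsIrreducible) (h : fixU ρ = Module.finrank ℂ V) : Module.finrank ℂ V = 1 := by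
  have hcomm : ∀ g k : GL (Fin 2) F, ρ g * ρ k = ρ k * ρ g := by
    intro g k
    have h1 : ρ (g * k * g⁻¹ * k⁻¹) = 1 := by
      apply rho_eq_one_of_det ρ h
      rw [← Matrix.GeneralLinearGroup.val_det_apply]
      simp
    have h2 : g * k = (g * k * g⁻¹ * k⁻¹) * (k * g) := by group
    rw [← map_mul, h2, map_mul, h1, one_mul, map_mul]
  apply finrank_eq_one_of_scalar ρ hρ
  intro g
  exact Cfsg.Agent.Lib.Helper78.exists_eq_smul_one_of_commute ρ hρ (ρ g) (fun k => hcomm k g)


theorem dT_central (z : Fˣ) (g : GL (Fin 2) F) : dT z z * g = g * dT z z := by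
  apply gl2_ext <;> simp [dT_val, Matrix.mul_apply, Fin.sum_univ_two, mul_comm]

theorem norm_char_central_mul [Finite F] [FiniteDimensional ℂ V]
    (ρ : Representation ℂ (GL (Fin 2) F) V)
    (hρ : ρ.IsIrreducible) (z : Fˣ) (g : GL (Fin 2) F) :
    ‖ρ.character (dT z z * g)‖ = ‖ρ.character g‖ := by
  haveI := Cfsg.Agent.Lib.Helper78.nontrivial_of_isIrreducible ρ hρ
  obtain ⟨c, hc⟩ := Cfsg.Agent.Lib.Helper78.exists_eq_smul_one_of_commute ρ hρ (ρ (dT z z))
    (fun k => by rw [← map_mul, ← map_mul, dT_central])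
  have hfin : IsOfFinOrder (dT z z : GL (Fin 2) F) := isOfFinOrder_of_finite _
  have hpow : c ^ orderOf (dT z z : GL (Fin 2) F) = 1 := by
    have h1 : ρ (dT z z) ^ orderOf (dT z z : GL (Fin 2) F) = 1 := by
      rw [← map_pow, pow_orderOf_eq_one, map_one]
    rw [hc, smul_pow, one_pow] at h1
    obtain ⟨v, hv⟩ := exists_ne (0 : V)
    have h2 := LinearMap.congr_fun h1 v
    simp only [LinearMap.smul_apply, Module.End.one_apply] at h2
    have h3 : (c ^ orderOf (dT z z : GL (Fin 2) F) - 1) • v = 0 := by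
      rw [sub_smul, h2, one_smul, sub_self]
    rcases smul_eq_zero.mp h3 with h4 | h4
    · exact sub_eq_zero.mp h4
    · exact absurd h4 hv
  have hnorm : ‖c‖ = 1 :=
    Complex.norm_eq_one_of_pow_eq_one hpow (orderOf_pos_iff.mpr hfin).ne'
  unfold Representation.character
  rw [map_mul, hc, smul_mul_assoc, one_mul, map_smul, smul_eq_mul, norm_mul, hnorm, one_mul]

theorem sum_comp_le_of_injective {ι G : Type*} [Fintype ι] [Fintype G] (e : ι → G)
    (he : Function.Injective e) (f : G → ℝ) (hf : ∀ g, 0 ≤ f g) :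
    ∑ i, f (e i) ≤ ∑ g, f g := by
  classical
  have : ∑ i, f (e i) = ∑ g ∈ Finset.univ.map ⟨e, he⟩, f g := by
    rw [Finset.sum_map]; rfl
  rw [this]
  exact Finset.sum_le_sum_of_subset_of_nonneg (Finset.subset_univ _) (fun g _ _ => hf g)

/-- the injection used for counting -/
noncomputable def countMap : Fˣ × (F ⊕ Fˣ) → GL (Fin 2) F
  | (z, Sum.inl x) => dT z z * uT x
  | (z, Sum.inr y) => dT z z * lT (y : F)

theorem countMap_injective : Function.Injective (countMap (F := F)) := by
  rintro ⟨z, x | y⟩ ⟨z', x' | y'⟩ h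
  · have h00 := congrArg (fun g : GL (Fin 2) F => (g : Matrix (Fin 2) (Fin 2) F) 0 0) h
    have h01 := congrArg (fun g : GL (Fin 2) F => (g : Matrix (Fin 2) (Fin 2) F) 0 1) h
    simp [countMap, dT_val, uT_val, Matrix.mul_apply, Fin.sum_univ_two] at h00 h01
    have hz : z = z' := Units.ext h00
    subst hz
    have hx : x = x' := mul_left_cancel₀ z.ne_zero h01
    rw [hx]
  · exfalso
    have h10 := congrArg (fun g : GL (Fin 2) F => (g : Matrix (Fin 2) (Fin 2) F) 1 0) h
    simp [countMap, dT_val, uT_val, lT_val, Matrix.mul_apply, Fin.sum_univ_two] at h10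
  · exfalso
    have h10 := congrArg (fun g : GL (Fin 2) F => (g : Matrix (Fin 2) (Fin 2) F) 1 0) h
    simp [countMap, dT_val, uT_val, lT_val, Matrix.mul_apply, Fin.sum_univ_two] at h10
  · have h00 := congrArg (fun g : GL (Fin 2) F => (g : Matrix (Fin 2) (Fin 2) F) 0 0) h
    have h10 := congrArg (fun g : GL (Fin 2) F => (g : Matrix (Fin 2) (Fin 2) F) 1 0) h
    simp [countMap, dT_val, lT_val, Matrix.mul_apply, Fin.sum_univ_two] at h00 h10
    have hz : z = z' := Units.ext h00
    subst hz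
    have hy : y = y' := Units.ext (mul_left_cancel₀ z.ne_zero h10)
    rw [hy]

theorem char_lT_eq [FiniteDimensional ℂ V] (ρ : Representation ℂ (GL (Fin 2) F) V) (x : F) :
    ρ.character (lT x) = ρ.character (uT x) := by
  rw [← lT_conj x, Representation.char_conj]

theorem count_bound [Fintype F] [DecidableEq F] [FiniteDimensional ℂ V]
    (ρ : Representation ℂ (GL (Fin 2) F) V) (hρ : ρ.IsIrreducible) :
    ((Fintype.card F : ℝ) - 1) * ((Module.finrank ℂ V : ℝ) ^ 2 +
      2 * ((Fintype.card F : ℝ) - 1) * ‖ρ.character (uT 1)‖ ^ 2) ≤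
      (Nat.card (GL (Fin 2) F) : ℝ) := by
  have hirr := Cfsg.Agent.Lib.Helper78.isIrrCharacter_of_isIrreducible ρ hρ
  have h1 := Cfsg.Agent.Lib.Helper78.classInner_irr_self hirr
  unfold Cfsg.classInner at h1
  have hG : (Nat.card (GL (Fin 2) F) : ℂ) ≠ 0 := by
    have : Nat.card (GL (Fin 2) F) ≠ 0 := Nat.card_pos.ne'
    exact_mod_cast this
  have h2 : ∑ g : GL (Fin 2) F, ρ.character g * conj (ρ.character g) =
      (Nat.card (GL (Fin 2) F) : ℂ) := by
    rw [inv_mul_eq_iff_eq_mul₀ hG, mul_one] at h1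
    exact h1
  have h3 : ∑ g : GL (Fin 2) F, ‖ρ.character g‖ ^ 2 = (Nat.card (GL (Fin 2) F) : ℝ) := by
    have : ((∑ g : GL (Fin 2) F, ‖ρ.character g‖ ^ 2 : ℝ) : ℂ) =
        ((Nat.card (GL (Fin 2) F) : ℝ) : ℂ) := by
      push_cast
      rw [← h2]
      refine Finset.sum_congr rfl (fun g _ => ?_)
      rw [Complex.mul_conj, Complex.normSq_eq_norm_sq]
      push_cast; rfl
    exact_mod_cast this
  rw [← h3]
  refine le_trans (le_of_eq ?_) (sum_comp_le_of_injective countMap countMap_injective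
    (fun g => ‖ρ.character g‖ ^ 2) (fun g => by positivity))
  rw [Fintype.sum_prod_type]
  have hinner : ∀ z : Fˣ, ∑ s : F ⊕ Fˣ, ‖ρ.character (countMap (z, s))‖ ^ 2 =
      (Module.finrank ℂ V : ℝ) ^ 2 +
      2 * ((Fintype.card F : ℝ) - 1) * ‖ρ.character (uT 1)‖ ^ 2 := by
    intro z
    rw [Fintype.sum_sum_type]
    simp only [countMap, norm_char_central_mul ρ hρ]
    have hA : ∑ x : F, ‖ρ.character (uT x)‖ ^ 2 = (Module.finrank ℂ V : ℝ) ^ 2 +
        ((Fintype.card F : ℝ) - 1) * ‖ρ.character (uT 1)‖ ^ 2 := by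
      rw [← Finset.add_sum_erase Finset.univ _ (Finset.mem_univ (0 : F)), uT_zero,
        Representation.char_one]
      congr 1
      · simp
      · rw [Finset.sum_congr rfl (fun x hx => by
          rw [char_uT_eq ρ x (Finset.ne_of_mem_erase hx)]),
          Finset.sum_const, Finset.card_erase_of_mem (Finset.mem_univ _), Finset.card_univ,
          nsmul_eq_mul, Nat.cast_sub Fintype.card_pos, Nat.cast_one]
    have hB : ∑ y : Fˣ, ‖ρ.character (lT (y : F))‖ ^ 2 =
        ((Fintype.card F : ℝ) - 1) * ‖ρ.character (uT 1)‖ ^ 2 := by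
      rw [Finset.sum_congr rfl (fun y _ => by
          rw [char_lT_eq, char_uT_eq ρ (y : F) y.ne_zero]),
          Finset.sum_const, Finset.card_univ, Fintype.card_units,
          nsmul_eq_mul, Nat.cast_sub Fintype.card_pos, Nat.cast_one]
    rw [hA, hB]; ring
  rw [Finset.sum_congr rfl (fun z _ => hinner z), Finset.sum_const, Finset.card_univ,
    Fintype.card_units, nsmul_eq_mul, Nat.cast_sub Fintype.card_pos, Nat.cast_one]


theorem card_GL2 [Fintype F] :
    Nat.card (GL (Fin 2) F) = (Fintype.card F ^ 2 - 1) * (Fintype.card F ^ 2 - Fintype.card F) := by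
  rw [Matrix.card_GL_field]
  simp [Fin.prod_univ_two]

/-- the integer form of the counting bound -/
theorem count_bound_int [Fintype F] [DecidableEq F] [FiniteDimensional ℂ V]
    (ρ : Representation ℂ (GL (Fin 2) F) V) (hρ : ρ.IsIrreducible) (a b : ℕ)
    (hc : ρ.character (uT 1) = (a : ℂ) - (b : ℂ)) :
    ((Fintype.card F : ℤ) - 1) * ((Module.finrank ℂ V : ℤ) ^ 2 +
      2 * ((Fintype.card F : ℤ) - 1) * ((a : ℤ) - b) ^ 2) ≤
      ((Fintype.card F : ℤ) ^ 2 - 1) * ((Fintype.card F : ℤ) ^ 2 - (Fintype.card F : ℤ)) := by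
  have h := count_bound ρ hρ
  have hq : 2 ≤ Fintype.card F := Fintype.one_lt_card
  have hn : ‖ρ.character (uT (1 : F))‖ ^ 2 = (((a : ℤ) - b) ^ 2 : ℤ) := by
    rw [hc]
    have : ((a : ℂ) - (b : ℂ)) = (((a : ℤ) - (b : ℤ) : ℤ) : ℂ) := by push_cast; rfl
    rw [this, Complex.norm_intCast]
    push_cast
    rw [sq_abs]
  rw [hn, card_GL2] at h
  have h1 : 1 ≤ Fintype.card F ^ 2 := Nat.one_le_pow _ _ (by omega)
  have h2 : Fintype.card F ≤ Fintype.card F ^ 2 := by nlinarith
  rw [Nat.cast_mul, Nat.cast_sub h1, Nat.cast_sub h2] at h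
  have h' : ((((Fintype.card F : ℤ) - 1) * ((Module.finrank ℂ V : ℤ) ^ 2 +
      2 * ((Fintype.card F : ℤ) - 1) * ((a : ℤ) - b) ^ 2) : ℤ) : ℝ) ≤
      ((((Fintype.card F : ℤ) ^ 2 - 1) * ((Fintype.card F : ℤ) ^ 2 - (Fintype.card F : ℤ)) : ℤ) : ℝ) := by
    push_cast
    push_cast at h
    exact h
  exact_mod_cast h'

theorem fixU_cases [Fintype F] [DecidableEq F] [FiniteDimensional ℂ V]
    (ρ : Representation ℂ (GL (Fin 2) F) V) (hρ : ρ.IsIrreducible) :
    (Module.finrank ℂ V = Fintype.card F → fixU ρ = 1 ∧ ρ.character (uT 1) = 0) ∧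
    (Module.finrank ℂ V = Fintype.card F + 1 → fixU ρ = 2 ∧ ρ.character (uT 1) = 1) ∧
    (3 ≤ Fintype.card F → Module.finrank ℂ V + 1 = Fintype.card F →
      fixU ρ = 0 ∧ ρ.character (uT 1) = -1) ∧
    (3 ≤ Fintype.card F → Module.finrank ℂ V = 1 → ρ.character (uT 1) = 1) := by
  obtain ⟨b, hd, hc⟩ := exists_b ρ
  have hq : 2 ≤ Fintype.card F := Fintype.one_lt_card
  have hcount := count_bound_int ρ hρ (fixU ρ) b hc
  have hb : Module.finrank ℂ V ≠ 1 → 1 ≤ b := by
    intro h1
    by_contra hb0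
    have hb0' : b = 0 := by omega
    rw [hb0', zero_mul, add_zero] at hd
    exact h1 (finrank_eq_one_of_fixU ρ hρ hd.symm)
  obtain ⟨k, hk⟩ : ∃ k : ℕ, Fintype.card F = k + 2 := ⟨Fintype.card F - 2, by omega⟩
  rw [hk] at hcount hd
  simp only [show k + 2 - 1 = k + 1 by omega] at hd
  rw [hd] at hcount
  push_cast at hcount
  refine ⟨?_, ?_, ?_, ?_⟩
  · intro hdq
    rw [hk] at hdq
    rw [hd] at hb
    have hb1 := hb (by omega)
    rcases Nat.lt_or_ge b 2 with h | h
    · have hb' : b = 1 := by omega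
      subst hb'
      have ha : fixU ρ = 1 := by omega
      refine ⟨ha, ?_⟩
      rw [hc, ha]; simp
    · exfalso
      have h2 : 2 * (k + 1) ≤ b * (k + 1) := Nat.mul_le_mul_right _ h
      have hk0 : k = 0 := by omega
      subst hk0
      have hb' : b = 2 := by omega
      subst hb'
      have ha : fixU ρ = 0 := by omega
      rw [ha] at hcount
      norm_num at hcount
  · intro hdq
    rw [hk] at hdq
    rw [hd] at hb
    have hb1 := hb (by omega)
    rcases Nat.lt_or_ge b 2 with h | h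
    · have hb' : b = 1 := by omega
      subst hb'
      have ha : fixU ρ = 2 := by omega
      refine ⟨ha, ?_⟩
      rw [hc, ha]; norm_num
    · exfalso
      rcases Nat.lt_or_ge b 3 with h3 | h3
      · have hb' : b = 2 := by omega
        subst hb'
        have hk1 : k = 0 ∨ k = 1 := by omega
        rcases hk1 with hk0 | hk0
        · subst hk0
          have ha : fixU ρ = 1 := by omega
          rw [ha] at hcount
          norm_num at hcount
        · subst hk0
          have ha : fixU ρ = 0 := by omega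
          rw [ha] at hcount
          norm_num at hcount
      · have h2 : 3 * (k + 1) ≤ b * (k + 1) := Nat.mul_le_mul_right _ h3
        have hk0 : k = 0 := by omega
        subst hk0
        have hb' : b = 3 := by omega
        subst hb'
        have ha : fixU ρ = 0 := by omega
        rw [ha] at hcount
        norm_num at hcount
  · intro hq3 hdq
    rw [hk] at hdq hq3
    rw [hd] at hb
    have hb1 := hb (by omega)
    rcases Nat.lt_or_ge b 2 with h | h
    · have hb' : b = 1 := by omega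
      subst hb'
      have ha : fixU ρ = 0 := by omega
      refine ⟨ha, ?_⟩
      rw [hc, ha]; norm_num
    · exfalso
      have h2 : 2 * (k + 1) ≤ b * (k + 1) := Nat.mul_le_mul_right _ h
      omega
  · intro hq3 hdq
    rw [hk] at hq3
    rcases Nat.eq_zero_or_pos b with h | h
    · subst h
      have ha : fixU ρ = 1 := by omega
      rw [hc, ha]; norm_num
    · exfalso
      have h2 : 1 * (k + 1) ≤ b * (k + 1) := Nat.mul_le_mul_right _ h
      omega

end Cfsg.Agent.Lib.Helper39
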