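import Mathlib

set_option autoImplicit false

/-!
# 2×2 matrices over a field: rational canonical form

A non-scalar 2×2 matrix is similar to the companion matrix of its characteristic polynomial.
-/

namespace Cfsg.Agent.Lib.Helper39

open Matrix

variable {F : Type*} [Field F]

/-- A 2×2 matrix is scalar. -/
def IsScalar2 (A : Matrix (Fin 2) (Fin 2) F) : Prop :=
  A 0 1 = 0 ∧ A 1 0 = 0 ∧ A 0 0 = A 1 1

/-- The companion matrix with trace `t` and determinant `d`. -/
def companion2 (t d : F) : Matrix (Fin 2) (Fin 2) F := !![0, -d; 1, t]

theorem companion2_det (t d : F) : (companion2 t d).det = d := by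
  simp [companion2, Matrix.det_fin_two]

theorem companion2_trace (t d : F) : (companion2 t d).trace = t := by
  simp [companion2, Matrix.trace_fin_two]

theorem companion2_not_scalar (t d : F) : ¬ IsScalar2 (companion2 t d) := by
  intro h
  have := h.2.1
  simp [companion2] at this

theorem eta2 (A : Matrix (Fin 2) (Fin 2) F) : A = !![A 0 0, A 0 1; A 1 0, A 1 1] := by
  ext i j; fin_cases i <;> fin_cases j <;> rfl

/-- A non-scalar 2×2 matrix is similar to the companion matrix of its characteristic polynomial. -/
theorem exists_conj_companion2 (A : Matrix (Fin 2) (Fin 2) F) (h : ¬ IsScalar2 A) :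
    ∃ P : Matrix (Fin 2) (Fin 2) F, P.det ≠ 0 ∧ A * P = P * companion2 A.trace A.det := by
  obtain ⟨a, b, c, d, rfl⟩ : ∃ a b c d : F, A = !![a, b; c, d] := ⟨_, _, _, _, eta2 A⟩
  simp only [IsScalar2, of_apply, cons_val', cons_val_zero, cons_val_one, cons_val_fin_one,
    not_and] at h
  by_cases hc : c = 0
  · by_cases hb : b = 0
    · have had : a ≠ d := h hb hc
      refine ⟨!![1, a; 1, d], ?_, ?_⟩
      · simp only [Matrix.det_fin_two_of]
        intro h0
        apply had
        linear_combination -h0
      · subst hc hb
        ext i j; fin_cases i <;> fin_cases j <;>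
          simp [companion2, Matrix.mul_apply, Fin.sum_univ_two, Matrix.det_fin_two,
            Matrix.trace_fin_two] <;> ring
    · refine ⟨!![0, b; 1, d], ?_, ?_⟩
      · simp only [Matrix.det_fin_two_of]
        simpa using hb
      · subst hc
        ext i j; fin_cases i <;> fin_cases j <;>
          simp [companion2, Matrix.mul_apply, Fin.sum_univ_two, Matrix.det_fin_two,
            Matrix.trace_fin_two] <;> ring
  · refine ⟨!![1, a; 0, c], ?_, ?_⟩
    · simp only [Matrix.det_fin_two_of]
      simpa using hc
    · ext i j; fin_cases i <;> fin_cases j <;>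
        simp [companion2, Matrix.mul_apply, Fin.sum_univ_two, Matrix.det_fin_two,
          Matrix.trace_fin_two] <;> ring

end Cfsg.Agent.Lib.Helper39
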