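import Mathlib
import Cfsg.Prelude.Def_Characters
import Cfsg.Prelude.Def_ParabolicCharacters
import Cfsg.Agent.Lib.Helper39.Mat2

set_option autoImplicit false

/-!
# The Borel subgroup of GL₂ and its coset space (the projective line)
-/

namespace Cfsg.Agent.Lib.Helper39

open Matrix

/-- The permutation character on `G ⧸ H` counted through a system of coset representatives. -/
theorem fixedPointCharacter_eq_card_reps {G : Type*} [Group G] (H : Subgroup G) {T : Type*}
    (rep : T → G) (hrep : Function.Bijective (fun t => (QuotientGroup.mk (rep t) : G ⧸ H))) (g : G) :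
    Cfsg.fixedPointCharacter H g = (Nat.card {t : T // (rep t)⁻¹ * g * rep t ∈ H} : ℂ) := by
  unfold Cfsg.fixedPointCharacter
  congr 1
  have key : ∀ t : T, g • (QuotientGroup.mk (rep t) : G ⧸ H) = QuotientGroup.mk (rep t) ↔
      (rep t)⁻¹ * g * rep t ∈ H := by
    intro t
    rw [MulAction.Quotient.smul_mk, eq_comm, QuotientGroup.eq, smul_eq_mul, mul_assoc]
  symm
  refine Nat.card_congr (Equiv.ofBijective
    (fun t : {t : T // (rep t)⁻¹ * g * rep t ∈ H} =>
      (⟨QuotientGroup.mk (rep t.1), MulAction.mem_fixedBy.mpr ((key t.1).mpr t.2)⟩ :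
        MulAction.fixedBy (G ⧸ H) g)) ⟨?_, ?_⟩)
  · intro t t' h
    apply Subtype.ext
    apply hrep.1
    exact congrArg Subtype.val h
  · rintro ⟨x, hx⟩
    obtain ⟨t, rfl⟩ := hrep.2 x
    exact ⟨⟨t, (key t).mp (MulAction.mem_fixedBy.mp hx)⟩, rfl⟩

variable {F : Type*} [Field F]

theorem mem_upperTriangularGL_two (g : Matrix.GeneralLinearGroup (Fin 2) F) :
    g ∈ Cfsg.upperTriangularGL 2 F ↔ (g : Matrix (Fin 2) (Fin 2) F) 1 0 = 0 := by
  change (g : Matrix (Fin 2) (Fin 2) F).BlockTriangular id ↔ _
  constructor
  · intro h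
    exact h (by decide)
  · intro h i j hij
    fin_cases i <;> fin_cases j <;> simp_all

/-- coset representatives of the Borel subgroup in `GL₂`, indexed by the projective line -/
noncomputable def borelRep : Option F → Matrix.GeneralLinearGroup (Fin 2) F
  | some c => Matrix.GeneralLinearGroup.mkOfDetNeZero !![1, 0; c, 1] (by simp [Matrix.det_fin_two])
  | none => Matrix.GeneralLinearGroup.mkOfDetNeZero !![0, 1; 1, 0] (by simp [Matrix.det_fin_two])

theorem borelRep_some_val (c : F) :
    ((borelRep (some c) : Matrix.GeneralLinearGroup (Fin 2) F) : Matrix (Fin 2) (Fin 2) F) =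
      !![1, 0; c, 1] := rfl

theorem borelRep_none_val :
    ((borelRep (none : Option F) : Matrix.GeneralLinearGroup (Fin 2) F) :
      Matrix (Fin 2) (Fin 2) F) = !![0, 1; 1, 0] := rfl

theorem borelRep_some_inv_val (c : F) :
    (((borelRep (some c))⁻¹ : Matrix.GeneralLinearGroup (Fin 2) F) : Matrix (Fin 2) (Fin 2) F) =
      !![1, 0; -c, 1] := by
  rw [Matrix.coe_units_inv, borelRep_some_val, Matrix.inv_def, Matrix.adjugate_fin_two_of,
    Matrix.det_fin_two_of]
  simp

theorem borelRep_none_inv_val :
    (((borelRep (none : Option F))⁻¹ : Matrix.GeneralLinearGroup (Fin 2) F) :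
      Matrix (Fin 2) (Fin 2) F) = !![0, 1; 1, 0] := by
  rw [Matrix.coe_units_inv, borelRep_none_val, Matrix.inv_def, Matrix.adjugate_fin_two_of,
    Matrix.det_fin_two_of]
  simp

/-- The lower left entry of `(rep c)⁻¹ * g * rep c`, as a function of the matrix of `g`. -/
def borelEntry (A : Matrix (Fin 2) (Fin 2) F) : Option F → F
  | some c => A 1 0 + (A 1 1 - A 0 0) * c - A 0 1 * c ^ 2
  | none => A 0 1

@[simp] theorem borelEntry_some (A : Matrix (Fin 2) (Fin 2) F) (c : F) :
    borelEntry A (some c) = A 1 0 + (A 1 1 - A 0 0) * c - A 0 1 * c ^ 2 := rfl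

@[simp] theorem borelEntry_none (A : Matrix (Fin 2) (Fin 2) F) :
    borelEntry A none = A 0 1 := rfl

/-- The lower left entry of `(rep c)⁻¹ * g * rep c`. -/
theorem borelRep_conj_entry (g : Matrix.GeneralLinearGroup (Fin 2) F) (c : Option F) :
    (((borelRep c)⁻¹ * g * borelRep c : Matrix.GeneralLinearGroup (Fin 2) F) :
      Matrix (Fin 2) (Fin 2) F) 1 0 = borelEntry (g : Matrix (Fin 2) (Fin 2) F) c := by
  cases c with
  | none =>
    simp only [Units.val_mul, borelRep_none_inv_val, borelRep_none_val, borelEntry_none]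
    rw [eta2 (g : Matrix (Fin 2) (Fin 2) F)]
    simp [Matrix.mul_apply, Fin.sum_univ_two]
  | some c =>
    simp only [Units.val_mul, borelRep_some_inv_val, borelRep_some_val, borelEntry_some]
    rw [eta2 (g : Matrix (Fin 2) (Fin 2) F)]
    simp [Matrix.mul_apply, Fin.sum_univ_two]
    ring

theorem borelRep_bijective :
    Function.Bijective (fun c : Option F =>
      (QuotientGroup.mk (borelRep c) : Matrix.GeneralLinearGroup (Fin 2) F ⧸
        Cfsg.upperTriangularGL 2 F)) := by
  constructor
  · intro c c' h
    simp only at h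
    rw [QuotientGroup.eq, mem_upperTriangularGL_two] at h
    cases c with
    | none =>
      cases c' with
      | none => rfl
      | some c' =>
        exfalso
        simp only [Units.val_mul, borelRep_none_inv_val, borelRep_some_val] at h
        simp [Matrix.mul_apply, Fin.sum_univ_two] at h
    | some c =>
      cases c' with
      | none =>
        exfalso
        simp only [Units.val_mul, borelRep_some_inv_val, borelRep_none_val] at h
        simp [Matrix.mul_apply, Fin.sum_univ_two] at h
      | some c' =>
        simp only [Units.val_mul, borelRep_some_inv_val, borelRep_some_val] at h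
        simp [Matrix.mul_apply, Fin.sum_univ_two] at h
        congr 1
        linear_combination -h
  · intro x
    obtain ⟨x, rfl⟩ := QuotientGroup.mk_surjective x
    by_cases h0 : (x : Matrix (Fin 2) (Fin 2) F) 0 0 = 0
    · refine ⟨none, ?_⟩
      simp only
      rw [QuotientGroup.eq, mem_upperTriangularGL_two]
      simp only [Units.val_mul, borelRep_none_inv_val]
      simp [Matrix.mul_apply, Fin.sum_univ_two, h0]
    · refine ⟨some ((x : Matrix (Fin 2) (Fin 2) F) 1 0 / (x : Matrix (Fin 2) (Fin 2) F) 0 0), ?_⟩
      simp only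
      rw [QuotientGroup.eq, mem_upperTriangularGL_two]
      simp only [Units.val_mul, borelRep_some_inv_val]
      simp [Matrix.mul_apply, Fin.sum_univ_two]
      field_simp
      ring

/-- The permutation character of `GL₂` on the cosets of the Borel subgroup, via the projective
line. -/
theorem fixedPointCharacter_borel (g : Matrix.GeneralLinearGroup (Fin 2) F) :
    Cfsg.fixedPointCharacter (Cfsg.upperTriangularGL 2 F) g =
      (Nat.card {c : Option F // borelEntry (g : Matrix (Fin 2) (Fin 2) F) c = 0} : ℂ) := by
  rw [fixedPointCharacter_eq_card_reps _ borelRep borelRep_bijective g]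
  congr 2
  apply congrArg
  funext c
  rw [mem_upperTriangularGL_two, borelRep_conj_entry]

end Cfsg.Agent.Lib.Helper39
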