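import Mathlib
import Cfsg.Prelude.Def_Characters
import Cfsg.Prelude.Def_ParabolicCharacters
import Cfsg.Agent.Lib.Helper39.BorelGL2

set_option autoImplicit false

/-!
# Induced class functions via coset representatives; induction from the Borel subgroup of GL₂
-/

namespace Cfsg.Agent.Lib.Helper39

open Matrix

section general

variable {G : Type*} [Group G]

theorem extendByZero_of_mem (H : Subgroup G) (θ : H → ℂ) {y : G} (hy : y ∈ H) :
    Cfsg.extendByZero H θ y = θ ⟨y, hy⟩ := by
  unfold Cfsg.extendByZero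
  exact Subtype.val_injective.extend_apply θ 0 ⟨y, hy⟩

theorem extendByZero_of_not_mem (H : Subgroup G) (θ : H → ℂ) {y : G} (hy : y ∉ H) :
    Cfsg.extendByZero H θ y = 0 := by
  unfold Cfsg.extendByZero
  rw [Function.extend_apply']
  · rfl
  · rintro ⟨h, rfl⟩
    exact hy h.2

/-- extension by zero of a class function of `H` is invariant under conjugation by `H`. -/
theorem extendByZero_conj (H : Subgroup G) (θ : H → ℂ)
    (hθ : ∀ h k : H, θ (k⁻¹ * h * k) = θ h) (y : G) (k : H) :
    Cfsg.extendByZero H θ ((k : G)⁻¹ * y * k) = Cfsg.extendByZero H θ y := by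
  by_cases hy : y ∈ H
  · have hy' : (k : G)⁻¹ * y * k ∈ H := H.mul_mem (H.mul_mem (H.inv_mem k.2) hy) k.2
    rw [extendByZero_of_mem H θ hy, extendByZero_of_mem H θ hy']
    exact hθ ⟨y, hy⟩ k
  · have hy' : (k : G)⁻¹ * y * k ∉ H := by
      intro h
      apply hy
      have := H.mul_mem (H.mul_mem k.2 h) (H.inv_mem k.2)
      simpa [mul_assoc] using this
    rw [extendByZero_of_not_mem H θ hy, extendByZero_of_not_mem H θ hy']

/-- The induced function computed through a system of left coset representatives. -/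
theorem indFun_eq_sum_reps [Fintype G] (H : Subgroup G) (θ : H → ℂ)
    (hθ : ∀ h k : H, θ (k⁻¹ * h * k) = θ h) {T : Type*} [Fintype T] (rep : T → G)
    (hrep : Function.Bijective (fun t => (QuotientGroup.mk (rep t) : G ⧸ H))) (g : G) :
    Cfsg.indFun H θ g = ∑ t : T, Cfsg.extendByZero H θ ((rep t)⁻¹ * g * rep t) := by
  classical
  unfold Cfsg.indFun
  -- the bijection `T × H → G`
  have hbij : Function.Bijective (fun p : T × H => rep p.1 * (p.2 : G)) := by
    constructor
    · rintro ⟨t, h⟩ ⟨t', h'⟩ heq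
      simp only at heq
      have ht : t = t' := by
        apply hrep.1
        simp only
        rw [QuotientGroup.eq]
        have : (rep t)⁻¹ * rep t' = (h : G) * (h' : G)⁻¹ := by
          rw [eq_mul_inv_iff_mul_eq, mul_assoc, ← heq, ← mul_assoc, inv_mul_cancel, one_mul]
        rw [this]
        exact H.mul_mem h.2 (H.inv_mem h'.2)
      subst ht
      have : (h : G) = h' := mul_left_cancel heq
      rw [Subtype.ext this]
    · intro x
      obtain ⟨t, ht⟩ := hrep.2 (QuotientGroup.mk x)
      simp only at ht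
      rw [QuotientGroup.eq] at ht
      exact ⟨(t, ⟨(rep t)⁻¹ * x, ht⟩), by simp⟩
  rw [← (Equiv.ofBijective _ hbij).sum_comp, Fintype.sum_prod_type]
  have hterm : ∀ (t : T) (h : H),
      Cfsg.extendByZero H θ (((Equiv.ofBijective _ hbij) (t, h))⁻¹ * g *
        (Equiv.ofBijective _ hbij) (t, h)) =
      Cfsg.extendByZero H θ ((rep t)⁻¹ * g * rep t) := by
    intro t h
    have : ((Equiv.ofBijective _ hbij) (t, h))⁻¹ * g * (Equiv.ofBijective _ hbij) (t, h)
        = (h : G)⁻¹ * ((rep t)⁻¹ * g * rep t) * h := by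
      simp [Equiv.ofBijective_apply, mul_assoc]
    rw [this, extendByZero_conj H θ hθ]
  simp only [hterm, Finset.sum_const, Finset.card_univ, nsmul_eq_mul]
  rw [← Finset.mul_sum, ← mul_assoc, Nat.card_eq_fintype_card, inv_mul_cancel₀, one_mul]
  exact_mod_cast Fintype.card_ne_zero

end general

section borel

variable {F : Type*} [Field F]

/-- The upper left entry of `(rep c)⁻¹ * g * rep c` (eigenvalue of `g` on the line `c`, if fixed). -/
def borelDiag0 (A : Matrix (Fin 2) (Fin 2) F) : Option F → F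
  | some c => A 0 0 + A 0 1 * c
  | none => A 1 1

/-- The lower right entry of `(rep c)⁻¹ * g * rep c`. -/
def borelDiag1 (A : Matrix (Fin 2) (Fin 2) F) : Option F → F
  | some c => A 1 1 - A 0 1 * c
  | none => A 0 0

@[simp] theorem borelDiag0_some (A : Matrix (Fin 2) (Fin 2) F) (c : F) :
    borelDiag0 A (some c) = A 0 0 + A 0 1 * c := rfl
@[simp] theorem borelDiag0_none (A : Matrix (Fin 2) (Fin 2) F) : borelDiag0 A none = A 1 1 := rfl
@[simp] theorem borelDiag1_some (A : Matrix (Fin 2) (Fin 2) F) (c : F) :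
    borelDiag1 A (some c) = A 1 1 - A 0 1 * c := rfl
@[simp] theorem borelDiag1_none (A : Matrix (Fin 2) (Fin 2) F) : borelDiag1 A none = A 0 0 := rfl

theorem borelRep_conj_diag0 (g : Matrix.GeneralLinearGroup (Fin 2) F) (c : Option F) :
    (((borelRep c)⁻¹ * g * borelRep c : Matrix.GeneralLinearGroup (Fin 2) F) :
      Matrix (Fin 2) (Fin 2) F) 0 0 = borelDiag0 (g : Matrix (Fin 2) (Fin 2) F) c := by
  cases c with
  | none =>
    simp only [Units.val_mul, borelRep_none_inv_val, borelRep_none_val, borelDiag0_none]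
    rw [eta2 (g : Matrix (Fin 2) (Fin 2) F)]
    simp [Matrix.mul_apply, Fin.sum_univ_two]
  | some c =>
    simp only [Units.val_mul, borelRep_some_inv_val, borelRep_some_val, borelDiag0_some]
    rw [eta2 (g : Matrix (Fin 2) (Fin 2) F)]
    simp [Matrix.mul_apply, Fin.sum_univ_two]

theorem borelRep_conj_diag1 (g : Matrix.GeneralLinearGroup (Fin 2) F) (c : Option F) :
    (((borelRep c)⁻¹ * g * borelRep c : Matrix.GeneralLinearGroup (Fin 2) F) :
      Matrix (Fin 2) (Fin 2) F) 1 1 = borelDiag1 (g : Matrix (Fin 2) (Fin 2) F) c := by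
  cases c with
  | none =>
    simp only [Units.val_mul, borelRep_none_inv_val, borelRep_none_val, borelDiag1_none]
    rw [eta2 (g : Matrix (Fin 2) (Fin 2) F)]
    simp [Matrix.mul_apply, Fin.sum_univ_two]
  | some c =>
    simp only [Units.val_mul, borelRep_some_inv_val, borelRep_some_val, borelDiag1_some]
    rw [eta2 (g : Matrix (Fin 2) (Fin 2) F)]
    simp [Matrix.mul_apply, Fin.sum_univ_two]
    ring

/-- A function on the Borel subgroup of `GL₂` depending only on the diagonal entries is a class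
function. -/
theorem borel_diag_classFunction (f : F → F → ℂ)
    (h k : ↥(Cfsg.upperTriangularGL 2 F)) :
    f ((((k⁻¹ * h * k : ↥(Cfsg.upperTriangularGL 2 F)) : Matrix.GeneralLinearGroup (Fin 2) F) :
        Matrix (Fin 2) (Fin 2) F) 0 0)
      ((((k⁻¹ * h * k : ↥(Cfsg.upperTriangularGL 2 F)) : Matrix.GeneralLinearGroup (Fin 2) F) :
        Matrix (Fin 2) (Fin 2) F) 1 1) =
    f (((h : Matrix.GeneralLinearGroup (Fin 2) F) : Matrix (Fin 2) (Fin 2) F) 0 0)
      (((h : Matrix.GeneralLinearGroup (Fin 2) F) : Matrix (Fin 2) (Fin 2) F) 1 1) := by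
  have hk := (mem_upperTriangularGL_two _).mp k.2
  have hh := (mem_upperTriangularGL_two _).mp h.2
  -- write `h * k = k * (k⁻¹ h k)` and compare diagonal entries
  set x : Matrix.GeneralLinearGroup (Fin 2) F := ((k⁻¹ * h * k : ↥(Cfsg.upperTriangularGL 2 F)) :
    Matrix.GeneralLinearGroup (Fin 2) F) with hx
  have hxmem := (mem_upperTriangularGL_two _).mp (k⁻¹ * h * k).2
  have hkx : (k : Matrix.GeneralLinearGroup (Fin 2) F) * x = (h : Matrix.GeneralLinearGroup (Fin 2) F) * k := by
    rw [hx]
    simp [mul_assoc]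
  have hmat := congrArg (fun y : Matrix.GeneralLinearGroup (Fin 2) F =>
    (y : Matrix (Fin 2) (Fin 2) F)) hkx
  simp only [Units.val_mul] at hmat
  have e00 := congrFun (congrFun hmat 0) 0
  have e11 := congrFun (congrFun hmat 1) 1
  simp only [Matrix.mul_apply, Fin.sum_univ_two] at e00 e11
  have hx10 : (x : Matrix (Fin 2) (Fin 2) F) 1 0 = 0 := hxmem
  rw [hx10, hk] at e00
  rw [hk, hh] at e11
  have hkdet := Matrix.GeneralLinearGroup.det_ne_zero (k : Matrix.GeneralLinearGroup (Fin 2) F)
  rw [Matrix.det_fin_two, hk] at hkdet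
  have hk00 : ((k : Matrix.GeneralLinearGroup (Fin 2) F) : Matrix (Fin 2) (Fin 2) F) 0 0 ≠ 0 := by
    intro h0; apply hkdet; rw [h0]; ring
  have hk11 : ((k : Matrix.GeneralLinearGroup (Fin 2) F) : Matrix (Fin 2) (Fin 2) F) 1 1 ≠ 0 := by
    intro h0; apply hkdet; rw [h0]; ring
  have h00 : (x : Matrix (Fin 2) (Fin 2) F) 0 0 =
      ((h : Matrix.GeneralLinearGroup (Fin 2) F) : Matrix (Fin 2) (Fin 2) F) 0 0 := by
    apply mul_left_cancel₀ hk00
    linear_combination e00
  have h11 : (x : Matrix (Fin 2) (Fin 2) F) 1 1 =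
      ((h : Matrix.GeneralLinearGroup (Fin 2) F) : Matrix (Fin 2) (Fin 2) F) 1 1 := by
    apply mul_left_cancel₀ hk11
    linear_combination e11
  rw [h00, h11]

/-- The function induced to `GL₂` from a function of the diagonal entries on the Borel subgroup:
sum over the fixed points on the projective line. -/
theorem indFun_borel [Fintype F] [DecidableEq F] (f : F → F → ℂ)
    (g : Matrix.GeneralLinearGroup (Fin 2) F) :
    Cfsg.indFun (Cfsg.upperTriangularGL 2 F)
      (fun b => f (((b : Matrix.GeneralLinearGroup (Fin 2) F) : Matrix (Fin 2) (Fin 2) F) 0 0)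
        (((b : Matrix.GeneralLinearGroup (Fin 2) F) : Matrix (Fin 2) (Fin 2) F) 1 1)) g =
    ∑ c : Option F, if borelEntry (g : Matrix (Fin 2) (Fin 2) F) c = 0 then
      f (borelDiag0 (g : Matrix (Fin 2) (Fin 2) F) c) (borelDiag1 (g : Matrix (Fin 2) (Fin 2) F) c)
      else 0 := by
  rw [indFun_eq_sum_reps _ _ (borel_diag_classFunction f) borelRep borelRep_bijective g]
  refine Finset.sum_congr rfl (fun c _ => ?_)
  by_cases hc : borelEntry (g : Matrix (Fin 2) (Fin 2) F) c = 0
  · have hmem : (borelRep c)⁻¹ * g * borelRep c ∈ Cfsg.upperTriangularGL 2 F := by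
      rw [mem_upperTriangularGL_two, borelRep_conj_entry]; exact hc
    rw [if_pos hc, extendByZero_of_mem _ _ hmem]
    simp only [borelRep_conj_diag0, borelRep_conj_diag1]
  · have hmem : (borelRep c)⁻¹ * g * borelRep c ∉ Cfsg.upperTriangularGL 2 F := by
      rw [mem_upperTriangularGL_two, borelRep_conj_entry]; exact hc
    rw [if_neg hc, extendByZero_of_not_mem _ _ hmem]

end borel

end Cfsg.Agent.Lib.Helper39
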