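import Mathlib
import Cfsg.Prelude.Def_Characters
import Cfsg.Prelude.Def_ParabolicCharacters
import Cfsg.Agent.Lib.Helper39.GL2Char
import Cfsg.Agent.Lib.Helper39.IndBorel
import Cfsg.Agent.Lib.Helper80.CharBasic
import Cfsg.Agent.S0148

/-!
# Embedding irreducible representations of `GL₂(q)` with `U`-fixed vectors into principal series
(helper39)

* `exists_common_eigenvector`, `exists_hom_of_eigenvector`: common eigenvectors of finite abelian
  groups, and the linear character they define.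
* `classInner_hom_res`: multiplicity of a linear character of a subgroup in a restriction.
* `exists_isCharacter_remainder`: split off the `χ`-part of a character.
* `exists_ps`: an irreducible representation of `GL₂(F)` with `V^U ≠ 0` is a constituent of
  `Ind_B^G lam` for a linear character `lam` of `B` trivial on `U`.
* `indFun_lam_one`, `indFun_lam_elliptic`, `indFun_lam_diag`: values of `Ind_B^G lam`.
-/

set_option autoImplicit false
set_option linter.style.haveILetI false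

namespace Cfsg.Agent.Lib.Helper39

open Matrix
open scoped ComplexConjugate

section general1

variable {G : Type*} [Group G] {H : Type*} [Group H] {V : Type*} [AddCommGroup V] [Module ℂ V]

/-- A common eigenvector of `φ(H)` defines a linear character of `H`. -/
theorem exists_hom_of_eigenvector (ρ : Representation ℂ G V) (φ : H →* G) (v : V) (hv : v ≠ 0)
    (h : ∀ x : H, ∃ c : ℂ, ρ (φ x) v = c • v) :
    ∃ lam : H →* ℂˣ, v ∈ eigenSub ρ φ lam := by
  choose c hc using h
  have huniq : ∀ a b : ℂ, a • v = b • v → a = b := by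
    intro a b hab
    have : (a - b) • v = 0 := by rw [sub_smul, hab, sub_self]
    rcases smul_eq_zero.mp this with h1 | h1
    · exact sub_eq_zero.mp h1
    · exact absurd h1 hv
  have h1 : c 1 = 1 := by
    apply huniq
    rw [← hc, map_one, map_one, Module.End.one_apply, one_smul]
  have hmul : ∀ x y, c (x * y) = c x * c y := by
    intro x y
    apply huniq
    rw [← hc, map_mul, map_mul, Module.End.mul_apply, hc y, map_smul, hc x, smul_smul, mul_comm]
  let f : H →* ℂ := ⟨⟨c, h1⟩, hmul⟩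
  refine ⟨f.toHomUnits, ?_⟩
  rw [mem_eigenSub]
  intro x
  rw [hc x]
  rfl

/-- A finite commutative group acting on a finite-dimensional complex space has a common
eigenvector in every nonzero invariant subspace. -/
theorem exists_common_eigenvector {A : Type*} [CommGroup A] [Finite A] [FiniteDimensional ℂ V]
    (σ : Representation ℂ A V) (S : Subrepresentation σ) (hS : S ≠ ⊥) :
    ∃ v ∈ S.toSubmodule, v ≠ 0 ∧ ∀ a : A, ∃ c : ℂ, σ a v = c • v := by
  haveI := Cfsg.Agent.Lib.Helper78.isAtomic_subrepresentation σ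
  obtain ⟨a, ha, haS⟩ := (eq_bot_or_exists_atom_le S).resolve_left hS
  have hirr := Cfsg.Agent.Lib.Helper78.isIrreducible_of_isAtom a ha
  have hne : a.toSubmodule ≠ ⊥ := by
    intro h0
    apply ha.1
    exact Subrepresentation.toSubmodule_injective h0
  obtain ⟨v, hva, hv0⟩ := Submodule.exists_mem_ne_zero_of_ne_bot hne
  refine ⟨v, haS hva, hv0, ?_⟩
  intro g
  obtain ⟨c, hc⟩ := Cfsg.Agent.Lib.Helper78.exists_eq_smul_one_of_commute a.toRepresentation hirr
    (a.toRepresentation g) (fun k => by rw [← map_mul, ← map_mul, mul_comm])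
  refine ⟨c, ?_⟩
  have := LinearMap.congr_fun hc ⟨v, hva⟩
  have h2 := congrArg Subtype.val this
  simpa [Subrepresentation.toRepresentation] using h2

end general1

section general2

variable {G : Type*} [Group G] {V : Type*} [AddCommGroup V] [Module ℂ V]

/-- multiplicity of a linear character of a subgroup in the restriction of a representation -/
theorem classInner_hom_res [Finite G] [FiniteDimensional ℂ V] (ρ : Representation ℂ G V)
    (H : Subgroup G) [Fintype H] (lam : H →* ℂˣ) :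
    Cfsg.classInner (fun h : H => ((lam h : ℂˣ) : ℂ)) (fun h : H => ρ.character (h : G)) =
      (Module.finrank ℂ (eigenSub ρ H.subtype lam) : ℂ) := by
  have h1 := sum_twist_character ρ H.subtype lam
  unfold Cfsg.classInner
  have hne : (Fintype.card H : ℂ) ≠ 0 := by exact_mod_cast Fintype.card_ne_zero
  rw [Nat.card_eq_fintype_card, inv_mul_eq_iff_eq_mul₀ hne, ← h1]
  rw [← Equiv.sum_comp (Equiv.inv H)]
  refine Finset.sum_congr rfl (fun h _ => ?_)
  simp only [Equiv.inv_apply, map_inv, Subgroup.coe_inv, Subgroup.coe_subtype]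
  rw [Cfsg.Agent.Lib.Helper78.character_inv ρ (h : G), Complex.conj_conj]

end general2

section decomp

universe u
variable {G : Type u} [Group G] [Fintype G]

/-- splitting off the `χ`-isotypic part of a character -/
theorem exists_isCharacter_remainder {Θ χ : G → ℂ} (hΘ : Cfsg.IsCharacter G Θ)
    (hχ : Cfsg.IsIrrCharacter G χ) :
    ∃ (m : ℕ) (R : G → ℂ), Cfsg.classInner Θ χ = (m : ℂ) ∧ Cfsg.IsCharacter G R ∧
      Θ = (m : ℂ) • χ + R ∧ Cfsg.classInner R χ = 0 := by
  classical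
  obtain ⟨n, hn⟩ := (Cfsg.Agent.Lib.Helper78.isCharacter_iff_exists_nat_combination Θ).mp hΘ
  let χ' : Cfsg.IrrCharacter G := ⟨χ, hχ⟩
  let n' : Cfsg.IrrCharacter G → ℕ := fun ψ => if ψ = χ' then 0 else n ψ
  refine ⟨n χ', ∑ ψ : Cfsg.IrrCharacter G, (n' ψ : ℂ) • (ψ : G → ℂ), ?_, ?_, ?_, ?_⟩
  · rw [hn]
    exact Cfsg.Agent.Lib.Helper78.classInner_nat_combination (fun ψ => (n ψ : ℂ)) χ'
  · exact (Cfsg.Agent.Lib.Helper78.isCharacter_iff_exists_nat_combination _).mpr ⟨n', rfl⟩
  · rw [hn, ← Finset.add_sum_erase Finset.univ _ (Finset.mem_univ χ'),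
      ← Finset.add_sum_erase Finset.univ (fun ψ : Cfsg.IrrCharacter G => (n' ψ : ℂ) • (ψ : G → ℂ))
        (Finset.mem_univ χ')]
    have h0 : n' χ' = 0 := by simp [n']
    rw [h0, Nat.cast_zero, zero_smul, zero_add]
    congr 1
    refine Finset.sum_congr rfl (fun ψ hψ => ?_)
    have : n' ψ = n ψ := by simp [n', Finset.ne_of_mem_erase hψ]
    rw [this]
  · have := Cfsg.Agent.Lib.Helper78.classInner_nat_combination (fun ψ => (n' ψ : ℂ)) χ'
    rw [this]
    simp [n']

end decomp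

variable {F : Type*} [Field F] {V : Type*} [AddCommGroup V] [Module ℂ V]

/-- `(s, t) ↦ dT s t` as a homomorphism -/
noncomputable def dHom : Fˣ × Fˣ →* GL (Fin 2) F where
  toFun p := dT p.1 p.2
  map_one' := dT_one
  map_mul' p q := (dT_mul_dT p.1 p.2 q.1 q.2).symm

theorem dHom_apply (p : Fˣ × Fˣ) : dHom p = dT p.1 p.2 := rfl

theorem uT_mem_borel (x : F) : uT x ∈ Cfsg.upperTriangularGL 2 F := by
  rw [mem_upperTriangularGL_two]; simp [uT_val]

theorem dT_mem_borel (s t : Fˣ) : dT s t ∈ Cfsg.upperTriangularGL 2 F := by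
  rw [mem_upperTriangularGL_two]; simp [dT_val]

theorem borel_decomp (b : GL (Fin 2) F) (hb : b ∈ Cfsg.upperTriangularGL 2 F) :
    ∃ (s t : Fˣ) (x : F), (s : F) = (b : Matrix (Fin 2) (Fin 2) F) 0 0 ∧
      (t : F) = (b : Matrix (Fin 2) (Fin 2) F) 1 1 ∧ b = dT s t * uT x := by
  rw [mem_upperTriangularGL_two] at hb
  have hdet := Matrix.GeneralLinearGroup.det_ne_zero b
  rw [Matrix.det_fin_two, hb, mul_zero, sub_zero] at hdet
  have h00 : (b : Matrix (Fin 2) (Fin 2) F) 0 0 ≠ 0 := left_ne_zero_of_mul hdet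
  have h11 : (b : Matrix (Fin 2) (Fin 2) F) 1 1 ≠ 0 := right_ne_zero_of_mul hdet
  refine ⟨Units.mk0 _ h00, Units.mk0 _ h11,
    (b : Matrix (Fin 2) (Fin 2) F) 0 1 / (b : Matrix (Fin 2) (Fin 2) F) 0 0, rfl, rfl, ?_⟩
  apply gl2_ext
  · simp [dT_val, uT_val, Matrix.mul_apply, Fin.sum_univ_two]
  · simp [dT_val, uT_val, Matrix.mul_apply, Fin.sum_univ_two]
    field_simp
  · simp [dT_val, uT_val, Matrix.mul_apply, Fin.sum_univ_two, hb]
  · simp [dT_val, uT_val, Matrix.mul_apply, Fin.sum_univ_two]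

/-- if `V^U ≠ 0` there is a linear character of the Borel subgroup, trivial on `U`, occurring in
the restriction of `ρ` -/
theorem exists_borel_character [Finite F] [FiniteDimensional ℂ V]
    (ρ : Representation ℂ (GL (Fin 2) F) V) (h : fixU ρ ≠ 0) :
    ∃ lam : (Cfsg.upperTriangularGL 2 F) →* ℂˣ,
      (∀ x : F, lam ⟨uT x, uT_mem_borel x⟩ = 1) ∧
      eigenSub ρ (Cfsg.upperTriangularGL 2 F).subtype lam ≠ ⊥ := by
  -- the torus acts on the U-fixed vectors
  let σ : Representation ℂ (Fˣ × Fˣ) V := ρ.comp dHom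
  let S : Subrepresentation σ := ⟨fixUSub ρ, by
    intro p v hv
    rw [mem_fixUSub] at hv ⊢
    intro x
    change ρ (uT x) (ρ (dT p.1 p.2) v) = ρ (dT p.1 p.2) v
    have h1 : uT x * dT p.1 p.2 = dT p.1 p.2 * uT ((p.1⁻¹ : Fˣ) * x * (p.2 : F)) := by
      rw [dT_mul_uT]
      congr 2
      have h1 := p.1.ne_zero
      have h2 := p.2.ne_zero
      simp only [Units.val_inv_eq_inv_val]
      field_simp
    rw [← Module.End.mul_apply, ← map_mul, h1, map_mul, Module.End.mul_apply, hv]⟩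
  have hS : S ≠ ⊥ := by
    intro h0
    apply h
    have : fixUSub ρ = ⊥ := congrArg Subrepresentation.toSubmodule h0
    unfold fixU
    rw [this]
    simp
  obtain ⟨v, hvS, hv0, hv⟩ := exists_common_eigenvector σ S hS
  have hvU : ∀ x : F, ρ (uT x) v = v := (mem_fixUSub ρ v).mp hvS
  have hB : ∀ b : Cfsg.upperTriangularGL 2 F, ∃ c : ℂ,
      ρ ((Cfsg.upperTriangularGL 2 F).subtype b) v = c • v := by
    intro b
    obtain ⟨s, t, x, -, -, hb⟩ := borel_decomp b.1 b.2
    obtain ⟨c, hc⟩ := hv (s, t)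
    refine ⟨c, ?_⟩
    change ρ (b : GL (Fin 2) F) v = c • v
    rw [hb, map_mul, Module.End.mul_apply, hvU]
    exact hc
  obtain ⟨lam, hlam⟩ := exists_hom_of_eigenvector ρ (Cfsg.upperTriangularGL 2 F).subtype v hv0 hB
  refine ⟨lam, ?_, ?_⟩
  · intro x
    have h1 := (mem_eigenSub ρ _ lam v).mp hlam ⟨uT x, uT_mem_borel x⟩
    change ρ (uT x) v = _ at h1
    rw [hvU] at h1
    have h2 : ((1 : ℂ) - ((lam ⟨uT x, uT_mem_borel x⟩ : ℂˣ) : ℂ)) • v = 0 := by
      rw [sub_smul, one_smul, ← h1, sub_self]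
    rcases smul_eq_zero.mp h2 with h3 | h3
    · exact Units.ext (sub_eq_zero.mp h3).symm
    · exact absurd h3 hv0
  · intro h0
    rw [h0] at hlam
    exact hv0 ((Submodule.mem_bot ℂ).mp hlam)

open Classical in
/-- the function of the diagonal entries attached to a character of the Borel subgroup -/
noncomputable def fOf (lam : (Cfsg.upperTriangularGL 2 F) →* ℂˣ) : F → F → ℂ :=
  fun a b => if h : a ≠ 0 ∧ b ≠ 0 then
    ((lam ⟨dT (Units.mk0 a h.1) (Units.mk0 b h.2), dT_mem_borel _ _⟩ : ℂˣ) : ℂ) else 0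

theorem fOf_units (lam : (Cfsg.upperTriangularGL 2 F) →* ℂˣ) (s t : Fˣ) :
    fOf lam (s : F) (t : F) = ((lam ⟨dT s t, dT_mem_borel _ _⟩ : ℂˣ) : ℂ) := by
  unfold fOf
  rw [dif_pos ⟨s.ne_zero, t.ne_zero⟩]
  congr 3

theorem lam_eq_fOf (lam : (Cfsg.upperTriangularGL 2 F) →* ℂˣ)
    (hU : ∀ x : F, lam ⟨uT x, uT_mem_borel x⟩ = 1) (b : Cfsg.upperTriangularGL 2 F) :
    ((lam b : ℂˣ) : ℂ) = fOf lam (((b : GL (Fin 2) F) : Matrix (Fin 2) (Fin 2) F) 0 0)
      (((b : GL (Fin 2) F) : Matrix (Fin 2) (Fin 2) F) 1 1) := by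
  obtain ⟨s, t, x, hs, ht, hb⟩ := borel_decomp b.1 b.2
  rw [← hs, ← ht, fOf_units]
  have : b = ⟨dT s t, dT_mem_borel _ _⟩ * ⟨uT x, uT_mem_borel x⟩ := Subtype.ext hb
  rw [this, map_mul, hU, mul_one]

theorem indFun_lam [Fintype F] [DecidableEq F] (lam : (Cfsg.upperTriangularGL 2 F) →* ℂˣ)
    (hU : ∀ x : F, lam ⟨uT x, uT_mem_borel x⟩ = 1) (g : GL (Fin 2) F) :
    Cfsg.indFun (Cfsg.upperTriangularGL 2 F) (fun b => ((lam b : ℂˣ) : ℂ)) g =
    ∑ c : Option F, if borelEntry (g : Matrix (Fin 2) (Fin 2) F) c = 0 then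
      fOf lam (borelDiag0 (g : Matrix (Fin 2) (Fin 2) F) c)
        (borelDiag1 (g : Matrix (Fin 2) (Fin 2) F) c) else 0 := by
  rw [← indFun_borel (fOf lam) g]
  congr 1
  funext b
  exact lam_eq_fOf lam hU b

theorem indFun_lam_one [Fintype F] [DecidableEq F] (lam : (Cfsg.upperTriangularGL 2 F) →* ℂˣ)
    (hU : ∀ x : F, lam ⟨uT x, uT_mem_borel x⟩ = 1) :
    Cfsg.indFun (Cfsg.upperTriangularGL 2 F) (fun b => ((lam b : ℂˣ) : ℂ)) 1 =
      (Fintype.card F : ℂ) + 1 := by
  rw [indFun_lam lam hU]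
  have h1 : ∀ c : Option F, borelEntry ((1 : GL (Fin 2) F) : Matrix (Fin 2) (Fin 2) F) c = 0 := by
    intro c; cases c <;> simp
  have h2 : ∀ c : Option F, borelDiag0 ((1 : GL (Fin 2) F) : Matrix (Fin 2) (Fin 2) F) c = 1 := by
    intro c; cases c <;> simp
  have h3 : ∀ c : Option F, borelDiag1 ((1 : GL (Fin 2) F) : Matrix (Fin 2) (Fin 2) F) c = 1 := by
    intro c; cases c <;> simp
  simp only [h1, h2, h3, if_true]
  have h4 : fOf lam (1 : F) 1 = 1 := by
    have := fOf_units lam 1 1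
    simp only [Units.val_one] at this
    rw [this]
    have : (⟨dT 1 1, dT_mem_borel _ _⟩ : Cfsg.upperTriangularGL 2 F) = 1 := Subtype.ext dT_one
    rw [this, map_one, Units.val_one]
  rw [h4]
  simp [Fintype.card_option]

theorem indFun_lam_elliptic [Fintype F] [DecidableEq F]
    (lam : (Cfsg.upperTriangularGL 2 F) →* ℂˣ)
    (hU : ∀ x : F, lam ⟨uT x, uT_mem_borel x⟩ = 1) (g : GL (Fin 2) F)
    (hg : ∀ (c : F) (v : Fin 2 → F), v ≠ 0 → (g : Matrix (Fin 2) (Fin 2) F).mulVec v ≠ c • v) :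
    Cfsg.indFun (Cfsg.upperTriangularGL 2 F) (fun b => ((lam b : ℂˣ) : ℂ)) g = 0 := by
  rw [indFun_lam lam hU]
  apply Finset.sum_eq_zero
  intro c _
  rw [if_neg]
  intro hc
  cases c with
  | none =>
    simp only [borelEntry_none] at hc
    apply hg ((g : Matrix (Fin 2) (Fin 2) F) 1 1) ![0, 1]
    · intro h0
      have := congrFun h0 1
      simp at this
    · ext i
      fin_cases i <;> simp [Matrix.mulVec, dotProduct, Fin.sum_univ_two, hc]
  | some c =>
    simp only [borelEntry_some] at hc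
    apply hg ((g : Matrix (Fin 2) (Fin 2) F) 0 0 + (g : Matrix (Fin 2) (Fin 2) F) 0 1 * c) ![1, c]
    · intro h0
      have := congrFun h0 0
      simp at this
    · ext i
      fin_cases i
      · simp [Matrix.mulVec, dotProduct, Fin.sum_univ_two]
      · simp [Matrix.mulVec, dotProduct, Fin.sum_univ_two]
        linear_combination hc

theorem indFun_lam_diag [Fintype F] [DecidableEq F]
    (lam : (Cfsg.upperTriangularGL 2 F) →* ℂˣ)
    (hU : ∀ x : F, lam ⟨uT x, uT_mem_borel x⟩ = 1) (s t : Fˣ) (hst : s ≠ t) :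
    Cfsg.indFun (Cfsg.upperTriangularGL 2 F) (fun b => ((lam b : ℂˣ) : ℂ)) (dT s t) =
      ((lam ⟨dT s t, dT_mem_borel _ _⟩ : ℂˣ) : ℂ) + ((lam ⟨dT t s, dT_mem_borel _ _⟩ : ℂˣ) : ℂ) := by
  rw [indFun_lam lam hU, Fintype.sum_option]
  have e00 : ((dT s t : GL (Fin 2) F) : Matrix (Fin 2) (Fin 2) F) 0 0 = s := by simp [dT_val]
  have e01 : ((dT s t : GL (Fin 2) F) : Matrix (Fin 2) (Fin 2) F) 0 1 = 0 := by simp [dT_val]
  have e10 : ((dT s t : GL (Fin 2) F) : Matrix (Fin 2) (Fin 2) F) 1 0 = 0 := by simp [dT_val]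
  have e11 : ((dT s t : GL (Fin 2) F) : Matrix (Fin 2) (Fin 2) F) 1 1 = t := by simp [dT_val]
  simp only [borelEntry_none, borelDiag0_none, borelDiag1_none, borelEntry_some, borelDiag0_some,
    borelDiag1_some, e00, e01, e10, e11]
  have hne : (t : F) - (s : F) ≠ 0 := by
    intro h
    exact hst (Units.ext (sub_eq_zero.mp h).symm)
  rw [Finset.sum_eq_single (0 : F)]
  · simp [fOf_units, add_comm]
  · intro c _ hc
    rw [if_neg]
    simp [hne, hc]
  · intro h; exact absurd (Finset.mem_univ _) h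

/-- an irreducible representation with `U`-fixed vectors embeds in a principal series -/
theorem exists_ps [Fintype F] [DecidableEq F] [FiniteDimensional ℂ V]
    (ρ : Representation ℂ (GL (Fin 2) F) V) (hρ : ρ.IsIrreducible) (h : fixU ρ ≠ 0) :
    ∃ (lam : (Cfsg.upperTriangularGL 2 F) →* ℂˣ) (m : ℕ) (R : GL (Fin 2) F → ℂ),
      (∀ x : F, lam ⟨uT x, uT_mem_borel x⟩ = 1) ∧ 1 ≤ m ∧ Cfsg.IsCharacter (GL (Fin 2) F) R ∧
      Cfsg.indFun (Cfsg.upperTriangularGL 2 F) (fun b => ((lam b : ℂˣ) : ℂ)) =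
        (m : ℂ) • ρ.character + R ∧ Cfsg.classInner R ρ.character = 0 := by
  obtain ⟨lam, hU, hne⟩ := exists_borel_character ρ h
  haveI : Fintype (Cfsg.upperTriangularGL 2 F) := Fintype.ofFinite _
  have hχ := Cfsg.Agent.Lib.Helper78.isIrrCharacter_of_isIrreducible ρ hρ
  have hθ : Cfsg.IsCharacter (Cfsg.upperTriangularGL 2 F) (fun b => ((lam b : ℂˣ) : ℂ)) :=
    Cfsg.Agent.Lib.Helper78.IsIrrCharacter.isCharacter
      (Cfsg.Agent.Lib.Helper80.isIrrCharacter_of_hom lam)
  have hΘ := Cfsg.Agent.S0148.result (Cfsg.upperTriangularGL 2 F) _ hθ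
  obtain ⟨m, R, hm, hR, hdec, hR0⟩ := exists_isCharacter_remainder hΘ hχ
  refine ⟨lam, m, R, hU, ?_, hR, hdec, hR0⟩
  have hfr := Cfsg.Agent.Lib.Helper75.frobenius_reciprocity (Cfsg.upperTriangularGL 2 F)
    (fun b => ((lam b : ℂˣ) : ℂ))
    (Cfsg.Agent.Lib.Helper78.IsCharacter.isClassFunction
      (Cfsg.Agent.Lib.Helper78.IsIrrCharacter.isCharacter hχ))
  rw [hm, classInner_hom_res ρ _ lam] at hfr
  have hmeq : m = Module.finrank ℂ (eigenSub ρ (Cfsg.upperTriangularGL 2 F).subtype lam) := by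
    exact_mod_cast hfr
  rw [hmeq]
  have : 0 < Module.finrank ℂ (eigenSub ρ (Cfsg.upperTriangularGL 2 F).subtype lam) := by
    rw [Module.finrank_pos_iff]
    exact (Submodule.nontrivial_iff_ne_bot).mpr hne
  omega

section general3

variable {G : Type*} [Group G]

/-- a character of degree zero vanishes -/
theorem eq_zero_of_isCharacter_of_apply_one {R : G → ℂ} (hR : Cfsg.IsCharacter G R)
    (h : R 1 = 0) : R = 0 := by
  obtain ⟨n, ρ, rfl⟩ := hR
  rw [Representation.char_one] at h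
  have hn : Module.finrank ℂ (Fin n → ℂ) = 0 := by exact_mod_cast h
  exact Cfsg.Agent.Lib.Helper78.character_eq_zero_of_finrank_eq_zero ρ hn

/-- a character of degree one is a homomorphism to `ℂˣ` -/
theorem exists_hom_of_degree_one {R : G → ℂ} (hR : Cfsg.IsCharacter G R) (h : R 1 = 1) :
    ∃ μ : G →* ℂˣ, R = fun g => ((μ g : ℂˣ) : ℂ) := by
  obtain ⟨n, ρ, rfl⟩ := hR
  have h' := h
  rw [Representation.char_one] at h'
  have hn : Module.finrank ℂ (Fin n → ℂ) = 1 := by exact_mod_cast h'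
  let f : G →* ℂ := ⟨⟨ρ.character, h⟩, fun x y => by
    simp only [Representation.character, map_mul]
    exact Cfsg.Agent.Lib.Helper78.trace_mul_of_finrank_eq_one hn _ _⟩
  exact ⟨f.toHomUnits, rfl⟩

theorem norm_hom_eq_one [Finite G] (μ : G →* ℂˣ) (g : G) : ‖((μ g : ℂˣ) : ℂ)‖ = 1 := by
  have h1 : (μ g) ^ Nat.card G = 1 := by rw [← map_pow, pow_card_eq_one', map_one]
  have h2 : ((μ g : ℂˣ) : ℂ) ^ Nat.card G = 1 := by
    rw [← Units.val_pow_eq_pow_val, h1, Units.val_one]
  exact Complex.norm_eq_one_of_pow_eq_one h2 Nat.card_pos.ne'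

end general3


/-- representations without `U`-fixed vectors have characters vanishing on regular diagonal
elements -/
theorem char_regular_diag_eq_zero [Fintype F] [FiniteDimensional ℂ V]
    (ρ : Representation ℂ (GL (Fin 2) F) V) (h : fixU ρ = 0) (g : GL (Fin 2) F)
    (h01 : (g : Matrix (Fin 2) (Fin 2) F) 0 1 = 0) (h10 : (g : Matrix (Fin 2) (Fin 2) F) 1 0 = 0)
    (hne : (g : Matrix (Fin 2) (Fin 2) F) 0 0 ≠ (g : Matrix (Fin 2) (Fin 2) F) 1 1) :
    ρ.character g = 0 := by
  have hbot : eigenSub ρ (uHom (F := F)) 1 = ⊥ := Submodule.finrank_eq_zero.mp h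
  have hsum := (twistSum_eq_zero_iff ρ (uHom (F := F)) 1).mpr hbot
  unfold twistSum at hsum
  simp only [MonoidHom.one_apply, inv_one, Units.val_one, one_smul, uHom_apply] at hsum
  have h2 : ∑ x : Multiplicative F, ρ.character (g * uT x.toAdd) = 0 := by
    have := congrArg (fun T => LinearMap.trace ℂ V (ρ g * T)) hsum
    simp only [Finset.mul_sum, map_sum, mul_zero, map_zero] at this
    rw [← this]
    refine Finset.sum_congr rfl (fun x _ => ?_)
    rw [Representation.character, map_mul]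
  have hd : (g : Matrix (Fin 2) (Fin 2) F) 1 1 - (g : Matrix (Fin 2) (Fin 2) F) 0 0 ≠ 0 :=
    sub_ne_zero.mpr hne.symm
  have h3 : ∀ x : Multiplicative F, ρ.character (g * uT x.toAdd) = ρ.character g := by
    intro x
    have : g * uT x.toAdd = uT ((g : Matrix (Fin 2) (Fin 2) F) 0 0 * x.toAdd /
        ((g : Matrix (Fin 2) (Fin 2) F) 1 1 - (g : Matrix (Fin 2) (Fin 2) F) 0 0)) * g *
        (uT ((g : Matrix (Fin 2) (Fin 2) F) 0 0 * x.toAdd /
        ((g : Matrix (Fin 2) (Fin 2) F) 1 1 - (g : Matrix (Fin 2) (Fin 2) F) 0 0)))⁻¹ := by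
      rw [eq_mul_inv_iff_mul_eq]
      apply gl2_ext
      · simp [uT_val, Matrix.mul_apply, Fin.sum_univ_two, h10]
      · simp [uT_val, Matrix.mul_apply, Fin.sum_univ_two, h01]
        field_simp
        ring
      · simp [uT_val, Matrix.mul_apply, Fin.sum_univ_two, h10]
      · simp [uT_val, Matrix.mul_apply, Fin.sum_univ_two, h10]
    rw [this, Representation.char_conj]
  rw [Finset.sum_congr rfl (fun x _ => h3 x), Finset.sum_const, Finset.card_univ,
    nsmul_eq_mul] at h2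
  have hq : (Fintype.card (Multiplicative F) : ℂ) ≠ 0 := by
    exact_mod_cast Fintype.card_ne_zero
  exact (mul_eq_zero.mp h2).resolve_left hq

end Cfsg.Agent.Lib.Helper39
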