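import Mathlib
import Cfsg.Prelude.Def_Characters
import Cfsg.Agent.Lib.Helper39.GL2PS
import Cfsg.Agent.Lib.Helper41.SL2Conj
import Cfsg.Agent.Lib.Helper41.SL2Borel
import Cfsg.Agent.Lib.Helper41.SL2BorelInd
import Cfsg.Agent.Lib.Helper5.SL2Sylow
import Cfsg.Agent.S0165

/-!
# Characters of `SL₂(q)` and the unipotent subgroup (helper39)

* elementary matrices `upperU`, `lowerU` (from helper41) generate `SL₂` (`sl2_exists_prod`);
  a linear character trivial on `upperU` is trivial (`hom_eq_one_of_upperU`).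
* `fixUS ρ`: dimension of the `U`-fixed vectors; `sum_char_upperU`.
* `exists_borel_character_SL`: a `B`-eigenvector in `V^U`.
* `hom_res_eq_of_classInner_ne_zero`, `exists_decomp_of_eigenSub`: general Frobenius reciprocity
  consequences for linear characters.
* `steinberg_SL`: an irreducible character of degree `q` of `SL₂(q)` equals `Ind_B^G 1 - 1`.
-/

set_option autoImplicit false
set_option linter.style.haveILetI false

namespace Cfsg.Agent.Lib.Helper39

open Matrix Cfsg.Agent.Lib.Helper41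
open scoped ComplexConjugate

section general4

universe u
variable {G : Type u} [Group G] [Fintype G]

/-- a linear character of `G` occurring in `Ind_H^G lam` restricts to `lam` -/
theorem hom_res_eq_of_classInner_ne_zero (H : Subgroup G) [Fintype H] (lam : H →* ℂˣ)
    (μ : G →* ℂˣ)
    (h : Cfsg.classInner (Cfsg.indFun H (fun b => ((lam b : ℂˣ) : ℂ)))
      (fun g => ((μ g : ℂˣ) : ℂ)) ≠ 0) : ∀ b : H, lam b = μ b := by
  have hμirr : Cfsg.IsIrrCharacter G (fun g => ((μ g : ℂˣ) : ℂ)) :=
    Cfsg.Agent.Lib.Helper80.isIrrCharacter_of_hom μ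
  have hfr := Cfsg.Agent.Lib.Helper75.frobenius_reciprocity H (fun b => ((lam b : ℂˣ) : ℂ))
    (Cfsg.Agent.Lib.Helper78.IsCharacter.isClassFunction
      (Cfsg.Agent.Lib.Helper78.IsIrrCharacter.isCharacter hμirr))
  rw [hfr] at h
  have hlamirr : Cfsg.IsIrrCharacter H (fun b => ((lam b : ℂˣ) : ℂ)) :=
    Cfsg.Agent.Lib.Helper80.isIrrCharacter_of_hom lam
  have hμres : Cfsg.IsIrrCharacter H (fun b : H => ((μ (b : G) : ℂˣ) : ℂ)) :=
    Cfsg.Agent.Lib.Helper80.isIrrCharacter_of_hom (μ.comp H.subtype)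
  rw [Cfsg.Agent.Lib.Helper78.classInner_irr hlamirr hμres] at h
  intro b
  by_contra hne
  apply h
  rw [if_neg]
  intro heq
  exact hne (Units.ext (congrFun heq b))

/-- an irreducible representation with a `lam`-eigenvector for `H` is a constituent of
`Ind_H^G lam` -/
theorem exists_decomp_of_eigenSub {V : Type*} [AddCommGroup V] [Module ℂ V]
    [FiniteDimensional ℂ V] (ρ : Representation ℂ G V)
    (hρ : ρ.IsIrreducible) (H : Subgroup G) (lam : H →* ℂˣ)
    (hne : eigenSub ρ H.subtype lam ≠ ⊥) :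
    ∃ (m : ℕ) (R : G → ℂ), 1 ≤ m ∧ Cfsg.IsCharacter G R ∧
      Cfsg.indFun H (fun b => ((lam b : ℂˣ) : ℂ)) = (m : ℂ) • ρ.character + R ∧
      Cfsg.classInner R ρ.character = 0 := by
  haveI : Fintype H := Fintype.ofFinite _
  have hχ := Cfsg.Agent.Lib.Helper78.isIrrCharacter_of_isIrreducible ρ hρ
  have hθ : Cfsg.IsCharacter H (fun b => ((lam b : ℂˣ) : ℂ)) :=
    Cfsg.Agent.Lib.Helper78.IsIrrCharacter.isCharacter
      (Cfsg.Agent.Lib.Helper80.isIrrCharacter_of_hom lam)
  have hΘ := Cfsg.Agent.S0148.result H _ hθ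
  obtain ⟨m, R, hm, hR, hdec, hR0⟩ := exists_isCharacter_remainder hΘ hχ
  refine ⟨m, R, ?_, hR, hdec, hR0⟩
  have hfr := Cfsg.Agent.Lib.Helper75.frobenius_reciprocity H
    (fun b => ((lam b : ℂˣ) : ℂ))
    (Cfsg.Agent.Lib.Helper78.IsCharacter.isClassFunction
      (Cfsg.Agent.Lib.Helper78.IsIrrCharacter.isCharacter hχ))
  rw [hm, classInner_hom_res ρ _ lam] at hfr
  have hmeq : m = Module.finrank ℂ (eigenSub ρ H.subtype lam) := by
    exact_mod_cast hfr
  rw [hmeq]
  have : 0 < Module.finrank ℂ (eigenSub ρ H.subtype lam) := by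
    rw [Module.finrank_pos_iff]
    exact (Submodule.nontrivial_iff_ne_bot).mpr hne
  omega

end general4

variable {F : Type*} [Field F] {V : Type*} [AddCommGroup V] [Module ℂ V]

theorem toGL_upperU (x : F) : Matrix.SpecialLinearGroup.toGL (upperU x) = uT x := by
  apply gl2_ext <;> simp [coe_upperU, uT_val]

theorem toGL_lowerU (x : F) : Matrix.SpecialLinearGroup.toGL (lowerU x) = lT x := by
  apply gl2_ext <;> simp [coe_lowerU, lT_val]

theorem toGL_injective :
    Function.Injective (Matrix.SpecialLinearGroup.toGL :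
      Matrix.SpecialLinearGroup (Fin 2) F →* GL (Fin 2) F) := by
  intro a b h
  apply Subtype.ext
  have := congrArg (fun g : GL (Fin 2) F => (g : Matrix (Fin 2) (Fin 2) F)) h
  simpa using this

theorem upperU_add (x y : F) : upperU (x + y) = upperU x * upperU y := by
  apply toGL_injective
  rw [map_mul, toGL_upperU, toGL_upperU, toGL_upperU, uT_add]

theorem upperU_zero : upperU (0 : F) = 1 := by
  apply toGL_injective
  rw [map_one, toGL_upperU, uT_zero]

/-- `x ↦ upperU x` as a homomorphism -/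
noncomputable def uSHom : Multiplicative F →* Matrix.SpecialLinearGroup (Fin 2) F where
  toFun x := upperU x.toAdd
  map_one' := upperU_zero
  map_mul' _ _ := upperU_add _ _

theorem uSHom_apply (x : Multiplicative F) : uSHom x = upperU x.toAdd := rfl

/-- every element of `SL₂` is a product of four elementary matrices -/
theorem sl2_exists_prod (g : Matrix.SpecialLinearGroup (Fin 2) F) :
    ∃ x y z w : F, g = lowerU w * upperU x * lowerU y * upperU z := by
  obtain ⟨x, y, z, w, h⟩ := exists_prod_of_det_eq_one (Matrix.SpecialLinearGroup.toGL g)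
    (by simp)
  refine ⟨x, y, z, w, ?_⟩
  apply toGL_injective
  rw [h, map_mul, map_mul, map_mul, toGL_upperU, toGL_upperU, toGL_lowerU, toGL_lowerU]

theorem lowerU_conj (x : F) : weylW * upperU (-x) * weylW⁻¹ = lowerU x := by
  apply Cfsg.Agent.Lib.Helper5.sl2_ext <;>
    simp [Matrix.SpecialLinearGroup.coe_mul, coe_weylW, coe_upperU, coe_lowerU,
      Matrix.mul_apply, Fin.sum_univ_two]

/-- a linear character of `SL₂` trivial on the upper unipotent subgroup is trivial -/
theorem hom_eq_one_of_upperU (μ : Matrix.SpecialLinearGroup (Fin 2) F →* ℂˣ)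
    (h : ∀ x : F, μ (upperU x) = 1) : μ = 1 := by
  have hl : ∀ x : F, μ (lowerU x) = 1 := by
    intro x
    rw [← lowerU_conj, map_mul, map_mul, h, mul_one, ← map_mul, mul_inv_cancel, map_one]
  ext g
  obtain ⟨x, y, z, w, rfl⟩ := sl2_exists_prod g
  simp [map_mul, h, hl]

theorem upperU_mem_borelSub (x : F) : upperU x ∈ borelSub F := by
  rw [mem_borelSub, coe_upperU]; simp

theorem borelSub_decomp (b : Matrix.SpecialLinearGroup (Fin 2) F) (hb : b ∈ borelSub F) :
    ∃ (s : Fˣ) (x : F), (s : F) = (b : Matrix (Fin 2) (Fin 2) F) 0 0 ∧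
      b = borelEl s 0 * upperU x := by
  have h00 := borel_apply_00_ne_zero hb
  have h11 := borel_apply_11 hb
  rw [mem_borelSub] at hb
  refine ⟨Units.mk0 _ h00, (b : Matrix (Fin 2) (Fin 2) F) 0 1 / (b : Matrix (Fin 2) (Fin 2) F) 0 0,
    rfl, ?_⟩
  apply Cfsg.Agent.Lib.Helper5.sl2_ext
  · simp [coe_borelEl, coe_upperU, Matrix.mul_apply, Fin.sum_univ_two]
  · simp [coe_borelEl, coe_upperU, Matrix.mul_apply, Fin.sum_univ_two]
    field_simp
  · simp [coe_borelEl, coe_upperU, Matrix.mul_apply, Fin.sum_univ_two, hb]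
  · simp [coe_borelEl, coe_upperU, Matrix.mul_apply, Fin.sum_univ_two, h11]

theorem borelEl_mul_borelEl (s t : Fˣ) : borelEl s 0 * borelEl t 0 = borelEl (s * t) (0 : F) := by
  apply Cfsg.Agent.Lib.Helper5.sl2_ext <;>
    simp [coe_borelEl, Matrix.mul_apply, Fin.sum_univ_two, mul_comm]

theorem borelEl_one : borelEl (1 : Fˣ) (0 : F) = 1 := by
  apply Cfsg.Agent.Lib.Helper5.sl2_ext <;> simp [coe_borelEl]

/-- the diagonal torus of `SL₂` -/
noncomputable def tSHom : Fˣ →* Matrix.SpecialLinearGroup (Fin 2) F where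
  toFun t := borelEl t 0
  map_one' := borelEl_one
  map_mul' s t := (borelEl_mul_borelEl s t).symm

theorem tSHom_apply (t : Fˣ) : tSHom t = borelEl t (0 : F) := rfl

theorem upperU_mul_borelEl (t : Fˣ) (x : F) :
    upperU x * borelEl t 0 = borelEl t 0 * upperU (((t⁻¹ : Fˣ) : F) ^ 2 * x) := by
  have ht := t.ne_zero
  apply Cfsg.Agent.Lib.Helper5.sl2_ext
  · simp [coe_borelEl, coe_upperU, Matrix.mul_apply, Fin.sum_univ_two]
  · simp [coe_borelEl, coe_upperU, Matrix.mul_apply, Fin.sum_univ_two]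
    field_simp
  · simp [coe_borelEl, coe_upperU, Matrix.mul_apply, Fin.sum_univ_two]
  · simp [coe_borelEl, coe_upperU, Matrix.mul_apply, Fin.sum_univ_two]

theorem upperU_pow (x : F) (k : ℕ) : upperU x ^ k = upperU (k • x) := by
  have := map_pow (uSHom (F := F)) (Multiplicative.ofAdd x) k
  rw [← ofAdd_nsmul] at this
  simpa [uSHom_apply] using this.symm

theorem upperU_eq_one_iff (x : F) : upperU x = 1 ↔ x = 0 := by
  constructor
  · intro h
    have := congrArg (fun g : Matrix.SpecialLinearGroup (Fin 2) F =>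
      (g : Matrix (Fin 2) (Fin 2) F) 0 1) h
    simpa [coe_upperU] using this
  · rintro rfl; exact upperU_zero

theorem orderOf_upperU (p : ℕ) [hp : Fact p.Prime] [CharP F p] (x : F) (hx : x ≠ 0) :
    orderOf (upperU x) = p := by
  apply orderOf_eq_prime
  · rw [upperU_pow]
    have : (p • x : F) = 0 := by
      rw [nsmul_eq_mul, CharP.cast_eq_zero, zero_mul]
    rw [this, upperU_zero]
  · rw [Ne, upperU_eq_one_iff]; exact hx

/-- the space of `U`-fixed vectors -/
noncomputable def fixUSSub (ρ : Representation ℂ (Matrix.SpecialLinearGroup (Fin 2) F) V) :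
    Submodule ℂ V := eigenSub ρ (uSHom (F := F)) 1

theorem mem_fixUSSub (ρ : Representation ℂ (Matrix.SpecialLinearGroup (Fin 2) F) V) (v : V) :
    v ∈ fixUSSub ρ ↔ ∀ x : F, ρ (upperU x) v = v := by
  unfold fixUSSub
  rw [mem_eigenSub]
  constructor
  · intro h x
    simpa [uSHom_apply] using h (Multiplicative.ofAdd x)
  · intro h x
    simpa [uSHom_apply] using h x.toAdd

/-- the dimension of the space of `U`-fixed vectors -/
noncomputable def fixUS (ρ : Representation ℂ (Matrix.SpecialLinearGroup (Fin 2) F) V) : ℕ :=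
  Module.finrank ℂ (fixUSSub ρ)

theorem sum_char_upperU [Fintype F] [FiniteDimensional ℂ V]
    (ρ : Representation ℂ (Matrix.SpecialLinearGroup (Fin 2) F) V) :
    ∑ x : F, ρ.character (upperU x) = (Fintype.card F : ℂ) * (fixUS ρ : ℂ) := by
  have h := sum_twist_character ρ (uSHom (F := F)) 1
  simp only [MonoidHom.one_apply, inv_one, Units.val_one, one_mul, uSHom_apply] at h
  have hc : Fintype.card (Multiplicative F) = Fintype.card F := Fintype.card_multiplicative F
  rw [hc] at h
  rw [fixUS, fixUSSub, ← h]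
  exact Fintype.sum_equiv Multiplicative.ofAdd _ _ (fun x => rfl)

/-- a representation of `SL₂(q)` of dimension `q` has a one-dimensional space of `U`-fixed
vectors (its character has `p`-defect zero) -/
theorem fixUS_eq_one_of_finrank [Fintype F] [DecidableEq F] [FiniteDimensional ℂ V]
    (ρ : Representation ℂ (Matrix.SpecialLinearGroup (Fin 2) F) V) (hρ : ρ.IsIrreducible)
    (hd : Module.finrank ℂ V = Fintype.card F) : fixUS ρ = 1 := by
  classical
  obtain ⟨p, hchar⟩ := CharP.exists F
  haveI := hchar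
  haveI hp : Fact p.Prime := ⟨CharP.char_is_prime F p⟩
  obtain ⟨n, hn⟩ := FiniteField.card F p
  have hq : 2 ≤ Fintype.card F := Fintype.one_lt_card
  have hG : Nat.card (Matrix.SpecialLinearGroup (Fin 2) F)
      = Fintype.card F * (Fintype.card F ^ 2 - 1) := Cfsg.Agent.Lib.Helper5.card_SL2
  have hvan : ∀ x : F, x ≠ 0 → ρ.character (upperU x) = 0 := by
    intro x hx
    haveI := hρ
    apply Cfsg.Agent.S0165.result ρ p n hp.out
    · rw [hG, ← hn.2]; exact dvd_mul_right _ _
    · rw [hG, pow_succ, ← hn.2]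
      intro hdvd
      have h1 : p ∣ Fintype.card F ^ 2 - 1 := by
        have := Nat.dvd_of_mul_dvd_mul_left (by positivity) hdvd
        exact this
      have h2 : p ∣ Fintype.card F ^ 2 := by
        rw [hn.2]
        exact dvd_pow (dvd_pow_self p n.ne_zero) (by norm_num)
      have h3 : 1 ≤ Fintype.card F ^ 2 := Nat.one_le_pow _ _ (by omega)
      have h4 : p ∣ 1 := by
        have := (Nat.dvd_sub h2 h1)
        rwa [Nat.sub_sub_self h3] at this
      exact hp.out.one_lt.ne' (Nat.dvd_one.mp h4)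
    · rw [hd, hn.2]
    · rw [orderOf_upperU p x hx]
  have hsum := sum_char_upperU ρ
  rw [← Finset.add_sum_erase Finset.univ _ (Finset.mem_univ (0 : F)), upperU_zero,
    Representation.char_one, Finset.sum_eq_zero (fun x hx => hvan x (Finset.ne_of_mem_erase hx)),
    add_zero, hd] at hsum
  have hq0 : (Fintype.card F : ℂ) ≠ 0 := by exact_mod_cast (by omega : Fintype.card F ≠ 0)
  have : (fixUS ρ : ℂ) = 1 := by
    apply mul_left_cancel₀ hq0
    rw [← hsum, mul_one]
  exact_mod_cast this

/-- if `V^U ≠ 0` there is a linear character of the Borel subgroup of `SL₂`, trivial on `U`,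
occurring in the restriction of `ρ` -/
theorem exists_borel_character_SL [Finite F] [FiniteDimensional ℂ V]
    (ρ : Representation ℂ (Matrix.SpecialLinearGroup (Fin 2) F) V) (h : fixUS ρ ≠ 0) :
    ∃ lam : (borelSub F) →* ℂˣ,
      (∀ x : F, lam ⟨upperU x, upperU_mem_borelSub x⟩ = 1) ∧
      eigenSub ρ (borelSub F).subtype lam ≠ ⊥ := by
  let σ : Representation ℂ Fˣ V := ρ.comp tSHom
  let S : Subrepresentation σ := ⟨fixUSSub ρ, by
    intro t v hv
    rw [mem_fixUSSub] at hv ⊢
    intro x
    change ρ (upperU x) (ρ (borelEl t 0) v) = ρ (borelEl t 0) v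
    rw [← Module.End.mul_apply, ← map_mul, upperU_mul_borelEl, map_mul, Module.End.mul_apply, hv]⟩
  have hS : S ≠ ⊥ := by
    intro h0
    apply h
    have : fixUSSub ρ = ⊥ := congrArg Subrepresentation.toSubmodule h0
    unfold fixUS
    rw [this]
    simp
  obtain ⟨v, hvS, hv0, hv⟩ := exists_common_eigenvector σ S hS
  have hvU : ∀ x : F, ρ (upperU x) v = v := (mem_fixUSSub ρ v).mp hvS
  have hB : ∀ b : borelSub F, ∃ c : ℂ, ρ ((borelSub F).subtype b) v = c • v := by
    intro b
    obtain ⟨s, x, -, hb⟩ := borelSub_decomp b.1 b.2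
    obtain ⟨c, hc⟩ := hv s
    refine ⟨c, ?_⟩
    change ρ (b : Matrix.SpecialLinearGroup (Fin 2) F) v = c • v
    rw [hb, map_mul, Module.End.mul_apply, hvU]
    exact hc
  obtain ⟨lam, hlam⟩ := exists_hom_of_eigenvector ρ (borelSub F).subtype v hv0 hB
  refine ⟨lam, ?_, ?_⟩
  · intro x
    have h1 := (mem_eigenSub ρ _ lam v).mp hlam ⟨upperU x, upperU_mem_borelSub x⟩
    change ρ (upperU x) v = _ at h1
    rw [hvU] at h1
    have h2 : ((1 : ℂ) - ((lam ⟨upperU x, upperU_mem_borelSub x⟩ : ℂˣ) : ℂ)) • v = 0 := by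
      rw [sub_smul, one_smul, ← h1, sub_self]
    rcases smul_eq_zero.mp h2 with h3 | h3
    · exact Units.ext (sub_eq_zero.mp h3).symm
    · exact absurd h3 hv0
  · intro h0
    rw [h0] at hlam
    exact hv0 ((Submodule.mem_bot ℂ).mp hlam)

theorem index_borelSub [Fintype F] [DecidableEq F] : (borelSub F).index = Fintype.card F + 1 := by
  have hG : Nat.card (Matrix.SpecialLinearGroup (Fin 2) F)
      = Fintype.card F * (Fintype.card F ^ 2 - 1) := Cfsg.Agent.Lib.Helper5.card_SL2
  have hB : Nat.card (borelSub F) = (Fintype.card F - 1) * Fintype.card F := card_borelSub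
  have hq : 2 ≤ Fintype.card F := Fintype.one_lt_card
  have hfac : Fintype.card F ^ 2 - 1 = (Fintype.card F + 1) * (Fintype.card F - 1) := by
    zify [show 1 ≤ Fintype.card F by omega,
      show 1 ≤ Fintype.card F ^ 2 from Nat.one_le_pow _ _ (by omega)]
    ring
  have h := (borelSub F).card_mul_index
  rw [hG, hB, hfac] at h
  have hpos : 0 < (Fintype.card F - 1) * Fintype.card F := by
    apply Nat.mul_pos <;> omega
  apply Nat.eq_of_mul_eq_mul_left hpos
  rw [h]; ring

/-- the Steinberg character of `SL₂(q)`: an irreducible character of degree `q` is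
`Ind_B^G 1 - 1` -/
theorem steinberg_SL [Fintype F] [DecidableEq F] [FiniteDimensional ℂ V]
    (ρ : Representation ℂ (Matrix.SpecialLinearGroup (Fin 2) F) V) (hρ : ρ.IsIrreducible)
    (hd : Module.finrank ℂ V = Fintype.card F) (g : Matrix.SpecialLinearGroup (Fin 2) F) :
    ρ.character g = Cfsg.indFun (borelSub F) (fun _ => (1 : ℂ)) g - 1 := by
  have hq : 2 ≤ Fintype.card F := Fintype.one_lt_card
  have hfix : fixUS ρ ≠ 0 := by rw [fixUS_eq_one_of_finrank ρ hρ hd]; norm_num
  obtain ⟨lam, hU, hne⟩ := exists_borel_character_SL ρ hfix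
  obtain ⟨m, R, hm, hR, hdec, hRχ⟩ := exists_decomp_of_eigenSub ρ hρ (borelSub F) lam hne
  have hone := congrFun hdec 1
  rw [Cfsg.Agent.Lib.Helper75.indFun_one, index_borelSub] at hone
  simp only [map_one, Units.val_one, mul_one, Pi.add_apply, Pi.smul_apply, smul_eq_mul,
    Representation.char_one] at hone
  obtain ⟨r, hr⟩ : ∃ r : ℕ, R 1 = (r : ℂ) := by
    obtain ⟨r, ρR, rfl⟩ := hR
    exact ⟨_, Representation.char_one ρR⟩
  rw [hr, hd] at hone
  have hone' : Fintype.card F + 1 = m * Fintype.card F + r := by exact_mod_cast hone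
  have hm1 : m = 1 := by
    rcases Nat.lt_or_ge m 2 with h | h
    · omega
    · exfalso
      have : 2 * Fintype.card F ≤ m * Fintype.card F := Nat.mul_le_mul_right _ h
      omega
  subst hm1
  have hr1 : r = 1 := by omega
  subst hr1
  obtain ⟨μ, hμ⟩ := exists_hom_of_degree_one hR (by rw [hr]; norm_num)
  haveI : Fintype (borelSub F) := Fintype.ofFinite _
  have hχ := Cfsg.Agent.Lib.Helper78.isIrrCharacter_of_isIrreducible ρ hρ
  have hμirr : Cfsg.IsIrrCharacter (Matrix.SpecialLinearGroup (Fin 2) F)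
      (fun g => ((μ g : ℂˣ) : ℂ)) := Cfsg.Agent.Lib.Helper80.isIrrCharacter_of_hom μ
  have hinner : Cfsg.classInner (Cfsg.indFun (borelSub F) (fun b => ((lam b : ℂˣ) : ℂ)))
      (fun g => ((μ g : ℂˣ) : ℂ)) ≠ 0 := by
    rw [hdec, Cfsg.Agent.Lib.Helper78.classInner_add_left,
      Cfsg.Agent.Lib.Helper78.classInner_smul_left, hμ,
      Cfsg.Agent.Lib.Helper78.classInner_irr_self hμirr]
    have h0 : Cfsg.classInner ρ.character (fun g => ((μ g : ℂˣ) : ℂ)) = 0 := by
      rw [← Cfsg.Agent.Lib.Helper78.classInner_conj_symm, ← hμ, hRχ, map_zero]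
    rw [h0]; norm_num
  have hres := hom_res_eq_of_classInner_ne_zero (borelSub F) lam μ hinner
  have hμ1 : μ = 1 := by
    apply hom_eq_one_of_upperU
    intro x
    rw [← hU x, hres]
  have hlam1 : ∀ b : borelSub F, ((lam b : ℂˣ) : ℂ) = 1 := by
    intro b
    rw [hres b, hμ1]; simp
  have hg := congrFun hdec g
  simp only [hlam1] at hg
  rw [hg, hμ, hμ1]
  simp

end Cfsg.Agent.Lib.Helper39
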