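import Mathlib
import Cfsg.Prelude.Def_Solvable
import Cfsg.Agent.Lib.Helper1.Fitting
import Cfsg.Agent.Lib.Helper1.HallConj
import Cfsg.Agent.Lib.Helper1.HallDom
import Cfsg.Agent.S0044

/-!
# S1936, module LOC (section A of `notes/helper22_S1936_sheet.md`)

`H` a finite solvable group in which every subgroup of order prime to `p` is commutative.
`R = O_p(H)`, `K` a Hall `p'`-subgroup (order prime to `p`, index a power of `p`).

* `A1`: `R ⊔ K` is normal in `H`;
* `A2`: the image of `K` in `H ⧸ R` is self-centralising;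
* `A3`: `H = R * N_H(K)`;
* `A4`: a `p`-subgroup normalised by `K` lies in `R`;
* `A5`: a Sylow `q`-subgroup `S ≤ K` of `H` is normalised by `N_H(K)`.
-/

set_option autoImplicit false
open Cfsg

namespace Cfsg.Agent.Lib.Helper39.S1936Loc

open Cfsg.Agent.Lib.Helper1
open Pointwise

variable {H : Type*} [Group H]

/-- Hall `p'`-subgroup: order prime to `p`, index a power of `p`. -/
def IsHallCompl (p : ℕ) (K : Subgroup H) : Prop :=
  (Nat.card K).Coprime p ∧ ∃ n : ℕ, K.index = p ^ n

/-- `O_p(H / O_p(H)) = 1`. -/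
theorem pCore_quotient_pCore (p : ℕ) [Fact p.Prime] :
    pCore p (H ⧸ pCore p H) = ⊥ := by
  have hNn : (pCore p (H ⧸ pCore p H)).Normal := pCore_normal p
  have hNp : IsPGroup p (pCore p (H ⧸ pCore p H)) := pCore_isPGroup p
  have hcn : ((pCore p (H ⧸ pCore p H)).comap (QuotientGroup.mk' (pCore p H))).Normal :=
    hNn.comap _
  have hcp : IsPGroup p ((pCore p (H ⧸ pCore p H)).comap (QuotientGroup.mk' (pCore p H))) := by
    apply hNp.comap_of_ker_isPGroup
    rw [QuotientGroup.ker_mk']; exact pCore_isPGroup p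
  have hle := le_pCore hcn hcp
  rw [eq_bot_iff]
  intro x hx
  obtain ⟨g, rfl⟩ := QuotientGroup.mk_surjective x
  rw [Subgroup.mem_bot]
  exact (QuotientGroup.eq_one_iff g).mpr (hle hx)

/-- If `O_p(Q) = 1` then `F(Q)` has order prime to `p`. -/
theorem card_fitting_coprime_of_pCore_eq_bot {Q : Type*} [Group Q] [Finite Q] (p : ℕ)
    [hp : Fact p.Prime] (hO : pCore p Q = ⊥) :
    (Nat.card (fittingSubgroup Q)).Coprime p := by
  rw [Nat.coprime_comm, Nat.Prime.coprime_iff_not_dvd hp.out]
  intro hdvd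
  have hnil : Group.IsNilpotent (fittingSubgroup Q) := fittingSubgroup_isNilpotent
  have hFn : (fittingSubgroup Q).Normal := fittingSubgroup_normal
  -- the Sylow `p`-subgroup of `F(Q)` is normal in `F(Q)`, hence characteristic
  have q := (Group.isNilpotent_of_finite_tfae (G := fittingSubgroup Q)).out 0 3
  have hall := q.mp hnil
  let P : Sylow p (fittingSubgroup Q) := default
  have hPn : (P : Subgroup (fittingSubgroup Q)).Normal := hall p hp P
  have hPc : (P : Subgroup (fittingSubgroup Q)).Characteristic :=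
    Sylow.characteristic_of_normal P hPn
  have hmapn : ((P : Subgroup (fittingSubgroup Q)).map (fittingSubgroup Q).subtype).Normal :=
    ConjAct.normal_of_characteristic_of_normal
  have hmapp : IsPGroup p ((P : Subgroup (fittingSubgroup Q)).map (fittingSubgroup Q).subtype) :=
    P.isPGroup'.map _
  have hle := le_pCore hmapn hmapp
  rw [hO, le_bot_iff, Subgroup.map_eq_bot_iff_of_injective _ (Subgroup.subtype_injective _)] at hle
  have hcard := P.card_eq_multiplicity
  rw [hle, Subgroup.card_bot] at hcard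
  have : (Nat.card (fittingSubgroup Q)).factorization p = 0 := by
    by_contra h0
    have : 1 < p ^ (Nat.card (fittingSubgroup Q)).factorization p :=
      Nat.one_lt_pow h0 hp.out.one_lt
    omega
  have h1 := (Nat.factorization_eq_zero_iff _ _).mp this
  rcases h1 with h1 | h1 | h1
  · exact h1 hp.out
  · exact h1 hdvd
  · exact Nat.card_pos.ne' h1

/-- `conj n • K = K` puts `n` in the normaliser. -/
theorem mem_normalizer_of_conj_smul_eq {G : Type*} [Group G] {K : Subgroup G} {n : G}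
    (h : MulAut.conj n • K = K) : n ∈ Subgroup.normalizer (K : Set G) := by
  rw [Subgroup.mem_normalizer_iff]
  intro x
  constructor
  · intro hx
    have := Subgroup.smul_mem_pointwise_smul x (MulAut.conj n) K hx
    rwa [h, MulAut.smul_def, MulAut.conj_apply] at this
  · intro hx
    have h2 : MulAut.conj n • x ∈ MulAut.conj n • K := by
      rw [h, MulAut.smul_def, MulAut.conj_apply]; exact hx
    exact Subgroup.smul_mem_pointwise_smul_iff.mp h2

/-- `n` in the normaliser gives `conj n • K = K`. -/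
theorem conj_smul_eq_of_mem_normalizer {G : Type*} [Group G] {K : Subgroup G} {n : G}
    (h : n ∈ Subgroup.normalizer (K : Set G)) : MulAut.conj n • K = K := by
  rw [Subgroup.mem_normalizer_iff] at h
  ext x
  rw [Subgroup.mem_pointwise_smul_iff_inv_smul_mem, MulAut.smul_def, ← map_inv,
    MulAut.conj_apply, inv_inv]
  have := h (n⁻¹ * x * n)
  rw [this]
  simp [mul_assoc]

/-- A `p`-subgroup meets a subgroup of order prime to `p` trivially (elementwise). -/
theorem eq_one_of_mem_pGroup_of_mem_coprime {Q : Type*} [Group Q] [Finite Q] {p : ℕ}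
    [hp : Fact p.Prime] {X K : Subgroup Q} (hX : IsPGroup p X) (hK : (Nat.card K).Coprime p)
    {x : Q} (hxX : x ∈ X) (hxK : x ∈ K) : x = 1 := by
  obtain ⟨j, hj⟩ := (IsPGroup.iff_orderOf.mp hX) ⟨x, hxX⟩
  rw [Subgroup.orderOf_mk] at hj
  have h1 : orderOf x ∣ Nat.card K := by
    have := orderOf_dvd_natCard (⟨x, hxK⟩ : K)
    rwa [Subgroup.orderOf_mk] at this
  have h2 : (orderOf x).Coprime (orderOf x) := by
    apply Nat.Coprime.coprime_dvd_left h1
    rw [hj]
    exact Nat.Coprime.pow_right j hK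
  exact orderOf_eq_one_iff.mp ((Nat.coprime_self _).mp h2)

/-- Hall-ness is preserved by surjections. -/
theorem IsHallCompl.map {p : ℕ} [hp : Fact p.Prime] {K : Subgroup H} (hK : IsHallCompl p K)
    {Q : Type*} [Group Q] (f : H →* Q) (hf : Function.Surjective f) :
    IsHallCompl p (K.map f) := by
  obtain ⟨hKc, n, hn⟩ := hK
  refine ⟨Nat.Coprime.coprime_dvd_left (Subgroup.card_map_dvd K f) hKc, ?_⟩
  have h := Subgroup.index_map_dvd K hf
  rw [hn] at h
  obtain ⟨m, -, hm⟩ := (Nat.dvd_prime_pow hp.out).mp h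
  exact ⟨m, hm⟩

/-- A conjugate of a Hall `p'`-subgroup is a Hall `p'`-subgroup. -/
theorem IsHallCompl.conj {p : ℕ} {K : Subgroup H} (hK : IsHallCompl p K) (g : H) :
    IsHallCompl p (MulAut.conj g • K) := by
  obtain ⟨hKc, n, hn⟩ := hK
  refine ⟨?_, n, ?_⟩
  · rwa [show Nat.card (MulAut.conj g • K : Subgroup H) = Nat.card K from
      Nat.card_congr (Subgroup.equivSMul (MulAut.conj g) K).toEquiv.symm]
  · rwa [show (MulAut.conj g • K).index = K.index from Subgroup.index_map_equiv K (MulAut.conj g)]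

variable [Finite H]

/-- A normal subgroup of order prime to `p` lies in every Hall `p'`-subgroup. -/
theorem le_of_normal_of_coprime {p : ℕ} {N K : Subgroup H} (hN : N.Normal)
    (hNc : (Nat.card N).Coprime p) (hK : IsHallCompl p K) : N ≤ K := by
  obtain ⟨hKc, n, hn⟩ := hK
  have h1 : Nat.card (N ⊔ K : Subgroup H) ∣ Nat.card N * Nat.card K :=
    card_sup_dvd_mul_of_normal_left N K
  have h2 : (Nat.card (N ⊔ K : Subgroup H)).Coprime p :=
    Nat.Coprime.coprime_dvd_left h1 (Nat.Coprime.mul_left hNc hKc)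
  have h3 : K.relIndex (N ⊔ K) ∣ p ^ n := by
    rw [← hn]; exact Subgroup.relIndex_dvd_index_of_le le_sup_right
  have h4 : K.relIndex (N ⊔ K) ∣ Nat.card (N ⊔ K : Subgroup H) := by
    have := Subgroup.relIndex_mul_relIndex (H := ⊥) (K := K) (L := N ⊔ K) bot_le le_sup_right
    rw [Subgroup.relIndex_bot_left, Subgroup.relIndex_bot_left] at this
    exact Dvd.intro_left _ this
  have h5 : K.relIndex (N ⊔ K) = 1 := by
    have hc : (K.relIndex (N ⊔ K)).Coprime (K.relIndex (N ⊔ K)) :=
      Nat.Coprime.coprime_dvd_left h4 (Nat.Coprime.coprime_dvd_right h3 (Nat.Coprime.pow_right n h2))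
    exact (Nat.coprime_self _).mp hc
  have h6 : N ⊔ K ≤ K := Subgroup.relIndex_eq_one.mp h5
  exact le_trans le_sup_left h6

section Main

variable [Group.IsSolvable H] (p : ℕ) [hp : Fact p.Prime]
  (hab : ∀ L : Subgroup H, (Nat.card L).Coprime p → IsMulCommutative L)

include hab

/-- Core of A1/A2: the image of a Hall `p'`-subgroup in `H ⧸ O_p(H)` is the Fitting subgroup. -/
theorem map_mk_eq_fitting {K : Subgroup H} (hK : IsHallCompl p K) :
    K.map (QuotientGroup.mk' (pCore p H)) = fittingSubgroup (H ⧸ pCore p H) := by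
  set f := QuotientGroup.mk' (pCore p H) with hf
  have hfs : Function.Surjective f := QuotientGroup.mk'_surjective _
  have hKbar : IsHallCompl p (K.map f) := hK.map f hfs
  have hFn : (fittingSubgroup (H ⧸ pCore p H)).Normal := fittingSubgroup_normal
  have hFc : (Nat.card (fittingSubgroup (H ⧸ pCore p H))).Coprime p :=
    card_fitting_coprime_of_pCore_eq_bot p (pCore_quotient_pCore p)
  have hFK : fittingSubgroup (H ⧸ pCore p H) ≤ K.map f := le_of_normal_of_coprime hFn hFc hKbar
  have hKab : IsMulCommutative K := hab K hK.1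
  have hcomm : ∀ x ∈ K.map f, ∀ y ∈ K.map f, x * y = y * x := by
    rintro _ ⟨a, ha, rfl⟩ _ ⟨b, hb, rfl⟩
    have : (⟨a, ha⟩ : K) * ⟨b, hb⟩ = ⟨b, hb⟩ * ⟨a, ha⟩ := mul_comm' _ _
    have h2 : a * b = b * a := congrArg Subtype.val this
    rw [← map_mul, ← map_mul, h2]
  have hKC : K.map f ≤ Subgroup.centralizer (fittingSubgroup (H ⧸ pCore p H) : Set (H ⧸ pCore p H)) := by
    intro x hx y hy
    exact hcomm y (hFK hy) x hx
  exact le_antisymm (le_trans hKC Cfsg.Agent.S0044.result) hFK

/-- **A1**: `O_p(H) ⊔ K` is normal in `H`. -/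
theorem A1 {K : Subgroup H} (hK : IsHallCompl p K) : (pCore p H ⊔ K).Normal := by
  have hFn : (fittingSubgroup (H ⧸ pCore p H)).Normal := fittingSubgroup_normal
  have h1 : (K.map (QuotientGroup.mk' (pCore p H))).Normal := by
    rw [map_mk_eq_fitting p hab hK]; exact hFn
  have h2 := h1.comap (QuotientGroup.mk' (pCore p H))
  rwa [Subgroup.comap_map_eq, QuotientGroup.ker_mk', sup_comm] at h2

/-- **A2**: the image of `K` in `H ⧸ O_p(H)` contains its centraliser. -/
theorem A2 {K : Subgroup H} (hK : IsHallCompl p K) :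
    Subgroup.centralizer (K.map (QuotientGroup.mk' (pCore p H)) : Set (H ⧸ pCore p H)) ≤
      K.map (QuotientGroup.mk' (pCore p H)) := by
  rw [map_mk_eq_fitting p hab hK]
  exact Cfsg.Agent.S0044.result

/-- **A3**: `H = O_p(H) * N_H(K)`. -/
theorem A3 {K : Subgroup H} (hK : IsHallCompl p K) (h : H) :
    ∃ r ∈ pCore p H, ∃ n ∈ Subgroup.normalizer (K : Set H), h = r * n := by
  set M : Subgroup H := pCore p H ⊔ K with hM
  have hMn : M.Normal := A1 p hab hK
  have hRn : (pCore p H).Normal := pCore_normal p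
  have hKM : K ≤ M := le_sup_right
  have hK'M : MulAut.conj h • K ≤ M := by
    have h1 : MulAut.conj h • K ≤ MulAut.conj h • M :=
      Subgroup.pointwise_smul_le_pointwise_smul_iff.mpr hKM
    rwa [Subgroup.Normal.conj_smul_eq_self h M] at h1
  obtain ⟨hKc, k, hk⟩ := hK
  -- Hall conjugacy inside `M`
  have hcardM : Nat.card M = Nat.card K * K.relIndex M := by
    have := Subgroup.relIndex_mul_relIndex (H := ⊥) (K := K) (L := M) bot_le hKM
    rw [Subgroup.relIndex_bot_left, Subgroup.relIndex_bot_left] at this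
    exact this.symm
  have hcop : (Nat.card K).Coprime (K.relIndex M) := by
    have h3 : K.relIndex M ∣ p ^ k := by
      rw [← hk]; exact Subgroup.relIndex_dvd_index_of_le hKM
    exact Nat.Coprime.coprime_dvd_right h3 (Nat.Coprime.pow_right k hKc)
  have hc1 : Nat.card (K.subgroupOf M) = Nat.card K :=
    Nat.card_congr (Subgroup.subgroupOfEquivOfLe hKM).toEquiv
  have hc2 : Nat.card ((MulAut.conj h • K).subgroupOf M) = Nat.card K := by
    rw [Nat.card_congr (Subgroup.subgroupOfEquivOfLe hK'M).toEquiv]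
    exact Nat.card_congr (Subgroup.equivSMul (MulAut.conj h) K).toEquiv.symm
  obtain ⟨g, hg⟩ := hall_conj (G := M) (Nat.card K) (K.relIndex M) hcardM hcop
    (K.subgroupOf M) ((MulAut.conj h • K).subgroupOf M) hc1 hc2
  -- transport to `H`
  have hg' : MulAut.conj (g : H) • K = MulAut.conj h • K := by
    ext x
    constructor
    · intro hx
      rw [Subgroup.mem_pointwise_smul_iff_inv_smul_mem, MulAut.smul_def, ← map_inv,
        MulAut.conj_apply, inv_inv] at hx
      have hxM : x ∈ M := by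
        have : x = (g : H) * ((g : H)⁻¹ * x * g) * (g : H)⁻¹ := by group
        rw [this]
        exact M.mul_mem (M.mul_mem g.2 (hKM hx)) (M.inv_mem g.2)
      have h1 : (⟨x, hxM⟩ : M) ∈ MulAut.conj g • K.subgroupOf M := by
        rw [Subgroup.mem_pointwise_smul_iff_inv_smul_mem, MulAut.smul_def, ← map_inv,
          MulAut.conj_apply, inv_inv, Subgroup.mem_subgroupOf]
        simpa using hx
      rw [hg, Subgroup.mem_subgroupOf] at h1
      exact h1
    · intro hx
      have hxM : x ∈ M := hK'M hx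
      have h1 : (⟨x, hxM⟩ : M) ∈ (MulAut.conj h • K).subgroupOf M := by
        rw [Subgroup.mem_subgroupOf]; exact hx
      rw [← hg, Subgroup.mem_pointwise_smul_iff_inv_smul_mem, MulAut.smul_def, ← map_inv,
          MulAut.conj_apply, inv_inv, Subgroup.mem_subgroupOf] at h1
      rw [Subgroup.mem_pointwise_smul_iff_inv_smul_mem, MulAut.smul_def, ← map_inv,
        MulAut.conj_apply, inv_inv]
      simpa using h1
  have hnorm : (g : H)⁻¹ * h ∈ Subgroup.normalizer (K : Set H) := by
    apply mem_normalizer_of_conj_smul_eq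
    rw [map_mul, mul_smul, ← hg', ← mul_smul, ← map_mul, inv_mul_cancel, map_one, one_smul]
  -- decompose `g`
  have hgM : (g : H) ∈ pCore p H ⊔ K := g.2
  rw [← SetLike.mem_coe, Subgroup.normal_mul (pCore p H) K] at hgM
  obtain ⟨r, hr, k', hk', hrk⟩ := Set.mem_mul.mp hgM
  refine ⟨r, hr, k' * ((g : H)⁻¹ * h), ?_, ?_⟩
  · exact (Subgroup.normalizer (K : Set H)).mul_mem (Subgroup.le_normalizer hk') hnorm
  · rw [← mul_assoc, hrk]; group

/-- **A4**: a `p`-subgroup normalised by `K` lies in `O_p(H)`. -/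
theorem A4 {K : Subgroup H} (hK : IsHallCompl p K) {X : Subgroup H} (hX : IsPGroup p X)
    (hKX : K ≤ Subgroup.normalizer (X : Set H)) : X ≤ pCore p H := by
  set f := QuotientGroup.mk' (pCore p H) with hf
  have hfs : Function.Surjective f := QuotientGroup.mk'_surjective _
  have hKbar : IsHallCompl p (K.map f) := hK.map f hfs
  have hXbar : IsPGroup p (X.map f) := hX.map f
  have hKn : (K.map f).Normal := by
    rw [map_mk_eq_fitting p hab hK]; exact fittingSubgroup_normal
  intro x hx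
  have hxbar : f x ∈ X.map f := Subgroup.mem_map_of_mem f hx
  -- `f x` centralises `K.map f`
  have hcent : f x ∈ Subgroup.centralizer (K.map f : Set (H ⧸ pCore p H)) := by
    rintro _ ⟨k, hk, rfl⟩
    -- the commutator `k x k⁻¹ x⁻¹` is in both
    have h1 : f k * f x * (f k)⁻¹ * (f x)⁻¹ ∈ K.map f := by
      have : f x * (f k)⁻¹ * (f x)⁻¹ ∈ K.map f :=
        hKn.conj_mem _ ((K.map f).inv_mem (Subgroup.mem_map_of_mem f hk)) _
      have h2 := (K.map f).mul_mem (Subgroup.mem_map_of_mem f hk) this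
      simpa [mul_assoc] using h2
    have h3 : f k * f x * (f k)⁻¹ * (f x)⁻¹ ∈ X.map f := by
      have hkx : k * x * k⁻¹ ∈ X := ((Subgroup.mem_normalizer_iff.mp (hKX hk)) x).mp hx
      have := X.mul_mem hkx (X.inv_mem hx)
      have h4 := Subgroup.mem_map_of_mem f this
      simpa using h4
    have h5 := eq_one_of_mem_pGroup_of_mem_coprime hXbar hKbar.1 h3 h1
    -- so `k x = x k`
    have h6 : f k * f x = f x * f k := by
      have : f k * f x * (f k)⁻¹ * (f x)⁻¹ * (f x * f k) = f x * f k := by rw [h5, one_mul]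
      rw [← this]; group
    exact h6
  have hxK : f x ∈ K.map f := A2 p hab hK hcent
  have hx1 : f x = 1 := eq_one_of_mem_pGroup_of_mem_coprime hXbar hKbar.1 hxbar hxK
  exact (QuotientGroup.eq_one_iff x).mp hx1

omit [Group.IsSolvable H] hp in
/-- **A5**: if a Sylow `q`-subgroup `S` of `H` lies in the `p'`-subgroup `K`, then `N_H(K)`
normalises `S`. -/
theorem A5 {K : Subgroup H} (hKc : (Nat.card K).Coprime p) (q : ℕ) [Fact q.Prime] (S : Sylow q H)
    (hSK : (S : Subgroup H) ≤ K) :
    Subgroup.normalizer (K : Set H) ≤ Subgroup.normalizer ((S : Subgroup H) : Set H) := by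
  intro n hn
  have hKab : IsMulCommutative K := hab K hKc
  have hnK : MulAut.conj n • K = K := conj_smul_eq_of_mem_normalizer hn
  have hS'K : MulAut.conj n • (S : Subgroup H) ≤ K := by
    have h1 : MulAut.conj n • (S : Subgroup H) ≤ MulAut.conj n • K :=
      Subgroup.pointwise_smul_le_pointwise_smul_iff.mpr hSK
    rwa [hnK] at h1
  -- the Sylow `q`-subgroup of the abelian group `K`
  let P : Sylow q K := default
  have hPn : (P : Subgroup K).Normal := by
    constructor
    intro a ha b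
    have : b * a * b⁻¹ = a := by rw [mul_comm' b a, mul_assoc, mul_inv_cancel, mul_one]
    rwa [this]
  have huniq : ∀ Y : Subgroup H, IsPGroup q Y → Y ≤ K → Y ≤ (P : Subgroup K).map K.subtype := by
    intro Y hY hYK
    have hY' : IsPGroup q (Y.subgroupOf K) := hY.comap_subtype
    obtain ⟨P', hP'⟩ := hY'.exists_le_sylow
    have hPP' : (P' : Subgroup K) = (P : Subgroup K) := by
      have hle : (P : Subgroup K) ≤ (P' : Subgroup K) := by
        have := hPn
        exact P.isPGroup'.le_sylow_of_normal P'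
      exact P.is_maximal' P'.isPGroup' hle
    intro y hy
    have : (⟨y, hYK hy⟩ : K) ∈ (P' : Subgroup K) := hP' (by rw [Subgroup.mem_subgroupOf]; exact hy)
    rw [hPP'] at this
    exact ⟨⟨y, hYK hy⟩, this, rfl⟩
  have hPq : IsPGroup q ((P : Subgroup K).map K.subtype) := P.isPGroup'.map _
  have h1 : (S : Subgroup H) = (P : Subgroup K).map K.subtype :=
    (S.is_maximal' hPq (huniq _ S.isPGroup' hSK)).symm
  have hS'q : IsPGroup q (MulAut.conj n • (S : Subgroup H) : Subgroup H) :=
    S.isPGroup'.map (MulAut.conj n).toMonoidHom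
  have h2 : MulAut.conj n • (S : Subgroup H) ≤ (S : Subgroup H) := by
    rw [h1]
    have := huniq _ hS'q hS'K
    rwa [h1] at this
  have h3 : MulAut.conj n • (S : Subgroup H) = (S : Subgroup H) := by
    apply Subgroup.eq_of_le_of_card_ge h2
    rw [show Nat.card (MulAut.conj n • (S : Subgroup H) : Subgroup H) = Nat.card (S : Subgroup H) from
      Nat.card_congr (Subgroup.equivSMul (MulAut.conj n) (S : Subgroup H)).toEquiv.symm]
  exact mem_normalizer_of_conj_smul_eq h3

omit [Group.IsSolvable H] hp in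
/-- **A5, order 2**: if a Sylow `q`-subgroup `S ≤ K` of `H` has order `2`, then `N_H(K)`
centralises `S`. -/
theorem A5_card_two {K : Subgroup H} (hKc : (Nat.card K).Coprime p) (q : ℕ) [Fact q.Prime]
    (S : Sylow q H) (hSK : (S : Subgroup H) ≤ K) (hS2 : Nat.card (S : Subgroup H) = 2) {a : H}
    (ha : a ∈ (S : Subgroup H)) :
    Subgroup.normalizer (K : Set H) ≤ Subgroup.centralizer {a} := by
  intro n hn
  have hnS := A5 p hab hKc q S hSK hn
  rw [Subgroup.mem_centralizer_singleton_iff]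
  by_cases ha1 : a = 1
  · subst ha1; simp
  have hna : n * a * n⁻¹ ∈ (S : Subgroup H) := ((Subgroup.mem_normalizer_iff.mp hnS) a).mp ha
  obtain ⟨y, -, hy⟩ := (Nat.card_eq_two_iff' (1 : (S : Subgroup H))).mp hS2
  have e1 : (⟨a, ha⟩ : (S : Subgroup H)) = y := hy _ (by
    intro h; exact ha1 (congrArg Subtype.val h))
  have e2 : (⟨n * a * n⁻¹, hna⟩ : (S : Subgroup H)) = y := hy _ (by
    intro h
    have h' : n * a * n⁻¹ = 1 := congrArg Subtype.val h
    apply ha1
    have : a = n⁻¹ * (n * a * n⁻¹) * n := by group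
    rw [this, h']; group)
  have e3 : n * a * n⁻¹ = a := congrArg Subtype.val (e2.trans e1.symm)
  have : n * a = (n * a * n⁻¹) * n := by group
  rw [this, e3]

/-- **A5, consequence**: if a Sylow `q`-subgroup `S = {1, a} ≤ K` of `H` has order `2`, then
`H = O_p(H) * C_H(a)`. -/
theorem A5_factor {K : Subgroup H} (hK : IsHallCompl p K) (q : ℕ) [Fact q.Prime]
    (S : Sylow q H) (hSK : (S : Subgroup H) ≤ K) (hS2 : Nat.card (S : Subgroup H) = 2) {a : H}
    (ha : a ∈ (S : Subgroup H)) (h : H) :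
    ∃ r ∈ pCore p H, ∃ c ∈ Subgroup.centralizer ({a} : Set H), h = r * c := by
  obtain ⟨r, hr, n, hn, hrn⟩ := A3 p hab hK h
  exact ⟨r, hr, n, A5_card_two p hab hK.1 q S hSK hS2 ha hn, hrn⟩

end Main

/-! ## Existence of Hall `p'`-subgroups containing a given `p'`-subgroup -/

/-- In a finite solvable group every subgroup of order prime to `p` lies in a Hall
`p'`-subgroup. -/
theorem exists_isHallCompl_ge [Group.IsSolvable H] (p : ℕ) [hp : Fact p.Prime] (V : Subgroup H)
    (hV : (Nat.card V).Coprime p) : ∃ K : Subgroup H, IsHallCompl p K ∧ V ≤ K := by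
  have hne : Nat.card H ≠ 0 := Nat.card_pos.ne'
  have hG : Nat.card H = (Nat.card H / p ^ (Nat.card H).factorization p) *
      p ^ (Nat.card H).factorization p := by
    rw [mul_comm]; exact (Nat.ordProj_mul_ordCompl_eq_self (Nat.card H) p).symm
  have hmn : (Nat.card H / p ^ (Nat.card H).factorization p).Coprime
      (p ^ (Nat.card H).factorization p) :=
    (Nat.Coprime.pow_left _ (Nat.coprime_ordCompl hp.out hne)).symm
  obtain ⟨K, hKc, hVK⟩ := hall_dom _ _ hG hmn V (Nat.Coprime.pow_right _ hV)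
  refine ⟨K, ⟨?_, _, index_eq_of_card_mul hG hKc⟩, hVK⟩
  rw [hKc]
  exact (Nat.coprime_ordCompl hp.out hne).symm

/-! ## Relative versions: `Hs` a solvable subgroup of a finite group `G` -/

section Rel

variable {G : Type*} [Group G]

/-- `K` is a Hall `p'`-subgroup of the subgroup `Hs`. -/
def IsHallComplIn (p : ℕ) (K Hs : Subgroup G) : Prop :=
  K ≤ Hs ∧ (Nat.card K).Coprime p ∧ ∃ n : ℕ, K.relIndex Hs = p ^ n

theorem IsHallComplIn.subgroupOf {p : ℕ} {K Hs : Subgroup G} (h : IsHallComplIn p K Hs) :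
    IsHallCompl p (K.subgroupOf Hs) := by
  obtain ⟨hKH, hKc, n, hn⟩ := h
  refine ⟨?_, n, hn⟩
  rwa [Nat.card_congr (Subgroup.subgroupOfEquivOfLe hKH).toEquiv]

theorem isHallComplIn_map_subtype {p : ℕ} {Hs : Subgroup G} {K : Subgroup Hs}
    (h : IsHallCompl p K) : IsHallComplIn p (K.map Hs.subtype) Hs := by
  obtain ⟨hKc, n, hn⟩ := h
  refine ⟨Subgroup.map_subtype_le K, ?_, n, ?_⟩
  · rwa [Subgroup.card_map_of_injective Hs.subtype_injective]
  · rw [Subgroup.relIndex, Subgroup.subgroupOf, Subgroup.comap_map_eq_self_of_injective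
      Hs.subtype_injective]
    exact hn

/-- A commutative-`p'`-subgroups hypothesis on `G` restricts to any subgroup. -/
theorem hab_subgroup {p : ℕ}
    (hab : ∀ L : Subgroup G, (Nat.card L).Coprime p → IsMulCommutative L) (Hs : Subgroup G) :
    ∀ L : Subgroup Hs, (Nat.card L).Coprime p → IsMulCommutative L := by
  intro L hL
  have h1 : IsMulCommutative (L.map Hs.subtype) :=
    hab _ (by rwa [Subgroup.card_map_of_injective Hs.subtype_injective])
  refine ⟨⟨fun a b => ?_⟩⟩
  have ha : (a : Hs).1 ∈ L.map Hs.subtype := ⟨a, a.2, rfl⟩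
  have hb : (b : Hs).1 ∈ L.map Hs.subtype := ⟨b, b.2, rfl⟩
  have h2 : (⟨_, ha⟩ : L.map Hs.subtype) * ⟨_, hb⟩ = ⟨_, hb⟩ * ⟨_, ha⟩ := mul_comm' _ _
  have h3 : (a : Hs).1 * (b : Hs).1 = (b : Hs).1 * (a : Hs).1 := congrArg Subtype.val h2
  apply Subtype.ext
  apply Subtype.ext
  exact h3

variable [Finite G]

/-- Existence (S0005): a `p'`-subgroup of a solvable subgroup `Hs` lies in a Hall `p'`-subgroup
of `Hs`. -/
theorem exists_isHallComplIn_ge (p : ℕ) [hp : Fact p.Prime] (Hs : Subgroup G)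
    [Group.IsSolvable Hs] (V : Subgroup G) (hVH : V ≤ Hs) (hV : (Nat.card V).Coprime p) :
    ∃ K : Subgroup G, IsHallComplIn p K Hs ∧ V ≤ K := by
  obtain ⟨K, hK, hVK⟩ := exists_isHallCompl_ge p (V.subgroupOf Hs)
    (by rwa [Nat.card_congr (Subgroup.subgroupOfEquivOfLe hVH).toEquiv])
  refine ⟨K.map Hs.subtype, isHallComplIn_map_subtype hK, ?_⟩
  intro x hx
  exact ⟨⟨x, hVH hx⟩, hVK (by rw [Subgroup.mem_subgroupOf]; exact hx), rfl⟩

variable (p : ℕ) [hp : Fact p.Prime]
  (hab : ∀ L : Subgroup G, (Nat.card L).Coprime p → IsMulCommutative L)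
  (Hs : Subgroup G) [Group.IsSolvable Hs]

include hab

/-- **A1 (relative)**: `Hs` normalises `O_p(Hs) ⊔ K`. -/
theorem A1_rel {K : Subgroup G} (hK : IsHallComplIn p K Hs) :
    Hs ≤ Subgroup.normalizer (((pCore p Hs).map Hs.subtype ⊔ K : Subgroup G) : Set G) := by
  have hn : (pCore p Hs ⊔ K.subgroupOf Hs).Normal :=
    A1 p (hab_subgroup hab Hs) hK.subgroupOf
  have hmap : (pCore p Hs ⊔ K.subgroupOf Hs).map Hs.subtype =
      (pCore p Hs).map Hs.subtype ⊔ K := by
    rw [Subgroup.map_sup, Subgroup.subgroupOf_map_subtype, inf_of_le_left hK.1]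
  intro h hh
  rw [← hmap, Subgroup.mem_normalizer_iff]
  intro x
  constructor
  · rintro ⟨y, hy, rfl⟩
    exact ⟨⟨h, hh⟩ * y * ⟨h, hh⟩⁻¹, hn.conj_mem y hy _, by simp⟩
  · rintro ⟨y, hy, hyx⟩
    refine ⟨⟨h, hh⟩⁻¹ * y * ⟨h, hh⟩, ?_, ?_⟩
    · have := hn.conj_mem y hy ⟨h, hh⟩⁻¹
      simpa using this
    · have : x = h⁻¹ * (h * x * h⁻¹) * h := by group
      rw [this, ← hyx]; simp

/-- **A3 (relative)**: `Hs = O_p(Hs) * N_Hs(K)`. -/
theorem A3_rel {K : Subgroup G} (hK : IsHallComplIn p K Hs) {h : G} (hh : h ∈ Hs) :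
    ∃ r ∈ (pCore p Hs).map Hs.subtype, ∃ n ∈ Hs ⊓ Subgroup.normalizer (K : Set G), h = r * n := by
  obtain ⟨r, hr, n, hn, hrn⟩ := A3 p (hab_subgroup hab Hs) hK.subgroupOf ⟨h, hh⟩
  refine ⟨r, ⟨r, hr, rfl⟩, n, ⟨n.2, ?_⟩, ?_⟩
  · rw [Subgroup.mem_normalizer_iff] at hn
    show (n : G) ∈ Subgroup.normalizer (K : Set G)
    rw [Subgroup.mem_normalizer_iff]
    intro x
    constructor
    · intro hx
      have := (hn ⟨x, hK.1 hx⟩).mp (by rw [Subgroup.mem_subgroupOf]; exact hx)
      rw [Subgroup.mem_subgroupOf] at this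
      simpa using this
    · intro hx
      have hxH : x ∈ Hs := by
        have : x = (n : G)⁻¹ * ((n : G) * x * (n : G)⁻¹) * n := by group
        rw [this]
        exact Hs.mul_mem (Hs.mul_mem (Hs.inv_mem n.2) (hK.1 hx)) n.2
      have := (hn ⟨x, hxH⟩).mpr (by rw [Subgroup.mem_subgroupOf]; simpa using hx)
      rw [Subgroup.mem_subgroupOf] at this
      exact this
  · have := congrArg Subtype.val hrn
    simpa using this

/-- **A4 (relative)**: a `p`-subgroup of `Hs` normalised by `K` lies in `O_p(Hs)`. -/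
theorem A4_rel {K : Subgroup G} (hK : IsHallComplIn p K Hs) {X : Subgroup G} (hXH : X ≤ Hs)
    (hX : IsPGroup p X) (hKX : K ≤ Subgroup.normalizer (X : Set G)) :
    X ≤ (pCore p Hs).map Hs.subtype := by
  have hX' : IsPGroup p (X.subgroupOf Hs) := hX.comap_subtype
  have hKX' : K.subgroupOf Hs ≤ Subgroup.normalizer ((X.subgroupOf Hs : Subgroup Hs) : Set Hs) := by
    intro k hk
    rw [Subgroup.mem_subgroupOf] at hk
    have := hKX hk
    rw [Subgroup.mem_normalizer_iff] at this ⊢
    intro x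
    rw [Subgroup.mem_subgroupOf, Subgroup.mem_subgroupOf]
    simpa using this x
  have := A4 p (hab_subgroup hab Hs) hK.subgroupOf hX' hKX'
  intro x hx
  exact ⟨⟨x, hXH hx⟩, this (by rw [Subgroup.mem_subgroupOf]; exact hx), rfl⟩

omit hp [Group.IsSolvable Hs] in
/-- **A5 (in `G`)**: let `K` be a `p'`-subgroup and `S ≤ K` a `q`-subgroup which is maximal
among the `q`-subgroups of `K`.  Then `N_G(K) ≤ N_G(S)`. -/
theorem A5_rel {K : Subgroup G} (hKc : (Nat.card K).Coprime p) (q : ℕ) [Fact q.Prime]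
    {S : Subgroup G} (hS : IsPGroup q S) (hSK : S ≤ K)
    (hmax : ∀ Y : Subgroup G, IsPGroup q Y → Y ≤ K → S ≤ Y → Y = S) :
    Subgroup.normalizer (K : Set G) ≤ Subgroup.normalizer (S : Set G) := by
  intro n hn
  have hKab : IsMulCommutative K := hab K hKc
  have hnK : MulAut.conj n • K = K := conj_smul_eq_of_mem_normalizer hn
  have hS'K : MulAut.conj n • S ≤ K := by
    have h1 : MulAut.conj n • S ≤ MulAut.conj n • K :=
      Subgroup.pointwise_smul_le_pointwise_smul_iff.mpr hSK
    rwa [hnK] at h1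
  let P : Sylow q K := default
  have hPn : (P : Subgroup K).Normal := by
    constructor
    intro a ha b
    have : b * a * b⁻¹ = a := by rw [mul_comm' b a, mul_assoc, mul_inv_cancel, mul_one]
    rwa [this]
  have huniq : ∀ Y : Subgroup G, IsPGroup q Y → Y ≤ K → Y ≤ (P : Subgroup K).map K.subtype := by
    intro Y hY hYK
    have hY' : IsPGroup q (Y.subgroupOf K) := hY.comap_subtype
    obtain ⟨P', hP'⟩ := hY'.exists_le_sylow
    have hPP' : (P' : Subgroup K) = (P : Subgroup K) := by
      have hle : (P : Subgroup K) ≤ (P' : Subgroup K) := by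
        have := hPn
        exact P.isPGroup'.le_sylow_of_normal P'
      exact P.is_maximal' P'.isPGroup' hle
    intro y hy
    have : (⟨y, hYK hy⟩ : K) ∈ (P' : Subgroup K) := hP' (by rw [Subgroup.mem_subgroupOf]; exact hy)
    rw [hPP'] at this
    exact ⟨⟨y, hYK hy⟩, this, rfl⟩
  have hPq : IsPGroup q ((P : Subgroup K).map K.subtype) := P.isPGroup'.map _
  have h1 : (P : Subgroup K).map K.subtype = S :=
    hmax _ hPq (Subgroup.map_subtype_le _) (huniq S hS hSK)
  have hS'q : IsPGroup q (MulAut.conj n • S : Subgroup G) := hS.map (MulAut.conj n).toMonoidHom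
  have h2 : MulAut.conj n • S ≤ S := by
    have := huniq _ hS'q hS'K
    rwa [h1] at this
  have h3 : MulAut.conj n • S = S := by
    apply Subgroup.eq_of_le_of_card_ge h2
    rw [show Nat.card (MulAut.conj n • S : Subgroup G) = Nat.card S from
      Nat.card_congr (Subgroup.equivSMul (MulAut.conj n) S).toEquiv.symm]
  exact mem_normalizer_of_conj_smul_eq h3

omit hp [Group.IsSolvable Hs] in
/-- **A5 (in `G`), Sylow form**: if `S` is a Sylow `q`-subgroup of `G` inside the `p'`-subgroup
`K`, then `N_G(K) ≤ N_G(S)`. -/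
theorem A5_rel_sylow {K : Subgroup G} (hKc : (Nat.card K).Coprime p) (q : ℕ) [Fact q.Prime]
    (S : Sylow q G) (hSK : (S : Subgroup G) ≤ K) :
    Subgroup.normalizer (K : Set G) ≤ Subgroup.normalizer ((S : Subgroup G) : Set G) :=
  A5_rel p hab hKc q S.isPGroup' hSK (fun _ hY _ hSY => S.is_maximal' hY hSY)

omit hp [Group.IsSolvable Hs] in
/-- **A5 (in `G`), Sylow-of-`Hs` form**: if `S` is a Sylow `q`-subgroup of `Hs` whose image in
`G` lies in the `p'`-subgroup `K ≤ Hs`, then `N_G(K) ≤ N_G(S)`. -/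
theorem A5_rel_sylow_sub {K : Subgroup G} (hKH : K ≤ Hs) (hKc : (Nat.card K).Coprime p) (q : ℕ)
    [Fact q.Prime] (S : Sylow q Hs) (hSK : (S : Subgroup Hs).map Hs.subtype ≤ K) :
    Subgroup.normalizer (K : Set G) ≤
      Subgroup.normalizer (((S : Subgroup Hs).map Hs.subtype : Subgroup G) : Set G) := by
  apply A5_rel p hab hKc q (S.isPGroup'.map _) hSK
  intro Y hY hYK hSY
  have hY' : IsPGroup q (Y.subgroupOf Hs) := hY.comap_subtype
  have hle : (S : Subgroup Hs) ≤ Y.subgroupOf Hs := by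
    intro s hs
    rw [Subgroup.mem_subgroupOf]
    exact hSY ⟨s, hs, rfl⟩
  have := S.is_maximal' hY' hle
  rw [← this, Subgroup.subgroupOf_map_subtype, inf_of_le_left (hYK.trans hKH)]

omit hp [Group.IsSolvable Hs] in
/-- **A5, order 2 (in `G`)**: if moreover `|S| = 2` and `a ∈ S`, then `N_G(K) ≤ C_G(a)`. -/
theorem A5_rel_card_two {K : Subgroup G} (hKc : (Nat.card K).Coprime p) (q : ℕ) [Fact q.Prime]
    {S : Subgroup G} (hS : IsPGroup q S) (hSK : S ≤ K)
    (hmax : ∀ Y : Subgroup G, IsPGroup q Y → Y ≤ K → S ≤ Y → Y = S)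
    (hS2 : Nat.card S = 2) {a : G} (ha : a ∈ S) :
    Subgroup.normalizer (K : Set G) ≤ Subgroup.centralizer {a} := by
  intro n hn
  have hnS := A5_rel p hab hKc q hS hSK hmax hn
  rw [Subgroup.mem_centralizer_singleton_iff]
  by_cases ha1 : a = 1
  · subst ha1; simp
  have hna : n * a * n⁻¹ ∈ S := ((Subgroup.mem_normalizer_iff.mp hnS) a).mp ha
  obtain ⟨y, -, hy⟩ := (Nat.card_eq_two_iff' (1 : S)).mp hS2
  have e1 : (⟨a, ha⟩ : S) = y := hy _ (by
    intro h; exact ha1 (congrArg Subtype.val h))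
  have e2 : (⟨n * a * n⁻¹, hna⟩ : S) = y := hy _ (by
    intro h
    have h' : n * a * n⁻¹ = 1 := congrArg Subtype.val h
    apply ha1
    have : a = n⁻¹ * (n * a * n⁻¹) * n := by group
    rw [this, h']; group)
  have e3 : n * a * n⁻¹ = a := congrArg Subtype.val (e2.trans e1.symm)
  have : n * a = (n * a * n⁻¹) * n := by group
  rw [this, e3]

/-- **A5, consequence (relative)**: if a `q`-subgroup `S = {1, a}` of order 2, maximal among the
`q`-subgroups of the Hall `p'`-subgroup `K` of `Hs`, is given, then `Hs = O_p(Hs) * C_Hs(a)`. -/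
theorem A5_rel_factor {K : Subgroup G} (hK : IsHallComplIn p K Hs) (q : ℕ) [Fact q.Prime]
    {S : Subgroup G} (hS : IsPGroup q S) (hSK : S ≤ K)
    (hmax : ∀ Y : Subgroup G, IsPGroup q Y → Y ≤ K → S ≤ Y → Y = S)
    (hS2 : Nat.card S = 2) {a : G} (ha : a ∈ S) {h : G} (hh : h ∈ Hs) :
    ∃ r ∈ (pCore p Hs).map Hs.subtype, ∃ c ∈ Hs ⊓ Subgroup.centralizer ({a} : Set G),
      h = r * c := by
  obtain ⟨r, hr, n, hn, hrn⟩ := A3_rel p hab Hs hK hh
  exact ⟨r, hr, n, ⟨hn.1, A5_rel_card_two p hab hK.2.1 q hS hSK hmax hS2 ha hn.2⟩, hrn⟩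

end Rel

end Cfsg.Agent.Lib.Helper39.S1936Loc
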