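import Mathlib
import Cfsg.Agent.Lib.Helper22.S1936Defs
import Cfsg.Agent.Lib.Helper39.S1936Loc

/-!
# S1936, LOC-[U1] and LOC-[U2] in the exact form of `notes/helper22_S1936_modules.lean.txt`
(wrappers around `Cfsg.Agent.Lib.Helper39.S1936Loc`).
-/

set_option autoImplicit false
universe u
open Cfsg.Agent.Lib.Helper22.S1936

namespace Cfsg.Agent.Lib.Helper39.S1936

open Cfsg.Agent.Lib.Helper39.S1936Loc

variable {G : Type u} [Group G] [Finite G] {p : ℕ} [Fact p.Prime]

/-- LOC-[U1] (A4 via a Hall `p'`-subgroup through `a`): a `p`-subgroup `X` of the solvable subgroup `H`, normalized by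
`C_H(a)` for some `p'`-element `a ∈ H`, lies in `O_p(H)`. -/
theorem le_pCoreOf_of_centralizer_normalizes (h : HP p G) (hp2 : p ≠ 2) (H : Subgroup G)
    (hs : Group.IsSolvable ↥H) (a : G) (haH : a ∈ H) (hacop : (orderOf a).Coprime p)
    (X : Subgroup G) (hXH : X ≤ H) (hX : IsPGroup p ↥X)
    (hnorm : H ⊓ Subgroup.centralizer ({a} : Set G) ≤ Subgroup.normalizer (X : Set G)) :
    X ≤ Cfsg.pCoreOf p H := by
  have hab : ∀ L : Subgroup G, (Nat.card L).Coprime p → IsMulCommutative L := fun L hL => (h L hL).1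
  have hVH : Subgroup.zpowers a ≤ H := (Subgroup.zpowers_le).mpr haH
  have hVc : (Nat.card (Subgroup.zpowers a)).Coprime p := by
    rwa [Nat.card_zpowers]
  obtain ⟨K, hK, hVK⟩ := exists_isHallComplIn_ge p H (Subgroup.zpowers a) hVH hVc
  have haK : a ∈ K := hVK (Subgroup.mem_zpowers a)
  have hKab : IsMulCommutative K := hab K hK.2.1
  have hKC : K ≤ H ⊓ Subgroup.centralizer ({a} : Set G) := by
    intro k hk
    refine ⟨hK.1 hk, ?_⟩
    show k ∈ Subgroup.centralizer ({a} : Set G)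
    rw [Subgroup.mem_centralizer_singleton_iff]
    have : (⟨k, hk⟩ : K) * ⟨a, haK⟩ = ⟨a, haK⟩ * ⟨k, hk⟩ := mul_comm' _ _
    exact congrArg Subtype.val this
  exact A4_rel p hab H hK hXH hX (hKC.trans hnorm)

/-- LOC-[U2] (A3 + A5): if `S ≤ H` is a Sylow 2-subgroup of the solvable subgroup `H` then `H = O_p(H) · N_H(S)`. -/
theorem factor_pCoreOf_normalizer (h : HP p G) (hp2 : p ≠ 2) (H : Subgroup G)
    (hs : Group.IsSolvable ↥H) (S : Subgroup G) (hSH : S ≤ H) (hS : IsPGroup 2 ↥S)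
    (hodd : Odd (S.relIndex H)) (x : G) (hx : x ∈ H) :
    ∃ r ∈ Cfsg.pCoreOf p H, ∃ n ∈ H ⊓ Subgroup.normalizer (S : Set G), x = r * n := by
  have hab : ∀ L : Subgroup G, (Nat.card L).Coprime p → IsMulCommutative L := fun L hL => (h L hL).1
  have hpp : p.Prime := Fact.out
  have hSc : (Nat.card S).Coprime p := by
    obtain ⟨k, hk⟩ := IsPGroup.iff_card.mp hS
    rw [hk]
    apply Nat.Coprime.pow_left
    rw [Nat.coprime_primes Nat.prime_two hpp]
    exact fun h2 => hp2 h2.symm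
  obtain ⟨K, hK, hSK⟩ := exists_isHallComplIn_ge p H S hSH hSc
  obtain ⟨r, hr, n, hn, hrn⟩ := A3_rel p hab H hK hx
  have : Fact (Nat.Prime 2) := ⟨Nat.prime_two⟩
  have hmax : ∀ Y : Subgroup G, IsPGroup 2 Y → Y ≤ K → S ≤ Y → Y = S := by
    intro Y hY hYK hSY
    have h1 : S.relIndex Y ∣ S.relIndex H := by
      have := Subgroup.relIndex_mul_relIndex S Y H hSY (hYK.trans hK.1)
      exact Dvd.intro _ this
    have h2 : S.relIndex Y ∣ Nat.card Y := by
      have := Subgroup.relIndex_mul_relIndex (H := ⊥) (K := S) (L := Y) bot_le hSY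
      rw [Subgroup.relIndex_bot_left, Subgroup.relIndex_bot_left] at this
      exact Dvd.intro_left _ this
    obtain ⟨j, hj⟩ := IsPGroup.iff_card.mp hY
    rw [hj] at h2
    obtain ⟨i, -, hi⟩ := (Nat.dvd_prime_pow Nat.prime_two).mp h2
    have hodd' : Odd (S.relIndex Y) := Odd.of_dvd_nat hodd h1
    have hi0 : i = 0 := by
      by_contra h0
      rw [hi] at hodd'
      exact (Nat.not_even_iff_odd.mpr hodd') ((Nat.even_pow.mpr ⟨even_two, h0⟩))
    rw [hi0, pow_zero] at hi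
    exact le_antisymm (Subgroup.relIndex_eq_one.mp hi) hSY
  exact ⟨r, hr, n, ⟨hn.1, A5_rel p hab hK.2.1 2 hS hSK hmax hn.2⟩, hrn⟩

end Cfsg.Agent.Lib.Helper39.S1936
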