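/-
helper39 library: the Jordan block `Jmat`, its nilpotent part `Nmat`, the lower bidiagonal matrix `Lmat μ`
and the signed reversal `Wmat` conjugating `Jmat` to `Lmat`.
-/
import Mathlib

set_option autoImplicit false
set_option linter.unusedSectionVars false

namespace Cfsg.Agent.Lib.Helper39.JordanMat

open Matrix

variable {R : Type*} [CommRing R] (n : ℕ)

/-- the nilpotent shift: ones on the superdiagonal -/
def Nmat : Matrix (Fin n) (Fin n) R := Matrix.of fun i j => if j.val = i.val + 1 then 1 else 0

/-- the upper Jordan block -/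
def Jmat : Matrix (Fin n) (Fin n) R := 1 + Nmat n

/-- lower bidiagonal matrix: ones on the diagonal, `μ j` in position `(j+1, j)` -/
def Lmat (μ : Fin n → R) : Matrix (Fin n) (Fin n) R :=
  Matrix.of fun i j => if i = j then 1 else if i.val = j.val + 1 then μ j else 0

variable {n}

theorem Nmat_apply (i j : Fin n) : (Nmat n : Matrix (Fin n) (Fin n) R) i j = if j.val = i.val + 1 then 1 else 0 := rfl

theorem Jmat_apply (i j : Fin n) :
    (Jmat n : Matrix (Fin n) (Fin n) R) i j = if i = j then 1 else if j.val = i.val + 1 then 1 else 0 := by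
  unfold Jmat
  rw [Matrix.add_apply, Matrix.one_apply, Nmat_apply]
  by_cases h : i = j
  · subst h; simp
  · simp [h]

theorem Lmat_apply (μ : Fin n → R) (i j : Fin n) :
    Lmat n μ i j = if i = j then 1 else if i.val = j.val + 1 then μ j else 0 := rfl

theorem Nmat_pow_apply (k : ℕ) (i j : Fin n) :
    ((Nmat n : Matrix (Fin n) (Fin n) R) ^ k) i j = if j.val = i.val + k then 1 else 0 := by
  induction k generalizing i j with
  | zero =>
    rw [pow_zero, Matrix.one_apply]
    simp [Fin.ext_iff, eq_comm]
  | succ k ih =>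
    rw [pow_succ, Matrix.mul_apply]
    simp only [ih, Nmat_apply]
    by_cases h : j.val = i.val + (k + 1)
    · rw [if_pos h]
      have hlt : i.val + k < n := by have := j.isLt; omega
      rw [Finset.sum_eq_single (⟨i.val + k, hlt⟩ : Fin n)]
      · simp [h]; omega
      · intro b _ hb
        have : b.val ≠ i.val + k := fun hh => hb (Fin.ext hh)
        simp [this]
      · intro hh; exact absurd (Finset.mem_univ _) hh
    · rw [if_neg h]
      apply Finset.sum_eq_zero
      intro b _
      by_cases h1 : b.val = i.val + k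
      · have : ¬ j.val = b.val + 1 := by omega
        simp [this]
      · simp [h1]

theorem Nmat_pow_self : (Nmat n : Matrix (Fin n) (Fin n) R) ^ n = 0 := by
  ext i j
  rw [Nmat_pow_apply, Matrix.zero_apply, if_neg]
  have := j.isLt
  omega

theorem Nmat_pow_pred_ne_zero [Nontrivial R] (hn : 1 ≤ n) :
    (Nmat n : Matrix (Fin n) (Fin n) R) ^ (n - 1) ≠ 0 := by
  intro h
  have := congrFun (congrFun h ⟨0, by omega⟩) ⟨n - 1, by omega⟩
  rw [Nmat_pow_apply, Matrix.zero_apply, if_pos (by simp)] at this
  exact one_ne_zero this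

theorem det_Jmat : (Jmat n : Matrix (Fin n) (Fin n) R).det = 1 := by
  rw [Matrix.det_of_upperTriangular]
  · simp [Jmat_apply]
  · intro i j hij
    rw [Jmat_apply, if_neg (by intro h; subst h; exact lt_irrefl _ hij), if_neg]
    have : j.val < i.val := hij
    omega

theorem det_Lmat (μ : Fin n → R) : (Lmat n μ).det = 1 := by
  rw [Matrix.det_of_lowerTriangular]
  · simp [Lmat_apply]
  · intro i j hij
    rw [Lmat_apply, if_neg (by intro h; subst h; exact lt_irrefl _ hij), if_neg]
    have : i.val < j.val := hij
    omega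

/-- column `k` of `Lmat` -/
theorem Lmat_mulVec_single (μ : Fin n → R) (k k' : Fin n) (hk : k'.val = k.val + 1) (c : R) :
    Lmat n μ *ᵥ Pi.single k c = Pi.single k c + Pi.single k' (μ k * c) := by
  ext i
  rw [Matrix.mulVec_single, Pi.smul_apply, Pi.add_apply]
  simp only [Matrix.col_apply, Lmat_apply, Pi.single_apply, MulOpposite.smul_eq_mul_unop,
    MulOpposite.unop_op]
  by_cases h1 : i = k
  · subst h1
    have : i ≠ k' := fun h => by rw [h] at hk; omega
    simp [this]
  · by_cases h2 : i = k'
    · subst h2
      simp [h1, hk]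
    · have : ¬ i.val = k.val + 1 := fun h => h2 (Fin.ext (by omega))
      simp [h1, h2, this]

/-- the last column of `Lmat` -/
theorem Lmat_mulVec_single_last (μ : Fin n → R) (k : Fin n) (hk : k.val + 1 = n) (c : R) :
    Lmat n μ *ᵥ Pi.single k c = Pi.single k c := by
  ext i
  rw [Matrix.mulVec_single, Pi.smul_apply]
  simp only [Matrix.col_apply, Lmat_apply, Pi.single_apply, MulOpposite.smul_eq_mul_unop,
    MulOpposite.unop_op]
  by_cases h1 : i = k
  · subst h1; simp
  · have : ¬ i.val = k.val + 1 := by have := i.isLt; omega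
    simp [h1, this]

/-- row `k'` of `Lmat` -/
theorem single_vecMul_Lmat (μ : Fin n → R) (k k' : Fin n) (hk : k'.val = k.val + 1) (c : R) :
    Pi.single k' c ᵥ* Lmat n μ = Pi.single k' c + Pi.single k (c * μ k) := by
  ext j
  rw [Matrix.single_vecMul, Pi.smul_apply, Pi.add_apply]
  simp only [Matrix.row_apply, Lmat_apply, Pi.single_apply, smul_eq_mul]
  by_cases h1 : j = k'
  · subst h1
    have : j ≠ k := fun h => by rw [h] at hk; omega
    simp [this]
  · by_cases h2 : j = k
    · subst h2
      have : k' ≠ j := fun h => h1 h.symm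
      simp [h1, hk, this]
    · have : ¬ k'.val = j.val + 1 := fun h => h2 (Fin.ext (by omega))
      have h1' : k' ≠ j := fun h => h1 h.symm
      simp [h1, h2, this, h1']

/-- the last row of `Jmat` -/
theorem single_vecMul_Jmat_last (k : Fin n) (hk : k.val + 1 = n) (c : R) :
    Pi.single k c ᵥ* (Jmat n : Matrix (Fin n) (Fin n) R) = Pi.single k c := by
  ext j
  rw [Matrix.single_vecMul, Pi.smul_apply]
  simp only [Matrix.row_apply, Jmat_apply, Pi.single_apply, smul_eq_mul]
  by_cases h1 : j = k
  · subst h1; simp
  · have : ¬ j.val = k.val + 1 := by have := j.isLt; omega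
    have h1' : k ≠ j := fun h => h1 h.symm
    simp [h1, this, h1']

/-- column `k'` of `Jmat` -/
theorem Jmat_mulVec_single (k k' : Fin n) (hk : k'.val = k.val + 1) (c : R) :
    (Jmat n : Matrix (Fin n) (Fin n) R) *ᵥ Pi.single k' c = Pi.single k' c + Pi.single k c := by
  ext i
  rw [Matrix.mulVec_single, Pi.smul_apply, Pi.add_apply]
  simp only [Matrix.col_apply, Jmat_apply, Pi.single_apply, MulOpposite.smul_eq_mul_unop,
    MulOpposite.unop_op]
  by_cases h1 : i = k'
  · subst h1
    have : i ≠ k := fun h => by rw [h] at hk; omega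
    simp [this]
  · by_cases h2 : i = k
    · subst h2
      simp [h1, hk]
    · have : ¬ k'.val = i.val + 1 := fun h => h2 (Fin.ext (by omega))
      simp [h1, h2, this]

/-- the first column of `Jmat` -/
theorem Jmat_mulVec_single_zero (k : Fin n) (hk : k.val = 0) (c : R) :
    (Jmat n : Matrix (Fin n) (Fin n) R) *ᵥ Pi.single k c = Pi.single k c := by
  ext i
  rw [Matrix.mulVec_single, Pi.smul_apply]
  simp only [Matrix.col_apply, Jmat_apply, Pi.single_apply, MulOpposite.smul_eq_mul_unop,
    MulOpposite.unop_op]
  by_cases h1 : i = k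
  · subst h1; simp
  · have : ¬ k.val = i.val + 1 := by omega
    simp [h1, this]

end Cfsg.Agent.Lib.Helper39.JordanMat
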