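/-
helper39 library: rank-one ("transvection") calculus in `Matrix n n R`, and membership of matrices
in a subgroup of `SL n R` (`InH`).  Used for S2280 (SL_n generated by three conjugate regular unipotents).
-/
import Mathlib

set_option autoImplicit false
set_option linter.unusedSectionVars false

namespace Cfsg.Agent.Lib.Helper39.RankOne

open Matrix

variable {n : Type*} [Fintype n] [DecidableEq n] {R : Type*} [CommRing R]

/-- the matrix `1 + a δᵀ` -/
def tv (a δ : n → R) : Matrix n n R := 1 + vecMulVec a δ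

theorem vmv_mul_vmv (a b c d : n → R) :
    vecMulVec a b * vecMulVec c d = (b ⬝ᵥ c) • vecMulVec a d := by
  rw [vecMulVec_mul_vecMulVec, vecMulVec_smul]

theorem vmv_mul_vmv_of_eq_zero (a b c d : n → R) (h : b ⬝ᵥ c = 0) :
    vecMulVec a b * vecMulVec c d = 0 := by
  rw [vmv_mul_vmv, h, zero_smul]

theorem tv_mul_tv (a b δ : n → R) (hb : δ ⬝ᵥ b = 0) : tv a δ * tv b δ = tv (a + b) δ := by
  unfold tv
  rw [add_mul, mul_add, mul_add, one_mul, mul_one, one_mul, vmv_mul_vmv_of_eq_zero _ _ _ _ hb,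
    add_vecMulVec]
  abel

theorem tv_zero (δ : n → R) : tv (0 : n → R) δ = 1 := by
  unfold tv; rw [zero_vecMulVec, add_zero]

theorem tv_mul_tv_neg (a δ : n → R) (ha : δ ⬝ᵥ a = 0) : tv a δ * tv (-a) δ = 1 := by
  rw [tv_mul_tv _ _ _ (by rw [dotProduct_neg, ha, neg_zero]), add_neg_cancel, tv_zero]

theorem tv_neg_mul_tv (a δ : n → R) (ha : δ ⬝ᵥ a = 0) : tv (-a) δ * tv a δ = 1 := by
  rw [tv_mul_tv _ _ _ ha, neg_add_cancel, tv_zero]

/-- conjugation of `1 + a δᵀ` -/
theorem conj_tv (G G' : Matrix n n R) (a δ : n → R) :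
    G * tv a δ * G' = G * G' + vecMulVec (G *ᵥ a) (δ ᵥ* G') := by
  unfold tv
  rw [mul_add, add_mul, mul_one, mul_vecMulVec, vecMulVec_mul]

theorem conj_tv' (G G' : Matrix n n R) (hG : G * G' = 1) (a δ : n → R) :
    G * tv a δ * G' = tv (G *ᵥ a) (δ ᵥ* G') := by
  rw [conj_tv, hG]; rfl

/-- the commutator formula for two rank-one unipotents -/
theorem comm_tv (a b c d : n → R) (hba : b ⬝ᵥ a = 0) (hdc : d ⬝ᵥ c = 0) (hbc : b ⬝ᵥ c = 0) :
    tv a b * tv c d * tv (-a) b * tv (-c) d = tv (-(d ⬝ᵥ a) • c) b := by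
  unfold tv
  have hXX : vecMulVec a b * vecMulVec a b = 0 := vmv_mul_vmv_of_eq_zero _ _ _ _ hba
  have hYY : vecMulVec c d * vecMulVec c d = 0 := vmv_mul_vmv_of_eq_zero _ _ _ _ hdc
  have hXY : vecMulVec a b * vecMulVec c d = 0 := vmv_mul_vmv_of_eq_zero _ _ _ _ hbc
  have hYX : vecMulVec c d * vecMulVec a b = (d ⬝ᵥ a) • vecMulVec c b := vmv_mul_vmv _ _ _ _
  rw [neg_vecMulVec, neg_vecMulVec]
  set X := vecMulVec a b with hX
  set Y := vecMulVec c d with hY
  have e1 : (1 + X) * (1 + Y) = 1 + X + Y := by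
    rw [add_mul, mul_add, mul_add, one_mul, mul_one, one_mul, hXY]; abel
  have e2 : (1 + X + Y) * (1 + -X) = 1 + Y - Y * X := by
    rw [add_mul, add_mul, mul_add, mul_add, mul_add, one_mul, mul_one, mul_one, one_mul, mul_neg,
      mul_neg, hXX]; abel
  have e3 : (1 + Y - Y * X) * (1 + -Y) = 1 - Y * X := by
    rw [sub_mul, add_mul, mul_add, mul_add, mul_add, one_mul, mul_one, mul_one, one_mul, mul_neg,
      mul_neg, hYY, Matrix.mul_assoc, hXY, mul_zero]; abel
  rw [e1, e2, e3, hYX, neg_smul, neg_vecMulVec, smul_vecMulVec, sub_eq_add_neg]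

/-! ### membership of matrices in a subgroup of `SL` -/

/-- the matrix `M` is (the coercion of) an element of `H` -/
def InH (H : Subgroup (SpecialLinearGroup n R)) (M : Matrix n n R) : Prop :=
  ∃ g ∈ H, (g : Matrix n n R) = M

theorem InH.one (H : Subgroup (SpecialLinearGroup n R)) : InH H (1 : Matrix n n R) :=
  ⟨1, H.one_mem, rfl⟩

theorem InH.mul {H : Subgroup (SpecialLinearGroup n R)} {M M' : Matrix n n R}
    (h : InH H M) (h' : InH H M') : InH H (M * M') := by
  obtain ⟨g, hg, rfl⟩ := h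
  obtain ⟨g', hg', rfl⟩ := h'
  exact ⟨g * g', H.mul_mem hg hg', by simp⟩

theorem InH.of_mul_eq_one {H : Subgroup (SpecialLinearGroup n R)} {M M' : Matrix n n R}
    (h : InH H M) (hM : M * M' = 1) : InH H M' := by
  obtain ⟨g, hg, rfl⟩ := h
  refine ⟨g⁻¹, H.inv_mem hg, ?_⟩
  have h1 : ((g⁻¹ : SpecialLinearGroup n R) : Matrix n n R) * (g : Matrix n n R) = 1 := by
    show ((g⁻¹ * g : SpecialLinearGroup n R) : Matrix n n R) = 1
    rw [inv_mul_cancel]; rfl
  calc ((g⁻¹ : SpecialLinearGroup n R) : Matrix n n R)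
      = ((g⁻¹ : SpecialLinearGroup n R) : Matrix n n R) * ((g : Matrix n n R) * M') := by
        rw [hM, mul_one]
    _ = M' := by rw [← Matrix.mul_assoc, h1, one_mul]

theorem InH.of_mem {H : Subgroup (SpecialLinearGroup n R)} {g : SpecialLinearGroup n R}
    (hg : g ∈ H) : InH H (g : Matrix n n R) := ⟨g, hg, rfl⟩

theorem InH.mem {H : Subgroup (SpecialLinearGroup n R)} {g : SpecialLinearGroup n R}
    (h : InH H (g : Matrix n n R)) : g ∈ H := by
  obtain ⟨g', hg', he⟩ := h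
  have : g' = g := Subtype.ext he
  rwa [← this]

theorem InH.tv_neg {H : Subgroup (SpecialLinearGroup n R)} {a δ : n → R} (ha : δ ⬝ᵥ a = 0)
    (h : InH H (tv a δ)) : InH H (tv (-a) δ) :=
  h.of_mul_eq_one (tv_mul_tv_neg a δ ha)

theorem InH.conj {H : Subgroup (SpecialLinearGroup n R)} {G G' : Matrix n n R}
    (hG : InH H G) (hGG' : G * G' = 1) {a δ : n → R} (h : InH H (tv a δ)) :
    InH H (tv (G *ᵥ a) (δ ᵥ* G')) := by
  rw [← conj_tv' G G' hGG']
  exact (hG.mul h).mul (hG.of_mul_eq_one hGG')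

theorem InH.comm {H : Subgroup (SpecialLinearGroup n R)} {a b c d : n → R}
    (hba : b ⬝ᵥ a = 0) (hdc : d ⬝ᵥ c = 0) (hbc : b ⬝ᵥ c = 0)
    (h1 : InH H (tv a b)) (h2 : InH H (tv c d)) : InH H (tv (-(d ⬝ᵥ a) • c) b) := by
  rw [← comm_tv a b c d hba hdc hbc]
  exact ((h1.mul h2).mul (h1.tv_neg hba)).mul (h2.tv_neg hdc)

/-- elementary transvection as a `tv` -/
theorem one_add_single_eq_tv (i j : n) (c : R) :
    (1 : Matrix n n R) + Matrix.single i j c = tv (Pi.single i c) (Pi.single j 1) := by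
  unfold tv
  congr 1
  ext k l
  simp only [vecMulVec_apply, Matrix.single_apply, Pi.single_apply]
  by_cases hk : k = i
  · by_cases hl : l = j
    · simp [hk, hl]
    · simp [hk, hl, Ne.symm hl]
  · by_cases hl : l = j
    · simp [hk, hl, Ne.symm hk]
    · simp [hk, hl, Ne.symm hk, Ne.symm hl]

end Cfsg.Agent.Lib.Helper39.RankOne
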