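/-
helper39 library: a subgroup of `SL_n(F)` (`n = m + 3`) containing the upper Jordan block `Jmat`, a lower
bidiagonal matrix `Lmat μ` (all `μ k ≠ 0`) and `Jmat * (1 + c₀ E_{0,last})` for a suitable `c₀` is everything.
-/
import Mathlib
import Cfsg.Agent.Lib.Helper39.RankOne
import Cfsg.Agent.Lib.Helper39.JordanMat
import Cfsg.Agent.Lib.Helper5.SLGen

set_option autoImplicit false
set_option linter.unusedSectionVars false

namespace Cfsg.Agent.Lib.Helper39.JordanGen

open Matrix Cfsg.Agent.Lib.Helper39.RankOne Cfsg.Agent.Lib.Helper39.JordanMat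

variable {F : Type*} [Field F] {n : ℕ}

theorem dot_conj (G G' : Matrix (Fin n) (Fin n) F) (h : G' * G = 1) (a δ : Fin n → F) :
    (δ ᵥ* G') ⬝ᵥ (G *ᵥ a) = δ ⬝ᵥ a := by
  rw [Matrix.dotProduct_mulVec, Matrix.vecMul_vecMul, h, Matrix.vecMul_one]

theorem single_vecMul_Lmat_zero (μ : Fin n → F) (k : Fin n) (hk : k.val = 0) (c : F) :
    Pi.single k c ᵥ* Lmat n μ = Pi.single k c := by
  ext j
  rw [Matrix.single_vecMul, Pi.smul_apply]
  simp only [Matrix.row_apply, Lmat_apply, Pi.single_apply, smul_eq_mul]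
  by_cases h1 : j = k
  · subst h1; simp
  · have : ¬ k.val = j.val + 1 := by omega
    have h1' : k ≠ j := fun h => h1 h.symm
    simp [h1, this, h1']

/-- the first column of a right inverse of `Lmat μ` has no zero entry -/
theorem Linv_col_ne_zero (μ : Fin n → F) (hμ : ∀ k, μ k ≠ 0) (L' : Matrix (Fin n) (Fin n) F)
    (h : Lmat n μ * L' = 1) (o : Fin n) (ho : o.val = 0) : ∀ i : Fin n, L' i o ≠ 0 := by
  have key : ∀ i : Fin n, (Pi.single i 1 ᵥ* Lmat n μ) ⬝ᵥ (fun k => L' k o) = (1 : Matrix (Fin n) (Fin n) F) i o := by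
    intro i
    rw [← h, Matrix.single_one_vecMul]
    rfl
  have main : ∀ k : ℕ, ∀ i : Fin n, i.val = k → L' i o ≠ 0 := by
    intro k
    induction k with
    | zero =>
      intro i hi
      have hio : i = o := Fin.ext (by omega)
      have := key i
      rw [single_vecMul_Lmat_zero μ i hi, single_dotProduct, one_mul, hio, Matrix.one_apply_eq] at this
      rw [hio, this]
      exact one_ne_zero
    | succ k ih =>
      intro i hi
      have hk : k < n := by have := i.isLt; omega
      have := key i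
      rw [single_vecMul_Lmat μ ⟨k, hk⟩ i (by simpa using hi), add_dotProduct, single_dotProduct,
        single_dotProduct, one_mul, one_mul,
        Matrix.one_apply_ne (by intro hh; rw [hh] at hi; omega)] at this
      intro h0
      rw [h0, zero_add] at this
      exact (mul_ne_zero (hμ _) (ih ⟨k, hk⟩ rfl)) this
  exact fun i => main i.val i rfl

theorem vecMul_tv (δ a b : Fin n → F) : δ ᵥ* tv a b = δ + (δ ⬝ᵥ a) • b := by
  unfold tv
  rw [Matrix.vecMul_add, Matrix.vecMul_one, Matrix.vecMul_vecMulVec]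

theorem tv_mulVec (a b v : Fin n → F) : tv a b *ᵥ v = v + (b ⬝ᵥ v) • a := by
  unfold tv
  rw [Matrix.add_mulVec, Matrix.one_mulVec, Matrix.vecMulVec_mulVec]
  congr 1
  ext i
  simp [mul_comm]

theorem single_one_dot (j : Fin n) (v : Fin n → F) : Pi.single j (1 : F) ⬝ᵥ v = v j := by
  rw [single_dotProduct, one_mul]

section main

variable {m : ℕ} (μ : Fin (m + 3) → F) (hμ : ∀ k, μ k ≠ 0)
  (H : Subgroup (SpecialLinearGroup (Fin (m + 3)) F))
  (L' : Matrix (Fin (m + 3)) (Fin (m + 3)) F) (hLL' : Lmat (m + 3) μ * L' = 1)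
  (hJ : InH H (Jmat (m + 3) : Matrix (Fin (m + 3)) (Fin (m + 3)) F)) (hL : InH H (Lmat (m + 3) μ))

include hμ hLL' hJ hL

/-- step (b): the set of `c` with `1 + c E_{0,last} ∈ H` is closed under `(c, c') ↦ ν c c'` -/
theorem S_closed (c c' : F)
    (hc : InH H (tv (Pi.single (0 : Fin (m + 3)) c) (Pi.single (Fin.last (m + 2)) 1)))
    (hc' : InH H (tv (Pi.single (0 : Fin (m + 3)) c') (Pi.single (Fin.last (m + 2)) 1))) :
    InH H (tv (Pi.single (0 : Fin (m + 3)) (-(L' (Fin.last (m + 2)) 0) * μ 0 * c * c'))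
      (Pi.single (Fin.last (m + 2)) 1)) := by
  set o : Fin (m + 3) := 0 with ho
  set l : Fin (m + 3) := Fin.last (m + 2) with hl
  set one : Fin (m + 3) := 1 with hone
  have hoval : o.val = 0 := rfl
  have hlval : l.val = m + 2 := rfl
  have honeval : one.val = 1 := by simp [hone]
  have hol : o ≠ l := by intro h; have := congrArg Fin.val h; omega
  have h1l : one ≠ l := by intro h; have := congrArg Fin.val h; omega
  have ho1 : o ≠ one := by intro h; have := congrArg Fin.val h; omega
  have hL'L : L' * Lmat (m + 3) μ = 1 := mul_eq_one_comm.mp hLL'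
  have hJJ' : (Jmat (m + 3) : Matrix (Fin (m + 3)) (Fin (m + 3)) F) * (Jmat (m + 3))⁻¹ = 1 :=
    Matrix.mul_nonsing_inv _ (by rw [det_Jmat]; exact isUnit_one)
  set J' : Matrix (Fin (m + 3)) (Fin (m + 3)) F := (Jmat (m + 3))⁻¹ with hJ'
  set d : Fin (m + 3) → F := Pi.single l 1 ᵥ* L' with hd
  have hdo : d o = L' l o := by rw [hd, Matrix.single_one_vecMul]; rfl
  -- conjugate by L
  have h1 : InH H (tv (Lmat (m + 3) μ *ᵥ Pi.single o c') d) := hL.conj hLL' hc'
  have hcv : Lmat (m + 3) μ *ᵥ Pi.single o c' = Pi.single o c' + Pi.single one (μ o * c') :=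
    Lmat_mulVec_single μ o one (by omega) c'
  have hba : Pi.single l (1 : F) ⬝ᵥ Pi.single o c = 0 := by
    rw [single_one_dot, Pi.single_eq_of_ne hol.symm]
  have hdc : d ⬝ᵥ (Lmat (m + 3) μ *ᵥ Pi.single o c') = 0 := by
    rw [hd, dot_conj _ _ hL'L, single_one_dot, Pi.single_eq_of_ne hol.symm]
  have hbc : Pi.single l (1 : F) ⬝ᵥ (Lmat (m + 3) μ *ᵥ Pi.single o c') = 0 := by
    rw [hcv, single_one_dot, Pi.add_apply, Pi.single_eq_of_ne hol.symm, Pi.single_eq_of_ne h1l.symm,
      add_zero]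
  have h2 := InH.comm hba hdc hbc hc h1
  have hda : d ⬝ᵥ Pi.single o c = L' l o * c := by rw [dotProduct_single, hdo]
  rw [hda, hcv] at h2
  set yv : Fin (m + 3) → F := -(L' l o * c) • (Pi.single o c' + Pi.single one (μ o * c')) with hyv
  have hly : Pi.single l (1 : F) ⬝ᵥ yv = 0 := by
    rw [single_one_dot, hyv, Pi.smul_apply, Pi.add_apply, Pi.single_eq_of_ne hol.symm,
      Pi.single_eq_of_ne h1l.symm, add_zero, smul_zero]
  -- conjugate by J
  have h3 : InH H (tv (Jmat (m + 3) *ᵥ yv) (Pi.single l 1 ᵥ* J')) := hJ.conj hJJ' h2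
  have hlJ' : Pi.single l (1 : F) ᵥ* J' = Pi.single l 1 := by
    have e1 : Pi.single l (1 : F) ᵥ* (Jmat (m + 3) : Matrix (Fin (m + 3)) (Fin (m + 3)) F) = Pi.single l 1 :=
      single_vecMul_Jmat_last l (by omega) 1
    calc Pi.single l (1 : F) ᵥ* J' = (Pi.single l (1 : F) ᵥ* Jmat (m + 3)) ᵥ* J' := by rw [e1]
      _ = Pi.single l 1 := by rw [Matrix.vecMul_vecMul, hJJ', Matrix.vecMul_one]
  rw [hlJ'] at h3
  have h4 := h3.mul (h2.tv_neg hly)
  rw [tv_mul_tv _ _ _ (by rw [dotProduct_neg, hly, neg_zero])] at h4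
  have hfin : Jmat (m + 3) *ᵥ yv + -yv = Pi.single o (-(L' l o) * μ o * c * c') := by
    rw [hyv, Matrix.mulVec_smul, Matrix.mulVec_add, Jmat_mulVec_single_zero o hoval,
      Jmat_mulVec_single o one (by omega)]
    ext i
    simp only [Pi.add_apply, Pi.smul_apply, Pi.neg_apply, smul_eq_mul, Pi.single_apply]
    by_cases hio : i = o
    · subst hio
      simp [ho1]; ring
    · by_cases hi1 : i = one
      · subst hi1
        simp [hio]
      · simp [hio, hi1]
  rw [hfin] at h4
  exact h4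

/-- step (c): all of `X_{0,last}(F)` lies in `H` -/
theorem S_all (t : F) (ht : ∀ c : F, c ≠ 0 → ∃ k : ℕ, c = t ^ (k + 1))
    (hZ : InH H ((Jmat (m + 3) : Matrix (Fin (m + 3)) (Fin (m + 3)) F) *
      tv (Pi.single (0 : Fin (m + 3)) (t / (-(L' (Fin.last (m + 2)) 0) * μ 0)))
        (Pi.single (Fin.last (m + 2)) 1))) (c : F) :
    InH H (tv (Pi.single (0 : Fin (m + 3)) c) (Pi.single (Fin.last (m + 2)) 1)) := by
  have hκ : L' (Fin.last (m + 2)) 0 ≠ 0 := Linv_col_ne_zero μ hμ L' hLL' 0 rfl _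
  set ν : F := -(L' (Fin.last (m + 2)) 0) * μ 0 with hν
  have hν0 : ν ≠ 0 := mul_ne_zero (neg_ne_zero.mpr hκ) (hμ 0)
  have hJJ' : (Jmat (m + 3) : Matrix (Fin (m + 3)) (Fin (m + 3)) F) * (Jmat (m + 3))⁻¹ = 1 :=
    Matrix.mul_nonsing_inv _ (by rw [det_Jmat]; exact isUnit_one)
  have hJ'J : (Jmat (m + 3) : Matrix (Fin (m + 3)) (Fin (m + 3)) F)⁻¹ * Jmat (m + 3) = 1 :=
    Matrix.nonsing_inv_mul _ (by rw [det_Jmat]; exact isUnit_one)
  have h0 : InH H (tv (Pi.single (0 : Fin (m + 3)) (t / ν)) (Pi.single (Fin.last (m + 2)) 1)) := by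
    have := (hJ.of_mul_eq_one hJJ').mul hZ
    rwa [← Matrix.mul_assoc, hJ'J, one_mul] at this
  have hk : ∀ k : ℕ, InH H (tv (Pi.single (0 : Fin (m + 3)) (t ^ (k + 1) / ν))
      (Pi.single (Fin.last (m + 2)) 1)) := by
    intro k
    induction k with
    | zero => simpa using h0
    | succ k ih =>
      have := S_closed μ hμ H L' hLL' hJ hL _ _ ih h0
      have e : -(L' (Fin.last (m + 2)) 0) * μ 0 * (t ^ (k + 1) / ν) * (t / ν) = t ^ (k + 1 + 1) / ν := by
        rw [← hν]; field_simp; ring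
      rwa [e] at this
  by_cases hc : c = 0
  · rw [hc, Pi.single_zero, tv_zero]; exact InH.one H
  · obtain ⟨k, hk'⟩ := ht (ν * c) (mul_ne_zero hν0 hc)
    have : c = t ^ (k + 1) / ν := by rw [← hk']; field_simp
    rw [this]; exact hk k

/-- step (d): all of `X_{i,last}(F)`, `i ≠ last`, lies in `H` -/
theorem R_all (hS : ∀ c : F, InH H (tv (Pi.single (0 : Fin (m + 3)) c) (Pi.single (Fin.last (m + 2)) 1)))
    (i : Fin (m + 3)) (hi : i ≠ Fin.last (m + 2)) (c : F) :
    InH H (tv (Pi.single i c) (Pi.single (Fin.last (m + 2)) 1)) := by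
  set o : Fin (m + 3) := 0 with ho
  set l : Fin (m + 3) := Fin.last (m + 2) with hl
  have hlval : l.val = m + 2 := rfl
  have hol : o ≠ l := by intro h; have := congrArg Fin.val h; simp [ho, hl] at this
  have hκ : L' l o ≠ 0 := Linv_col_ne_zero μ hμ L' hLL' 0 rfl _
  have hL'L : L' * Lmat (m + 3) μ = 1 := mul_eq_one_comm.mp hLL'
  set d : Fin (m + 3) → F := Pi.single l 1 ᵥ* L' with hd
  have hdo : d o = L' l o := by rw [hd, Matrix.single_one_vecMul]; rfl
  have main : ∀ k : ℕ, ∀ i : Fin (m + 3), i.val = k → i ≠ l → ∀ c : F,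
      InH H (tv (Pi.single i c) (Pi.single l 1)) := by
    intro k
    induction k with
    | zero =>
      intro i hi0 _ c
      have : i = o := Fin.ext (by rw [hi0]; rfl)
      rw [this]; exact hS c
    | succ k ih =>
      intro i hik hil c
      have hkn : k < m + 3 := by have := i.isLt; omega
      set i0 : Fin (m + 3) := ⟨k, hkn⟩ with hi0
      have hi0l : i0 ≠ l := by intro h; have := congrArg Fin.val h; simp [hi0, hl] at this; have := i.isLt; omega
      have hi0i : i0 ≠ i := by intro h; have := congrArg Fin.val h; simp [hi0] at this; omega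
      have ihR := ih i0 rfl hi0l
      set s' : F := -c / (L' l o * μ i0) with hs'
      have h1 : InH H (tv (Lmat (m + 3) μ *ᵥ Pi.single i0 s') d) := hL.conj hLL' (ihR s')
      have hcv : Lmat (m + 3) μ *ᵥ Pi.single i0 s' = Pi.single i0 s' + Pi.single i (μ i0 * s') :=
        Lmat_mulVec_single μ i0 i (by simpa [hi0] using hik) s'
      have hba : Pi.single l (1 : F) ⬝ᵥ Pi.single o (1 : F) = 0 := by
        rw [single_one_dot, Pi.single_eq_of_ne hol.symm]
      have hdc : d ⬝ᵥ (Lmat (m + 3) μ *ᵥ Pi.single i0 s') = 0 := by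
        rw [hd, dot_conj _ _ hL'L, single_one_dot, Pi.single_eq_of_ne hi0l.symm]
      have hbc : Pi.single l (1 : F) ⬝ᵥ (Lmat (m + 3) μ *ᵥ Pi.single i0 s') = 0 := by
        rw [hcv, single_one_dot, Pi.add_apply, Pi.single_eq_of_ne hi0l.symm,
          Pi.single_eq_of_ne hil.symm, add_zero]
      have h2 := InH.comm hba hdc hbc (hS 1) h1
      have hda : d ⬝ᵥ Pi.single o (1 : F) = L' l o := by rw [dotProduct_single, hdo, mul_one]
      rw [hda, hcv] at h2
      have h3 := (ihR (L' l o * s')).mul h2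
      have hzero : Pi.single l (1 : F) ⬝ᵥ (-(L' l o) • (Pi.single i0 s' + Pi.single i (μ i0 * s'))) = 0 := by
        rw [single_one_dot, Pi.smul_apply, Pi.add_apply, Pi.single_eq_of_ne hi0l.symm,
          Pi.single_eq_of_ne hil.symm, add_zero, smul_zero]
      rw [tv_mul_tv _ _ _ hzero] at h3
      have hfin : (Pi.single i0 (L' l o * s') + -(L' l o) • (Pi.single i0 s' + Pi.single i (μ i0 * s'))
          : Fin (m + 3) → F) = Pi.single i c := by
        have hμ0 := hμ i0
        ext j
        simp only [Pi.add_apply, Pi.smul_apply, smul_eq_mul, Pi.single_apply]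
        by_cases hj0 : j = i0
        · subst hj0
          simp [hi0i]
        · by_cases hji : j = i
          · subst hji
            simp [hj0, hs']; field_simp
          · simp [hj0, hji]
      rw [hfin] at h3
      exact h3
  exact main i.val i rfl hi c

/-- step (e0): the full transvection group with covector `e_last` lies in `H` -/
theorem D_last (hS : ∀ c : F, InH H (tv (Pi.single (0 : Fin (m + 3)) c) (Pi.single (Fin.last (m + 2)) 1)))
    (a : Fin (m + 3) → F) (ha : a (Fin.last (m + 2)) = 0) :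
    InH H (tv a (Pi.single (Fin.last (m + 2)) 1)) := by
  set l : Fin (m + 3) := Fin.last (m + 2) with hl
  have hR := R_all μ hμ H L' hLL' hJ hL hS
  have hsum : ∑ i, (Pi.single i (a i) : Fin (m + 3) → F) = a := Finset.univ_sum_single a
  have key : (∑ i ∈ (Finset.univ : Finset (Fin (m + 3))), (Pi.single i (a i) : Fin (m + 3) → F)) l = 0 ∧
      InH H (tv (∑ i ∈ (Finset.univ : Finset (Fin (m + 3))), (Pi.single i (a i) : Fin (m + 3) → F))
        (Pi.single l 1)) := by
    refine Finset.sum_induction (fun i => (Pi.single i (a i) : Fin (m + 3) → F))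
      (fun v => v l = 0 ∧ InH H (tv v (Pi.single l 1))) ?_ ?_ ?_
    · rintro v w ⟨hv, hv'⟩ ⟨hw, hw'⟩
      refine ⟨by rw [Pi.add_apply, hv, hw, add_zero], ?_⟩
      rw [← tv_mul_tv _ _ _ (by rw [single_one_dot, hw])]
      exact hv'.mul hw'
    · exact ⟨rfl, by rw [tv_zero]; exact InH.one H⟩
    · intro i _
      by_cases hil : i = l
      · subst hil
        rw [ha, Pi.single_zero]
        exact ⟨rfl, by rw [tv_zero]; exact InH.one H⟩
      · exact ⟨Pi.single_eq_of_ne (Ne.symm hil) _, hR i hil (a i)⟩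
  rw [hsum] at key
  exact key.2

/-- step (e): the full transvection group with covector `e_j` lies in `H`, for every `j` -/
theorem D_all (hS : ∀ c : F, InH H (tv (Pi.single (0 : Fin (m + 3)) c) (Pi.single (Fin.last (m + 2)) 1)))
    (j : Fin (m + 3)) (a : Fin (m + 3) → F) (ha : a j = 0) : InH H (tv a (Pi.single j 1)) := by
  have hL'L : L' * Lmat (m + 3) μ = 1 := mul_eq_one_comm.mp hLL'
  have hL' : InH H L' := hL.of_mul_eq_one hLL'
  have main : ∀ k : ℕ, ∀ j : Fin (m + 3), j.val + k = m + 2 → ∀ a : Fin (m + 3) → F, a j = 0 →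
      InH H (tv a (Pi.single j 1)) := by
    intro k
    induction k with
    | zero =>
      intro j hj a ha
      have : j = Fin.last (m + 2) := Fin.ext (by simpa using hj)
      subst this
      exact D_last μ hμ H L' hLL' hJ hL hS a ha
    | succ k ih =>
      intro j hj a ha
      have hj'n : j.val + 1 < m + 3 := by omega
      set j' : Fin (m + 3) := ⟨j.val + 1, hj'n⟩ with hj'
      have hjj' : j ≠ j' := by intro h; have := congrArg Fin.val h; simp [hj'] at this
      have ihD := ih j' (by simp [hj']; omega)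
      have hμj := hμ j
      set δ : Fin (m + 3) → F := Pi.single j' 1 + Pi.single j (1 * μ j) with hδ
      have hrow : Pi.single j' (1 : F) ᵥ* Lmat (m + 3) μ = δ := single_vecMul_Lmat μ j j' rfl 1
      -- (i) the transvection group with covector δ
      have hPδ : ∀ b : Fin (m + 3) → F, δ ⬝ᵥ b = 0 → InH H (tv b δ) := by
        intro b hb
        have h0 : (Lmat (m + 3) μ *ᵥ b) j' = 0 := by
          rw [← single_one_dot j' (Lmat (m + 3) μ *ᵥ b), Matrix.dotProduct_mulVec, hrow, hb]
        have h1 := ihD (Lmat (m + 3) μ *ᵥ b) h0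
        have h2 := hL'.conj hL'L h1
        rwa [Matrix.mulVec_mulVec, hL'L, Matrix.one_mulVec, hrow] at h2
      -- (ii) move δ to μ_j e_j
      set w : Fin (m + 3) → F := Pi.single j (μ j)⁻¹ with hw
      have hwj' : w j' = 0 := Pi.single_eq_of_ne (Ne.symm hjj') _
      have hwj : w j = (μ j)⁻¹ := Pi.single_eq_same _ _
      have hj'w : Pi.single j' (1 : F) ⬝ᵥ w = 0 := by rw [single_one_dot, hwj']
      have hg' : InH H (tv w (Pi.single j' 1)) := ihD w hwj'
      have hgg : tv w (Pi.single j' (1 : F)) * tv (-w) (Pi.single j' 1) = 1 := tv_mul_tv_neg _ _ hj'w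
      have hδw : δ ⬝ᵥ w = 1 := by
        rw [hδ, add_dotProduct, single_one_dot, hwj', single_dotProduct, hwj, one_mul, zero_add,
          mul_inv_cancel₀ hμj]
      have hδtv : δ ᵥ* tv (-w) (Pi.single j' 1) = Pi.single j (μ j) := by
        rw [vecMul_tv, dotProduct_neg, hδw, hδ, one_mul]
        ext i
        simp only [Pi.add_apply, Pi.smul_apply, smul_eq_mul]
        ring
      have hstep : ∀ b : Fin (m + 3) → F, b j = 0 → InH H (tv b (Pi.single j (μ j))) := by
        intro b hb
        set b' : Fin (m + 3) → F := tv (-w) (Pi.single j' 1) *ᵥ b with hb'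
        have hb'eq : b' = b + (b j') • (-w) := by rw [hb', tv_mulVec, single_one_dot]
        have hδb' : δ ⬝ᵥ b' = 0 := by
          rw [hb'eq, hδ, add_dotProduct, single_one_dot, single_dotProduct]
          simp only [Pi.add_apply, Pi.smul_apply, Pi.neg_apply, smul_eq_mul, hwj', hwj, hb]
          field_simp
          ring
        have h3 := hPδ b' hδb'
        have h4 := hg'.conj hgg h3
        rwa [hδtv, hb', Matrix.mulVec_mulVec, hgg, Matrix.one_mulVec] at h4
      -- (iii) rescale
      have h5 := hstep ((μ j)⁻¹ • a) (by rw [Pi.smul_apply, ha, smul_zero])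
      have hfin : tv ((μ j)⁻¹ • a) (Pi.single j (μ j)) = tv a (Pi.single j 1) := by
        unfold tv
        congr 1
        ext r c
        simp only [vecMulVec_apply, Pi.smul_apply, smul_eq_mul, Pi.single_apply]
        by_cases hc : c = j
        · simp [hc]; field_simp
        · simp [hc]
      rwa [hfin] at h5
  exact main (m + 2 - j.val) j (by have := j.isLt; omega) a ha

/-- the generation theorem -/
theorem eq_top_of_gens (t : F) (ht : ∀ c : F, c ≠ 0 → ∃ k : ℕ, c = t ^ (k + 1))
    (hZ : InH H ((Jmat (m + 3) : Matrix (Fin (m + 3)) (Fin (m + 3)) F) *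
      tv (Pi.single (0 : Fin (m + 3)) (t / (-(L' (Fin.last (m + 2)) 0) * μ 0)))
        (Pi.single (Fin.last (m + 2)) 1))) : H = ⊤ := by
  have hS := S_all μ hμ H L' hLL' hJ hL t ht hZ
  have hD := D_all μ hμ H L' hLL' hJ hL hS
  rw [eq_top_iff, ← Cfsg.Agent.Lib.Helper5.closure_transvection_eq_top, Subgroup.closure_le]
  rintro g ⟨i, j, hij, c, rfl⟩
  apply InH.mem
  rw [SpecialLinearGroup.transvection_coe, one_add_single_eq_tv]
  exact hD j _ (Pi.single_eq_of_ne (Ne.symm hij) _)

end main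

end Cfsg.Agent.Lib.Helper39.JordanGen
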