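import Mathlib
import Cfsg.Prelude.Def_Blocks
import Cfsg.Agent.Lib.Helper16.LocalRing
import Cfsg.Agent.Lib.Helper78.CharOrtho
import Cfsg.Agent.Lib.Helper79.Schur

set_option autoImplicit false
set_option linter.style.haveILetI false

/-!
# Small arithmetic lemmas for blocks (helper39)

* `memLocalIdeal_sub_one_of_pow_eq_one`: a `p`-th root of unity is congruent to `1`
* `exists_central_scalar`, `irr_central_sign`: central elements act by scalars
* `memLocalRing_irr`
-/

namespace Cfsg.Agent.Lib.Helper39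

open Cfsg Cfsg.Agent.Lib.Helper16

/-- a `p`-th root of unity is congruent to `1` modulo a maximal ideal over `p` -/
theorem memLocalIdeal_sub_one_of_pow_eq_one {p : ℕ} {M : Ideal AlgInt} (hM : IsPModular p M)
    {ζ : ℂ} (hζ : ζ ^ p = 1) : MemLocalIdeal M (ζ - 1) := by
  have hpp : p.Prime := hM.1
  haveI hMp : M.IsPrime := hM.2.1.isPrime
  have hint : IsIntegral ℤ ζ := by
    refine ⟨Polynomial.X ^ p - 1, Polynomial.monic_X_pow_sub_C 1 hpp.ne_zero, ?_⟩
    simp [hζ]
  set z : AlgInt := ⟨ζ, hint⟩ with hz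
  have hzp : z ^ p = 1 := by
    apply Subtype.ext
    simp [hz, hζ]
  have hmem : z - 1 ∈ M := by
    apply hMp.mem_of_pow_mem p
    obtain ⟨r, hr⟩ := exists_add_pow_prime_eq hpp z (-1)
    rw [sub_eq_add_neg, hr, hzp]
    have h1 : (1 : AlgInt) + (-1) ^ p ∈ M := by
      rcases hpp.eq_two_or_odd' with h2 | hodd
      · subst h2
        have : (1 : AlgInt) + (-1) ^ 2 = ((2 : ℕ) : AlgInt) := by push_cast; ring
        rw [this]
        exact hM.2.2
      · rw [hodd.neg_one_pow]
        simp
    apply M.add_mem h1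
    rw [mul_assoc, mul_assoc]
    exact M.mul_mem_right _ hM.2.2
  have := memLocalIdeal_of_mem hMp.ne_top hmem
  simpa [hz] using this

section central

variable {G : Type*} [Group G] [Finite G] {V : Type*} [AddCommGroup V] [Module ℂ V]

omit [Finite G] in
/-- a central element acts on an irreducible representation by a scalar root of unity -/
theorem exists_central_scalar [FiniteDimensional ℂ V] (ρ : Representation ℂ G V)
    (hρ : ρ.IsIrreducible) (z : G) (hz : z ∈ Subgroup.center G) :
    ∃ c : ℂ, c ^ orderOf z = 1 ∧ ∀ g : G, ρ.character (z * g) = c * ρ.character g := by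
  haveI := Cfsg.Agent.Lib.Helper78.nontrivial_of_isIrreducible ρ hρ
  obtain ⟨c, hc⟩ := Cfsg.Agent.Lib.Helper78.exists_eq_smul_one_of_commute ρ hρ (ρ z)
    (fun k => by rw [← map_mul, ← map_mul, Subgroup.mem_center_iff.mp hz k])
  have hpow : c ^ orderOf z = 1 := by
    have h1 : ρ z ^ orderOf z = 1 := by
      rw [← map_pow, pow_orderOf_eq_one, map_one]
    rw [hc, smul_pow, one_pow] at h1
    obtain ⟨v, hv⟩ := exists_ne (0 : V)
    have h2 := LinearMap.congr_fun h1 v
    simp only [LinearMap.smul_apply, Module.End.one_apply] at h2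
    have h3 : (c ^ orderOf z - 1) • v = 0 := by
      rw [sub_smul, h2, one_smul, sub_self]
    rcases smul_eq_zero.mp h3 with h4 | h4
    · exact sub_eq_zero.mp h4
    · exact absurd h4 hv
  refine ⟨c, hpow, fun g => ?_⟩
  unfold Representation.character
  rw [map_mul, hc, smul_mul_assoc, one_mul, map_smul, smul_eq_mul]

/-- a central involution acts on an irreducible character by a sign -/
theorem irr_central_sign (χ : IrrCharacter G) (z : G) (hz : z ∈ Subgroup.center G)
    (hz2 : z * z = 1) :
    ∃ c : ℂ, (c = 1 ∨ c = -1) ∧ ∀ g : G, (χ : G → ℂ) (z * g) = c * (χ : G → ℂ) g := by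
  obtain ⟨n, ρ, hρ, hχ⟩ := χ.2
  obtain ⟨c, hc, hval⟩ := exists_central_scalar ρ hρ z hz
  have hc2 : c ^ 2 = 1 := by
    have hdvd : orderOf z ∣ 2 := orderOf_dvd_of_pow_eq_one (by rw [pow_two, hz2])
    obtain ⟨k, hk⟩ := hdvd
    rw [hk, pow_mul, hc, one_pow]
  refine ⟨c, ?_, fun g => ?_⟩
  · have : (c - 1) * (c + 1) = 0 := by linear_combination hc2
    rcases mul_eq_zero.mp this with h | h
    · left; linear_combination h
    · right; linear_combination h
  · rw [← hχ]; exact hval g

end central

/-- the values of irreducible characters are local integers -/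
theorem memLocalRing_irr {G : Type*} [Group G] [Finite G] {M : Ideal AlgInt} (hM : M ≠ ⊤)
    (χ : IrrCharacter G) (g : G) : MemLocalRing M ((χ : G → ℂ) g) :=
  memLocalRing_of_isIntegral hM (Cfsg.Agent.Lib.Helper79.isIntegral_irr χ g)

end Cfsg.Agent.Lib.Helper39
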