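/-
helper39 library: in a finite field `F` with `|F| ≠ 4`, an additive subgroup that is stable under
multiplication by `ζ³` (`ζ` a generator of `Fˣ`) and contains a nonzero element is all of `F`.
-/
import Mathlib

set_option autoImplicit false

namespace Cfsg.Agent.Lib.Helper39.FieldGen

variable {F : Type*} [Field F] [Fintype F]

/-- the subfield of multipliers of an additive subgroup of a finite field -/
noncomputable def stabSubfield (S : AddSubgroup F) : Subfield F where
  carrier := {r | ∀ x ∈ S, r * x ∈ S}
  mul_mem' := fun {a b} ha hb x hx => by rw [mul_assoc]; exact ha _ (hb _ hx)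
  one_mem' := fun x hx => by rwa [one_mul]
  add_mem' := fun {a b} ha hb x hx => by rw [add_mul]; exact S.add_mem (ha _ hx) (hb _ hx)
  zero_mem' := fun x _ => by rw [zero_mul]; exact S.zero_mem
  neg_mem' := fun {a} ha x hx => by rw [neg_mul]; exact S.neg_mem (ha _ hx)
  inv_mem' := by
    intro r hr
    by_cases h0 : r = 0
    · subst h0; rw [inv_zero]; intro x _; rw [zero_mul]; exact S.zero_mem
    · have hpow : ∀ k : ℕ, ∀ x ∈ S, r ^ k * x ∈ S := by
        intro k
        induction k with
        | zero => intro x hx; rwa [pow_zero, one_mul]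
        | succ k ih => intro x hx; rw [pow_succ, mul_assoc]; exact ih _ (hr _ hx)
      have hq : 2 ≤ Fintype.card F := Fintype.one_lt_card
      have h1 : r ^ (Fintype.card F - 1) = 1 := FiniteField.pow_card_sub_one_eq_one r h0
      have h2 : r ^ (Fintype.card F - 2) * r = 1 := by
        rw [← pow_succ]
        have : Fintype.card F - 2 + 1 = Fintype.card F - 1 := by omega
        rw [this, h1]
      have h3 : r⁻¹ = r ^ (Fintype.card F - 2) := (eq_inv_of_mul_eq_one_left h2).symm
      rw [h3]
      exact hpow _

theorem mem_stabSubfield {S : AddSubgroup F} {r : F} :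
    r ∈ stabSubfield S ↔ ∀ x ∈ S, r * x ∈ S := Iff.rfl

/-- the main lemma -/
theorem addSubgroup_eq_top (ζ : F) (hgen : ∀ y : F, y ≠ 0 → ∃ j : ℕ, y = ζ ^ j)
    (hq : Fintype.card F ≠ 4) (S : AddSubgroup F) (hS : ∀ x ∈ S, ζ ^ 3 * x ∈ S)
    (x₀ : F) (hx₀ : x₀ ∈ S) (hx₀' : x₀ ≠ 0) (y : F) : y ∈ S := by
  classical
  set K : Subfield F := stabSubfield S with hK
  have hρ : ζ ^ 3 ∈ K := hS
  -- every cube lies in `K`
  have hcube : ∀ z : F, z ^ 3 ∈ K := by
    intro z
    by_cases hz : z = 0
    · subst hz; rw [zero_pow (by norm_num)]; exact K.zero_mem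
    · obtain ⟨j, rfl⟩ := hgen z hz
      rw [← pow_mul, mul_comm, pow_mul]
      exact K.pow_mem hρ j
  set c := Fintype.card K with hc
  have hc2 : 2 ≤ c := Fintype.one_lt_card
  have hcard : Fintype.card F = c ^ Module.finrank K F := Module.card_eq_pow_finrank
  -- every nonzero element satisfies `z ^ (3 (c - 1)) = 1`
  have hroot : ∀ z : F, z ≠ 0 → z ^ (3 * (c - 1)) = 1 := by
    intro z hz
    have hz3 : (⟨z ^ 3, hcube z⟩ : K) ≠ 0 := by
      intro h
      have := congrArg Subtype.val h
      exact pow_ne_zero 3 hz this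
    have := FiniteField.pow_card_sub_one_eq_one (⟨z ^ 3, hcube z⟩ : K) hz3
    have h2 := congrArg Subtype.val this
    rw [pow_mul]
    simpa using h2
  -- hence `q - 1 ≤ 3 (c - 1)`
  have hle : Fintype.card F - 1 ≤ 3 * (c - 1) := by
    have hpos : 0 < 3 * (c - 1) := by omega
    have hsub : (Finset.univ.filter fun z : F => z ≠ 0) ⊆
        (Polynomial.nthRootsFinset (3 * (c - 1)) (1 : F)) := by
      intro z hz
      rw [Polynomial.mem_nthRootsFinset hpos]
      exact hroot z (Finset.mem_filter.mp hz).2
    have h1 := Finset.card_le_card hsub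
    have h2 : (Polynomial.nthRootsFinset (3 * (c - 1)) (1 : F)).card ≤ 3 * (c - 1) := by
      unfold Polynomial.nthRootsFinset
      exact (Multiset.toFinset_card_le _).trans (Polynomial.card_nthRoots _ _)
    have h3 : (Finset.univ.filter fun z : F => z ≠ 0).card = Fintype.card F - 1 := by
      rw [Finset.filter_ne' Finset.univ (0 : F), Finset.card_erase_of_mem (Finset.mem_univ _),
        Finset.card_univ]
    omega
  -- so the degree is one
  have hm : Module.finrank K F = 1 := by
    set m := Module.finrank K F with hm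
    rcases Nat.lt_or_ge m 2 with h | h
    · interval_cases m
      · exfalso
        rw [pow_zero] at hcard
        have : 2 ≤ Fintype.card F := Fintype.one_lt_card
        omega
      · rfl
    · exfalso
      have h1 : c ^ 2 ≤ c ^ m := Nat.pow_le_pow_right (by omega) h
      have h2 : c ^ 2 - 1 ≤ 3 * (c - 1) := by omega
      have hc3 : c ≤ 2 := by
        by_contra hcon
        have h3c : 3 ≤ c := by omega
        have h6 : 1 ≤ c ^ 2 := Nat.one_le_pow _ _ (by omega)
        have h7 : c ^ 2 + 2 ≤ 3 * c := by omega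
        have h8 : 3 * c ≤ c ^ 2 := by nlinarith
        omega
      have hc' : c = 2 := le_antisymm hc3 hc2
      rw [hc'] at hle hcard
      have h4 : Fintype.card F ≤ 4 := by omega
      have h5 : 2 ^ 2 ≤ 2 ^ m := Nat.pow_le_pow_right (by norm_num) h
      omega
  have hKtop : ∀ z : F, z ∈ K := by
    have hcc : Fintype.card K = Fintype.card F := by rw [hcard, hm, pow_one]
    have hbij : Function.Bijective (Subtype.val : K → F) :=
      (Fintype.bijective_iff_injective_and_card _).mpr ⟨Subtype.val_injective, hcc⟩
    intro z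
    obtain ⟨k, rfl⟩ := hbij.2 z
    exact k.2
  have := hKtop (y / x₀) x₀ hx₀
  rwa [div_mul_cancel₀ _ hx₀'] at this

end Cfsg.Agent.Lib.Helper39.FieldGen
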