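import Mathlib
import Cfsg.Prelude.Def_GeometricClasses
import Cfsg.Agent.Lib.Helper99.AschDefs

/-!
# ASCH-[C3]: a subgroup normalising a field `K ⊋ F·1` of matrices lies in a `C3` member
-/

set_option autoImplicit false

namespace Cfsg.Agent.Lib.Helper39.AschC3

open Module

/-- In a finite extension `L/F` of finite fields, for `r ∣ [L:F]`, the fixed points of `x ↦ x^(q^r)` form a
subalgebra of dimension `r`. -/
theorem exists_fixed_subalgebra {F L : Type*} [Field F] [Fintype F] [Field L] [Algebra F L]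
    [FiniteDimensional F L] (r : ℕ) (hr : r ∣ finrank F L) :
    ∃ E : Subalgebra F L, (∀ x, x ∈ E ↔ x ^ (Fintype.card F ^ r) = x) ∧ finrank F E = r := by
  classical
  have hs0 : 0 < finrank F L := finrank_pos
  have hr0 : 0 < r := Nat.pos_of_dvd_of_pos hr hs0
  have : Finite L := Module.finite_of_finite F
  let φ : L ≃ₐ[F] L := FiniteField.frobeniusAlgEquivOfAlgebraic F L
  have hφ : orderOf φ = finrank F L := FiniteField.orderOf_frobeniusAlgEquivOfAlgebraic F L
  let ψ : L ≃ₐ[F] L := φ ^ r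
  have hψ : ∀ x, ψ x = x ^ (Fintype.card F ^ r) := by
    intro x
    have h1 : ⇑(φ ^ r) = (⇑φ)^[r] := AlgEquiv.coe_pow φ r
    have h2 := FiniteField.coe_frobeniusAlgEquivOfAlgebraic_iterate F L r
    show (φ ^ r) x = _
    rw [h1, h2]
  let G : Subgroup (L ≃ₐ[F] L) := Subgroup.zpowers ψ
  let E₀ : IntermediateField F L := IntermediateField.fixedField G
  have hmem : ∀ x, x ∈ E₀ ↔ x ^ (Fintype.card F ^ r) = x := by
    intro x
    rw [IntermediateField.mem_fixedField_iff]
    constructor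
    · intro h
      rw [← hψ]
      exact h ψ (Subgroup.mem_zpowers ψ)
    · intro h f hf
      obtain ⟨k, rfl⟩ := Subgroup.mem_zpowers_iff.mp hf
      have hfix : ψ x = x := by rw [hψ, h]
      have : ∀ m : ℕ, (ψ ^ m) x = x := by
        intro m
        induction m with
        | zero => simp
        | succ m ih => rw [pow_succ, AlgEquiv.mul_apply, hfix, ih]
      rcases Int.eq_nat_or_neg k with ⟨m, rfl | rfl⟩
      · rw [zpow_natCast]; exact this m
      · rw [zpow_neg, zpow_natCast]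
        have h3 := this m
        calc (ψ ^ m)⁻¹ x = (ψ ^ m)⁻¹ ((ψ ^ m) x) := by rw [h3]
          _ = x := by
            rw [← AlgEquiv.mul_apply, inv_mul_cancel, AlgEquiv.one_apply]
  have hcardG : Nat.card G = finrank F L / r := by
    rw [Nat.card_zpowers, orderOf_pow, hφ, Nat.gcd_eq_right hr]
  have h1 : finrank E₀ L = finrank F L / r := by
    rw [IntermediateField.finrank_fixedField_eq_card, hcardG]
  have h2 : finrank F E₀ * finrank E₀ L = finrank F L := Module.finrank_mul_finrank F E₀ L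
  have h3 : finrank F E₀ = r := by
    obtain ⟨t, ht⟩ := hr
    rw [h1, ht, Nat.mul_div_cancel_left t hr0] at h2
    have ht0 : 0 < t := by
      rcases Nat.eq_zero_or_pos t with h0 | h0
      · rw [h0, mul_zero] at ht; omega
      · exact h0
    exact Nat.eq_of_mul_eq_mul_right ht0 h2
  exact ⟨E₀.toSubalgebra, hmem, h3⟩

/-- The same for a ring that is a field. -/
theorem exists_fixed_subalgebra_of_isField {F L : Type*} [Field F] [Fintype F] [Ring L] [Algebra F L]
    (hL : IsField L) [Module.Finite F L] (r : ℕ) (hr : r ∣ finrank F L) :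
    ∃ E : Subalgebra F L, (∀ x, x ∈ E ↔ x ^ (Fintype.card F ^ r) = x) ∧ finrank F E = r := by
  let _i : Field L := hL.toField
  exact exists_fixed_subalgebra r hr

/-- Conjugation commutes with powers. -/
theorem conj_pow_matrix {n : ℕ} {F : Type*} [Field F] (h : GL (Fin n) F) (k : Matrix (Fin n) (Fin n) F) (N : ℕ) :
    ((h : Matrix (Fin n) (Fin n) F) * k * ((h⁻¹ : GL (Fin n) F) : Matrix (Fin n) (Fin n) F)) ^ N =
      (h : Matrix (Fin n) (Fin n) F) * k ^ N * ((h⁻¹ : GL (Fin n) F) : Matrix (Fin n) (Fin n) F) :=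
  Units.conj_pow h k N

end Cfsg.Agent.Lib.Helper39.AschC3

namespace Cfsg.Agent.Lib.Helper99.Asch

open Cfsg Cfsg.Geo Module
open scoped MatrixGroups Matrix

variable {n : ℕ} {F : Type*} [Field F] [Fintype F]

theorem geo_of_normalized_field (H : Subgroup (GL (Fin n) F))
    (K : Subalgebra F (Matrix (Fin n) (Fin n) F))
    (hcomm : ∀ x ∈ K, ∀ y ∈ K, x * y = y * x)
    (hinv : ∀ x ∈ K, x ≠ 0 → ∃ y ∈ K, x * y = 1)
    (hbig : ∃ x ∈ K, ∀ c : F, x ≠ c • (1 : Matrix (Fin n) (Fin n) F))
    (hnorm : ∀ h ∈ H, ∀ k ∈ K,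
      (h : Matrix (Fin n) (Fin n) F) * k * ((h⁻¹ : GL (Fin n) F) : Matrix (Fin n) (Fin n) F) ∈ K) :
    Geo H := by
  classical
  -- the matrix ring is nontrivial
  have hnt : Nontrivial (Matrix (Fin n) (Fin n) F) := by
    by_contra hnt
    rw [not_nontrivial_iff_subsingleton] at hnt
    obtain ⟨x, -, hx⟩ := hbig
    exact hx 0 (Subsingleton.elim _ _)
  -- `K` is a field
  have hKfield : IsField K := by
    refine ⟨⟨0, 1, ?_⟩, ?_, ?_⟩
    · intro h01
      have := congrArg (Subtype.val) h01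
      exact zero_ne_one this
    · intro x y
      exact Subtype.ext (hcomm x x.2 y y.2)
    · intro a ha
      have ha' : (a : Matrix (Fin n) (Fin n) F) ≠ 0 := fun h0 => ha (Subtype.ext h0)
      obtain ⟨y, hyK, hy⟩ := hinv a a.2 ha'
      exact ⟨⟨y, hyK⟩, Subtype.ext hy⟩
  -- the degree
  have hs1 : finrank F K ≠ 1 := by
    intro h1
    rw [Subalgebra.finrank_eq_one_iff] at h1
    obtain ⟨x, hxK, hx⟩ := hbig
    rw [h1, Algebra.mem_bot] at hxK
    obtain ⟨c, rfl⟩ := hxK
    exact hx c (by rw [Algebra.algebraMap_eq_smul_one])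
  obtain ⟨r, hrp, hrs⟩ := Nat.exists_prime_and_dvd hs1
  obtain ⟨E, hEmem, hEr⟩ := Cfsg.Agent.Lib.Helper39.AschC3.exists_fixed_subalgebra_of_isField hKfield r hrs
  set N : ℕ := Fintype.card F ^ r with hN
  set Kr : Subalgebra F (Matrix (Fin n) (Fin n) F) := E.map K.val with hKr
  have hKrmem : ∀ y, y ∈ Kr ↔ y ∈ K ∧ y ^ N = y := by
    intro y
    rw [hKr, Subalgebra.mem_map]
    constructor
    · rintro ⟨x, hxE, rfl⟩
      refine ⟨x.2, ?_⟩
      have := (hEmem x).mp hxE
      have h2 := congrArg (Subtype.val) this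
      simpa using h2
    · rintro ⟨hyK, hy⟩
      refine ⟨⟨y, hyK⟩, ?_, rfl⟩
      rw [hEmem]
      exact Subtype.ext (by simpa using hy)
  have hfield : IsFieldSubalgebra r Kr := by
    refine ⟨?_, ?_, ?_⟩
    · intro x hx y hy
      exact hcomm x ((hKrmem x).mp hx).1 y ((hKrmem y).mp hy).1
    · intro x hx hx0
      obtain ⟨hxK, hxN⟩ := (hKrmem x).mp hx
      obtain ⟨y, hyK, hxy⟩ := hinv x hxK hx0
      refine ⟨y, (hKrmem y).mpr ⟨hyK, ?_⟩, hxy⟩
      have hc : Commute x y := hcomm x hxK y hyK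
      have h1 : x * y ^ N = 1 := by
        have := hc.mul_pow N
        rw [hxy, one_pow, hxN] at this
        exact this.symm
      have hyx : y * x = 1 := by rw [← hc.eq]; exact hxy
      calc y ^ N = (y * x) * y ^ N := by rw [hyx, one_mul]
        _ = y * (x * y ^ N) := by rw [mul_assoc]
        _ = y := by rw [h1, mul_one]
    · have e : E ≃ₐ[F] Kr := E.equivMapOfInjective K.val Subtype.val_injective
      rw [← hEr]
      exact (e.toLinearEquiv.finrank_eq).symm
  refine ⟨subalgebraNormalizer Kr, ?_, ?_⟩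
  · right; right; right; right; left
    exact ⟨r, Kr, hrp, hfield, rfl⟩
  · intro h hh
    show ∀ k : Matrix (Fin n) (Fin n) F, k ∈ Kr ↔ _
    intro k
    constructor
    · intro hk
      obtain ⟨hkK, hkN⟩ := (hKrmem k).mp hk
      refine (hKrmem _).mpr ⟨hnorm h hh k hkK, ?_⟩
      rw [Cfsg.Agent.Lib.Helper39.AschC3.conj_pow_matrix, hkN]
    · intro hk
      obtain ⟨hkK, hkN⟩ := (hKrmem _).mp hk
      have hback : ∀ m : Matrix (Fin n) (Fin n) F,
          ((h⁻¹ : GL (Fin n) F) : Matrix (Fin n) (Fin n) F) *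
            ((h : Matrix (Fin n) (Fin n) F) * m * ((h⁻¹ : GL (Fin n) F) : Matrix (Fin n) (Fin n) F)) *
            (((h⁻¹)⁻¹ : GL (Fin n) F) : Matrix (Fin n) (Fin n) F) = m := by
        intro m
        rw [inv_inv]
        have h1 : ((h⁻¹ : GL (Fin n) F) : Matrix (Fin n) (Fin n) F) * (h : Matrix (Fin n) (Fin n) F) = 1 := by
          rw [← Units.val_mul, inv_mul_cancel, Units.val_one]
        calc _ = (((h⁻¹ : GL (Fin n) F) : Matrix (Fin n) (Fin n) F) * (h : Matrix (Fin n) (Fin n) F)) * m *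
              (((h⁻¹ : GL (Fin n) F) : Matrix (Fin n) (Fin n) F) * (h : Matrix (Fin n) (Fin n) F)) := by
              simp only [mul_assoc]
          _ = m := by rw [h1, one_mul, mul_one]
      have hkK' := hnorm h⁻¹ (H.inv_mem hh) _ hkK
      rw [hback] at hkK'
      refine (hKrmem k).mpr ⟨hkK', ?_⟩
      rw [Cfsg.Agent.Lib.Helper39.AschC3.conj_pow_matrix] at hkN
      have := congrArg (fun m => ((h⁻¹ : GL (Fin n) F) : Matrix (Fin n) (Fin n) F) * m *
            (((h⁻¹)⁻¹ : GL (Fin n) F) : Matrix (Fin n) (Fin n) F)) hkN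
      simp only [hback] at this
      exact this

end Cfsg.Agent.Lib.Helper99.Asch
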