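import Mathlib
import Cfsg.Prelude.Def_HallClasses
import Cfsg.Agent.Lib.Helper54.Coprime

set_option autoImplicit false

/-!
HALL MODULE [CONJ-FIN] (board #3320, for S4310/S1908): Hall π-subgroups `H`, `K` with
`K ⊔ A = H ⊔ A` and `K ⊓ A = H ⊓ A` (`A` normal) are conjugate, given Feit–Thompson as a hypothesis.
-/

universe u

namespace Cfsg.Agent.Lib.Helper39.HallConjFin

open Pointwise

section general
variable {G : Type u} [Group G]

/-- order of the image in the quotient by a normal subgroup contained in `S` -/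
theorem card_map_mk_mul [Finite G] (D : Subgroup G) [D.Normal] (S : Subgroup G) (hDS : D ≤ S) :
    Nat.card (S.map (QuotientGroup.mk' D)) * Nat.card D = Nat.card S := by
  have h1 : (S.map (QuotientGroup.mk' D)).index = S.index :=
    Subgroup.index_map_eq S (QuotientGroup.mk'_surjective D)
      (by rw [QuotientGroup.ker_mk']; exact hDS)
  have h2 := (S.map (QuotientGroup.mk' D)).card_mul_index
  have h3 := S.card_mul_index
  have h4 := Subgroup.card_eq_card_quotient_mul_card_subgroup D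
  rw [h1] at h2
  have hidx : 0 < S.index := Nat.pos_of_ne_zero Subgroup.index_ne_zero_of_finite
  have h5 : Nat.card (S.map (QuotientGroup.mk' D)) * Nat.card D * S.index =
      Nat.card S * S.index := by
    rw [h3, h4, ← h2]; ring
  exact Nat.eq_of_mul_eq_mul_right hidx h5

/-- product formula for `H ⊔ X` with `X` normal and `H ⊓ X = ⊥` -/
theorem card_sup_of_inf_eq_bot [Finite G] (H X : Subgroup G) [X.Normal] (h : H ⊓ X = ⊥) :
    Nat.card (H ⊔ X : Subgroup G) = Nat.card X * Nat.card H := by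
  have h1 : X.relIndex (H ⊔ X) = X.relIndex H := Subgroup.relIndex_sup_right H X
  have h2 : (⊥ : Subgroup G).relIndex X * X.relIndex (H ⊔ X) = (⊥ : Subgroup G).relIndex (H ⊔ X) :=
    Subgroup.relIndex_mul_relIndex ⊥ X (H ⊔ X) bot_le le_sup_right
  have h3 : X.relIndex H = Nat.card H := by
    rw [← Subgroup.inf_relIndex_left, h, Subgroup.relIndex_bot_left]
  rw [Subgroup.relIndex_bot_left, Subgroup.relIndex_bot_left, h1, h3] at h2
  exact h2.symm

theorem map_conj_smul {G' : Type*} [Group G'] (φ : G →* G') (n : G) (H : Subgroup G) :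
    (MulAut.conj n • H).map φ = MulAut.conj (φ n) • H.map φ := by
  ext y
  constructor
  · rintro ⟨x, hx, rfl⟩
    have hx : x ∈ MulAut.conj n • H := hx
    rw [Cfsg.Agent.Lib.Helper54.mem_conj_smul_iff] at hx ⊢
    refine ⟨n⁻¹ * x * n, hx, ?_⟩
    simp
  · intro hy
    rw [Cfsg.Agent.Lib.Helper54.mem_conj_smul_iff] at hy
    obtain ⟨x, hx, hxy⟩ := hy
    refine ⟨n * x * n⁻¹, Cfsg.Agent.Lib.Helper54.conj_mem_conj_smul hx, ?_⟩
    rw [map_mul, map_mul, hxy, map_inv]
    group

/-- Lemma A: `X` normal, `H`, `K` of equal order coprime to `|X|` with `K ⊔ X = H ⊔ X`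
are conjugate under `X` (Feit–Thompson as a hypothesis). -/
theorem conj_of_coprime [Finite G]
    (FT : ∀ (Y : Type u) [Group Y] [Finite Y], Odd (Nat.card Y) → Group.IsSolvable Y)
    (X H K : Subgroup G) [X.Normal] (hcard : Nat.card K = Nat.card H)
    (hcop : (Nat.card X).Coprime (Nat.card H)) (hsup : K ⊔ X = H ⊔ X) :
    ∃ x ∈ X, MulAut.conj x • H = K := by
  have hinf : H ⊓ X = ⊥ := by
    rw [inf_comm]
    exact (Subgroup.disjoint_of_coprime_natCard hcop).eq_bot
  have hM : Nat.card (H ⊔ X : Subgroup G) = Nat.card X * Nat.card H :=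
    card_sup_of_inf_eq_bot H X hinf
  have hsolv : Group.IsSolvable H ∨ Group.IsSolvable X := by
    rcases Nat.even_or_odd (Nat.card X) with hX | hX
    · left
      apply FT
      rcases Nat.even_or_odd (Nat.card H) with hH | hH
      · exfalso
        have h2 : 2 ∣ Nat.gcd (Nat.card X) (Nat.card H) :=
          Nat.dvd_gcd hX.two_dvd hH.two_dvd
        rw [hcop] at h2
        omega
      · exact hH
    · right
      exact FT _ hX
  apply Cfsg.Agent.Lib.Helper54.sz_conj_rel (H ⊔ X) X H K le_sup_right ?_ le_sup_left ?_ hM.symm hcard hcop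
    hsolv
  · intro g _
    rw [Subgroup.normalizer_eq_top]
    exact Subgroup.mem_top g
  · rw [← hsup]
    exact le_sup_left

/-- Lemma B: quotient version. -/
theorem conj_of_coprime_quot [Finite G]
    (FT : ∀ (Y : Type u) [Group Y] [Finite Y], Odd (Nat.card Y) → Group.IsSolvable Y)
    (D X H K : Subgroup G) [D.Normal] [X.Normal] (hDX : D ≤ X) (hDH : D ≤ H) (hDK : D ≤ K)
    (hcard : Nat.card K = Nat.card H) (x h : ℕ) (hx : Nat.card X = x * Nat.card D)
    (hh : Nat.card H = h * Nat.card D) (hcop : x.Coprime h) (hsup : K ⊔ X = H ⊔ X) :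
    ∃ n : G, MulAut.conj n • H = K := by
  have hD0 : 0 < Nat.card D := Nat.card_pos
  set φ := QuotientGroup.mk' D with hφ
  have hφs : Function.Surjective φ := QuotientGroup.mk'_surjective D
  have hker : φ.ker = D := QuotientGroup.ker_mk' D
  have : (X.map φ).Normal := Subgroup.Normal.map inferInstance φ hφs
  have cX : Nat.card (X.map φ) = x :=
    Nat.eq_of_mul_eq_mul_right hD0 ((card_map_mk_mul D X hDX).trans hx)
  have cH : Nat.card (H.map φ) = h :=
    Nat.eq_of_mul_eq_mul_right hD0 ((card_map_mk_mul D H hDH).trans hh)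
  have cK : Nat.card (K.map φ) = h :=
    Nat.eq_of_mul_eq_mul_right hD0 ((card_map_mk_mul D K hDK).trans (hcard.trans hh))
  have hsup' : K.map φ ⊔ X.map φ = H.map φ ⊔ X.map φ := by
    rw [← Subgroup.map_sup, ← Subgroup.map_sup, hsup]
  obtain ⟨l, hl, hconj⟩ := conj_of_coprime FT (X.map φ) (H.map φ) (K.map φ) (by rw [cK, cH])
    (by rw [cX, cH]; exact hcop) hsup'
  obtain ⟨n, -, rfl⟩ := hl
  refine ⟨n, ?_⟩
  rw [← map_conj_smul] at hconj
  have h1 := (Subgroup.map_eq_map_iff).1 hconj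
  have hDn : φ.ker ≤ MulAut.conj n • H := by
    rw [hker]
    intro d hd
    rw [Cfsg.Agent.Lib.Helper54.mem_conj_smul_iff]
    apply hDH
    have := (inferInstance : D.Normal).conj_mem d hd n⁻¹
    simpa using this
  rw [sup_of_le_left hDn, sup_of_le_left (by rw [hker]; exact hDK)] at h1
  exact h1

/-- general product formula for `H ⊔ X`, `X` normal -/
theorem card_sup_mul_card_inf [Finite G] (H X : Subgroup G) [X.Normal] :
    Nat.card (H ⊔ X : Subgroup G) * Nat.card (H ⊓ X : Subgroup G) = Nat.card X * Nat.card H := by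
  have h1 : X.relIndex (H ⊔ X) = X.relIndex H := Subgroup.relIndex_sup_right H X
  have h2 : (⊥ : Subgroup G).relIndex X * X.relIndex (H ⊔ X) = (⊥ : Subgroup G).relIndex (H ⊔ X) :=
    Subgroup.relIndex_mul_relIndex ⊥ X (H ⊔ X) bot_le le_sup_right
  have h3 : (⊥ : Subgroup G).relIndex (H ⊓ X) * (H ⊓ X).relIndex H = (⊥ : Subgroup G).relIndex H :=
    Subgroup.relIndex_mul_relIndex ⊥ (H ⊓ X) H bot_le inf_le_left
  rw [Subgroup.inf_relIndex_left] at h3
  rw [Subgroup.relIndex_bot_left, Subgroup.relIndex_bot_left, h1] at h2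
  rw [Subgroup.relIndex_bot_left, Subgroup.relIndex_bot_left] at h3
  rw [← h2, ← h3]
  ring

theorem le_normalizer_inf_normal (S A : Subgroup G) [hA : A.Normal] :
    S ≤ Subgroup.normalizer ((S ⊓ A : Subgroup G) : Set G) := by
  intro s hs
  rw [Subgroup.mem_normalizer_iff]
  intro d
  constructor
  · rintro ⟨hd1, hd2⟩
    exact ⟨S.mul_mem (S.mul_mem hs hd1) (S.inv_mem hs), hA.conj_mem d hd2 s⟩
  · rintro ⟨h1, h2⟩
    have e : d = s⁻¹ * (s * d * s⁻¹) * s⁻¹⁻¹ := by group
    rw [e]
    exact ⟨S.mul_mem (S.mul_mem (S.inv_mem hs) h1) (S.inv_mem (S.inv_mem hs)),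
      hA.conj_mem _ h2 s⁻¹⟩

theorem subgroupOf_sup_normal (S A N : Subgroup G) [A.Normal] (hSN : S ≤ N) :
    S.subgroupOf N ⊔ A.subgroupOf N = (S ⊔ A).subgroupOf N := by
  apply le_antisymm
  · exact sup_le (Subgroup.subgroupOf_mono N le_sup_left) (Subgroup.subgroupOf_mono N le_sup_right)
  · intro y hy
    rw [Subgroup.mem_subgroupOf] at hy
    have hy' : (y : G) ∈ ((S ⊔ A : Subgroup G) : Set G) := hy
    rw [Subgroup.mul_normal] at hy'
    obtain ⟨s, hs, a, ha, hsa⟩ := hy'
    have hsN : s ∈ N := hSN hs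
    have haN : a ∈ N := by
      have : a = s⁻¹ * (y : G) := by rw [← hsa]; group
      rw [this]
      exact N.mul_mem (N.inv_mem hsN) y.2
    have e : y = (⟨s, hsN⟩ : N) * ⟨a, haN⟩ := Subtype.ext hsa.symm
    rw [e]
    exact Subgroup.mul_mem_sup (Subgroup.mem_subgroupOf.2 hs) (Subgroup.mem_subgroupOf.2 ha)

/-- two Hall `π`-subgroups have the same order -/
theorem card_eq_of_isPiHall [Finite G] (π : Set ℕ) {H K : Subgroup G} (hH : Cfsg.IsPiHall π H)
    (hK : Cfsg.IsPiHall π K) : Nat.card K = Nat.card H := by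
  have key : ∀ {H K : Subgroup G}, Cfsg.IsPiHall π H → Cfsg.IsPiHall π K →
      Nat.card K ∣ Nat.card H := by
    intro H K hH hK
    have hcop : (Nat.card K).Coprime H.index := by
      apply Nat.coprime_of_dvd
      intro p hp h1 h2
      exact hH.2 p hp (hK.1 p hp h1) h2
    have h1 : Nat.card K ∣ Nat.card H * H.index := by
      rw [H.card_mul_index]
      exact Subgroup.card_subgroup_dvd_card K
    exact hcop.dvd_of_dvd_mul_right h1
  exact Nat.dvd_antisymm (key hH hK) (key hK hH)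

/-- **HALL MODULE [CONJ-FIN]** (board #3320). -/
theorem conj_of_sup_eq_of_inf_eq [Finite G]
    (FT : ∀ (X : Type u) [Group X] [Finite X], Odd (Nat.card X) → Group.IsSolvable X)
    (π : Set ℕ) (A : Subgroup G) [A.Normal] {H K : Subgroup G} (hH : Cfsg.IsPiHall π H)
    (hK : Cfsg.IsPiHall π K) (hsup : K ⊔ A = H ⊔ A) (hinf : K ⊓ A = H ⊓ A) :
    ∃ g : G, K = H.map (MulAut.conj g).toMonoidHom := by
  classical
  set D : Subgroup G := H ⊓ A with hD
  set N : Subgroup G := Subgroup.normalizer (D : Set G) with hN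
  have hHN : H ≤ N := le_normalizer_inf_normal H A
  have hKN : K ≤ N := by
    have := le_normalizer_inf_normal K A
    rwa [hinf] at this
  have hDN : D ≤ N := Subgroup.le_normalizer
  have hDH : D ≤ H := inf_le_left
  have hDK : D ≤ K := by rw [← hinf]; exact inf_le_left
  have hDA : D ≤ A := inf_le_right
  have hcardHK : Nat.card K = Nat.card H := card_eq_of_isPiHall π hH hK
  -- subgroups of `N`
  have hnD : (D.subgroupOf N).Normal := Subgroup.normal_in_normalizer
  have cD : Nat.card (D.subgroupOf N) = Nat.card D :=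
    Nat.card_congr (Subgroup.subgroupOfEquivOfLe hDN).toEquiv
  have cH : Nat.card (H.subgroupOf N) = Nat.card H :=
    Nat.card_congr (Subgroup.subgroupOfEquivOfLe hHN).toEquiv
  have cK : Nat.card (K.subgroupOf N) = Nat.card K :=
    Nat.card_congr (Subgroup.subgroupOfEquivOfLe hKN).toEquiv
  have hDX' : D.subgroupOf N ≤ A.subgroupOf N := Subgroup.subgroupOf_mono N hDA
  have hDH' : D.subgroupOf N ≤ H.subgroupOf N := Subgroup.subgroupOf_mono N hDH
  have hDK' : D.subgroupOf N ≤ K.subgroupOf N := Subgroup.subgroupOf_mono N hDK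
  have hsup' : K.subgroupOf N ⊔ A.subgroupOf N = H.subgroupOf N ⊔ A.subgroupOf N := by
    rw [subgroupOf_sup_normal K A N hKN, subgroupOf_sup_normal H A N hHN, hsup]
  have hinf' : H.subgroupOf N ⊓ A.subgroupOf N = D.subgroupOf N := by
    rw [hD]
    ext y
    simp [Subgroup.mem_subgroupOf]
  obtain ⟨x, hx⟩ : ∃ x, Nat.card (A.subgroupOf N) = x * Nat.card (D.subgroupOf N) :=
    ⟨_, (Nat.div_mul_cancel (Subgroup.card_dvd_of_le hDX')).symm⟩
  obtain ⟨h, hh⟩ : ∃ h, Nat.card (H.subgroupOf N) = h * Nat.card (D.subgroupOf N) :=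
    ⟨_, (Nat.div_mul_cancel (Subgroup.card_dvd_of_le hDH')).symm⟩
  have hD0 : 0 < Nat.card (D.subgroupOf N) := Nat.card_pos
  have hH0 : 0 < Nat.card H := Nat.card_pos
  -- `x` divides the index of `H`
  have hxidx : x ∣ H.index := by
    have h1 := card_sup_mul_card_inf (H.subgroupOf N) (A.subgroupOf N)
    rw [hinf', hx, cH] at h1
    have h2 : Nat.card (H.subgroupOf N ⊔ A.subgroupOf N : Subgroup N) = x * Nat.card H := by
      apply Nat.eq_of_mul_eq_mul_right hD0
      rw [h1]; ring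
    have h3 : Nat.card (H.subgroupOf N ⊔ A.subgroupOf N : Subgroup N) ∣ Nat.card G :=
      (Subgroup.card_subgroup_dvd_card _).trans (Subgroup.card_subgroup_dvd_card N)
    rw [h2, ← H.card_mul_index, mul_comm] at h3
    exact Nat.dvd_of_mul_dvd_mul_left hH0 h3
  have hcop : x.Coprime h := by
    apply Nat.coprime_of_dvd
    intro p hp h1 h2
    have h3 : p ∣ Nat.card H := by
      rw [← cH, hh]
      exact h2.mul_right _
    exact hH.2 p hp (hH.1 p hp h3) (h1.trans hxidx)
  obtain ⟨n, hn⟩ := conj_of_coprime_quot FT (D.subgroupOf N) (A.subgroupOf N) (H.subgroupOf N)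
    (K.subgroupOf N) hDX' hDH' hDK' (by rw [cK, cH, hcardHK]) x h hx hh hcop hsup'
  refine ⟨(n : G), ?_⟩
  ext k
  rw [Subgroup.mem_map]
  constructor
  · intro hk
    have hkN : k ∈ N := hKN hk
    have h1 : (⟨k, hkN⟩ : N) ∈ MulAut.conj n • H.subgroupOf N := by
      rw [hn]; exact Subgroup.mem_subgroupOf.2 hk
    rw [Cfsg.Agent.Lib.Helper54.mem_conj_smul_iff, Subgroup.mem_subgroupOf] at h1
    refine ⟨_, h1, ?_⟩
    simp [MulAut.conj_apply]
    group
  · rintro ⟨y, hy, rfl⟩
    have hyN : y ∈ N := hHN hy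
    have h1 : n * (⟨y, hyN⟩ : N) * n⁻¹ ∈ MulAut.conj n • H.subgroupOf N :=
      Cfsg.Agent.Lib.Helper54.conj_mem_conj_smul (Subgroup.mem_subgroupOf.2 hy)
    rw [hn, Subgroup.mem_subgroupOf] at h1
    simpa [MulAut.conj_apply] using h1

end general

end Cfsg.Agent.Lib.Helper39.HallConjFin
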