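import Mathlib
import Cfsg.Agent.Lib.Helper93.PFTenTPConj
import Cfsg.Agent.Lib.Helper45.PFTenTRegLB

/-!
# PF sec.10 T side, module [TS-C2-COUNT] (helper60's sheet, board #4464)

Counting the elements of `T = Q ⋊ (V ⋊ A)` of order prime to `|Q|`.
-/

set_option autoImplicit false
set_option linter.unusedVariables false

namespace Cfsg.Agent.Lib.Helper39.PFTenT

universe u

/-- conjugation by `k` maps `Q ⊓ C(a)` onto `Q ⊓ C(k a k⁻¹)` when `Q` is normal -/
theorem inf_centralizer_conj {T : Type u} [Group T] (Q : Subgroup T) [Q.Normal] (k a : T) :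
    Q ⊓ Subgroup.centralizer ({k * a * k⁻¹} : Set T) =
      (Q ⊓ Subgroup.centralizer ({a} : Set T)).map (MulAut.conj k).toMonoidHom := by
  ext y
  simp only [Subgroup.mem_inf, Subgroup.mem_centralizer_singleton_iff, Subgroup.mem_map,
    MulEquiv.coe_toMonoidHom, MulAut.conj_apply]
  constructor
  · rintro ⟨hyQ, hy⟩
    refine ⟨k⁻¹ * y * k, ⟨?_, ?_⟩, by group⟩
    · have := Subgroup.Normal.conj_mem (inferInstance : Q.Normal) y hyQ k⁻¹
      simpa using this
    · have h1 : k⁻¹ * (y * (k * a * k⁻¹)) * k = k⁻¹ * ((k * a * k⁻¹) * y) * k := by rw [hy]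
      calc k⁻¹ * y * k * a = k⁻¹ * (y * (k * a * k⁻¹)) * k := by group
        _ = k⁻¹ * ((k * a * k⁻¹) * y) * k := h1
        _ = a * (k⁻¹ * y * k) := by group
  · rintro ⟨z, ⟨hzQ, hz⟩, rfl⟩
    refine ⟨Subgroup.Normal.conj_mem inferInstance z hzQ k, ?_⟩
    calc k * z * k⁻¹ * (k * a * k⁻¹) = k * (z * a) * k⁻¹ := by group
      _ = k * (a * z) * k⁻¹ := by rw [hz]
      _ = k * a * k⁻¹ * (k * z * k⁻¹) := by group

theorem map_conj_normal {T : Type u} [Group T] (Q : Subgroup T) [Q.Normal] (k : T) :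
    Q.map (MulAut.conj k).toMonoidHom = Q := by
  ext y
  simp only [Subgroup.mem_map, MulEquiv.coe_toMonoidHom, MulAut.conj_apply]
  constructor
  · rintro ⟨z, hz, rfl⟩
    exact Subgroup.Normal.conj_mem inferInstance z hz k
  · intro hy
    refine ⟨k⁻¹ * y * k, ?_, by group⟩
    have := Subgroup.Normal.conj_mem (inferInstance : Q.Normal) y hy k⁻¹
    simpa using this

/-- MODULE [TS-C2-COUNT] -/
theorem card_regular_T {T : Type u} [Group T] [Finite T] (Q V A B : Subgroup T) [Q.Normal]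
    (hAV : A ≤ Subgroup.normalizer (V : Set T))
    (hQS : Q ⊓ (V ⊔ A) = ⊥)
    (hcop : (Nat.card ↥(V ⊔ A)).Coprime (Nat.card Q))
    (hA : (Nat.card A).Prime) (hVA : (Nat.card V).Coprime (Nat.card A))
    (hfpfV : ∀ v ∈ V, v ≠ 1 → ∀ x ∈ Q, v * x = x * v → x = 1)
    (hfpfA : ∀ a ∈ A, a ≠ 1 → ∀ v ∈ V, a * v = v * a → v = 1)
    (hBQ : B ≤ Q)
    (hcent : ∀ a ∈ A, a ≠ 1 → Q ⊓ Subgroup.centralizer ({a} : Set T) = B) :
    1 + (Nat.card V - 1) * Nat.card Q + Nat.card V * (Nat.card A - 1) * B.relIndex Q ≤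
      Nat.card {t : T // (orderOf t).Coprime (Nat.card Q)} := by
  classical
  have : Fintype T := Fintype.ofFinite T
  have hVAbot : V ⊓ A = ⊥ := (Subgroup.disjoint_of_coprime_natCard hVA).eq_bot
  refine le_trans ?_ (Cfsg.Agent.Lib.Helper45.PFTenT.card_regular_ge Q (V ⊔ A) hQS hcop)
  -- the parametrisation of `V ⊔ A` by `V × A`
  let e : V × A → ↥(V ⊔ A) := fun p =>
    ⟨p.1.1 * p.2.1, Subgroup.mul_mem _ ((le_sup_left : V ≤ V ⊔ A) p.1.2)
      ((le_sup_right : A ≤ V ⊔ A) p.2.2)⟩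
  have he : Function.Bijective e := by
    constructor
    · rintro ⟨v, a⟩ ⟨v', a'⟩ h
      have h1 : v.1 * a.1 = v'.1 * a'.1 := congrArg Subtype.val h
      have h2 : v'.1⁻¹ * v.1 = a'.1 * a.1⁻¹ := by
        calc v'.1⁻¹ * v.1 = v'.1⁻¹ * (v.1 * a.1) * a.1⁻¹ := by group
          _ = v'.1⁻¹ * (v'.1 * a'.1) * a.1⁻¹ := by rw [h1]
          _ = a'.1 * a.1⁻¹ := by group
      have h3 : v'.1⁻¹ * v.1 ∈ V ⊓ A := by
        refine ⟨V.mul_mem (V.inv_mem v'.2) v.2, ?_⟩
        rw [h2]
        exact A.mul_mem a'.2 (A.inv_mem a.2)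
      rw [hVAbot, Subgroup.mem_bot] at h3
      have h4 : v.1 = v'.1 := by
        have := congrArg (fun z => v'.1 * z) h3
        simpa using this
      have h5 : a.1 = a'.1 := by
        rw [h4] at h1
        exact mul_left_cancel h1
      rw [Subtype.ext h4, Subtype.ext h5]
    · rintro ⟨s, hs⟩
      obtain ⟨v, hv, a, ha, rfl⟩ :=
        Cfsg.Agent.Lib.Helper93.PFTenT.pconj_mem_sup_of_normalizes V A hAV s hs
      exact ⟨(⟨v, hv⟩, ⟨a, ha⟩), rfl⟩
  rw [finsum_eq_sum_of_fintype, ← (Equiv.ofBijective e he).sum_comp, Fintype.sum_prod_type]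
  -- the three kinds of summands
  have hf1 : (Q ⊓ Subgroup.centralizer ({(1 : T)} : Set T)).relIndex Q = 1 := by
    rw [Subgroup.relIndex_eq_one]
    intro x hx
    refine ⟨hx, ?_⟩
    show x ∈ Subgroup.centralizer ({(1 : T)} : Set T)
    rw [Subgroup.mem_centralizer_singleton_iff]
    simp
  have hfV : ∀ v : V, v ≠ 1 →
      (Q ⊓ Subgroup.centralizer ({(v : T)} : Set T)).relIndex Q = Nat.card Q := by
    intro v hv
    have : Q ⊓ Subgroup.centralizer ({(v : T)} : Set T) = ⊥ := by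
      rw [eq_bot_iff]
      rintro x ⟨hxQ, hx⟩
      have hx : x ∈ Subgroup.centralizer ({(v : T)} : Set T) := hx
      rw [Subgroup.mem_centralizer_singleton_iff] at hx
      rw [Subgroup.mem_bot]
      apply hfpfV v.1 v.2 _ x hxQ hx.symm
      intro h1
      exact hv (Subtype.ext h1)
    rw [this, Subgroup.relIndex_bot_left]
  have hfA : ∀ (v : V) (a : A), a ≠ 1 →
      (Q ⊓ Subgroup.centralizer ({(v : T) * (a : T)} : Set T)).relIndex Q = B.relIndex Q := by
    intro v a ha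
    have hs : (v : T) * (a : T) ∈ V ⊔ A :=
      Subgroup.mul_mem _ ((le_sup_left : V ≤ V ⊔ A) v.2) ((le_sup_right : A ≤ V ⊔ A) a.2)
    have hsV : (v : T) * (a : T) ∉ V := by
      intro h
      have h1 : (a : T) ∈ V := by
        have := V.mul_mem (V.inv_mem v.2) h
        simpa using this
      have h2 : (a : T) ∈ V ⊓ A := ⟨h1, a.2⟩
      rw [hVAbot, Subgroup.mem_bot] at h2
      exact ha (Subtype.ext h2)
    obtain ⟨k, -, a', ha', ha'1, hk⟩ :=
      Cfsg.Agent.Lib.Helper93.PFTenT.exists_conj_mem_compl V A hA hAV hVA hfpfA _ hs hsV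
    rw [hk, inf_centralizer_conj, hcent a' ha' ha'1]
    conv_lhs => rw [← map_conj_normal Q k]
    exact Subgroup.relIndex_map_map_of_injective B Q (MulAut.conj k).injective
  -- evaluate the inner sums
  have hinner : ∀ v : V, ∑ a : A,
      (Q ⊓ Subgroup.centralizer ({(((Equiv.ofBijective e he) (v, a) : ↥(V ⊔ A)) : T)} : Set T)).relIndex Q =
      (Q ⊓ Subgroup.centralizer ({(v : T)} : Set T)).relIndex Q +
        (Nat.card A - 1) * B.relIndex Q := by
    intro v
    rw [← Finset.add_sum_erase Finset.univ _ (Finset.mem_univ (1 : A))]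
    congr 1
    · show (Q ⊓ Subgroup.centralizer ({(v : T) * ((1 : A) : T)} : Set T)).relIndex Q = _
      rw [Subgroup.coe_one, mul_one]
    · have h1 : ∀ a ∈ (Finset.univ : Finset A).erase 1,
          (Q ⊓ Subgroup.centralizer
            ({(((Equiv.ofBijective e he) (v, a) : ↥(V ⊔ A)) : T)} : Set T)).relIndex Q =
            B.relIndex Q :=
        fun a ha => hfA v a (Finset.ne_of_mem_erase ha)
      rw [Finset.sum_congr rfl h1,
        Finset.sum_const, Finset.card_erase_of_mem (Finset.mem_univ _), Finset.card_univ,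
        Nat.card_eq_fintype_card, smul_eq_mul]
  rw [Finset.sum_congr rfl (fun v _ => hinner v), Finset.sum_add_distrib, Finset.sum_const,
    Finset.card_univ, smul_eq_mul, ← Nat.card_eq_fintype_card, mul_assoc]
  refine Nat.add_le_add_right ?_ _
  rw [← Finset.add_sum_erase Finset.univ _ (Finset.mem_univ (1 : V)),
    Finset.sum_congr rfl (fun v hv => hfV v (Finset.ne_of_mem_erase hv)),
    Finset.sum_const, Finset.card_erase_of_mem (Finset.mem_univ _), Finset.card_univ,
    ← Nat.card_eq_fintype_card, smul_eq_mul, Subgroup.coe_one, hf1]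

end Cfsg.Agent.Lib.Helper39.PFTenT
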