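import Mathlib
import Cfsg.Agent.Lib.Helper93.PFTenTSing

/-!
# PF sec.10 T side, module [TS-C2-SING] (helper60's sheet, board #4464)

Counting the elements of `G` whose order is not prime to `|Q|`: they are all conjugate into `T`.
-/

set_option autoImplicit false

namespace Cfsg.Agent.Lib.Helper39.PFTenT

universe u

/-- MODULE [TS-C2-SING] -/
theorem card_singular_le {G : Type u} [Group G] [Finite G] (T Q F : Subgroup G)
    (hQT : Q ≤ T) (hQF : Q ≤ F)
    (hQn : T ≤ Subgroup.normalizer (Q : Set G))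
    (hHall : (Nat.card Q).Coprime (Q.relIndex T))
    (hTI : ∀ g : G, g ∉ T → ∀ x ∈ F, g * x * g⁻¹ ∈ F → x = 1) :
    Nat.card {g : G // ¬ (orderOf g).Coprime (Nat.card Q)} * Nat.card T ≤
      Nat.card G * Nat.card {t : T // ¬ (orderOf (t : G)).Coprime (Nat.card Q)} := by
  classical
  have key : ∀ g : {g : G // ¬ (orderOf g).Coprime (Nat.card Q)},
      ∃ x : G, x * g.1 * x⁻¹ ∈ T := fun g =>
    Cfsg.Agent.Lib.Helper93.PFTenT.exists_conj_mem_of_singular T Q F hQT hQF hQn hHall hTI g.1 g.2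
  choose x hx using key
  have hord : ∀ (a g : G), orderOf (a * g * a⁻¹) = orderOf g := fun a g =>
    (MulAut.conj a).orderOf_eq g
  let f : {g : G // ¬ (orderOf g).Coprime (Nat.card Q)} × T →
      G × {t : T // ¬ (orderOf (t : G)).Coprime (Nat.card Q)} := fun p =>
    (p.2.1 * x p.1,
      ⟨⟨p.2.1 * (x p.1 * p.1.1 * (x p.1)⁻¹) * p.2.1⁻¹,
        T.mul_mem (T.mul_mem p.2.2 (hx p.1)) (T.inv_mem p.2.2)⟩, by
        show ¬ (orderOf (p.2.1 * (x p.1 * p.1.1 * (x p.1)⁻¹) * p.2.1⁻¹)).Coprime (Nat.card Q)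
        rw [hord, hord]
        exact p.1.2⟩)
  have hf : Function.Injective f := by
    rintro ⟨g, m⟩ ⟨g', m'⟩ h
    have h1 : m.1 * x g = m'.1 * x g' := congrArg Prod.fst h
    have h2 : m.1 * (x g * g.1 * (x g)⁻¹) * m.1⁻¹ = m'.1 * (x g' * g'.1 * (x g')⁻¹) * m'.1⁻¹ := by
      have := congrArg (fun q => ((q.2 : {t : T // ¬ (orderOf (t : G)).Coprime (Nat.card Q)}).1 : G)) h
      exact this
    have h3 : (m.1 * x g) * g.1 * (m.1 * x g)⁻¹ = (m'.1 * x g') * g'.1 * (m'.1 * x g')⁻¹ := by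
      calc (m.1 * x g) * g.1 * (m.1 * x g)⁻¹ = m.1 * (x g * g.1 * (x g)⁻¹) * m.1⁻¹ := by group
        _ = m'.1 * (x g' * g'.1 * (x g')⁻¹) * m'.1⁻¹ := h2
        _ = (m'.1 * x g') * g'.1 * (m'.1 * x g')⁻¹ := by group
    rw [← h1] at h3
    have h4 : g.1 = g'.1 := by
      have := congrArg (fun z => (m.1 * x g)⁻¹ * z * (m.1 * x g)) h3
      simpa [mul_assoc] using this
    have h5 : g = g' := Subtype.ext h4
    subst h5
    have h6 : m.1 = m'.1 := mul_right_cancel h1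
    rw [Subtype.ext h6]
  have := Nat.card_le_card_of_injective f hf
  rw [Nat.card_prod, Nat.card_prod] at this
  exact this

end Cfsg.Agent.Lib.Helper39.PFTenT
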