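import Mathlib
import Cfsg.Agent.Lib.Helper2.FWDefs

/-!
# FW-[CARD] (helper39): an element swapping `j` and `u` matches their square roots in `C(j) ∩ C(u)`
-/

set_option autoImplicit false

namespace Cfsg.Agent.Lib.Helper39.FW

open Cfsg.Agent.Lib.Helper2.FW

variable {G : Type*} [Group G]

/-- [FW-CARD] (no `Hyp`) an element swapping `j` and `u` matches their square roots in
`C(j) ∩ C(u)`. -/
theorem roots_ncard_eq {j u ρ : G} (h1 : ρ * j * ρ⁻¹ = u) (h2 : ρ * u * ρ⁻¹ = j) :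
    (Roots j u j).ncard = (Roots j u u).ncard := by
  have hinj : Function.Injective (fun k : G => ρ * k * ρ⁻¹) := by
    intro x y hxy
    simpa using hxy
  have himg : (fun k : G => ρ * k * ρ⁻¹) '' (Roots j u j) = Roots j u u := by
    ext k'
    constructor
    · rintro ⟨k, ⟨hkj, hku, hkk⟩, rfl⟩
      refine ⟨?_, ?_, ?_⟩
      · -- commutes with j = ρ u ρ⁻¹
        calc ρ * k * ρ⁻¹ * j = ρ * k * ρ⁻¹ * (ρ * u * ρ⁻¹) := by rw [h2]
          _ = ρ * (k * u) * ρ⁻¹ := by group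
          _ = ρ * (u * k) * ρ⁻¹ := by rw [hku]
          _ = (ρ * u * ρ⁻¹) * (ρ * k * ρ⁻¹) := by group
          _ = j * (ρ * k * ρ⁻¹) := by rw [h2]
      · calc ρ * k * ρ⁻¹ * u = ρ * k * ρ⁻¹ * (ρ * j * ρ⁻¹) := by rw [h1]
          _ = ρ * (k * j) * ρ⁻¹ := by group
          _ = ρ * (j * k) * ρ⁻¹ := by rw [hkj]
          _ = (ρ * j * ρ⁻¹) * (ρ * k * ρ⁻¹) := by group
          _ = u * (ρ * k * ρ⁻¹) := by rw [h1]
      · calc ρ * k * ρ⁻¹ * (ρ * k * ρ⁻¹) = ρ * (k * k) * ρ⁻¹ := by group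
          _ = u := by rw [hkk, h1]
    · rintro ⟨hkj, hku, hkk⟩
      have h1' : ρ⁻¹ * u * ρ = j := by rw [← h1]; group
      have h2' : ρ⁻¹ * j * ρ = u := by rw [← h2]; group
      refine ⟨ρ⁻¹ * k' * ρ, ⟨?_, ?_, ?_⟩, by group⟩
      · calc ρ⁻¹ * k' * ρ * j = ρ⁻¹ * k' * ρ * (ρ⁻¹ * u * ρ) := by rw [h1']
          _ = ρ⁻¹ * (k' * u) * ρ := by group
          _ = ρ⁻¹ * (u * k') * ρ := by rw [hku]
          _ = (ρ⁻¹ * u * ρ) * (ρ⁻¹ * k' * ρ) := by group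
          _ = j * (ρ⁻¹ * k' * ρ) := by rw [h1']
      · calc ρ⁻¹ * k' * ρ * u = ρ⁻¹ * k' * ρ * (ρ⁻¹ * j * ρ) := by rw [h2']
          _ = ρ⁻¹ * (k' * j) * ρ := by group
          _ = ρ⁻¹ * (j * k') * ρ := by rw [hkj]
          _ = (ρ⁻¹ * j * ρ) * (ρ⁻¹ * k' * ρ) := by group
          _ = u * (ρ⁻¹ * k' * ρ) := by rw [h2']
      · calc ρ⁻¹ * k' * ρ * (ρ⁻¹ * k' * ρ) = ρ⁻¹ * (k' * k') * ρ := by group
          _ = j := by rw [hkk, h1']
  rw [← himg, Set.ncard_image_of_injective _ hinj]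

end Cfsg.Agent.Lib.Helper39.FW
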