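import Mathlib
import Cfsg.Agent.Lib.Helper2.FWDefs

/-!
# FW-[COUNT] (helper39): the pure counting step
-/

set_option autoImplicit false

namespace Cfsg.Agent.Lib.Helper39.FW

open Cfsg.Agent.Lib.Helper2.FW

variable {G : Type*} [Group G]

/-- [FW-COUNT] (no `Hyp`) the pure counting step. -/
theorem count_lt_of [Finite G] {j u a b n : G} (P : G → Prop)
    (h2 : ∀ s k, P s → P k → s * s = u → k * k = u →
      k = s ∨ k = s * j ∨ k = s * u ∨ k = s * (u * j))
    (h3 : ({a, a⁻¹, b, b⁻¹} : Set G) ⊆ Roots j u j ∩ {k | P k})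
    (h3' : ({a, a⁻¹, b, b⁻¹} : Set G).ncard = 4)
    (h4 : ∀ k ∈ Roots j u u, ¬ P k → a⁻¹ * k ∈ Roots j u j ∧ ¬ P (a⁻¹ * k) ∧ a⁻¹ * k ≠ n)
    (h5 : n ∈ Roots j u j ∧ ¬ P n) :
    (Roots j u u).ncard < (Roots j u j).ncard := by
  classical
  -- |R_u ∩ P| ≤ 4
  have hA : (Roots j u u ∩ {k | P k}).ncard ≤ 4 := by
    rcases Set.eq_empty_or_nonempty (Roots j u u ∩ {k | P k}) with he | ⟨s, hs⟩
    · rw [he, Set.ncard_empty]; omega
    · have hsub : Roots j u u ∩ {k | P k} ⊆ ({s, s * j, s * u, s * (u * j)} : Set G) := by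
        intro k hk
        have := h2 s k hs.2 hk.2 hs.1.2.2 hk.1.2.2
        simp only [Set.mem_insert_iff, Set.mem_singleton_iff]
        exact this
      calc (Roots j u u ∩ {k | P k}).ncard ≤ ({s, s * j, s * u, s * (u * j)} : Set G).ncard :=
            Set.ncard_le_ncard hsub (Set.toFinite _)
        _ ≤ 4 := by
            refine (Set.ncard_insert_le _ _).trans ?_
            refine Nat.succ_le_succ ?_
            refine (Set.ncard_insert_le _ _).trans ?_
            refine Nat.succ_le_succ ?_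
            refine (Set.ncard_insert_le _ _).trans ?_
            refine Nat.succ_le_succ ?_
            rw [Set.ncard_singleton]
  -- |R_j ∩ P| ≥ 4
  have hB : 4 ≤ (Roots j u j ∩ {k | P k}).ncard := by
    rw [← h3']
    exact Set.ncard_le_ncard h3 (Set.toFinite _)
  -- |R_u \ P| + 1 ≤ |R_j \ P|
  have hC : (Roots j u u \ {k | P k}).ncard + 1 ≤ (Roots j u j \ {k | P k}).ncard := by
    have hinj : Function.Injective (fun k : G => a⁻¹ * k) := mul_right_injective a⁻¹
    have hsub : insert n ((fun k : G => a⁻¹ * k) '' (Roots j u u \ {k | P k})) ⊆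
        Roots j u j \ {k | P k} := by
      intro x hx
      rcases Set.mem_insert_iff.mp hx with rfl | ⟨k, hk, rfl⟩
      · exact ⟨h5.1, h5.2⟩
      · have := h4 k hk.1 hk.2
        exact ⟨this.1, this.2.1⟩
    have hn : n ∉ (fun k : G => a⁻¹ * k) '' (Roots j u u \ {k | P k}) := by
      rintro ⟨k, hk, hkn⟩
      exact (h4 k hk.1 hk.2).2.2 hkn
    calc (Roots j u u \ {k | P k}).ncard + 1
        = ((fun k : G => a⁻¹ * k) '' (Roots j u u \ {k | P k})).ncard + 1 := by
          rw [Set.ncard_image_of_injective _ hinj]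
      _ = (insert n ((fun k : G => a⁻¹ * k) '' (Roots j u u \ {k | P k}))).ncard := by
          rw [Set.ncard_insert_of_notMem hn (Set.toFinite _)]
      _ ≤ (Roots j u j \ {k | P k}).ncard := Set.ncard_le_ncard hsub (Set.toFinite _)
  have hU := Set.ncard_inter_add_ncard_sdiff_eq_ncard (Roots j u u) {k | P k} (Set.toFinite _)
  have hJ := Set.ncard_inter_add_ncard_sdiff_eq_ncard (Roots j u j) {k | P k} (Set.toFinite _)
  omega

end Cfsg.Agent.Lib.Helper39.FW
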