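import Mathlib
import Cfsg.Agent.Lib.Helper2.FWDefs

/-!
# FW-[M0] (helper39): the only involution of `SL₂(F)`, `2 ≠ 0`, is `-1`
-/

set_option autoImplicit false

namespace Cfsg.Agent.Lib.Helper39.FW

open Cfsg.Agent.Lib.Helper2.FW

/-- [FW-M0] the only involution of `SL₂(F)`, `2 ≠ 0`, is `-1`. -/
theorem sl2_invol {F : Type*} [Field F] (h2 : (2 : F) ≠ 0)
    (x : Matrix.SpecialLinearGroup (Fin 2) F) (hx : x * x = 1) : x = 1 ∨ x = -1 := by
  have hdet : (x : Matrix (Fin 2) (Fin 2) F) 0 0 * (x : Matrix (Fin 2) (Fin 2) F) 1 1 -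
      (x : Matrix (Fin 2) (Fin 2) F) 0 1 * (x : Matrix (Fin 2) (Fin 2) F) 1 0 = 1 := by
    have := x.det_coe
    rwa [Matrix.det_fin_two] at this
  have hm : (x : Matrix (Fin 2) (Fin 2) F) * (x : Matrix (Fin 2) (Fin 2) F) = 1 := by
    rw [← Matrix.SpecialLinearGroup.coe_mul, hx, Matrix.SpecialLinearGroup.coe_one]
  have e00 := congrFun (congrFun hm 0) 0
  have e01 := congrFun (congrFun hm 0) 1
  have e10 := congrFun (congrFun hm 1) 0
  have e11 := congrFun (congrFun hm 1) 1
  simp only [Matrix.mul_apply, Fin.sum_univ_two, Matrix.one_apply_eq, Matrix.one_apply_ne,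
    ne_eq, zero_ne_one, one_ne_zero, not_false_eq_true, Fin.isValue] at e00 e01 e10 e11
  set p := (x : Matrix (Fin 2) (Fin 2) F) 0 0 with hp
  set q := (x : Matrix (Fin 2) (Fin 2) F) 0 1 with hq
  set r := (x : Matrix (Fin 2) (Fin 2) F) 1 0 with hr
  set s := (x : Matrix (Fin 2) (Fin 2) F) 1 1 with hs
  have hps : p + s ≠ 0 := by
    intro h0
    have hs' : s = -p := by linear_combination h0
    apply h2
    rw [hs'] at hdet e11
    linear_combination (-1 : F) * hdet - e00
  have hq0 : q = 0 := by
    have : q * (p + s) = 0 := by linear_combination e01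
    rcases mul_eq_zero.mp this with h | h
    · exact h
    · exact absurd h hps
  have hr0 : r = 0 := by
    have : r * (p + s) = 0 := by linear_combination e10
    rcases mul_eq_zero.mp this with h | h
    · exact h
    · exact absurd h hps
  rw [hq0, hr0] at hdet e00 e11
  have hp2 : (p - 1) * (p + 1) = 0 := by linear_combination e00
  rcases mul_eq_zero.mp hp2 with h | h
  · left
    have hp1 : p = 1 := by linear_combination h
    have hs1 : s = 1 := by
      rw [hp1] at hdet; linear_combination hdet
    apply Subtype.ext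
    ext i j
    fin_cases i <;> fin_cases j
    · simpa using hp1
    · simpa using hq0
    · simpa using hr0
    · simpa using hs1
  · right
    have hp1 : p = -1 := by linear_combination h
    have hs1 : s = -1 := by
      rw [hp1] at hdet; linear_combination (-1 : F) * hdet
    apply Subtype.ext
    ext i j
    fin_cases i <;> fin_cases j
    · simpa using hp1
    · simpa using hq0
    · simpa using hr0
    · simpa using hs1

end Cfsg.Agent.Lib.Helper39.FW
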