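import Mathlib
import Cfsg.Agent.Lib.Helper2.FWDefs

/-!
# FW-[M5b] (helper39): all square roots of `-1` in `SL₂(F)` are conjugate, given the normal form
-/

set_option autoImplicit false

namespace Cfsg.Agent.Lib.Helper39.FW

open Cfsg.Agent.Lib.Helper2.FW

/-- [FW-M5b] all square roots of `-1` are conjugate, given the normal form. -/
theorem sl2_conj_of_normal_form {F : Type*} [Field F]
    (hnf : ∀ a : Matrix.SpecialLinearGroup (Fin 2) F, a * a = -1 →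
      ∃ g : Matrix.SpecialLinearGroup (Fin 2) F,
        (g : Matrix (Fin 2) (Fin 2) F) * (a : Matrix (Fin 2) (Fin 2) F) =
          !![0, -1; 1, 0] * (g : Matrix (Fin 2) (Fin 2) F))
    (a b : Matrix.SpecialLinearGroup (Fin 2) F) (ha : a * a = -1) (hb : b * b = -1) :
    ∃ y : Matrix.SpecialLinearGroup (Fin 2) F, y * b * y⁻¹ = a := by
  obtain ⟨g, hg⟩ := hnf a ha
  obtain ⟨h, hh⟩ := hnf b hb
  refine ⟨g⁻¹ * h, ?_⟩
  rw [mul_inv_eq_iff_eq_mul]
  apply Subtype.ext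
  simp only [Matrix.SpecialLinearGroup.coe_mul]
  have hgg : ((g⁻¹ : Matrix.SpecialLinearGroup (Fin 2) F) : Matrix (Fin 2) (Fin 2) F) *
      (g : Matrix (Fin 2) (Fin 2) F) = 1 := by
    rw [← Matrix.SpecialLinearGroup.coe_mul, inv_mul_cancel, Matrix.SpecialLinearGroup.coe_one]
  have hgg' : (g : Matrix (Fin 2) (Fin 2) F) *
      ((g⁻¹ : Matrix.SpecialLinearGroup (Fin 2) F) : Matrix (Fin 2) (Fin 2) F) = 1 := by
    rw [← Matrix.SpecialLinearGroup.coe_mul, mul_inv_cancel, Matrix.SpecialLinearGroup.coe_one]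
  -- a * g⁻¹ = g⁻¹ * J
  have h1 : (a : Matrix (Fin 2) (Fin 2) F) *
      ((g⁻¹ : Matrix.SpecialLinearGroup (Fin 2) F) : Matrix (Fin 2) (Fin 2) F) =
      ((g⁻¹ : Matrix.SpecialLinearGroup (Fin 2) F) : Matrix (Fin 2) (Fin 2) F) * !![0, -1; 1, 0] := by
    calc (a : Matrix (Fin 2) (Fin 2) F) *
          ((g⁻¹ : Matrix.SpecialLinearGroup (Fin 2) F) : Matrix (Fin 2) (Fin 2) F)
        = (((g⁻¹ : Matrix.SpecialLinearGroup (Fin 2) F) : Matrix (Fin 2) (Fin 2) F) *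
            (g : Matrix (Fin 2) (Fin 2) F)) * (a : Matrix (Fin 2) (Fin 2) F) *
          ((g⁻¹ : Matrix.SpecialLinearGroup (Fin 2) F) : Matrix (Fin 2) (Fin 2) F) := by
          rw [hgg, one_mul]
      _ = ((g⁻¹ : Matrix.SpecialLinearGroup (Fin 2) F) : Matrix (Fin 2) (Fin 2) F) *
            ((g : Matrix (Fin 2) (Fin 2) F) * (a : Matrix (Fin 2) (Fin 2) F)) *
          ((g⁻¹ : Matrix.SpecialLinearGroup (Fin 2) F) : Matrix (Fin 2) (Fin 2) F) := by
          simp only [mul_assoc]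
      _ = ((g⁻¹ : Matrix.SpecialLinearGroup (Fin 2) F) : Matrix (Fin 2) (Fin 2) F) * !![0, -1; 1, 0] *
          ((g : Matrix (Fin 2) (Fin 2) F) *
          ((g⁻¹ : Matrix.SpecialLinearGroup (Fin 2) F) : Matrix (Fin 2) (Fin 2) F)) := by
          rw [hg]; simp only [mul_assoc]
      _ = _ := by rw [hgg', mul_one]
  calc ((g⁻¹ : Matrix.SpecialLinearGroup (Fin 2) F) : Matrix (Fin 2) (Fin 2) F) *
        (h : Matrix (Fin 2) (Fin 2) F) * (b : Matrix (Fin 2) (Fin 2) F)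
      = ((g⁻¹ : Matrix.SpecialLinearGroup (Fin 2) F) : Matrix (Fin 2) (Fin 2) F) *
        ((h : Matrix (Fin 2) (Fin 2) F) * (b : Matrix (Fin 2) (Fin 2) F)) := by rw [mul_assoc]
    _ = ((g⁻¹ : Matrix.SpecialLinearGroup (Fin 2) F) : Matrix (Fin 2) (Fin 2) F) *
        (!![0, -1; 1, 0] * (h : Matrix (Fin 2) (Fin 2) F)) := by rw [hh]
    _ = ((a : Matrix (Fin 2) (Fin 2) F) *
        ((g⁻¹ : Matrix.SpecialLinearGroup (Fin 2) F) : Matrix (Fin 2) (Fin 2) F)) *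
        (h : Matrix (Fin 2) (Fin 2) F) := by rw [h1, mul_assoc]
    _ = _ := by rw [mul_assoc]

end Cfsg.Agent.Lib.Helper39.FW
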