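import Mathlib
import Cfsg.Prelude.Def_Local
import Cfsg.Prelude.Def_Transfer
import Cfsg.Agent.Lib.Helper41.PGV.Defs

/-!
# Project PGV (S3086), RED sheet part 1, leaf [LOC-T2] (helper39)

The offender computation of the localisation lemma, as a general statement:
`A` a best offender on `V`, `D ≤ A`, `W ≃ fix ρ D` (through an injective linear map `ι : W → V`
with range `fix ρ D`), `τ` a faithful representation of a group `Hb` on `W` and `f : A →* Hb`
compatible with the actions.  Then `f.range` is a best offender on `W`.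
-/

set_option autoImplicit false

namespace Cfsg.Agent.Lib.Helper39.PgvLocT2

open Cfsg Cfsg.Agent.Lib.Helper41.PGV

variable {p : ℕ} [Fact p.Prime] {G V : Type*} [Group G] [AddCommGroup V] [Module (ZMod p) V]
  {Hb W : Type*} [Group Hb] [AddCommGroup W] [Module (ZMod p) W]

/-- the kernel of `f` contains `D` -/
theorem map_eq_one_of_mem (ρ : Representation (ZMod p) G V) {A D : Subgroup G}
    (τ : Representation (ZMod p) Hb W) (hτ : Function.Injective τ)
    (ι : W →ₗ[ZMod p] V) (hι : Function.Injective ι) (hrange : ∀ w, ι w ∈ fix ρ (D : Set G))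
    (f : A →* Hb) (hf : ∀ (a : A) (w : W), ι (τ (f a) w) = ρ (a : G) (ι w))
    (d : A) (hd : (d : G) ∈ D) : f d = 1 := by
  apply hτ
  rw [map_one]
  ext w
  apply hι
  rw [hf, Module.End.one_apply]
  exact hrange w _ hd

/-- fixed points correspond -/
theorem card_fix_map (ρ : Representation (ZMod p) G V) {A D : Subgroup G}
    (τ : Representation (ZMod p) Hb W)
    (ι : W →ₗ[ZMod p] V) (hι : Function.Injective ι)
    (hrange' : ∀ v ∈ fix ρ (D : Set G), ∃ w, ι w = v)
    (f : A →* Hb) (hf : ∀ (a : A) (w : W), ι (τ (f a) w) = ρ (a : G) (ι w))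
    (Y : Subgroup A) (hDY : ∀ d : A, (d : G) ∈ D → d ∈ Y) (hDA : D ≤ A) :
    Nat.card (fix ρ ((Y.map A.subtype : Subgroup G) : Set G)) =
      Nat.card (fix τ ((Y.map f : Subgroup Hb) : Set Hb)) := by
  symm
  refine Nat.card_eq_of_bijective
    (fun w : fix τ ((Y.map f : Subgroup Hb) : Set Hb) =>
      (⟨ι w.1, ?_⟩ : fix ρ ((Y.map A.subtype : Subgroup G) : Set G))) ⟨?_, ?_⟩
  · rintro x ⟨y, hy, rfl⟩
    have := w.2 (f y) ⟨y, hy, rfl⟩
    rw [Subgroup.coe_subtype, ← hf, this]
  · intro w1 w2 h
    apply Subtype.ext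
    apply hι
    exact congrArg Subtype.val h
  · rintro ⟨v, hv⟩
    have hvD : v ∈ fix ρ (D : Set G) := by
      intro d hd
      exact hv d ⟨⟨d, hDA hd⟩, hDY _ hd, rfl⟩
    obtain ⟨w, rfl⟩ := hrange' v hvD
    refine ⟨⟨w, ?_⟩, rfl⟩
    rintro x ⟨y, hy, rfl⟩
    apply hι
    rw [hf]
    exact hv y ⟨y, hy, rfl⟩

/-- the counting identity `|X| |f(A)| = |f(X)| |A|` for `ker f ≤ X ≤ A` -/
theorem card_comap_mul [Finite G] {A : Subgroup G} (f : A →* Hb) (B : Subgroup Hb) (hB : B ≤ f.range) :
    Nat.card (B.comap f) * Nat.card f.range = Nat.card B * Nat.card A := by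
  have h1 : Nat.card (B.comap f) * (B.comap f).index = Nat.card A := Subgroup.card_mul_index _
  have h2 : Nat.card (B.subgroupOf f.range) * (B.subgroupOf f.range).index = Nat.card f.range :=
    Subgroup.card_mul_index _
  have h3 : (B.comap f) = (B.subgroupOf f.range).comap f.rangeRestrict := by
    ext x
    simp [Subgroup.mem_subgroupOf]
  have h4 : (B.comap f).index = (B.subgroupOf f.range).index := by
    rw [h3, Subgroup.index_comap_of_surjective _ f.rangeRestrict_surjective]
  have h5 : Nat.card (B.subgroupOf f.range) = Nat.card B :=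
    Nat.card_congr (Subgroup.subgroupOfEquivOfLe hB).toEquiv
  rw [← h1, ← h2, h5, h4]
  ring

/-- **[LOC-T2]** the image of a best offender `A` in a faithful action on `W = C_V(D)`, `D ≤ A`, is a best offender. -/
theorem bestOffender_range [Finite G] (ρ : Representation (ZMod p) G V) {A D : Subgroup G} (hDA : D ≤ A)
    (hoff : BestOffender ρ A)
    (τ : Representation (ZMod p) Hb W) (hτ : Function.Injective τ)
    (ι : W →ₗ[ZMod p] V) (hι : Function.Injective ι) (hrange : ∀ w, ι w ∈ fix ρ (D : Set G))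
    (hrange' : ∀ v ∈ fix ρ (D : Set G), ∃ w, ι w = v)
    (f : A →* Hb) (hf : ∀ (a : A) (w : W), ι (τ (f a) w) = ρ (a : G) (ι w)) :
    BestOffender τ f.range := by
  intro B hB
  have hker : ∀ d : A, (d : G) ∈ D → f d = 1 := fun d hd =>
    map_eq_one_of_mem ρ τ hτ ι hι hrange f hf d hd
  have hc1 := card_fix_map ρ τ ι hι hrange' f hf (B.comap f)
    (fun d hd => by rw [Subgroup.mem_comap, hker d hd]; exact B.one_mem) hDA
  have hc2 := card_fix_map ρ τ ι hι hrange' f hf (⊤ : Subgroup A) (fun d _ => Subgroup.mem_top d) hDA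
  have e1 : (B.comap f).map f = B := by
    rw [Subgroup.map_comap_eq, inf_eq_right.mpr hB]
  have e2 : (⊤ : Subgroup A).map f = f.range := by rw [MonoidHom.range_eq_map]
  have e3 : (⊤ : Subgroup A).map A.subtype = A := by
    rw [← MonoidHom.range_eq_map, Subgroup.range_subtype]
  rw [e1] at hc1
  rw [e2, e3] at hc2
  have hX := hoff ((B.comap f).map A.subtype) (Subgroup.map_subtype_le _)
  unfold jj at hX ⊢
  rw [hc1, hc2] at hX
  have hcardX : Nat.card ((B.comap f).map A.subtype) = Nat.card (B.comap f) :=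
    (Nat.card_congr ((B.comap f).equivMapOfInjective A.subtype A.subtype_injective).toEquiv).symm
  rw [hcardX] at hX
  have hmul := card_comap_mul f B hB
  have hApos : 0 < Nat.card A := Nat.card_pos
  -- |B| * cB * |A| = |X| * |range| * cB ≤ |range| * |A| * cA
  apply Nat.le_of_mul_le_mul_right _ hApos
  calc Nat.card B * Nat.card (fix τ (B : Set Hb)) * Nat.card A
      = (Nat.card B * Nat.card A) * Nat.card (fix τ (B : Set Hb)) := by ring
    _ = (Nat.card (B.comap f) * Nat.card f.range) * Nat.card (fix τ (B : Set Hb)) := by rw [hmul]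
    _ = Nat.card f.range * (Nat.card (B.comap f) * Nat.card (fix τ (B : Set Hb))) := by ring
    _ ≤ Nat.card f.range * (Nat.card A * Nat.card (fix τ (f.range : Set Hb))) :=
        Nat.mul_le_mul_left _ hX
    _ = Nat.card f.range * Nat.card (fix τ (f.range : Set Hb)) * Nat.card A := by ring

omit [Fact p.Prime] in
/-- the image of an elementary abelian group is elementary abelian -/
theorem isElementaryAbelian_range {A : Subgroup G} (hel : IsElementaryAbelian p A) (f : A →* Hb) :
    IsElementaryAbelian p f.range := by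
  obtain ⟨hc, hp⟩ := hel
  refine ⟨⟨⟨?_⟩⟩, ?_⟩
  · rintro ⟨x, a, rfl⟩ ⟨y, b, rfl⟩
    apply Subtype.ext
    show f a * f b = f b * f a
    rw [← map_mul, ← map_mul]
    congr 1
    exact hc.is_comm.comm a b
  · rintro x ⟨a, rfl⟩
    rw [← map_pow]
    have : a ^ p = 1 := Subtype.ext (by simpa using hp a a.2)
    rw [this, map_one]

/-- the induction parameter drops -/
theorem card_add_card_lt [Finite G] [Finite V] (ρ : Representation (ZMod p) G V)
    (hinj : Function.Injective ρ) {A D : Subgroup G} (hD : D ≠ ⊥)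
    (ι : W →ₗ[ZMod p] V) (hι : Function.Injective ι) (hrange : ∀ w, ι w ∈ fix ρ (D : Set G))
    (f : A →* Hb) :
    Nat.card W + Nat.card f.range < Nat.card V + Nat.card A := by
  have h1 : Nat.card f.range ≤ Nat.card A :=
    Nat.card_le_card_of_surjective f.rangeRestrict f.rangeRestrict_surjective
  have h2 : Nat.card W < Nat.card V := by
    obtain ⟨d, hd, hd1⟩ : ∃ d ∈ D, d ≠ 1 := by
      obtain ⟨d, hd⟩ := (Subgroup.ne_bot_iff_exists_ne_one (H := D)).mp hD
      exact ⟨d.1, d.2, fun h => hd (Subtype.ext h)⟩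
    have hρ : ρ d ≠ 1 := fun h => hd1 (hinj (by rw [h, map_one]))
    have : ∃ v, ρ d v ≠ v := by
      by_contra hcon
      push_neg at hcon
      exact hρ (LinearMap.ext hcon)
    obtain ⟨v, hv⟩ := this
    haveI : Finite W := Finite.of_injective ι hι
    haveI := Fintype.ofFinite W
    haveI := Fintype.ofFinite V
    rw [Nat.card_eq_fintype_card, Nat.card_eq_fintype_card]
    apply Fintype.card_lt_of_injective_of_notMem ι hι (b := v)
    rintro ⟨w, rfl⟩
    exact hv (hrange w d hd)
  omega

end Cfsg.Agent.Lib.Helper39.PgvLocT2
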