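import Mathlib
import Cfsg.Prelude.Def_Local
import Cfsg.Prelude.Def_Transfer
import Cfsg.Agent.Lib.Helper41.PGV.Defs
import Cfsg.Agent.Lib.Helper22.Components
import Cfsg.Agent.Lib.Helper22.ComponentsMap
import Cfsg.Agent.Lib.Helper39.PgvLocT2

/-!
# Project PGV (S3086), RED sheet part 1, leaf [LOC] (helper39, hedge): the localisation lemma,
with `pq_rep` taken as a hypothesis (`loc_of`).
-/

set_option autoImplicit false

universe v

namespace Cfsg.Agent.Lib.Helper39.PgvLoc

open Cfsg Cfsg.Agent.Lib.Helper41.PGV Cfsg.Agent.Lib.Helper39.PgvLocT2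

section res

variable {p : ℕ} [Fact p.Prime] {G V : Type*} [Group G] [AddCommGroup V] [Module (ZMod p) V]

/-- `H ≤ C_G(D)` leaves `C_V(D)` invariant -/
theorem map_mem_fix (ρ : Representation (ZMod p) G V) {D H : Subgroup G}
    (hHD : H ≤ Subgroup.centralizer (D : Set G)) (h : H) :
    ∀ v ∈ fix ρ (D : Set G), ρ (h : G) v ∈ fix ρ (D : Set G) := by
  intro v hv d hd
  have hc : d * (h : G) = (h : G) * d := (Subgroup.mem_centralizer_iff.mp (hHD h.2) d hd)
  have : ρ d (ρ (h : G) v) = (ρ (d * (h : G))) v := by rw [map_mul]; rfl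
  rw [this, hc, map_mul]
  show ρ (h : G) (ρ d v) = _
  rw [hv d hd]

/-- the action of `H ≤ C_G(D)` on `W = C_V(D)` -/
def resRep (ρ : Representation (ZMod p) G V) (D H : Subgroup G)
    (hHD : H ≤ Subgroup.centralizer (D : Set G)) : Representation (ZMod p) H (fix ρ (D : Set G)) where
  toFun h := (ρ (h : G)).restrict (map_mem_fix ρ hHD h)
  map_one' := by
    ext w
    simp
  map_mul' := by
    intro x y
    ext w
    simp

@[simp] theorem resRep_apply_coe (ρ : Representation (ZMod p) G V) (D H : Subgroup G)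
    (hHD : H ≤ Subgroup.centralizer (D : Set G)) (h : H) (w : fix ρ (D : Set G)) :
    ((resRep ρ D H hHD h w : fix ρ (D : Set G)) : V) = ρ (h : G) (w : V) := rfl

end res

variable {p : ℕ} [Fact p.Prime] {G V : Type v} [Group G] [Finite G] [AddCommGroup V] [Finite V] [Module (ZMod p) V]
  {ρ : Representation (ZMod p) G V} {A : Subgroup G}

/-- a perfect subgroup all of whose `p'`-elements are trivial: impossible for a component -/
theorem isPGroup_of_forall_coprime {L : Subgroup G}
    (h : ∀ x ∈ L, (orderOf x).Coprime p → x = 1) : IsPGroup p L := by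
  rintro ⟨x, hx⟩
  have hpos : orderOf x ≠ 0 := (orderOf_pos x).ne'
  obtain ⟨k, m, hm, hkm⟩ := Nat.exists_eq_pow_mul_and_not_dvd hpos p (Fact.out : p.Prime).ne_one
  refine ⟨k, ?_⟩
  apply Subtype.ext
  show x ^ p ^ k = 1
  apply h _ (L.pow_mem hx _)
  have hord : orderOf (x ^ p ^ k) = m := by
    rw [orderOf_pow' _ (pow_ne_zero k (Fact.out : p.Prime).ne_zero), hkm,
      Nat.gcd_eq_right (dvd_mul_right _ _),
      Nat.mul_div_cancel_left _ (pow_pos (Fact.out : p.Prime).pos k)]
  rw [hord]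
  exact (Nat.Coprime.symm ((Fact.out : p.Prime).coprime_iff_not_dvd.mpr hm))

section setup

variable (ρ) (D H : Subgroup G) (hHD : H ≤ Subgroup.centralizer (D : Set G))

/-- `H̄ = H / C_H(W)` acting on `W = C_V(D)` -/
noncomputable def tauRep : Representation (ZMod p) (H ⧸ (resRep ρ D H hHD).ker) (fix ρ (D : Set G)) :=
  QuotientGroup.lift (resRep ρ D H hHD).ker (resRep ρ D H hHD) (fun _ hx => hx)

theorem tauRep_injective : Function.Injective (tauRep ρ D H hHD) := by
  intro a b
  refine Quotient.inductionOn₂' a b fun a b (h : resRep ρ D H hHD a = resRep ρ D H hHD b) => ?_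
  apply Quotient.sound'
  rw [QuotientGroup.leftRel_apply, MonoidHom.mem_ker, map_mul, ← h, ← map_mul, inv_mul_cancel, map_one]

theorem tauRep_mk (h : H) (w : fix ρ (D : Set G)) :
    ((tauRep ρ D H hHD (QuotientGroup.mk' _ h) w : fix ρ (D : Set G)) : V) = ρ (h : G) (w : V) := rfl

/-- the map `A → H̄` -/
noncomputable def fA (hAH : A ≤ H) : A →* H ⧸ (resRep ρ D H hHD).ker :=
  (QuotientGroup.mk' (resRep ρ D H hHD).ker).comp (Subgroup.inclusion hAH)

theorem fA_apply (hAH : A ≤ H) (a : A) :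
    fA ρ D H hHD hAH a = QuotientGroup.mk' (resRep ρ D H hHD).ker ⟨a, hAH a.2⟩ := rfl

theorem fA_compat (hAH : A ≤ H) (a : A) (w : fix ρ (D : Set G)) :
    (fix ρ (D : Set G)).subtype (tauRep ρ D H hHD (fA ρ D H hHD hAH a) w) =
      ρ (a : G) ((fix ρ (D : Set G)).subtype w) := rfl

end setup

set_option linter.unusedSectionVars false

/-- the image of `L` in `H̄` is abelian, hence trivial: `L` acts trivially on `C_V(D)` -/
theorem loc_ker (hinj : Function.Injective ρ) (hel : IsElementaryAbelian p A) (hoff : BestOffender ρ A)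
    (ih : Holds.{v} p (Nat.card V + Nat.card A))
    (D H L : Subgroup G) (hDA : D ≤ A) (hD : D ≠ ⊥) (hHD : H ≤ Subgroup.centralizer (D : Set G)) (hAH : A ≤ H)
    (hL : IsComponent (L.subgroupOf H)) (b : G) (hb : b ∈ A)
    (hcomm : ∀ x ∈ L, ∀ y ∈ L, (b * x * b⁻¹) * y = y * (b * x * b⁻¹)) :
    ∀ x ∈ L.subgroupOf H, QuotientGroup.mk' (resRep ρ D H hHD).ker x = 1 := by
  classical
  have hτ := tauRep_injective ρ D H hHD
  have hι : Function.Injective (fix ρ (D : Set G)).subtype := Subtype.val_injective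
  have hrange : ∀ w, (fix ρ (D : Set G)).subtype w ∈ fix ρ (D : Set G) := fun w => w.2
  have hrange' : ∀ v ∈ fix ρ (D : Set G), ∃ w, (fix ρ (D : Set G)).subtype w = v := fun v hv => ⟨⟨v, hv⟩, rfl⟩
  have hoff' : BestOffender (tauRep ρ D H hHD) (fA ρ D H hHD hAH).range :=
    bestOffender_range ρ hDA hoff _ hτ _ hι hrange hrange' _ (fA_compat ρ D H hHD hAH)
  have hel' : IsElementaryAbelian p (fA ρ D H hHD hAH).range := isElementaryAbelian_range hel _
  have hlt : Nat.card (fix ρ (D : Set G)) + Nat.card (fA ρ D H hHD hAH).range < Nat.card V + Nat.card A :=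
    card_add_card_lt ρ hinj hD _ hι hrange _
  have hπs : Function.Surjective (QuotientGroup.mk' (resRep ρ D H hHD).ker) := QuotientGroup.mk'_surjective _
  -- key: the image of `L` is abelian
  have hab : ∀ x ∈ L.subgroupOf H, ∀ y ∈ L.subgroupOf H,
      QuotientGroup.mk' (resRep ρ D H hHD).ker x * QuotientGroup.mk' (resRep ρ D H hHD).ker y =
        QuotientGroup.mk' (resRep ρ D H hHD).ker y * QuotientGroup.mk' (resRep ρ D H hHD).ker x := by
    rcases Cfsg.Agent.Lib.Helper22.component_map_of_surjective hL hπs with hbot | hcomp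
    · intro x hx y hy
      have hx1 : QuotientGroup.mk' (resRep ρ D H hHD).ker x = 1 := by
        have : QuotientGroup.mk' (resRep ρ D H hHD).ker x ∈
            (L.subgroupOf H).map (QuotientGroup.mk' (resRep ρ D H hHD).ker) := ⟨x, hx, rfl⟩
        rw [hbot] at this
        exact Subgroup.mem_bot.mp this
      have hy1 : QuotientGroup.mk' (resRep ρ D H hHD).ker y = 1 := by
        have : QuotientGroup.mk' (resRep ρ D H hHD).ker y ∈
            (L.subgroupOf H).map (QuotientGroup.mk' (resRep ρ D H hHD).ker) := ⟨y, hy, rfl⟩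
        rw [hbot] at this
        exact Subgroup.mem_bot.mp this
      rw [hx1, hy1]
    · -- `b̄` normalizes `L̄`
      have hbn : QuotientGroup.mk' (resRep ρ D H hHD).ker ⟨b, hAH hb⟩ ∈ Subgroup.normalizer
          (((L.subgroupOf H).map (QuotientGroup.mk' (resRep ρ D H hHD).ker) :
            Subgroup (H ⧸ (resRep ρ D H hHD).ker)) : Set (H ⧸ (resRep ρ D H hHD).ker)) := by
        by_cases hAbot : (fA ρ D H hHD hAH).range = ⊥
        · have : QuotientGroup.mk' (resRep ρ D H hHD).ker ⟨b, hAH hb⟩ = 1 := by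
            have hm : fA ρ D H hHD hAH ⟨b, hb⟩ ∈ (fA ρ D H hHD hAH).range := ⟨_, rfl⟩
            rw [hAbot] at hm
            exact Subgroup.mem_bot.mp hm
          rw [this]
          exact Subgroup.one_mem _
        · have := ih (H ⧸ (resRep ρ D H hHD).ker) (fix ρ (D : Set G)) (tauRep ρ D H hHD) hτ
            (fA ρ D H hHD hAH).range hAbot hel' hoff' hlt _ hcomp
          exact this ⟨⟨b, hb⟩, rfl⟩
      intro x hx y hy
      -- `x̄ = b̄ x̄' b̄⁻¹`
      have hx' := (Subgroup.mem_normalizer_iff.mp (Subgroup.inv_mem _ hbn)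
        (QuotientGroup.mk' (resRep ρ D H hHD).ker x)).mp ⟨x, hx, rfl⟩
      obtain ⟨x', hx'L, hx'eq⟩ := hx'
      have hc := hcomm (x' : G) hx'L (y : G) hy
      have hcH : (⟨b, hAH hb⟩ : H) * x' * (⟨b, hAH hb⟩ : H)⁻¹ * y = y * ((⟨b, hAH hb⟩ : H) * x' * (⟨b, hAH hb⟩ : H)⁻¹) :=
        Subtype.ext hc
      have := congrArg (QuotientGroup.mk' (resRep ρ D H hHD).ker) hcH
      simp only [map_mul, map_inv] at this
      rw [hx'eq] at this
      simpa [mul_assoc] using this
  -- hence `L ≤ ker σ`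
  have hperf : ⁅L.subgroupOf H, L.subgroupOf H⁆ = L.subgroupOf H :=
    Cfsg.Agent.Lib.Helper22.component_commutator_self hL
  have hmap : ((L.subgroupOf H).map (QuotientGroup.mk' (resRep ρ D H hHD).ker)) = ⊥ := by
    rw [← hperf, Subgroup.map_commutator, Subgroup.commutator_eq_bot_iff_le_centralizer]
    rintro _ ⟨x, hx, rfl⟩
    rw [Subgroup.mem_centralizer_iff]
    rintro _ ⟨y, hy, rfl⟩
    exact hab y hy x hx
  intro x hx
  have : QuotientGroup.mk' (resRep ρ D H hHD).ker x ∈
      (L.subgroupOf H).map (QuotientGroup.mk' (resRep ρ D H hHD).ker) := ⟨x, hx, rfl⟩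
  rw [hmap] at this
  exact Subgroup.mem_bot.mp this

/-- **[LOC]**, with `pq_rep` as a hypothesis. -/
theorem loc_of
    (hpq : ∀ (D : Subgroup G), IsPGroup p D → ∀ x : G, (∀ d ∈ D, d * x = x * d) → (orderOf x).Coprime p →
      (∀ v ∈ fix ρ (D : Set G), ρ x v = v) → x = 1)
    (hinj : Function.Injective ρ) (hel : IsElementaryAbelian p A) (hoff : BestOffender ρ A)
    (ih : Holds.{v} p (Nat.card V + Nat.card A))
    (D H L : Subgroup G) (hDA : D ≤ A) (hD : D ≠ ⊥) (hHD : H ≤ Subgroup.centralizer (D : Set G)) (hAH : A ≤ H)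
    (hLH : L ≤ H) (hL : IsComponent (L.subgroupOf H)) (b : G) (hb : b ∈ A)
    (hcomm : ∀ x ∈ L, ∀ y ∈ L, (b * x * b⁻¹) * y = y * (b * x * b⁻¹)) : False := by
  have hLker := loc_ker hinj hel hoff ih D H L hDA hD hHD hAH hL b hb hcomm
  -- `L` is a `p`-group
  have hDp : IsPGroup p D := by
    rintro ⟨d, hd⟩
    refine ⟨1, ?_⟩
    apply Subtype.ext
    simpa using hel.2 d (hDA hd)
  have hLp : IsPGroup p L := by
    apply isPGroup_of_forall_coprime
    intro x hx hcop
    apply hpq D hDp x _ hcop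
    · intro v hv
      have hxk : (⟨x, hLH hx⟩ : H) ∈ (resRep ρ D H hHD).ker := by
        have := hLker ⟨x, hLH hx⟩ hx
        exact (QuotientGroup.eq_one_iff _).mp this
      have := congrArg (fun (e : Module.End (ZMod p) (fix ρ (D : Set G))) => ((e ⟨v, hv⟩ : fix ρ (D : Set G)) : V))
        (MonoidHom.mem_ker.mp hxk)
      simpa using this
    · intro d hd
      exact Subgroup.mem_centralizer_iff.mp (hHD (hLH hx)) d hd
  -- contradiction
  have hL'p : IsPGroup p (L.subgroupOf H) := hLp.comap_subtype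
  haveI : Group.IsNilpotent (L.subgroupOf H) := hL'p.isNilpotent
  exact Cfsg.Agent.Lib.Helper22.component_not_isSolvable hL inferInstance

end Cfsg.Agent.Lib.Helper39.PgvLoc
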