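import Mathlib
import Cfsg.Prelude.Def_Local
import Cfsg.Prelude.Def_Transfer
import Cfsg.Agent.Lib.Helper41.PGV.Defs
import Cfsg.Agent.Lib.Helper25.PgvPQRep
import Cfsg.Agent.Lib.Helper39.PgvLoc

/-!
# Project PGV (S3086), RED sheet part 1, leaf [LOC] (helper39): the localisation lemma, EXACT sheet statement
(`loc_of` of `PgvLoc.lean` + `pq_rep` of helper25).
-/

set_option autoImplicit false

universe v

namespace Cfsg.Agent.Lib.Helper41.PGV.H39

open Cfsg Cfsg.Agent.Lib.Helper41.PGV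

variable {p : ℕ} [Fact p.Prime] {G V : Type v} [Group G] [Finite G] [AddCommGroup V] [Finite V] [Module (ZMod p) V]
  {ρ : Representation (ZMod p) G V} {A K1 : Subgroup G} {a : G}

/-- **[LOC]** `D ≠ 1` in `A`, `A ≤ H ≤ C_G(D)`, `L` a component of `H`, `b ∈ A`: then `L^b` does not commute with `L`. -/
theorem loc (hinj : Function.Injective ρ) (hel : IsElementaryAbelian p A) (hoff : BestOffender ρ A)
    (ih : Holds.{v} p (Nat.card V + Nat.card A))
    (D H L : Subgroup G) (hDA : D ≤ A) (hD : D ≠ ⊥) (hHD : H ≤ Subgroup.centralizer (D : Set G)) (hAH : A ≤ H)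
    (hLH : L ≤ H) (hL : IsComponent (L.subgroupOf H)) (b : G) (hb : b ∈ A)
    (hcomm : ∀ x ∈ L, ∀ y ∈ L, (b * x * b⁻¹) * y = y * (b * x * b⁻¹)) : False :=
  Cfsg.Agent.Lib.Helper39.PgvLoc.loc_of
    (fun D hD x hx hxp hfix => Cfsg.Agent.Lib.Helper41.PGV.H25.pq_rep hinj D hD x hx hxp hfix)
    hinj hel hoff ih D H L hDA hD hHD hAH hLH hL b hb hcomm

end Cfsg.Agent.Lib.Helper41.PGV.H39
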