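import Mathlib
import Cfsg.Agent.Lib.Helper64.PFElevenDefs
import Cfsg.Agent.Lib.Helper26.ZSpan
import Cfsg.Agent.Lib.Helper26.IrrFactsInst
import Cfsg.Agent.Lib.Helper75.Clifford
import Cfsg.Agent.Lib.Helper74.SibleySetup

set_option autoImplicit false

/-!
PF sec.11 MODULE [E-NORM] (sheet `Lib/Helper64/PF11_MODULES.md`): core, with the facts of module
[DOM] as hypotheses.
-/

namespace Cfsg.Agent.Lib.Helper39.PF11

open Cfsg Cfsg.Agent.Lib.Helper24.PFCyc Cfsg.Agent.Lib.Helper4.PF Cfsg.Agent.Lib.Helper64.PF11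
open Cfsg.Agent.Lib.Helper26
open scoped ComplexConjugate

universe u

variable {G : Type u} [Group G] [Fintype G] {M W₁ U W₂ : Subgroup G} [Fintype M]
  {mu : WChar W₁ W₂ → (↥M → ℂ)} {dl : WChar W₁ W₂ → ℂ} {η : WChar W₁ W₂ → (G → ℂ)}
  {d : ℕ} {δ : ℂ} {n : ℤ}

omit [Fintype G] in
theorem derK_normal (M : Subgroup G) : ((⁅M, M⁆ : Subgroup G).subgroupOf M).Normal := by
  have h : (⁅M, M⁆ : Subgroup G).subgroupOf M = _root_.commutator M := by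
    rw [← Subgroup.map_subtype_commutator]
    exact Subgroup.comap_map_eq_self_of_injective M.subtype_injective _
  rw [h]
  infer_instance

/-- members of `calS M` do not vanish at `1` -/
theorem calS_apply_one_ne_zero (ξ : ↥M → ℂ) (hξ : ξ ∈ calS M) : ξ 1 ≠ 0 := by
  classical
  have hKn : (derK M).Normal := derK_normal M
  obtain ⟨θ, hθ, -, rfl⟩ := (Cfsg.Agent.Lib.Helper74.mem_inducedIrrAbove_bot_iff _).mp hξ
  obtain ⟨e, he, he'⟩ := (irrFacts ↥(derK M)).deg_pos _ hθ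
  rw [Cfsg.Agent.Lib.Helper75.indFun_one, he']
  have h1 : ((derK M).index : ℂ) ≠ 0 := by
    have : (derK M).index ≠ 0 := Subgroup.index_ne_zero_of_finite
    exact_mod_cast this
  have h2 : (e : ℂ) ≠ 0 := by
    have : e ≠ 0 := he.ne'
    exact_mod_cast this
  exact mul_ne_zero h1 h2

theorem E_norm_of
    (hiso : IsLinearIsometryOn (zspanOn (calS0 M mu) ({1}ᶜ : Set ↥M)) (tauM M))
    (hμμ : classInner (muSum mu 1) (muSum mu 1) = (Nat.card W₁ : ℂ))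
    (hμ1 : muSum mu 1 1 = (Nat.card W₁ : ℂ))
    (hμξ : ∀ ξ ∈ calS M, classInner (muSum mu 1) ξ = 0 ∧ classInner ξ (muSum mu 1) = 0)
    (Z : Set (↥M → ℂ)) (hZ : Z ⊆ calS M)
    (τ₁ : (↥M → ℂ) → (G → ℂ)) (hτ₁ : IsLinearIsometryOn (zspan Z) τ₁)
    (g : ℕ) (a : (↥M → ℂ) → ℕ)
    (ha : ∀ ξ ∈ Z, ξ 1 = ((Nat.card W₁ * g * a ξ : ℕ) : ℂ))
    (ξ₀ : ↥M → ℂ) (hξ₀ : ξ₀ ∈ Z) (ha₀ : a ξ₀ = 1)
    (E : G → ℂ) (hE : IsGeneralizedCharacter G E)
    (hstar : ∀ ξ ∈ Z,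
      tauM M (((g * a ξ : ℕ) : ℂ) • muSum mu 1 - ξ) = ((a ξ : ℕ) : ℂ) • E - τ₁ ξ) :
    ∃ k : ℤ, classInner E E = ((g : ℂ) ^ 2 * (Nat.card W₁ : ℂ) + 2 * (k : ℂ)) ∧
      ∀ ξ ∈ Z, classInner E (τ₁ ξ) = ((a ξ : ℕ) : ℂ) * (k : ℂ) := by
  have FG := irrFacts G
  -- the basic identity for every `ξ ∈ Z`
  have key : ∀ ξ ∈ Z, ∃ kξ : ℤ, classInner E (τ₁ ξ) = (kξ : ℂ) ∧
      ((a ξ : ℕ) : ℂ) ^ 2 * classInner E E - 2 * ((a ξ : ℕ) : ℂ) * (kξ : ℂ) =
        (g : ℂ) ^ 2 * ((a ξ : ℕ) : ℂ) ^ 2 * (Nat.card W₁ : ℂ) := by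
    intro ξ hξ
    have hξS : ξ ∈ calS M := hZ hξ
    have hξz : ξ ∈ zspan Z := subset_zspan _ hξ
    obtain ⟨kξ, hk⟩ := FG.inner_int hE (hτ₁.2.2.2 ξ hξz)
    refine ⟨kξ, hk, ?_⟩
    set c : ℂ := ((g * a ξ : ℕ) : ℂ) with hc
    have hαdom : c • muSum mu 1 - ξ ∈ zspanOn (calS0 M mu) ({1}ᶜ : Set ↥M) := by
      rw [mem_zspanOn_compl_one]
      constructor
      · apply zspan_sub
        · exact zspan_natCast_smul _ (subset_zspan _ (Set.mem_insert _ _))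
        · exact subset_zspan _ (Set.mem_insert_of_mem _ hξS)
      · show c * muSum mu 1 1 - ξ 1 = 0
        rw [hμ1, ha ξ hξ, hc]
        push_cast
        ring
    have h1 := hiso.2.2.1 _ hαdom _ hαdom
    rw [hstar ξ hξ] at h1
    have hTT : classInner (τ₁ ξ) (τ₁ ξ) = classInner ξ ξ := hτ₁.2.2.1 ξ hξz ξ hξz
    have hTE : classInner (τ₁ ξ) E = (kξ : ℂ) := by
      rw [← classInner_conj_symm, hk]
      simp
    have hconjc : conj c = c := by rw [hc]; simp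
    have hconja : conj (((a ξ : ℕ) : ℂ)) = ((a ξ : ℕ) : ℂ) := by simp
    rw [classInner_sub_left, classInner_sub_right, classInner_sub_right,
      classInner_smul_left, classInner_smul_right, classInner_smul_right, classInner_smul_left,
      hTT, hTE, hk, hconja,
      classInner_sub_left, classInner_sub_right, classInner_sub_right,
      classInner_smul_left, classInner_smul_right, classInner_smul_right, classInner_smul_left,
      hμμ, (hμξ ξ hξS).1, (hμξ ξ hξS).2, hconjc] at h1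
    have hc2 : c = (g : ℂ) * ((a ξ : ℕ) : ℂ) := by rw [hc]; push_cast; ring
    rw [hc2] at h1
    linear_combination h1
  obtain ⟨k, hk, hk2⟩ := key ξ₀ hξ₀
  have hEE : classInner E E = (g : ℂ) ^ 2 * (Nat.card W₁ : ℂ) + 2 * (k : ℂ) := by
    rw [ha₀] at hk2
    push_cast at hk2
    linear_combination hk2
  refine ⟨k, hEE, ?_⟩
  intro ξ hξ
  obtain ⟨kξ, hkξ, hkξ2⟩ := key ξ hξ
  rw [hkξ]
  have ha0 : ((a ξ : ℕ) : ℂ) ≠ 0 := by
    intro h0
    have h0' : a ξ = 0 := by exact_mod_cast h0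
    apply calS_apply_one_ne_zero ξ (hZ hξ)
    rw [ha ξ hξ, h0']
    simp
  rw [hEE] at hkξ2
  have h2 : (2 : ℂ) * ((a ξ : ℕ) : ℂ) ≠ 0 := mul_ne_zero two_ne_zero ha0
  apply mul_left_cancel₀ h2
  linear_combination -hkξ2

end Cfsg.Agent.Lib.Helper39.PF11
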