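import Mathlib
import Cfsg.Agent.Lib.Helper64.PFElevenDefs
import Cfsg.Agent.Lib.Helper51.PFElevenDom
import Cfsg.Agent.Lib.Helper39.PFElevenENormOf

set_option autoImplicit false

/-!
PF sec.11 MODULE [E-NORM] (sheet `Lib/Helper64/PF11_MODULES.md`): exact statement, with module
[DOM] of helper51 plugged in.
-/

namespace Cfsg.Agent.Lib.Helper39.PF11

open Cfsg Cfsg.Agent.Lib.Helper24.PFCyc Cfsg.Agent.Lib.Helper4.PF Cfsg.Agent.Lib.Helper64.PF11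

universe u

variable {G : Type u} [Group G] [Fintype G] {M W₁ U W₂ : Subgroup G} [Fintype M]
  {mu : WChar W₁ W₂ → (↥M → ℂ)} {dl : WChar W₁ W₂ → ℂ} {η : WChar W₁ W₂ → (G → ℂ)}
  {d : ℕ} {δ : ℂ} {n : ℤ}

theorem E_norm (F : Frame M W₁ U W₂ mu dl η d δ n)
    (Z : Set (↥M → ℂ)) (hZ : Z ⊆ calS M)
    (τ₁ : (↥M → ℂ) → (G → ℂ)) (hτ₁ : IsLinearIsometryOn (zspan Z) τ₁)
    (g : ℕ) (hg : 0 < g) (a : (↥M → ℂ) → ℕ)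
    (ha : ∀ ξ ∈ Z, ξ 1 = ((Nat.card W₁ * g * a ξ : ℕ) : ℂ))
    (ξ₀ : ↥M → ℂ) (hξ₀ : ξ₀ ∈ Z) (ha₀ : a ξ₀ = 1)
    (E : G → ℂ) (hE : IsGeneralizedCharacter G E)
    (hstar : ∀ ξ ∈ Z,
      tauM M (((g * a ξ : ℕ) : ℂ) • muSum mu 1 - ξ) = ((a ξ : ℕ) : ℂ) • E - τ₁ ξ) :
    ∃ k : ℤ, classInner E E = ((g : ℂ) ^ 2 * (Nat.card W₁ : ℂ) + 2 * (k : ℂ)) ∧
      ∀ ξ ∈ Z, classInner E (τ₁ ξ) = ((a ξ : ℕ) : ℂ) * (k : ℂ) := by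
  have _ := hg
  have hdom := Cfsg.Agent.Lib.Helper51.PF11.tau_isometry F
  have hin := Cfsg.Agent.Lib.Helper51.PF11.calS0_inner F
  exact E_norm_of hdom.1 hin.1 hin.2.2.1
    (fun ξ hξ => ⟨(hin.2.2.2.1 ξ hξ).1, (hin.2.2.2.1 ξ hξ).2.1⟩)
    Z hZ τ₁ hτ₁ g a ha ξ₀ hξ₀ ha₀ E hE hstar

end Cfsg.Agent.Lib.Helper39.PF11
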