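import Mathlib
import Cfsg.Prelude.Def_Local
import Cfsg.Prelude.Def_Transfer
import Cfsg.Agent.Lib.Helper26.PGV.End2Defs
import Cfsg.Agent.Lib.Helper21.Quasisimple

/-!
# Project PGV (S3086), END2 sheet (helper26), leaf [REG-BETA] (helper39, hedge): step (6),
`β : B →* RingAut (AA r K)`, `β_b ξ = r b ξ r b⁻¹`, injective.
-/

set_option autoImplicit false

namespace Cfsg.Agent.Lib.Helper39.PgvRegBeta

open Cfsg Cfsg.Agent.Lib.Helper26.PGV
open scoped commutatorElement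

universe u

section general

variable {H : Type*} [Group H]

/-- an element `q` normalizing the perfect subgroup `L` with `[L, q] ≤ Z(L)` centralizes `L`
(the proof of helper95's `centralizes_of_comm_central`, for a perfect subgroup of any group) -/
theorem centralizes_of_comm_central_of_perfect {L : Subgroup H} (hperf' : Group.IsPerfect L) (q : H)
    (hqN : ∀ x ∈ L, q * x * q⁻¹ ∈ L)
    (hc : ∀ x ∈ L, ∀ y ∈ L, (q * x * q⁻¹ * x⁻¹) * y = y * (q * x * q⁻¹ * x⁻¹)) :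
    ∀ x ∈ L, q * x = x * q := by
  have hmemL : ∀ x ∈ L, q * x * q⁻¹ * x⁻¹ ∈ L := fun x hx =>
    L.mul_mem (hqN x hx) (L.inv_mem hx)
  let f : ↥L →* H := MonoidHom.mk' (fun x => q * (x : H) * q⁻¹ * (x : H)⁻¹) (by
    intro x y
    have h1 := hc (y : H) y.2 ((x : H)⁻¹) (L.inv_mem x.2)
    show q * ((x : H) * (y : H)) * q⁻¹ * ((x : H) * (y : H))⁻¹
      = q * (x : H) * q⁻¹ * (x : H)⁻¹ * (q * (y : H) * q⁻¹ * (y : H)⁻¹)
    calc q * ((x : H) * (y : H)) * q⁻¹ * ((x : H) * (y : H))⁻¹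
        = q * (x : H) * q⁻¹ * ((q * (y : H) * q⁻¹ * (y : H)⁻¹) * (x : H)⁻¹) := by group
      _ = q * (x : H) * q⁻¹ * ((x : H)⁻¹ * (q * (y : H) * q⁻¹ * (y : H)⁻¹)) := by rw [h1]
      _ = q * (x : H) * q⁻¹ * (x : H)⁻¹ * (q * (y : H) * q⁻¹ * (y : H)⁻¹) := by group)
  have hf : ∀ x : ↥L, f x = q * (x : H) * q⁻¹ * (x : H)⁻¹ := fun _ => rfl
  have hfcomm : ∀ x y : ↥L, f x * f y = f y * f x := by
    intro x y
    rw [hf x, hf y]
    exact hc (x : H) x.2 _ (hmemL (y : H) y.2)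
  have hker : commutator ↥L ≤ f.ker := by
    rw [commutator_eq_closure, Subgroup.closure_le]
    rintro g ⟨a, b, rfl⟩
    show f ⁅a, b⁆ = 1
    rw [map_commutatorElement, commutatorElement_def, hfcomm a b]
    group
  have hperf : commutator ↥L = ⊤ := Group.IsPerfect.commutator_eq_top
  intro x hx
  have h1 : f ⟨x, hx⟩ = 1 := by
    have : (⟨x, hx⟩ : ↥L) ∈ f.ker := hker (by rw [hperf]; trivial)
    exact this
  rw [hf] at h1
  have h2 : q * x * q⁻¹ * x⁻¹ = 1 := h1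
  calc q * x = (q * x * q⁻¹ * x⁻¹) * (x * q) := by group
    _ = x * q := by rw [h2, one_mul]

end general

variable {H : Type*} {W : Type u} [Group H] [AddCommGroup W] [Module (ZMod 2) W]
variable (r : Representation (ZMod 2) H W) (K B : Subgroup H) (a : H)

theorem r_mul_inv (b : H) : r b * r b⁻¹ = 1 := by rw [← map_mul, mul_inv_cancel, map_one]

theorem r_inv_mul (b : H) : r b⁻¹ * r b = 1 := by rw [← map_mul, inv_mul_cancel, map_one]

/-- conjugation by `r b` preserves `AA r K` when `b` normalizes `K` -/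
theorem conj_mem_AA {b : H} (hb : ∀ x ∈ K, b * x * b⁻¹ ∈ K) {ξ : Module.End (ZMod 2) W} (hξ : ξ ∈ AA r K) :
    r b * ξ * r b⁻¹ ∈ AA r K := by
  unfold AA at hξ ⊢
  induction hξ using Algebra.adjoin_induction with
  | mem ξ hξ =>
    obtain ⟨x, hx, rfl⟩ := hξ
    apply Algebra.subset_adjoin
    exact ⟨b * x * b⁻¹, hb x hx, by rw [map_mul, map_mul]⟩
  | algebraMap c =>
    have : r b * (algebraMap (ZMod 2) (Module.End (ZMod 2) W) c) * r b⁻¹ =
        algebraMap (ZMod 2) (Module.End (ZMod 2) W) c := by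
      rw [← Algebra.commutes c (r b), mul_assoc, r_mul_inv, mul_one]
    rw [this]
    exact Subalgebra.algebraMap_mem _ c
  | add x y _ _ hx hy =>
    rw [mul_add, add_mul]
    exact Subalgebra.add_mem _ hx hy
  | mul x y _ _ hx hy =>
    have : r b * (x * y) * r b⁻¹ = (r b * x * r b⁻¹) * (r b * y * r b⁻¹) := by
      calc r b * (x * y) * r b⁻¹ = r b * x * 1 * y * r b⁻¹ := by simp [mul_assoc]
        _ = (r b * x * r b⁻¹) * (r b * y * r b⁻¹) := by rw [← r_inv_mul r b]; simp only [mul_assoc]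
    rw [this]
    exact Subalgebra.mul_mem _ hx hy

/-- the ring automorphism `β_b` of `AA r K` -/
noncomputable def betaAut (b : H) (hb : ∀ x ∈ K, b * x * b⁻¹ ∈ K) (hb' : ∀ x ∈ K, b⁻¹ * x * b⁻¹⁻¹ ∈ K) :
    RingAut (AA r K) where
  toFun ξ := ⟨r b * ξ * r b⁻¹, conj_mem_AA r K hb ξ.2⟩
  invFun ξ := ⟨r b⁻¹ * ξ * r b⁻¹⁻¹, conj_mem_AA r K hb' ξ.2⟩
  left_inv ξ := by
    apply Subtype.ext
    show r b⁻¹ * (r b * ξ * r b⁻¹) * r b⁻¹⁻¹ = ξ
    rw [inv_inv]
    calc r b⁻¹ * (r b * ξ * r b⁻¹) * r b = (r b⁻¹ * r b) * ξ * (r b⁻¹ * r b) := by simp only [mul_assoc]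
      _ = ξ := by rw [r_inv_mul, one_mul, mul_one]
  right_inv ξ := by
    apply Subtype.ext
    show r b * (r b⁻¹ * ξ * r b⁻¹⁻¹) * r b⁻¹ = ξ
    rw [inv_inv]
    calc r b * (r b⁻¹ * ξ * r b) * r b⁻¹ = (r b * r b⁻¹) * ξ * (r b * r b⁻¹) := by simp only [mul_assoc]
      _ = ξ := by rw [r_mul_inv, one_mul, mul_one]
  map_mul' ξ η := by
    apply Subtype.ext
    show r b * ((ξ : Module.End (ZMod 2) W) * η) * r b⁻¹ = (r b * ξ * r b⁻¹) * (r b * η * r b⁻¹)
    calc r b * ((ξ : Module.End (ZMod 2) W) * η) * r b⁻¹ = r b * ξ * 1 * η * r b⁻¹ := by simp [mul_assoc]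
      _ = (r b * ξ * r b⁻¹) * (r b * η * r b⁻¹) := by rw [← r_inv_mul r b]; simp only [mul_assoc]
  map_add' ξ η := by
    apply Subtype.ext
    show r b * ((ξ : Module.End (ZMod 2) W) + η) * r b⁻¹ = (r b * ξ * r b⁻¹) + (r b * η * r b⁻¹)
    rw [mul_add, add_mul]

theorem betaAut_coe (b : H) (hb : ∀ x ∈ K, b * x * b⁻¹ ∈ K) (hb' : ∀ x ∈ K, b⁻¹ * x * b⁻¹⁻¹ ∈ K)
    (ξ : AA r K) :
    ((betaAut r K b hb hb' ξ : AA r K) : Module.End (ZMod 2) W) = r b * ξ * r b⁻¹ := rfl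

/-- **[REG-BETA]** step (6). -/
theorem exists_beta [Finite H] [Finite W] (c : Cfg r K B a) {m : W} (hm : Pt r B a m) :
    ∃ β : B →* RingAut (AA r K), Function.Injective β ∧
      (∀ (b : B) (ξ : AA r K), ((β b ξ : AA r K) : Module.End (ZMod 2) W) = r b * ξ * r (b : H)⁻¹) ∧
      (∀ (b : B) (ξ : AA r K), ((β b ξ : AA r K) : Module.End (ZMod 2) W) m = r b ((ξ : Module.End (ZMod 2) W) m)) := by
  have hN : ∀ b : B, ∀ x ∈ K, (b : H) * x * (b : H)⁻¹ ∈ K := fun b => c.hBK b b.2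
  have hN' : ∀ b : B, ∀ x ∈ K, (b : H)⁻¹ * x * (b : H)⁻¹⁻¹ ∈ K := fun b => c.hBK _ (B.inv_mem b.2)
  let β : B →* RingAut (AA r K) :=
    { toFun := fun b => betaAut r K b (hN b) (hN' b)
      map_one' := by
        apply RingEquiv.ext
        intro ξ
        apply Subtype.ext
        rw [betaAut_coe]
        simp
      map_mul' := by
        intro b c'
        apply RingEquiv.ext
        intro ξ
        apply Subtype.ext
        rw [RingAut.mul_apply, betaAut_coe, betaAut_coe, betaAut_coe]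
        simp only [Subgroup.coe_mul, mul_inv_rev, map_mul, mul_assoc] }
  have hβ : ∀ (b : B) (ξ : AA r K), ((β b ξ : AA r K) : Module.End (ZMod 2) W) = r b * ξ * r (b : H)⁻¹ :=
    fun b ξ => rfl
  refine ⟨β, ?_, hβ, ?_⟩
  · -- injectivity
    rw [injective_iff_map_eq_one]
    intro b hb1
    -- `r (b x b⁻¹ x⁻¹) = 1` on `K`
    have h1 : ∀ x ∈ K, r ((b : H) * x * (b : H)⁻¹ * x⁻¹) = 1 := by
      intro x hx
      have := hβ b ⟨r x, Algebra.subset_adjoin ⟨x, hx, rfl⟩⟩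
      rw [hb1] at this
      have h2 : r x = r (b : H) * r x * r (b : H)⁻¹ := this
      rw [map_mul, map_mul, map_mul, ← h2, ← map_mul, mul_inv_cancel, map_one]
    -- the kernel of `r` on `K` is central
    have hperf : Group.IsPerfect K := c.hKqs.1
    let N : Subgroup K := (r.comp K.subtype).ker
    have hNne : N ≠ ⊤ := by
      intro htop
      obtain ⟨x, hx, w, hw⟩ := c.hKnt
      have : (⟨x, hx⟩ : K) ∈ N := by rw [htop]; trivial
      have h3 : r x = 1 := MonoidHom.mem_ker.mp this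
      exact hw (by rw [h3]; rfl)
    have hNc : N ≤ Subgroup.center K := by
      rcases Cfsg.Agent.Lib.Helper21.qs_normal_eq_top_or_le_center c.hKqs N with h | h
      · exact absurd h hNne
      · exact h
    have hc : ∀ x ∈ K, ∀ y ∈ K, ((b : H) * x * (b : H)⁻¹ * x⁻¹) * y = y * ((b : H) * x * (b : H)⁻¹ * x⁻¹) := by
      intro x hx y hy
      have hmem : (b : H) * x * (b : H)⁻¹ * x⁻¹ ∈ K := K.mul_mem (hN b x hx) (K.inv_mem hx)
      have hk : (⟨_, hmem⟩ : K) ∈ N := MonoidHom.mem_ker.mpr (h1 x hx)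
      have := Subgroup.mem_center_iff.mp (hNc hk) ⟨y, hy⟩
      exact (congrArg Subtype.val this).symm
    have hcent := centralizes_of_comm_central_of_perfect hperf (b : H) (hN b) hc
    have hb : (b : H) = 1 := by
      apply c.hBfaith b b.2
      intro x hx
      rw [hcent x hx, mul_assoc, mul_inv_cancel, mul_one]
    exact Subtype.ext hb
  · intro b ξ
    rw [hβ]
    show r b (ξ.1 (r (b : H)⁻¹ m)) = _
    rw [hm.fixed _ (B.inv_mem b.2)]

end Cfsg.Agent.Lib.Helper39.PgvRegBeta
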