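import Mathlib
import Cfsg.Agent.Lib.Helper36.Tri.GeoDefs
import Cfsg.Agent.Lib.Helper36.MaxTS

set_option autoImplicit false

/-!
TRI8 MODULE [G-A] (board #4044): the point of a pencil of totally singular lines is recovered
from the collinearity / commuting relations.
-/

namespace Cfsg.Agent.Lib.Helper39.TriG

open Cfsg.Agent.Lib.Helper36 Cfsg.Agent.Lib.Helper36.AutO Cfsg.Agent.Lib.Helper36.Tri Module
open Cfsg.Agent.Lib.Helper13 hiding isoGroup mem_isoGroup

variable {F V : Type*} [Field F] [AddCommGroup V] [Module F V]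

local notation "pol" => QuadraticMap.polar

theorem pol_self_zero (Q : QuadraticForm F V) (t : V) (ht : Q t = 0) : pol (⇑Q) t t = 0 := by
  rw [QuadraticMap.polar_self, ht, smul_zero]

/-- a vector of `span {p, w}` not proportional to `p` pairs non-trivially with `w'` -/
theorem pol_comb_right {Q : QuadraticForm F V} {p w w' : V} (h' : IsLine Q p w') (α β : F) :
    pol (⇑Q) (α • p + β • w) w' = β * pol (⇑Q) w w' := by
  rw [QuadraticMap.polar_add_left, QuadraticMap.polar_smul_left, QuadraticMap.polar_smul_left,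
    h'.hpw]
  simp

theorem mem_of_smul_mem {K : Submodule F V} {p : V} {α : F} (hα : α ≠ 0) (h : α • p ∈ K) :
    p ∈ K := by
  have := K.smul_mem α⁻¹ h
  rwa [smul_smul, inv_mul_cancel₀ hα, one_smul] at this

theorem nbr_pt {Q : QuadraticForm F V} {p w w' j₁ j₂ : V} (_h : IsLine Q p w) (h' : IsLine Q p w')
    (hc : pol (⇑Q) w w' ≠ 0) (_hj : IsLine Q j₁ j₂)
    (h1 : LColl Q (Submodule.span F {j₁, j₂}) (Submodule.span F {p, w}))
    (h2 : LColl Q (Submodule.span F {j₁, j₂}) (Submodule.span F {p, w'})) :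
    p ∈ Submodule.span F {j₁, j₂} := by
  obtain ⟨x, hx0, hxJ, hxL⟩ := h1.2
  obtain ⟨α, β, rfl⟩ := Submodule.mem_span_pair.1 hxL
  have hw' : w' ∈ Submodule.span F {p, w'} := Submodule.subset_span (by simp)
  have h0 := h2.1 _ hxJ w' hw'
  rw [pol_comb_right h'] at h0
  have hβ : β = 0 := (mul_eq_zero.1 h0).resolve_right hc
  rw [hβ, zero_smul, add_zero] at hx0 hxJ
  have hα : α ≠ 0 := by
    rintro rfl
    exact hx0 (zero_smul _ _)
  exact mem_of_smul_mem hα hxJ

/-- if `K` meets `span {p, w}` but does not contain `p`, then `K` is not orthogonal to `w'` -/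
theorem meet_not_perp {Q : QuadraticForm F V} {p w w' : V} (h' : IsLine Q p w')
    (hc : pol (⇑Q) w w' ≠ 0) {K : Submodule F V} (hpK : p ∉ K)
    (hm : LMeet K (Submodule.span F {p, w})) : ¬ LPerp Q K (Submodule.span F {p, w'}) := by
  intro hperp
  obtain ⟨x, hx0, hxK, hxL⟩ := hm
  obtain ⟨α, β, rfl⟩ := Submodule.mem_span_pair.1 hxL
  have hw' : w' ∈ Submodule.span F {p, w'} := Submodule.subset_span (by simp)
  have h0 := hperp _ hxK w' hw'
  rw [pol_comb_right h'] at h0
  have hβ : β = 0 := (mul_eq_zero.1 h0).resolve_right hc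
  rw [hβ, zero_smul, add_zero] at hx0 hxK
  have hα : α ≠ 0 := by
    rintro rfl
    exact hx0 (zero_smul _ _)
  exact hpK (mem_of_smul_mem hα hxK)

theorem star_pt [FiniteDimensional F V] {Q : QuadraticForm F V}
    (hQ : (QuadraticMap.polarBilin Q).Nondegenerate) {p w w' k₁ k₂ : V}
    (h : IsLine Q p w) (h' : IsLine Q p w') (hc : pol (⇑Q) w w' ≠ 0) (hk : IsLine Q k₁ k₂)
    (hL : LComm Q (Submodule.span F {k₁, k₂}) (Submodule.span F {p, w}))
    (hL' : LComm Q (Submodule.span F {k₁, k₂}) (Submodule.span F {p, w'}))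
    (hN : ∀ j₁ j₂ : V, IsLine Q j₁ j₂ →
      LColl Q (Submodule.span F {j₁, j₂}) (Submodule.span F {p, w}) →
      LColl Q (Submodule.span F {j₁, j₂}) (Submodule.span F {p, w'}) →
      LComm Q (Submodule.span F {k₁, k₂}) (Submodule.span F {j₁, j₂})) :
    p ∈ Submodule.span F {k₁, k₂} := by
  by_contra hpK
  set K := Submodule.span F {k₁, k₂} with hK
  have hc' : pol (⇑Q) w' w ≠ 0 := by rw [QuadraticMap.polar_comm]; exact hc
  have hk₁K : k₁ ∈ K := Submodule.subset_span (by simp)
  have hpL : p ∈ Submodule.span F {p, w} := Submodule.subset_span (by simp)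
  have hwL : w ∈ Submodule.span F {p, w} := Submodule.subset_span (by simp)
  have hpL' : p ∈ Submodule.span F {p, w'} := Submodule.subset_span (by simp)
  have hw'L' : w' ∈ Submodule.span F {p, w'} := Submodule.subset_span (by simp)
  -- `K` is orthogonal to both lines
  have hperp : LPerp Q K (Submodule.span F {p, w}) ∧ LPerp Q K (Submodule.span F {p, w'}) := by
    rcases hL with hP | hM
    · rcases hL' with hP' | hM'
      · exact ⟨hP, hP'⟩
      · exact absurd hP (meet_not_perp h hc' hpK hM')
    · rcases hL' with hP' | hM'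
      · exact absurd hP' (meet_not_perp h' hc hpK hM)
      · exfalso
        -- two points of `K`, one on each line
        obtain ⟨x, hx0, hxK, hxL⟩ := hM
        obtain ⟨α, β, rfl⟩ := Submodule.mem_span_pair.1 hxL
        obtain ⟨x', hx'0, hx'K, hx'L⟩ := hM'
        obtain ⟨α', β', rfl⟩ := Submodule.mem_span_pair.1 hx'L
        have hβ : β ≠ 0 := by
          rintro rfl
          rw [zero_smul, add_zero] at hx0 hxK
          have hα : α ≠ 0 := by
            rintro rfl
            exact hx0 (zero_smul _ _)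
          exact hpK (mem_of_smul_mem hα hxK)
        have hβ' : β' ≠ 0 := by
          rintro rfl
          rw [zero_smul, add_zero] at hx'0 hx'K
          have hα : α' ≠ 0 := by
            rintro rfl
            exact hx'0 (zero_smul _ _)
          exact hpK (mem_of_smul_mem hα hx'K)
        have h0 := hk.pol_span hxK hx'K
        rw [QuadraticMap.polar_add_right, QuadraticMap.polar_smul_right,
          QuadraticMap.polar_smul_right, pol_comb_right h',
          QuadraticMap.polar_add_left, QuadraticMap.polar_smul_left,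
          QuadraticMap.polar_smul_left, pol_self_zero Q p h.hp, h.hwp] at h0
        simp only [smul_eq_mul, mul_zero, add_zero, zero_add] at h0
        rcases mul_eq_zero.1 h0 with h00 | h00
        · exact hβ' h00
        · rcases mul_eq_zero.1 h00 with h00 | h00
          · exact hβ h00
          · exact hc h00
  obtain ⟨hP, hP'⟩ := hperp
  have hk₁p : pol (⇑Q) k₁ p = 0 := hP k₁ hk₁K p hpL
  have hk₁w : pol (⇑Q) k₁ w = 0 := hP k₁ hk₁K w hwL
  have hk₁w' : pol (⇑Q) k₁ w' = 0 := hP' k₁ hk₁K w' hw'L'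
  -- `k₁` is not in the span of `p, w, w'`
  set S : Submodule F V := Submodule.span F {p, w, w'} with hS
  have hk₁S : k₁ ∉ S := by
    intro hmem
    obtain ⟨α, β, γ, hk₁⟩ := Submodule.mem_span_triple.1 hmem
    have e1 : pol (⇑Q) k₁ w' = β * pol (⇑Q) w w' := by
      rw [← hk₁, QuadraticMap.polar_add_left, QuadraticMap.polar_add_left,
        QuadraticMap.polar_smul_left, QuadraticMap.polar_smul_left, QuadraticMap.polar_smul_left,
        h'.hpw, pol_self_zero Q w' h'.hw]
      simp
    have e2 : pol (⇑Q) k₁ w = γ * pol (⇑Q) w' w := by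
      rw [← hk₁, QuadraticMap.polar_add_left, QuadraticMap.polar_add_left,
        QuadraticMap.polar_smul_left, QuadraticMap.polar_smul_left, QuadraticMap.polar_smul_left,
        h.hpw, pol_self_zero Q w h.hw]
      simp
    rw [hk₁w'] at e1
    rw [hk₁w] at e2
    have hβ : β = 0 := (mul_eq_zero.1 e1.symm).resolve_right hc
    have hγ : γ = 0 := (mul_eq_zero.1 e2.symm).resolve_right hc'
    rw [hβ, hγ, zero_smul, zero_smul, add_zero, add_zero] at hk₁
    have hα : α ≠ 0 := by
      rintro rfl
      rw [zero_smul] at hk₁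
      exact hk.hp0 hk₁.symm
    apply hpK
    apply mem_of_smul_mem hα
    rw [hk₁]
    exact hk₁K
  -- a vector `t ⊥ p, w, w'` with `pol t k₁ ≠ 0`
  obtain ⟨t, htS, htk⟩ : ∃ t ∈ perp Q S, pol (⇑Q) t k₁ ≠ 0 := by
    by_contra hcon
    push Not at hcon
    apply hk₁S
    have hrefl : (QuadraticMap.polarBilin Q : LinearMap.BilinForm F V).IsRefl := by
      intro x y hxy
      show pol (⇑Q) y x = 0
      rw [QuadraticMap.polar_comm]
      exact hxy
    have hdd := LinearMap.BilinForm.orthogonal_orthogonal hQ hrefl S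
    rw [← hdd]
    intro t ht
    exact hcon t ht
  have htp : pol (⇑Q) p t = 0 := htS p (Submodule.subset_span (by simp))
  have htw : pol (⇑Q) w t = 0 := htS w (Submodule.subset_span (by simp))
  have htw' : pol (⇑Q) w' t = 0 := htS w' (Submodule.subset_span (by simp))
  -- make it singular
  set c : F := Q t / pol (⇑Q) t k₁ with hcdef
  set hh : V := t - c • k₁ with hhdef
  have hQhh : Q hh = 0 := by
    have e : hh = t + (-c) • k₁ := by rw [hhdef, neg_smul, sub_eq_add_neg]
    rw [e, Q_add', QuadraticMap.map_smul, hk.hp, QuadraticMap.polar_smul_right]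
    have hcm : c * pol (⇑Q) t k₁ = Q t := div_mul_cancel₀ _ htk
    simp only [smul_eq_mul, mul_zero, add_zero]
    linear_combination -hcm
  have hhk : pol (⇑Q) hh k₁ = pol (⇑Q) t k₁ := by
    rw [hhdef, QuadraticMap.polar_sub_left, QuadraticMap.polar_smul_left,
      pol_self_zero Q k₁ hk.hp]
    simp
  have hph : pol (⇑Q) p hh = 0 := by
    rw [hhdef, QuadraticMap.polar_sub_right, QuadraticMap.polar_smul_right, htp,
      QuadraticMap.polar_comm, hk₁p]
    simp
  have hwh : pol (⇑Q) w hh = 0 := by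
    rw [hhdef, QuadraticMap.polar_sub_right, QuadraticMap.polar_smul_right, htw,
      QuadraticMap.polar_comm (⇑Q) w k₁, hk₁w]
    simp
  have hw'h : pol (⇑Q) w' hh = 0 := by
    rw [hhdef, QuadraticMap.polar_sub_right, QuadraticMap.polar_smul_right, htw',
      QuadraticMap.polar_comm (⇑Q) w' k₁, hk₁w']
    simp
  have hJ : IsLine Q p hh := by
    refine ⟨h.hp0, ?_, h.hp, hQhh, hph⟩
    intro c' hc'
    apply htk
    rw [← hhk, hc', QuadraticMap.polar_smul_left, QuadraticMap.polar_comm, hk₁p, smul_zero]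
  have hpJ : p ∈ Submodule.span F {p, hh} := Submodule.subset_span (by simp)
  have hhJ : hh ∈ Submodule.span F {p, hh} := Submodule.subset_span (by simp)
  have hJL : LColl Q (Submodule.span F {p, hh}) (Submodule.span F {p, w}) := by
    refine ⟨?_, p, h.hp0, hpJ, hpL⟩
    rw [lperp_span_iff]
    refine ⟨pol_self_zero Q p h.hp, h.hpw, ?_, ?_⟩
    · rw [QuadraticMap.polar_comm]; exact hph
    · rw [QuadraticMap.polar_comm]; exact hwh
  have hJL' : LColl Q (Submodule.span F {p, hh}) (Submodule.span F {p, w'}) := by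
    refine ⟨?_, p, h.hp0, hpJ, hpL'⟩
    rw [lperp_span_iff]
    refine ⟨pol_self_zero Q p h.hp, h'.hpw, ?_, ?_⟩
    · rw [QuadraticMap.polar_comm]; exact hph
    · rw [QuadraticMap.polar_comm]; exact hw'h
  rcases hN p hh hJ hJL hJL' with hKJ | hKJ
  · have := hKJ k₁ hk₁K hh hhJ
    rw [QuadraticMap.polar_comm, hhk] at this
    exact htk this
  · obtain ⟨z, hz0, hzK, hzJ⟩ := hKJ
    obtain ⟨α, β, rfl⟩ := Submodule.mem_span_pair.1 hzJ
    have h0 := hk.pol_span hzK hk₁K
    rw [QuadraticMap.polar_add_left, QuadraticMap.polar_smul_left, QuadraticMap.polar_smul_left,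
      QuadraticMap.polar_comm (⇑Q) p k₁, hk₁p, hhk] at h0
    simp only [smul_eq_mul, mul_zero, zero_add] at h0
    have hβ : β = 0 := (mul_eq_zero.1 h0).resolve_right htk
    rw [hβ, zero_smul, add_zero] at hz0 hzK
    have hα : α ≠ 0 := by
      rintro rfl
      exact hz0 (zero_smul _ _)
    exact hpK (mem_of_smul_mem hα hzK)

end Cfsg.Agent.Lib.Helper39.TriG
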