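import Mathlib
import Cfsg.Agent.Lib.Helper36.Tri.StarDefs
import Cfsg.Agent.Lib.Helper36.Tri.TauGrp
import Cfsg.Agent.Lib.Helper36.AutO.Transfer2
import Cfsg.Agent.Lib.Helper39.TriGA
import Cfsg.Agent.Lib.Helper45.TriGB
import Cfsg.Agent.Lib.Helper13.TriOrb2

set_option autoImplicit false
set_option linter.unusedSectionVars false
set_option linter.unusedVariables false

/-!
TRI8 MODULE [U-A] (board #4305): the star of two root groups is invariant under isomorphisms, and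
the star of two non-orthogonal lines through `r` is the image of `U r`.
-/

namespace Cfsg.Agent.Lib.Helper39.TriU

open Cfsg.Agent.Lib.Helper13 hiding isoGroup mem_isoGroup
open Cfsg.Agent.Lib.Helper36 Cfsg.Agent.Lib.Helper44 Cfsg.Agent.Lib.Helper36.AutO
  Cfsg.Agent.Lib.Helper36.Tri Module

theorem gstar_map {H H' : Type*} [Group H] [Group H'] (p : ℕ) (e : H ≃* H')
    (R₁ R₂ : Subgroup H) :
    gstar p (R₁.map e.toMonoidHom) (R₂.map e.toMonoidHom) =
      (gstar p R₁ R₂).map e.toMonoidHom := by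
  unfold gstar
  rw [MonoidHom.map_closure]
  congr 1
  ext y
  constructor
  · rintro ⟨R', hR', h1, h2, h3, hy⟩
    refine ⟨e.symm y, ⟨R'.map e.symm.toMonoidHom, hR'.map p e.symm, ?_, ?_, ?_, ⟨y, hy, rfl⟩⟩,
      e.apply_symm_apply y⟩
    · have := h1.map e.symm
      rwa [GP.map_map_symm] at this
    · have := h2.map e.symm
      rwa [GP.map_map_symm] at this
    · intro J hJ hJ1 hJ2
      have := (h3 (J.map e.toMonoidHom) (hJ.map p e) (hJ1.map p e) (hJ2.map p e)).map e.symm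
      rwa [GP.map_map_symm] at this
  · rintro ⟨x, ⟨R, hR, h1, h2, h3, hx⟩, rfl⟩
    refine ⟨R.map e.toMonoidHom, hR.map p e, h1.map e, h2.map e, ?_, ⟨x, hx, rfl⟩⟩
    intro J hJ hJ1 hJ2
    have hJ' : (J.map e.symm.toMonoidHom).map e.toMonoidHom = J := GP.map_symm_map e J
    have h1' : GP.Coll p (J.map e.symm.toMonoidHom) R₁ := by
      have := hJ1.map p e.symm
      rwa [GP.map_map_symm] at this
    have h2' : GP.Coll p (J.map e.symm.toMonoidHom) R₂ := by
      have := hJ2.map p e.symm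
      rwa [GP.map_map_symm] at this
    have := (h3 (J.map e.symm.toMonoidHom) (hJ.map p e.symm) h1' h2').map e
    rwa [hJ'] at this

variable {F V : Type*} [Field F] [AddCommGroup V] [Module F V]

local notation "pol" => QuadraticMap.polar

variable {Q : QuadraticForm F V} {Γ : Type*} [Group Γ] (M : OModel Q Γ)
variable [Finite F] [FiniteDimensional F V] (hQ : (QuadraticMap.polarBilin Q).Nondegenerate)
  (ch : ℕ) [hch : Fact ch.Prime] [hchar : CharP F ch]

include M hQ ch hch hchar in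
/-- the star of two non-orthogonal lines through `r` is the image of `U r` -/
theorem gstar_eq_Ub [Finite Γ] (h7 : 7 ≤ finrank F V) {r a b : V} (ha : IsLine Q r a)
    (hb : IsLine Q r b) (hab : pol (⇑Q) a b ≠ 0) :
    gstar ch (M.Xb r a) (M.Xb r b) = M.Ub r := by
  have hr_mem : ∀ y : V, r ∈ Submodule.span F {r, y} := fun y => Submodule.subset_span (by simp)
  apply le_antisymm
  · unfold gstar
    rw [Subgroup.closure_le]
    rintro xb ⟨R, hR, hc1, hc2, hN, hxb⟩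
    obtain ⟨k₁, k₂, hk, rfl⟩ := (M.isRoot_iff hQ h7 ch R).1 hR
    have hL : LComm Q (Submodule.span F {k₁, k₂}) (Submodule.span F {r, a}) :=
      (M.comm_iff hQ h7 ch hk ha).1 hc1
    have hL' : LComm Q (Submodule.span F {k₁, k₂}) (Submodule.span F {r, b}) :=
      (M.comm_iff hQ h7 ch hk hb).1 hc2
    have hrK : r ∈ Submodule.span F {k₁, k₂} := by
      apply Cfsg.Agent.Lib.Helper39.TriG.star_pt hQ ha hb hab hk hL hL'
      intro j₁ j₂ hj hj1 hj2
      apply (M.comm_iff hQ h7 ch hk hj).1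
      apply hN (M.Xb j₁ j₂) ((M.isRoot_iff hQ h7 ch _).2 ⟨j₁, j₂, hj, rfl⟩)
      · exact (M.coll_iff hQ h7 ch hj ha).2 hj1
      · exact (M.coll_iff hQ h7 ch hj hb).2 hj2
    obtain ⟨k', hk', hs⟩ := hk.rebase r hrK ha.hp0
    obtain ⟨x, hx, rfl⟩ := hxb
    rw [← M.X_congr k₁ k₂ r k' hk hk' hs] at hx
    exact ⟨x, M.X_le_U r k' hk'.hpw hx, rfl⟩
  · rintro _ ⟨x, hx, rfl⟩
    obtain ⟨u, hu, rfl⟩ := (M.mem_U_iff r ha.hp x).1 hx
    obtain ⟨a', b', hra, hrb, hQa, hQb, hab'⟩ :=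
      Cfsg.Agent.S0795.exists_hyp_in_perp Q hQ (by omega) r ha.hp0
    apply M.prj_E_mem_of_lines hQ h7 ch r ha.hp0 ha.hp
      (LinearMap.ker (QuadraticMap.polarBilin Q r)) (fun y hy => LinearMap.mem_ker.1 hy) a' b'
      (LinearMap.mem_ker.2 hra) (LinearMap.mem_ker.2 hrb) hQa hQb hab' _ _ u
      (LinearMap.mem_ker.2 hu)
    intro y hy hly xb hxb
    apply Subgroup.subset_closure
    refine ⟨M.Xb r y, (M.isRoot_iff hQ h7 ch _).2 ⟨r, y, hly, rfl⟩, ?_, ?_, ?_, hxb⟩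
    · exact (M.comm_iff hQ h7 ch hly ha).2 (Or.inr ⟨r, ha.hp0, hr_mem _, hr_mem _⟩)
    · exact (M.comm_iff hQ h7 ch hly hb).2 (Or.inr ⟨r, ha.hp0, hr_mem _, hr_mem _⟩)
    · intro J hJ hJ1 hJ2
      obtain ⟨j₁, j₂, hj, rfl⟩ := (M.isRoot_iff hQ h7 ch J).1 hJ
      have hj1 := (M.coll_iff hQ h7 ch hj ha).1 hJ1
      have hj2 := (M.coll_iff hQ h7 ch hj hb).1 hJ2
      have hrJ : r ∈ Submodule.span F {j₁, j₂} :=
        Cfsg.Agent.Lib.Helper39.TriG.nbr_pt ha hb hab hj hj1 hj2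
      exact (M.comm_iff hQ h7 ch hly hj).2 (Or.inr ⟨r, ha.hp0, hr_mem _, hrJ⟩)

end Cfsg.Agent.Lib.Helper39.TriU
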