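import Mathlib
import Cfsg.Agent.Lib.Helper36.Tri.StarDefs
import Cfsg.Agent.Lib.Helper36.Tri.TauGrp
import Cfsg.Agent.Lib.Helper36.AutO.Transfer2
import Cfsg.Agent.Lib.Helper39.TriGA
import Cfsg.Agent.Lib.Helper45.TriGB
import Cfsg.Agent.Lib.Helper13.TriOrb2

set_option autoImplicit false
set_option linter.unusedSectionVars false
set_option linter.unusedVariables false

/-!
TRI8 MODULE [U-E] (board #4305): an automorphism which maps one `Ub r₀` like `β` does, up to an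
inner automorphism, differs from `β` by an automorphism of point type.
-/

namespace Cfsg.Agent.Lib.Helper39.TriU

open Cfsg.Agent.Lib.Helper13 hiding isoGroup mem_isoGroup
open Cfsg.Agent.Lib.Helper36 Cfsg.Agent.Lib.Helper44 Cfsg.Agent.Lib.Helper36.AutO
  Cfsg.Agent.Lib.Helper36.Tri Module

variable {F V : Type*} [Field F] [AddCommGroup V] [Module F V]

local notation "pol" => QuadraticMap.polar

variable {Q : QuadraticForm F V} {Γ : Type*} [Group Γ] (M : OModel Q Γ)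
variable [Finite F] [FiniteDimensional F V] (hQ : (QuadraticMap.polarBilin Q).Nondegenerate)
  (ch : ℕ) [hch : Fact ch.Prime] [hchar : CharP F ch]

include M hQ ch hch hchar in
/-- the groups `Ub r` are conjugate (half of module [U-D]) -/
theorem exists_conj_Ub' (h5 : 5 ≤ finrank F V) {r r' : V} (hr0 : r ≠ 0) (hr : Q r = 0)
    (hr'0 : r' ≠ 0) (hr' : Q r' = 0) :
    ∃ k : Γ, (M.Ub r).map (MulAut.conj (prj Γ k)).toMonoidHom = M.Ub r' := by
  obtain ⟨k, c, hc, hk⟩ := M.exists_map_smul hQ h5 r r' hr0 hr'0 hr hr'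
  refine ⟨k, ?_⟩
  rw [M.Ub_conj k r hr, hk, M.Ub_smul r' c hc hr']

include M hQ ch hch hchar in
theorem pointType_of_conj (h5 : 5 ≤ finrank F V) (α β : MulAut (Γ ⧸ Subgroup.center Γ)) (r₀ : V)
    (hr₀0 : r₀ ≠ 0) (hr₀ : Q r₀ = 0) (k : Γ)
    (h : (M.Ub r₀).map α.toMonoidHom =
      ((M.Ub r₀).map β.toMonoidHom).map (MulAut.conj (prj Γ k)).toMonoidHom) :
    PointType M (β⁻¹ * α) := by
  intro r hr0 hr
  obtain ⟨k₁, hk₁⟩ := exists_conj_Ub' M hQ ch h5 hr₀0 hr₀ hr0 hr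
  obtain ⟨k₂, hk₂⟩ := prj_surj Γ (β⁻¹ (α (prj Γ k₁) * prj Γ k))
  refine ⟨M.ρ k₂ r₀, ?_, ?_, ?_⟩
  · intro h0
    apply hr₀0
    have := congrArg (M.ρ k₂⁻¹) h0
    rwa [M.inv_apply', map_zero] at this
  · rw [M.isom, hr₀]
  · rw [← M.Ub_conj k₂ r₀ hr₀, ← hk₁]
    have hmem : ∀ u, u ∈ M.Ub r₀ → ∃ v ∈ M.Ub r₀, α u = prj Γ k * β v * (prj Γ k)⁻¹ := by
      intro u hu
      have : α u ∈ (M.Ub r₀).map α.toMonoidHom := ⟨u, hu, rfl⟩
      rw [h] at this
      obtain ⟨_, ⟨v, hv, rfl⟩, hv2⟩ := this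
      exact ⟨v, hv, hv2.symm⟩
    have hmem' : ∀ v, v ∈ M.Ub r₀ → ∃ u ∈ M.Ub r₀, α u = prj Γ k * β v * (prj Γ k)⁻¹ := by
      intro v hv
      have : prj Γ k * β v * (prj Γ k)⁻¹ ∈
          ((M.Ub r₀).map β.toMonoidHom).map (MulAut.conj (prj Γ k)).toMonoidHom :=
        ⟨β v, ⟨v, hv, rfl⟩, rfl⟩
      rw [← h] at this
      obtain ⟨u, hu, hu2⟩ := this
      exact ⟨u, hu, hu2⟩
    have hβ : β (prj Γ k₂) = α (prj Γ k₁) * prj Γ k := by
      rw [hk₂]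
      exact MulEquiv.apply_symm_apply β _
    have key : ∀ u v, α u = prj Γ k * β v * (prj Γ k)⁻¹ →
        (β⁻¹ * α) (prj Γ k₁ * u * (prj Γ k₁)⁻¹) = prj Γ k₂ * v * (prj Γ k₂)⁻¹ := by
      intro u v huv
      apply β.injective
      rw [MulAut.mul_apply, MulAut.inv_apply, MulEquiv.apply_symm_apply, map_mul α, map_mul α,
        map_inv α, huv, map_mul β, map_mul β, map_inv β, hβ]
      group
    ext y
    constructor
    · rintro ⟨_, ⟨u, hu, rfl⟩, rfl⟩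
      obtain ⟨v, hv, hv2⟩ := hmem u hu
      exact ⟨v, hv, (key u v hv2).symm⟩
    · rintro ⟨v, hv, rfl⟩
      obtain ⟨u, hu, hu2⟩ := hmem' v hv
      exact ⟨_, ⟨u, hu, rfl⟩, key u v hu2⟩

end Cfsg.Agent.Lib.Helper39.TriU
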