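import Mathlib
import Cfsg.Agent.Lib.Helper37.PlusField.Defs
import Cfsg.Agent.Lib.Helper43.OSplit
import Cfsg.Agent.Lib.Helper43.PlusGFCount

set_option autoImplicit false
set_option linter.unusedVariables false
set_option linter.unusedSectionVars false

/-!
# PF15 MODULE [R2] (helper37's sheet, board #4519)

The number of inner classes in the inner-diagonal class of the standard field automorphism of
order two of `PΩ⁺_{2m}(F)`, odd characteristic.  The description of the centraliser (module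
[CENT]) and the base change of the class character (module [EVENBC]) are hypotheses of
`splitClassCount_phiP_two_of`.
-/

namespace Cfsg.Agent.Lib.Helper39.PlusField

open scoped MatrixGroups Matrix
open Module Matrix Cfsg.Agent.Lib.Helper45.PSLField Cfsg.Agent.Lib.Helper36 Cfsg.Agent.S2168
  Cfsg.Agent.Lib.Helper43 Cfsg.Agent.Lib.Helper13 Cfsg.Agent.Lib.Helper37.PlusField
  Cfsg.Agent.Lib.Helper44

variable {m : ℕ} {F : Type*} [Field F] [Fintype F] {F₀ : Type*} [Field F₀] [Fintype F₀]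

/-- a square root in `F` of a non-square of `F₀` is a square iff `|F₀| ≡ 3 (mod 4)` -/
theorem isSquare_sqrt_iff (h2 : (2 : F) ≠ 0) (j : F₀ →+* F)
    (hcard : Fintype.card F = Fintype.card F₀ ^ 2) (ν₁ : F₀) (hν₁ : ¬ IsSquare ν₁) (t : F)
    (ht : j ν₁ = t * t) : IsSquare t ↔ Fintype.card F₀ % 4 = 3 := by
  classical
  have h2₀ : (2 : F₀) ≠ 0 := two_ne_zero_of_hom j h2
  have hch := ringChar_ne_two_of_two_ne_zero h2
  have hch₀ := ringChar_ne_two_of_two_ne_zero h2₀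
  have hodd₀ := FiniteField.odd_card_of_char_ne_two hch₀
  have hν0 : ν₁ ≠ 0 := by
    rintro rfl
    exact hν₁ ⟨0, by ring⟩
  have ht0 : t ≠ 0 := by
    intro h0
    rw [h0, mul_zero] at ht
    exact (map_ne_zero j).mpr hν0 ht
  obtain ⟨k, hk⟩ : ∃ k, Fintype.card F₀ = 2 * k + 1 := ⟨Fintype.card F₀ / 2, by omega⟩
  have hhalf₀ : Fintype.card F₀ / 2 = k := by omega
  have hhalf : Fintype.card F / 2 = 2 * (k * (k + 1)) := by
    rw [hcard, hk]
    have : (2 * k + 1) ^ 2 = 2 * (2 * (k * (k + 1))) + 1 := by ring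
    rw [this]
    omega
  have hνk : ν₁ ^ k = -1 := by
    have h1 := FiniteField.pow_dichotomy hch₀ hν0
    rw [hhalf₀] at h1
    rcases h1 with h1 | h1
    · exfalso
      apply hν₁
      rw [FiniteField.isSquare_iff hch₀ hν0, hhalf₀]
      exact h1
    · exact h1
  have hne : (-1 : F) ≠ 1 := by
    intro h
    apply h2
    have : (2 : F) = 1 - (-1) := by ring
    rw [this, h, sub_self]
  rw [FiniteField.isSquare_iff hch ht0, hhalf, pow_mul, pow_two, ← ht, pow_mul, ← map_pow, hνk,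
    map_neg, map_one, neg_one_pow_eq_one_iff_even hne]
  rw [hk]
  constructor
  · rintro ⟨r, hr⟩
    omega
  · intro h
    exact ⟨(k + 1) / 2, by omega⟩

theorem isSquare_pow_iff' {K : Type*} [Field K] (t : K) (ht0 : t ≠ 0) (m : ℕ) :
    IsSquare (t ^ m) ↔ (Even m ∨ IsSquare t) := by
  rcases Nat.even_or_odd m with hev | hod
  · obtain ⟨r, hr⟩ := hev
    constructor
    · intro _
      exact Or.inl ⟨r, hr⟩
    · intro _
      exact ⟨t ^ r, by rw [hr, pow_add]⟩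
  · obtain ⟨r, hr⟩ := hod
    have h1 : t ^ m = t * (t ^ r * t ^ r) := by
      rw [hr, pow_succ, two_mul, pow_add]
      ring
    rw [h1, isSquare_mul_sq_iff _ _ (pow_ne_zero _ ht0)]
    constructor
    · intro h
      exact Or.inr h
    · rintro (h | h)
      · exact absurd ⟨r, hr⟩ (Nat.not_odd_iff_even.mpr h)
      · exact h

/-- **[R2]**, with the modules [CENT] (first theorem) and [EVENBC] as hypotheses -/
theorem splitClassCount_phiP_two_of (hm : 4 ≤ m) (h2 : (2 : F) ≠ 0) (σ : RingAut F)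
    (j : F₀ →+* F) (hcard : Fintype.card F = Fintype.card F₀ ^ 2)
    (hev : ∀ A : GL (Fin m ⊕ Fin m) F₀, A ∈ Cfsg.Geo.quadSimilarityGroup (⇑(plusQF m F₀)) →
      (plusEven (Matrix.GeneralLinearGroup.map j A) ↔ plusEven A))
    (hcent : ∀ β : MulAut (Cfsg.POmega F (⇑(plusQF m F))),
      β ∈ inndiagPlusQ m F ⊓ Subgroup.centralizer {phiP m σ} ↔
        ∃ A : ↥(Cfsg.Geo.quadSimilarityGroup (⇑(plusQF m F₀))),
          plusEven (A : GL (Fin m ⊕ Fin m) F₀) ∧ subAutP j A = β) :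
    ((Odd m ∧ Fintype.card F₀ % 4 = 1) →
      Cfsg.splitClassCount (inndiagPlusQ m F) (Cfsg.Inn (Cfsg.POmega F (⇑(plusQF m F))))
        (phiP m σ) = 2) ∧
    (¬ (Odd m ∧ Fintype.card F₀ % 4 = 1) →
      Cfsg.splitClassCount (inndiagPlusQ m F) (Cfsg.Inn (Cfsg.POmega F (⇑(plusQF m F))))
        (phiP m σ) = 4) := by
  classical
  have hm1 : 1 ≤ m := by omega
  have h2₀ : (2 : F₀) ≠ 0 := two_ne_zero_of_hom j h2
  have hch₀ := ringChar_ne_two_of_two_ne_zero h2₀
  have hodd₀ := FiniteField.odd_card_of_char_ne_two hch₀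
  have hq4 := card_mod_four_of_sq h2 j hcard
  obtain ⟨hIP, hPD, hPD2, hI2, hneg⟩ := plus_chain (m := m) (F := F) hq4 hm
  have hnorm : (Cfsg.Inn (Cfsg.POmega F (⇑(plusQF m F)))).Normal := Cfsg.innNormal _
  have hKn : ((Cfsg.Inn (Cfsg.POmega F (⇑(plusQF m F)))).subgroupOf (inndiagPlusQ m F)).Normal :=
    Subgroup.normal_subgroupOf
  have hsq : ∀ a : F₀, IsSquare (j a) := isSquare_of_card_sq j hcard h2
  have hdim2 : 2 ≤ Fintype.card (Fin m ⊕ Fin m) := by
    rw [card_plus_index']; omega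
  have hdim : 5 ≤ Fintype.card (Fin m ⊕ Fin m) := by
    rw [card_plus_index']; omega
  have hF2 : Fintype.card F ≠ 2 := by omega
  -- base change of even similarities
  have hliftE : ∀ A : ↥(Cfsg.Geo.quadSimilarityGroup (⇑(plusQF m F₀))),
      plusEven (A : GL (Fin m ⊕ Fin m) F₀) →
      plusEven ((subSimP j A : ↥(Cfsg.Geo.quadSimilarityGroup (⇑(plusQF m F)))) :
        GL (Fin m ⊕ Fin m) F) := fun A hA => (hev A.1 A.2).mpr hA
  -- (i) the centraliser lies in `PSO`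
  have hcentM : inndiagPlusQ m F ⊓ Subgroup.centralizer {phiP m σ} ≤
      Cfsg.psoAut F (⇑(plusQF m F)) := by
    intro β hβ
    obtain ⟨A, hA, rfl⟩ := (hcent β).mp hβ
    obtain ⟨ν, hν⟩ := A.2
    obtain ⟨t, ht⟩ := hsq (ν : F₀)
    have ht0 : t ≠ 0 := by
      intro h0
      rw [h0, mul_zero] at ht
      exact (map_ne_zero j).mpr ν.ne_zero ht
    rw [subAutP_apply]
    apply simAut_mem_pso_of_even_sq h2 hm1 (subSimP j A) (hliftE A hA) t ht0
    intro v
    rw [← ht]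
    exact subSimP_mult j A (ν : F₀) hν v
  -- (ii) square multiplier over `F₀`: inner
  have hInnSq : ∀ A : ↥(Cfsg.Geo.quadSimilarityGroup (⇑(plusQF m F₀))),
      plusEven (A : GL (Fin m ⊕ Fin m) F₀) → ∀ s : F₀, s ≠ 0 →
      (∀ v, plusQF m F₀ (((A : GL (Fin m ⊕ Fin m) F₀) :
        Matrix (Fin m ⊕ Fin m) (Fin m ⊕ Fin m) F₀) *ᵥ v) = s * s * plusQF m F₀ v) →
      subAutP j A ∈ Cfsg.Inn (Cfsg.POmega F (⇑(plusQF m F))) := by
    intro A hA s hs0 hs
    obtain ⟨sb₀, hsb₀⟩ := exists_scalar_quadSim (plusQF m F₀) s⁻¹ (inv_ne_zero hs0)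
    set A' : ↥(Cfsg.Geo.quadSimilarityGroup (⇑(plusQF m F₀))) := sb₀ * A with hA'
    have hA'coe : ((A' : GL (Fin m ⊕ Fin m) F₀) : Matrix (Fin m ⊕ Fin m) (Fin m ⊕ Fin m) F₀) =
        s⁻¹ • ((A : GL (Fin m ⊕ Fin m) F₀) : Matrix (Fin m ⊕ Fin m) (Fin m ⊕ Fin m) F₀) := by
      rw [hA', Subgroup.coe_mul, Units.val_mul, hsb₀, Matrix.smul_mul, Matrix.one_mul]
    have hA'iso : (A' : GL (Fin m ⊕ Fin m) F₀) ∈
        Cfsg.isometryGroup F₀ (⇑(plusQF m F₀)) := by
      rw [mem_isometryGroup_iff']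
      intro v
      rw [hA'coe, Matrix.smul_mulVec, QuadraticMap.map_smul, hs v, smul_eq_mul]
      field_simp
    obtain ⟨hgO, hspin⟩ := spin_map_eq_one (plusQF m F₀) (plusQF m F) j
      (Cfsg.Agent.Lib.Helper37.PlusField.plusQF_rvec j)
      (plusQF_nondeg m F₀) (plusQF_nondeg m F) h2 hsq (A' : GL (Fin m ⊕ Fin m) F₀) hA'iso
    have hA'E : plusEven (A' : GL (Fin m ⊕ Fin m) F₀) :=
      (plusEven_scalar_mul sb₀ A s⁻¹ (inv_ne_zero hs0) hsb₀).mpr hA
    have hg'E := hliftE A' hA'E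
    have hgO' : ((subSimP j A' : ↥(Cfsg.Geo.quadSimilarityGroup (⇑(plusQF m F)))) :
        GL (Fin m ⊕ Fin m) F) ∈ Cfsg.isometryGroup F (⇑(plusQF m F)) := hgO
    have hS := special_of_even_isometry h2 hm1 (subSimP j A') hgO' hg'E
    have hΩ : ((subSimP j A' : ↥(Cfsg.Geo.quadSimilarityGroup (⇑(plusQF m F)))) :
        GL (Fin m ⊕ Fin m) F) ∈ OmegaGL (⇑(plusQF m F)) :=
      (mem_OmegaGL_iff_spin (plusQF m F) (plusQF_nondeg m F) h2 hdim2 _ hS).mpr hspin
    have h1 := simAut_mem_Inn_of_mem _ (subSimP j A') hΩ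
    have hsbcoe : (((subSimP j sb₀ : ↥(Cfsg.Geo.quadSimilarityGroup (⇑(plusQF m F)))) :
        GL (Fin m ⊕ Fin m) F) : Matrix (Fin m ⊕ Fin m) (Fin m ⊕ Fin m) F) = j s⁻¹ • 1 := by
      rw [subSimP_coe, hsb₀]
      ext x y
      by_cases hxy : x = y
      · subst hxy
        simp [Matrix.map_apply, Matrix.smul_apply]
      · simp [Matrix.map_apply, Matrix.smul_apply, Matrix.one_apply_ne hxy]
    have h3 : simAut (⇑(plusQF m F)) (subSimP j A') = simAut (⇑(plusQF m F)) (subSimP j A) := by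
      rw [hA', map_mul, map_mul,
        simAut_eq_one_of_scalar (⇑(plusQF m F)) (subSimP j sb₀) (j s⁻¹) hsbcoe, one_mul]
    rw [subAutP_apply, ← h3]
    exact h1
  -- (iii) the distinguished element
  obtain ⟨ν₁, hν₁⟩ := FiniteField.exists_nonsquare hch₀
  have hν0 : ν₁ ≠ 0 := by
    rintro rfl
    exact hν₁ ⟨0, by ring⟩
  set ν₁u : F₀ˣ := Units.mk0 ν₁ hν0 with hν₁u
  set d₀ : Fin m ⊕ Fin m → F₀ˣ := Sum.elim (fun _ => ν₁u) (fun _ => 1) with hd₀
  have hμ₀ : ∀ i, d₀ (Sum.inl i) * d₀ (Sum.inr i) = ν₁u := by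
    intro i
    rw [hd₀]
    simp only [Sum.elim_inl, Sum.elim_inr, mul_one]
  set A₁ : ↥(Cfsg.Geo.quadSimilarityGroup (⇑(plusQF m F₀))) :=
    ⟨diagPI d₀, diagPI_mem d₀ ν₁u hμ₀⟩ with hA₁
  have hA₁E : plusEven (A₁ : GL (Fin m ⊕ Fin m) F₀) := plusEven_diagPI d₀
  have hA₁sim : ∀ v, plusQF m F₀ (((A₁ : GL (Fin m ⊕ Fin m) F₀) :
      Matrix (Fin m ⊕ Fin m) (Fin m ⊕ Fin m) F₀) *ᵥ v) = ν₁ * plusQF m F₀ v :=
    fun v => diagPI_similarity d₀ ν₁u hμ₀ v
  obtain ⟨t, ht⟩ := hsq ν₁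
  have ht0 : t ≠ 0 := by
    intro h0
    rw [h0, mul_zero] at ht
    exact (map_ne_zero j).mpr hν0 ht
  have hc₁ : subAutP j A₁ ∈ inndiagPlusQ m F ⊓ Subgroup.centralizer {phiP m σ} :=
    (hcent _).mpr ⟨A₁, hA₁E, rfl⟩
  have hg₁Inn : subAutP j A₁ ∈ Cfsg.Inn (Cfsg.POmega F (⇑(plusQF m F))) ↔
      ¬ (Odd m ∧ Fintype.card F₀ % 4 = 1) := by
    set tu : Fˣ := Units.mk0 t ht0 with htu
    set e : Fin m → Fˣ := fun _ => tu with he
    set d : Fin m ⊕ Fin m → Fˣ := fun x => Units.map (j : F₀ →* F) (d₀ x) with hd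
    have hcoe : (((subSimP j A₁ : ↥(Cfsg.Geo.quadSimilarityGroup (⇑(plusQF m F)))) :
        GL (Fin m ⊕ Fin m) F) : Matrix (Fin m ⊕ Fin m) (Fin m ⊕ Fin m) F) =
        ((diagPI d : GL (Fin m ⊕ Fin m) F) : Matrix (Fin m ⊕ Fin m) (Fin m ⊕ Fin m) F) := by
      rw [subSimP_coe]
      show (Matrix.diagonal fun x => ((d₀ x : F₀ˣ) : F₀)).map j = Matrix.diagonal _
      rw [Matrix.diagonal_map (map_zero j)]
      rfl
    have hd1 : ∀ i, d (Sum.inl i) = tu * e i := by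
      intro i
      apply Units.ext
      show j ν₁ = t * t
      exact ht
    have hd2 : ∀ i, d (Sum.inr i) = tu * (e i)⁻¹ := by
      intro i
      rw [mul_inv_cancel]
      apply Units.ext
      show j 1 = 1
      exact map_one j
    have hLO : leviGL (diagGL e) ∈ Cfsg.isometryGroup F (⇑(plusQF m F)) := leviGL_mem _
    have hLG : leviGL (diagGL e) ∈ Cfsg.Geo.quadSimilarityGroup (⇑(plusQF m F)) :=
      isometryGroup_le_similarity _ hLO
    have hsim : simAut (⇑(plusQF m F)) (subSimP j A₁) =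
        simAut (⇑(plusQF m F)) ⟨leviGL (diagGL e), hLG⟩ :=
      simAut_eq_of_smul (plusQF m F) ⟨leviGL (diagGL e), hLG⟩ (subSimP j A₁) t ht0
        (hcoe.trans (diagPI_eq_smul_levi tu e d hd1 hd2))
    rw [subAutP_apply, hsim, simAut_mem_Inn_iff_mem_OmegaGL (plusQF m F) (plusQF_nondeg m F) h2
      hdim hneg ⟨leviGL (diagGL e), hLG⟩ hLO]
    change leviGL (diagGL e) ∈ OmegaGL (Cfsg.quadFormPlus m F) ↔ _
    have hprod : (∏ i : Fin m, ((e i : Fˣ) : F)) = t ^ m := by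
      show (∏ _i : Fin m, t) = t ^ m
      rw [Finset.prod_const, Finset.card_univ, Fintype.card_fin]
    rw [leviGL_mem_OmegaGL_iff hm1 hF2, diagGL_det, hprod]
    rw [isSquare_pow_iff' t ht0 m, isSquare_sqrt_iff h2 j hcard ν₁ hν₁ t ht]
    have hq₀ : Fintype.card F₀ % 4 = 1 ∨ Fintype.card F₀ % 4 = 3 := by
      omega
    constructor
    · rintro (h | h) ⟨ho, h1⟩
      · exact (Nat.not_odd_iff_even.mpr h) ho
      · omega
    · intro h
      by_cases hme : Even m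
      · exact Or.inl hme
      · right
        rcases hq₀ with h1 | h3
        · exact absurd ⟨Nat.not_even_iff_odd.mp hme, h1⟩ h
        · exact h3
  constructor
  · intro hcond
    have hc₁K : subAutP j A₁ ∉ Cfsg.Inn (Cfsg.POmega F (⇑(plusQF m F))) :=
      fun h => (hg₁Inn.mp h) hcond
    exact splitClassCount_eq_two_of_chain _ _ _ _ hIP hPD hKn hPD2 hI2 hcentM _ hc₁ hc₁K
  · intro hcond
    have hc₁K := hg₁Inn.mpr hcond
    apply splitClassCount_eq_four_of_chain _ _ _ _ hIP hPD hKn hPD2 hI2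
    intro β hβ
    obtain ⟨A, hA, rfl⟩ := (hcent β).mp hβ
    obtain ⟨ν, hν⟩ := A.2
    by_cases hsqν : IsSquare (ν : F₀)
    · obtain ⟨s, hs⟩ := hsqν
      have hs0 : s ≠ 0 := by
        rintro rfl
        rw [mul_zero] at hs
        exact ν.ne_zero hs
      apply hInnSq A hA s hs0
      intro v
      rw [← hs]
      exact hν v
    · obtain ⟨s, hs⟩ := isSquare_mul_of_not_isSquare h2₀ _ _ hsqν hν₁
      have hs0 : s ≠ 0 := by
        rintro rfl
        rw [mul_zero] at hs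
        exact mul_ne_zero ν.ne_zero hν0 hs
      have hAA₁E : plusEven ((A * A₁ : ↥(Cfsg.Geo.quadSimilarityGroup (⇑(plusQF m F₀)))) :
          GL (Fin m ⊕ Fin m) F₀) := by
        have h1 : ((A * A₁ : ↥(Cfsg.Geo.quadSimilarityGroup (⇑(plusQF m F₀)))) :
            GL (Fin m ⊕ Fin m) F₀) = (A : GL (Fin m ⊕ Fin m) F₀) * (A₁ : GL (Fin m ⊕ Fin m) F₀) :=
          rfl
        rw [h1, plusEven_mul _ _ A.2 A₁.2]
        exact ⟨fun _ => hA₁E, fun _ => hA⟩
      have hB : subAutP j (A * A₁) ∈ Cfsg.Inn (Cfsg.POmega F (⇑(plusQF m F))) := by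
        apply hInnSq (A * A₁) hAA₁E s hs0
        intro v
        rw [Subgroup.coe_mul, Units.val_mul, ← Matrix.mulVec_mulVec, ← hs, mul_assoc,
          ← hA₁sim v]
        exact hν _
      have hfin : subAutP j A = subAutP j (A * A₁) * (subAutP j A₁)⁻¹ := by
        rw [map_mul, mul_inv_cancel_right]
      rw [hfin]
      exact Subgroup.mul_mem _ hB (Subgroup.inv_mem _ hc₁K)

end Cfsg.Agent.Lib.Helper39.PlusField
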