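import Mathlib
import Cfsg.Prelude.Def_Characters

set_option autoImplicit false

/-!
PF (12.7) MODULE [BESSEL] (board #3183): Bessel's inequality for a family of linear characters.
-/

namespace Cfsg.Agent.Lib.Helper39.PF127Bessel

open Cfsg
open scoped ComplexConjugate

section
variable {H : Type*} [Group H] [Fintype H]

theorem norm_hom_eq_one (θ : H →* ℂˣ) (h : H) : ‖((θ h : ℂˣ) : ℂ)‖ = 1 := by
  apply Complex.norm_eq_one_of_pow_eq_one (n := Fintype.card H) _ Fintype.card_ne_zero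
  rw [← Units.val_pow_eq_pow_val, ← map_pow, pow_card_eq_one, map_one, Units.val_one]

theorem conj_hom (θ : H →* ℂˣ) (h : H) : conj ((θ h : ℂˣ) : ℂ) = ((θ h : ℂˣ) : ℂ)⁻¹ :=
  (Complex.inv_eq_conj (norm_hom_eq_one θ h)).symm

/-- orthogonality of linear characters (unnormalised). -/
theorem sum_hom_mul_conj (θ θ' : H →* ℂˣ) :
    ∑ h : H, ((θ h : ℂˣ) : ℂ) * conj ((θ' h : ℂˣ) : ℂ) =
      if θ = θ' then (Fintype.card H : ℂ) else 0 := by
  classical
  have h1 : ∀ h : H, ((θ h : ℂˣ) : ℂ) * conj ((θ' h : ℂˣ) : ℂ) =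
      ((Units.coeHom ℂ).comp (θ / θ')) h := by
    intro h
    rw [conj_hom, MonoidHom.comp_apply, MonoidHom.div_apply, Units.coeHom_apply, Units.val_div_eq_div_val,
      div_eq_mul_inv]
  rw [Finset.sum_congr rfl (fun h _ => h1 h)]
  split_ifs with hθ
  · subst hθ
    have h2 : θ / θ = 1 := div_self' θ
    rw [h2]
    simp
  · apply sum_hom_units_eq_zero
    intro hf
    apply hθ
    ext h
    have := DFunLike.congr_fun hf h
    rw [MonoidHom.comp_apply, MonoidHom.div_apply, Units.coeHom_apply, MonoidHom.one_apply,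
      Units.val_eq_one, div_eq_one] at this
    rw [this]

end

/-- **PF (12.7) MODULE [BESSEL]** (board #3183). -/
theorem bessel_linear {H : Type*} [Group H] [Fintype H] (X : Finset (H →* ℂˣ)) (b : H → ℂ) :
    ∑ θ ∈ X, ‖classInner b (fun h => ((θ h : ℂˣ) : ℂ))‖ ^ 2 ≤ (classInner b b).re := by
  classical
  set N : ℝ := (Fintype.card H : ℝ) with hN
  have hNpos : 0 < N := by rw [hN]; exact_mod_cast Fintype.card_pos
  have hcardC : (Nat.card H : ℂ) = (N : ℂ) := by
    rw [hN, Nat.card_eq_fintype_card]; push_cast; rfl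
  have hNC0 : (N : ℂ) ≠ 0 := by exact_mod_cast hNpos.ne'
  set c : (H →* ℂˣ) → ℂ := fun θ => classInner b (fun h => ((θ h : ℂˣ) : ℂ)) with hc
  have hip : ∀ θ : H →* ℂˣ, ∑ h, b h * conj ((θ h : ℂˣ) : ℂ) = (N : ℂ) * c θ := by
    intro θ
    rw [hc]
    unfold classInner
    rw [hcardC]
    field_simp
  have hip' : ∀ θ : H →* ℂˣ, ∑ h, ((θ h : ℂˣ) : ℂ) * conj (b h) = (N : ℂ) * conj (c θ) := by
    intro θ
    have h1 := congrArg conj (hip θ)
    rw [map_sum, map_mul, Complex.conj_ofReal] at h1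
    rw [← h1]
    apply Finset.sum_congr rfl
    intro h _
    rw [map_mul, Complex.conj_conj, mul_comm]
  set S : H → ℂ := fun h => ∑ θ ∈ X, c θ * ((θ h : ℂˣ) : ℂ) with hS
  have hA : ∑ h, b h * conj (S h) = (N : ℂ) * ∑ θ ∈ X, c θ * conj (c θ) := by
    have h1 : ∀ h, b h * conj (S h) =
        ∑ θ ∈ X, conj (c θ) * (b h * conj ((θ h : ℂˣ) : ℂ)) := by
      intro h
      rw [hS, map_sum, Finset.mul_sum]
      apply Finset.sum_congr rfl
      intro θ _
      rw [map_mul]
      ring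
    rw [Finset.sum_congr rfl (fun h _ => h1 h), Finset.sum_comm, Finset.mul_sum]
    apply Finset.sum_congr rfl
    intro θ _
    rw [← Finset.mul_sum, hip]
    ring
  have hB : ∑ h, S h * conj (b h) = (N : ℂ) * ∑ θ ∈ X, c θ * conj (c θ) := by
    have h1 : ∀ h, S h * conj (b h) =
        ∑ θ ∈ X, c θ * (((θ h : ℂˣ) : ℂ) * conj (b h)) := by
      intro h
      rw [hS, Finset.sum_mul]
      apply Finset.sum_congr rfl
      intro θ _
      ring
    rw [Finset.sum_congr rfl (fun h _ => h1 h), Finset.sum_comm, Finset.mul_sum]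
    apply Finset.sum_congr rfl
    intro θ _
    rw [← Finset.mul_sum, hip']
    ring
  have hC : ∑ h, S h * conj (S h) = (N : ℂ) * ∑ θ ∈ X, c θ * conj (c θ) := by
    have h1 : ∀ h, S h * conj (S h) = ∑ θ ∈ X, ∑ θ' ∈ X,
        (c θ * conj (c θ')) * (((θ h : ℂˣ) : ℂ) * conj ((θ' h : ℂˣ) : ℂ)) := by
      intro h
      rw [hS, map_sum, Finset.sum_mul]
      apply Finset.sum_congr rfl
      intro θ _
      rw [Finset.mul_sum]
      apply Finset.sum_congr rfl
      intro θ' _
      rw [map_mul]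
      ring
    rw [Finset.sum_congr rfl (fun h _ => h1 h), Finset.sum_comm, Finset.mul_sum]
    apply Finset.sum_congr rfl
    intro θ hθ
    rw [Finset.sum_comm]
    have h2 : ∀ θ' ∈ X, ∑ h, (c θ * conj (c θ')) *
        (((θ h : ℂˣ) : ℂ) * conj ((θ' h : ℂˣ) : ℂ)) =
        if θ = θ' then (N : ℂ) * (c θ * conj (c θ)) else 0 := by
      intro θ' _
      rw [← Finset.mul_sum, sum_hom_mul_conj]
      split_ifs with h
      · subst h
        rw [hN]
        push_cast
        ring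
      · rw [mul_zero]
    rw [Finset.sum_congr rfl h2, Finset.sum_ite_eq, if_pos hθ]
  have key : ∑ h, (b h - S h) * conj (b h - S h) =
      ∑ h, b h * conj (b h) - (N : ℂ) * ∑ θ ∈ X, c θ * conj (c θ) := by
    have h1 : ∀ h, (b h - S h) * conj (b h - S h) =
        b h * conj (b h) - b h * conj (S h) - S h * conj (b h) + S h * conj (S h) := by
      intro h
      rw [map_sub]
      ring
    rw [Finset.sum_congr rfl (fun h _ => h1 h), Finset.sum_add_distrib, Finset.sum_sub_distrib,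
      Finset.sum_sub_distrib, hA, hB, hC]
    ring
  have keyR : ∑ h, ‖b h - S h‖ ^ 2 = ∑ h, ‖b h‖ ^ 2 - N * ∑ θ ∈ X, ‖c θ‖ ^ 2 := by
    apply Complex.ofReal_injective
    push_cast
    simp only [← Complex.mul_conj']
    exact key
  have hbb : (classInner b b).re = N⁻¹ * ∑ h, ‖b h‖ ^ 2 := by
    unfold classInner
    rw [hcardC]
    have : ((N : ℂ)⁻¹ * ∑ h, b h * conj (b h)) = ((N⁻¹ * ∑ h, ‖b h‖ ^ 2 : ℝ) : ℂ) := by
      push_cast
      simp only [← Complex.mul_conj']
    rw [this, Complex.ofReal_re]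
  rw [hbb]
  have hnn : 0 ≤ ∑ h, ‖b h - S h‖ ^ 2 := Finset.sum_nonneg (fun h _ => sq_nonneg _)
  rw [keyR] at hnn
  rw [le_inv_mul_iff₀ hNpos]
  linarith

end Cfsg.Agent.Lib.Helper39.PF127Bessel
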