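import Mathlib
import Cfsg.Prelude.Def_Amalgam
import Cfsg.Agent.Lib.Helper68.AmalBDefs
import Cfsg.Agent.Lib.Helper68.AmalBTools

/-!
# S2751, case (B), module GSB-[B2-K1] (helper39, hedge): `|Z_y| = 2` for β-type `y` when `b = 2`

`_of` form: the statements of `Za_le_Qb` ([P3]) and `Za_card` ([P2b]) are hypotheses.
-/

set_option autoImplicit false

namespace Cfsg.Agent.Lib.Helper68.AmalB

open Cfsg Cfsg.Agent.Lib.Helper12.Amal Cfsg.Agent.Lib.Helper68.AmalD Cfsg.Agent.Lib.Helper68.AmalW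

variable {G : Type*} [Group G] {P₁ P₂ : Subgroup G}

/-- if any two elements of `Z ∖ Y` differ by an element of `Y`, then `|Z| ≤ 2|Y|` -/
theorem h39_card_le_two_mul_of_forall {Z Y : Subgroup G} [Finite Z] (hYZ : Y ≤ Z)
    (h : ∀ u ∈ Z, u ∉ Y → ∀ u' ∈ Z, u' ∉ Y → u⁻¹ * u' ∈ Y) :
    Nat.card ↥Z ≤ 2 * Nat.card ↥Y := by
  have hfinY : Finite Y :=
    Finite.of_injective (Subgroup.inclusion hYZ) (Subgroup.inclusion_injective _)
  by_cases hle : Z ≤ Y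
  · have := Subgroup.card_le_of_le hle
    omega
  · obtain ⟨u, huZ, huY⟩ := SetLike.not_le_iff_exists.mp hle
    have hsub : (Z : Set G) ⊆ (Y : Set G) ∪ (fun v => u * v) '' (Y : Set G) := by
      intro w hw
      by_cases hwY : w ∈ Y
      · exact Or.inl hwY
      · exact Or.inr ⟨u⁻¹ * w, h u huZ huY w hw hwY, by group⟩
    have hYfin : (Y : Set G).Finite := Set.toFinite _
    have hfin : ((Y : Set G) ∪ (fun v => u * v) '' (Y : Set G)).Finite :=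
      hYfin.union (hYfin.image _)
    have h1 : (Z : Set G).ncard ≤ ((Y : Set G) ∪ (fun v => u * v) '' (Y : Set G)).ncard :=
      Set.ncard_le_ncard hsub hfin
    have h2 := Set.ncard_union_le (Y : Set G) ((fun v => u * v) '' (Y : Set G))
    have h3 := Set.ncard_image_le (f := fun v => u * v) hYfin
    have e1 : Nat.card ↥Z = (Z : Set G).ncard := (Nat.card_coe_set_eq _)
    have e2 : Nat.card ↥Y = (Y : Set G).ncard := (Nat.card_coe_set_eq _)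
    omega

/-- **[B2-K1]** (`_of` form) `|Z_y| = 2` for β-type `y` -/
theorem b2_card_Zb_of_h39 (hB : BaseB P₁ P₂) (hall : ∀ x y x' : CosetVertex P₁ P₂, ¬ IsB x →
      (cosetGraph P₁ P₂).Adj x y → (cosetGraph P₁ P₂).Adj y x' → x' ≠ x → ¬ Zv x' ≤ Qv x)
    (hQb : ∀ x y : CosetVertex P₁ P₂, (cosetGraph P₁ P₂).Adj x y → IsB y → Zv x ≤ Qv y)
    (hcard : ∀ x l : CosetVertex P₁ P₂, ¬ IsB x → (cosetGraph P₁ P₂).Adj x l →
      Nat.card ↥(Zv x) = Nat.card ↥(Zv l) * Nat.card ↥(Zv l))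
    {y : CosetVertex P₁ P₂} (hy : IsB y) : Nat.card ↥(Zv y) = 2 := by
  have hW := hB.W
  obtain ⟨x₁, x₂, x₃, h12, -, -, hset⟩ := Set.ncard_eq_three.mp (hW.card_nbr y)
  have a1 : (cosetGraph P₁ P₂).Adj y x₁ := by
    have : x₁ ∈ (cosetGraph P₁ P₂).neighborSet y := by rw [hset]; simp
    exact this
  have a2 : (cosetGraph P₁ P₂).Adj y x₂ := by
    have : x₂ ∈ (cosetGraph P₁ P₂).neighborSet y := by rw [hset]; simp
    exact this
  have hx1 : ¬ IsB x₁ := (hB.adj_type y x₁ a1).mp hy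
  have hnot : ¬ Zv x₂ ≤ Qv x₁ := hall x₁ y x₂ hx1 a1.symm a2 h12.symm
  obtain ⟨a, haZ, haQ⟩ := SetLike.not_le_iff_exists.mp hnot
  have haT : a ∈ Gv x₁ ⊓ Gv y := Q_le_T' hW a1.symm (hQb x₂ y a2.symm hy haZ)
  -- `Y := Z_{x₁} ⊓ Q_{x₂} ≤ Z_y`
  have hY : Zv x₁ ⊓ Qv x₂ ≤ Zv y := by
    intro z hz
    have hz1 : z ∈ Zv x₁ := hz.1
    have hz2 : z ∈ Qv x₂ := hz.2
    have hza : a * z = z * a := (Q_comm_Z hW hz2 haZ).symm
    have hzC : z ∈ Subgroup.centralizer ((Gv x₁ ⊓ Gv y : Subgroup G) : Set G) := by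
      rw [Subgroup.mem_centralizer_iff]
      intro s hs
      by_cases hsQ : s ∈ Qv x₁
      · exact Q_comm_Z hW hsQ hz1
      · have hq : a⁻¹ * s ∈ Qv x₁ := hW.mul_mem_Q x₁ y a1.symm a s haT haQ hs hsQ
        have h1 : (a⁻¹ * s) * z = z * (a⁻¹ * s) := Q_comm_Z hW hq hz1
        calc s * z = a * ((a⁻¹ * s) * z) := by group
          _ = a * (z * (a⁻¹ * s)) := by rw [h1]
          _ = (a * z) * (a⁻¹ * s) := by group
          _ = (z * a) * (a⁻¹ * s) := by rw [hza]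
          _ = z * s := by group
    have h2 := hW.Z_cent_T x₁ y a1.symm ⟨hz1, hzC⟩
    rw [← hW.Z_inf x₁ y a1.symm] at h2
    exact h2.2
  -- finiteness
  have hfinG1 : Finite ↥(Gv x₁) := hW.fin x₁
  have hfinZ1 : Finite ↥(Zv x₁) :=
    Finite.of_injective (Subgroup.inclusion ((hW.Z_le_Q x₁).trans (Q_le_G hW x₁)))
      (Subgroup.inclusion_injective _)
  have hfinGy : Finite ↥(Gv y) := hW.fin y
  have hfinZy : Finite ↥(Zv y) :=
    Finite.of_injective (Subgroup.inclusion ((hW.Z_le_Q y).trans (Q_le_G hW y)))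
      (Subgroup.inclusion_injective _)
  -- `|Z_{x₁}| ≤ 2 |Y|`
  have hZ1T : Zv x₁ ≤ Gv x₂ ⊓ Gv y := (hQb x₁ y a1.symm hy).trans (Q_le_T' hW a2.symm)
  have hidx : Nat.card ↥(Zv x₁) ≤ 2 * Nat.card ↥(Zv x₁ ⊓ Qv x₂ : Subgroup G) := by
    apply h39_card_le_two_mul_of_forall inf_le_left
    intro u hu huY u' hu' hu'Y
    have huQ : u ∉ Qv x₂ := fun hh => huY ⟨hu, hh⟩
    have hu'Q : u' ∉ Qv x₂ := fun hh => hu'Y ⟨hu', hh⟩
    exact ⟨(Zv x₁).mul_mem ((Zv x₁).inv_mem hu) hu',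
      hW.mul_mem_Q x₂ y a2.symm u u' (hZ1T hu) huQ (hZ1T hu') hu'Q⟩
  have hYle : Nat.card ↥(Zv x₁ ⊓ Qv x₂ : Subgroup G) ≤ Nat.card ↥(Zv y) :=
    Subgroup.card_le_of_le hY
  have hc := hcard x₁ y hx1 a1.symm
  have hpos : 0 < Nat.card ↥(Zv y) := Nat.card_pos
  have hne1 : Nat.card ↥(Zv y) ≠ 1 := by
    intro h1
    exact hB.ne_bot y ((Subgroup.card_eq_one).mp h1)
  have hle2 : Nat.card ↥(Zv y) ≤ 2 := by
    by_contra hgt
    push Not at hgt
    have : 3 * Nat.card ↥(Zv y) ≤ Nat.card ↥(Zv y) * Nat.card ↥(Zv y) :=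
      Nat.mul_le_mul_right _ hgt
    omega
  omega

end Cfsg.Agent.Lib.Helper68.AmalB
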