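import Mathlib
import Cfsg.Prelude.Def_Amalgam
import Cfsg.Agent.Lib.Helper68.AmalBDefs
import Cfsg.Agent.Lib.Helper68.AmalBTools
import Cfsg.Agent.Lib.Helper7.AmalDBase
import Cfsg.Agent.Lib.Helper39.AmalBB2K1

/-!
# S2751, case (B), module GSB-[B2-A1] (helper39, hedge): `F_y ∩ Q_{y₂} = F_y ∩ Q_{y₃}`, of index `≤ 2`

`_of` form: the statement of `Za_le_Qb` ([P3]) is a hypothesis; `Fb_le_Qa` ([B2-FQ]) is proved
here as `Fb_le_Qa_h39`.
-/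

set_option autoImplicit false

namespace Cfsg.Agent.Lib.Helper68.AmalB

open Cfsg Cfsg.Agent.Lib.Helper12.Amal Cfsg.Agent.Lib.Helper68.AmalD Cfsg.Agent.Lib.Helper68.AmalW
open Cfsg.Agent.Lib.Helper7.AmalC

variable {G : Type*} [Group G] {P₁ P₂ : Subgroup G}

/-- `F_y ≤ Q_x` for `x ~ y`, `x` of α-type ([B2-FQ]) -/
theorem Fb_le_Qa_h39 (hB : BaseB P₁ P₂) {x y : CosetVertex P₁ P₂} (hx : ¬ IsB x)
    (hxy : (cosetGraph P₁ P₂).Adj x y) : Fb y ≤ Qv x := by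
  have hW := hB.W
  intro f hf
  have hfQ : f ∈ Qv y := hf.1
  have hfC : f ∈ Subgroup.centralizer ((Vv y : Subgroup G) : Set G) := hf.2
  apply hB.Za_cent x hx
  refine ⟨(Q_le_T' hW hxy hfQ).1, ?_⟩
  show f ∈ Subgroup.centralizer ((Zv x : Subgroup G) : Set G)
  rw [Subgroup.mem_centralizer_iff]
  intro z hz
  exact (Subgroup.mem_centralizer_iff.mp hfC) z (Z_le_Vv hxy.symm hz)

/-- **[B2-A1]** (`_of` form) -/
theorem b2_A1_of_h39 (hB : BaseB P₁ P₂) (hall : ∀ x y x' : CosetVertex P₁ P₂, ¬ IsB x →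
      (cosetGraph P₁ P₂).Adj x y → (cosetGraph P₁ P₂).Adj y x' → x' ≠ x → ¬ Zv x' ≤ Qv x)
    (hQb : ∀ x y : CosetVertex P₁ P₂, (cosetGraph P₁ P₂).Adj x y → IsB y → Zv x ≤ Qv y)
    {x y y₂ y₃ : CosetVertex P₁ P₂} (hx : ¬ IsB x)
    (h : (cosetGraph P₁ P₂).Adj x y) (h₂ : (cosetGraph P₁ P₂).Adj x y₂)
    (h₃ : (cosetGraph P₁ P₂).Adj x y₃) (h₁₂ : y ≠ y₂) (h₁₃ : y ≠ y₃) (h₂₃ : y₂ ≠ y₃) :
    Fb y ⊓ Qv y₂ = Fb y ⊓ Qv y₃ ∧ Nat.card ↥(Fb y) ≤ 2 * Nat.card ↥(Fb y ⊓ Qv y₂ : Subgroup G) := by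
  have hW := hB.W
  have hy : IsB y := by
    by_contra hny
    exact hx ((hB.adj_type x y h).mpr hny)
  -- another neighbour `x'` of `y`
  obtain ⟨x', hx'adj, hx'ne⟩ : ∃ x', (cosetGraph P₁ P₂).Adj y x' ∧ x' ≠ x := by
    obtain ⟨a, b, c, hab, hac, hbc, hset⟩ := Set.ncard_eq_three.mp (hW.card_nbr y)
    have ha : (cosetGraph P₁ P₂).Adj y a := by
      have : a ∈ (cosetGraph P₁ P₂).neighborSet y := by rw [hset]; simp
      exact this
    have hb : (cosetGraph P₁ P₂).Adj y b := by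
      have : b ∈ (cosetGraph P₁ P₂).neighborSet y := by rw [hset]; simp
      exact this
    by_cases hax : a = x
    · exact ⟨b, hb, fun hbx => hab (hax.trans hbx.symm)⟩
    · exact ⟨a, ha, hax⟩
  obtain ⟨t, htZ, htQ⟩ := SetLike.not_le_iff_exists.mp (hall x y x' hx h hx'adj hx'ne)
  have htT : t ∈ Gv x ⊓ Gv y := Q_le_T' hW h (hQb x' y hx'adj.symm hy htZ)
  have htx : t • x = x := MulAction.mem_stabilizer_iff.mp htT.1
  have hty : t • y = y := MulAction.mem_stabilizer_iff.mp htT.2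
  -- `t` swaps `y₂` and `y₃`
  have hswap : ∀ l m : CosetVertex P₁ P₂, (cosetGraph P₁ P₂).Adj x l → (cosetGraph P₁ P₂).Adj x m →
      y ≠ l → y ≠ m → l ≠ m → t • l = m := by
    intro l m hl hm hyl hym hlm
    have hmove : t • l ≠ l := hW.move x y l h hl hyl t htT htQ
    have hadj : (cosetGraph P₁ P₂).Adj x (t • l) := by
      have := hW.smul_adj t _ _ hl
      rwa [htx] at this
    have hney : t • l ≠ y := by
      intro he
      rw [← hty] at he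
      exact hyl (smul_left_cancel t he).symm
    exact nbr_eq_of_card (hW.card_nbr x) y l (t • l) m h hl hyl hadj hney hmove hm
      (Ne.symm hym) (Ne.symm hlm)
  -- `t` centralizes `F_y`
  have htF : ∀ f ∈ Fb y, t * f * t⁻¹ = f := by
    intro f hf
    have hfC : f ∈ Subgroup.centralizer ((Vv y : Subgroup G) : Set G) := hf.2
    have h1 : t * f = f * t := (Subgroup.mem_centralizer_iff.mp hfC) t (Z_le_Vv hx'adj htZ)
    rw [h1]; group
  have hmove_le : ∀ l m : CosetVertex P₁ P₂, t • l = m → Fb y ⊓ Qv l ≤ Fb y ⊓ Qv m := by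
    intro l m hlm f hf
    refine ⟨hf.1, ?_⟩
    have h1 : t * f * t⁻¹ ∈ Qv (t • l) := by
      rw [hW.smul_Q]
      exact conj_mem_map t hf.2
    rw [htF f hf.1, hlm] at h1
    exact h1
  refine ⟨le_antisymm (hmove_le y₂ y₃ (hswap y₂ y₃ h₂ h₃ h₁₂ h₁₃ h₂₃))
    (hmove_le y₃ y₂ (hswap y₃ y₂ h₃ h₂ h₁₃ h₁₂ (Ne.symm h₂₃))), ?_⟩
  -- index
  have hfinGy : Finite ↥(Gv y) := hW.fin y
  have hfinF : Finite ↥(Fb y) :=
    Finite.of_injective (Subgroup.inclusion ((inf_le_left : Fb y ≤ Qv y).trans (Q_le_G hW y)))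
      (Subgroup.inclusion_injective _)
  have hFT : Fb y ≤ Gv y₂ ⊓ Gv x := (Fb_le_Qa_h39 hB hx h).trans (Q_le_T' hW h₂.symm)
  apply h39_card_le_two_mul_of_forall inf_le_left
  intro u hu huY u' hu' hu'Y
  have huQ : u ∉ Qv y₂ := fun hh => huY ⟨hu, hh⟩
  have hu'Q : u' ∉ Qv y₂ := fun hh => hu'Y ⟨hu', hh⟩
  exact ⟨(Fb y).mul_mem ((Fb y).inv_mem hu) hu',
    hW.mul_mem_Q y₂ x h₂.symm u u' (hFT hu) huQ (hFT hu') hu'Q⟩

end Cfsg.Agent.Lib.Helper68.AmalB
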