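import Mathlib
import Cfsg.Prelude.Def_Amalgam
import Cfsg.Agent.Lib.Helper68.AmalBDefs
import Cfsg.Agent.Lib.Helper68.AmalBTools
import Cfsg.Agent.Lib.Helper30.AmalBAllCrit
import Cfsg.Agent.Lib.Helper19.AmalBP2b
import Cfsg.Agent.Lib.Helper7.AmalBP3
import Cfsg.Agent.Lib.Helper39.AmalBB2K1
import Cfsg.Agent.Lib.Helper39.AmalBB2A1

/-!
# S2751, case (B): GSB-[B2-K1] `b2_card_Zb` and GSB-[B2-A1] `b2_A1`, EXACT sheet statements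
(helper39; namespace `Cfsg.Agent.Lib.Helper68.AmalB.H39` to avoid clashes with the primaries).
-/

set_option autoImplicit false

namespace Cfsg.Agent.Lib.Helper68.AmalB.H39

open Cfsg Cfsg.Agent.Lib.Helper12.Amal Cfsg.Agent.Lib.Helper68.AmalD Cfsg.Agent.Lib.Helper68.AmalW
open Cfsg.Agent.Lib.Helper68.AmalB

variable {G : Type*} [Group G] {P₁ P₂ : Subgroup G}

/-- **[B2-K1]** `|Z_y| = 2` for β-type `y` -/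
theorem b2_card_Zb (hB : BaseB P₁ P₂) (hall : AllCrit2 P₁ P₂) {y : CosetVertex P₁ P₂}
    (hy : Cfsg.Agent.Lib.Helper68.AmalB.IsB y) : Nat.card ↥(Zv y) = 2 :=
  b2_card_Zb_of_h39 hB hall (fun _ _ h hy' => H7.Za_le_Qb hB h hy')
    (fun _ _ hx hl => Za_card hB hx hl) hy

/-- **[B2-A1]** `F_y ∩ Q_{y₂} = F_y ∩ Q_{y₃}`, of index `≤ 2` in `F_y` -/
theorem b2_A1 (hB : BaseB P₁ P₂) (hall : AllCrit2 P₁ P₂)
    {x y y₂ y₃ : CosetVertex P₁ P₂} (hx : ¬ Cfsg.Agent.Lib.Helper68.AmalB.IsB x)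
    (h : (cosetGraph P₁ P₂).Adj x y) (h₂ : (cosetGraph P₁ P₂).Adj x y₂)
    (h₃ : (cosetGraph P₁ P₂).Adj x y₃) (h₁₂ : y ≠ y₂) (h₁₃ : y ≠ y₃) (h₂₃ : y₂ ≠ y₃) :
    Fb y ⊓ Qv y₂ = Fb y ⊓ Qv y₃ ∧ Nat.card ↥(Fb y) ≤ 2 * Nat.card ↥(Fb y ⊓ Qv y₂) :=
  b2_A1_of_h39 hB hall (fun _ _ h' hy' => H7.Za_le_Qb hB h' hy') hx h h₂ h₃ h₁₂ h₁₃ h₂₃

end Cfsg.Agent.Lib.Helper68.AmalB.H39
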