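import Mathlib
import Cfsg.Prelude.Def_Characters

set_option autoImplicit false

/-!
# Degrees versus types (helper39)
-/

namespace Cfsg.Agent.Lib.Helper39

theorem natCard_subtype_eq_sum_indicator {ι : Type*} [Fintype ι] (P : ι → Prop)
    [DecidablePred P] :
    (Nat.card {i : ι // P i} : ℤ) = ∑ i, (if P i then (1 : ℤ) else 0) := by
  rw [Nat.card_eq_fintype_card, Fintype.card_subtype, Finset.sum_boole]

/-- for `q ≥ 3` the degree of a character of one of the four types determines the type -/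
theorem deg_iff_type {G : Type*} [Group G] (q : ℕ) (hq : 3 ≤ q)
    (m a : Cfsg.IrrCharacter G → ℕ)
    (hd : ∀ χ : Cfsg.IrrCharacter G, (χ : G → ℂ) 1 = ((m χ + (q - 1) * a χ : ℕ) : ℂ))
    (ht : ∀ χ, (m χ = 0 ∧ a χ = 1) ∨ (m χ = 1 ∧ a χ = 0) ∨ (m χ = 1 ∧ a χ = 1) ∨
      (m χ = 2 ∧ a χ = 1)) (χ : Cfsg.IrrCharacter G) :
    ((χ : G → ℂ) 1 = 1 ↔ (m χ = 1 ∧ a χ = 0)) ∧
    ((χ : G → ℂ) 1 = (q : ℂ) ↔ (m χ = 1 ∧ a χ = 1)) ∧
    ((χ : G → ℂ) 1 = (q : ℂ) + 1 ↔ (m χ = 2 ∧ a χ = 1)) ∧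
    ((χ : G → ℂ) 1 = (q : ℂ) - 1 ↔ (m χ = 0 ∧ a χ = 1)) := by
  have h1 : ((χ : G → ℂ) 1 = 1) ↔ m χ + (q - 1) * a χ = 1 := by
    rw [hd χ]
    constructor
    · intro h; exact_mod_cast h
    · intro h; rw [h]; simp
  have h2 : ((χ : G → ℂ) 1 = (q : ℂ)) ↔ m χ + (q - 1) * a χ = q := by
    rw [hd χ]
    constructor
    · intro h; exact_mod_cast h
    · intro h; rw [h]
  have h3 : ((χ : G → ℂ) 1 = (q : ℂ) + 1) ↔ m χ + (q - 1) * a χ = q + 1 := by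
    rw [hd χ]
    constructor
    · intro h; exact_mod_cast h
    · intro h; rw [h]; push_cast; ring
  have h4 : ((χ : G → ℂ) 1 = (q : ℂ) - 1) ↔ m χ + (q - 1) * a χ = q - 1 := by
    rw [hd χ]
    have hc : (q : ℂ) - 1 = ((q - 1 : ℕ) : ℂ) := by
      rw [Nat.cast_sub (by omega)]; simp
    rw [hc]
    constructor
    · intro h; exact_mod_cast h
    · intro h; rw [h]
  rw [h1, h2, h3, h4]
  rcases ht χ with ⟨e1, e2⟩ | ⟨e1, e2⟩ | ⟨e1, e2⟩ | ⟨e1, e2⟩ <;> rw [e1, e2] <;>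
    refine ⟨?_, ?_, ?_, ?_⟩ <;> constructor <;> intro h <;> omega

end Cfsg.Agent.Lib.Helper39
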