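import Mathlib

set_option autoImplicit false
set_option linter.unnecessarySeqFocus false
set_option linter.unreachableTactic false
set_option linter.unusedTactic false

namespace Cfsg.Agent.Lib.Helper39

section oddcount

variable {ι : Type*} [Fintype ι]

/-- expansions of the global sums in terms of the indicator sums -/
theorem oddCount_expand (N : ℤ) (m a b : ι → ℕ)
    (ht : ∀ i, (m i = 1 ∧ a i = 0 ∧ b i = 0) ∨ (m i = 1 ∧ a i = 1 ∧ b i = 1) ∨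
      (m i = 2 ∧ a i = 1 ∧ b i = 1) ∨ (m i = 1 ∧ a i = 1 ∧ b i = 0) ∨
      (m i = 1 ∧ a i = 0 ∧ b i = 1) ∨ (m i = 0)) :
    let nT := ∑ i, (if m i = 1 ∧ a i = 0 ∧ b i = 0 then (1 : ℤ) else 0)
    let nS := ∑ i, (if m i = 1 ∧ a i = 1 ∧ b i = 1 then (1 : ℤ) else 0)
    let nP := ∑ i, (if m i = 2 ∧ a i = 1 ∧ b i = 1 then (1 : ℤ) else 0)
    let nHp := ∑ i, (if m i = 1 ∧ a i = 1 ∧ b i = 0 then (1 : ℤ) else 0)
    let nHm := ∑ i, (if m i = 1 ∧ a i = 0 ∧ b i = 1 then (1 : ℤ) else 0)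
    let nC := ∑ i, (if m i = 0 then (1 : ℤ) else 0)
    let cA2 := ∑ i, (if m i = 0 then ((a i : ℤ) ^ 2 + (b i : ℤ) ^ 2) else 0)
    let cAB := ∑ i, (if m i = 0 then ((a i : ℤ) * (b i : ℤ)) else 0)
    (Fintype.card ι : ℤ) = nT + nS + nP + nHp + nHm + nC ∧
    ∑ i, ((m i : ℤ) + N * ((a i : ℤ) + (b i : ℤ))) ^ 2 =
      nT + (2 * N + 1) ^ 2 * nS + (2 * N + 2) ^ 2 * nP +
      (N + 1) ^ 2 * (nHp + nHm) + N ^ 2 * (cA2 + 2 * cAB) ∧
    ∑ i, ((m i : ℤ) + N * ((a i : ℤ) + (b i : ℤ))) * (m i : ℤ) =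
      nT + (2 * N + 1) * nS + 2 * (2 * N + 2) * nP + (N + 1) * (nHp + nHm) ∧
    ∑ i, ((m i : ℤ) ^ 2 + N * (a i : ℤ) ^ 2 + N * (b i : ℤ) ^ 2) =
      nT + (1 + 2 * N) * nS + (4 + 2 * N) * nP + (1 + N) * (nHp + nHm) + N * cA2 ∧
    ∑ i, ((m i : ℤ) ^ 2 + 2 * N * ((a i : ℤ) * (b i : ℤ))) =
      nT + (1 + 2 * N) * nS + (4 + 2 * N) * nP + (nHp + nHm) + 2 * N * cAB ∧
    ∑ i, ((m i : ℤ) + N * ((a i : ℤ) + (b i : ℤ))) * ((a i : ℤ) - (b i : ℤ)) =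
      (N + 1) * (nHp - nHm) +
      N * ∑ i, (if m i = 0 then ((a i : ℤ) + (b i : ℤ)) * ((a i : ℤ) - (b i : ℤ)) else 0) := by
  intro nT nS nP nHp nHm nC cA2 cAB
  have hcard : (Fintype.card ι : ℤ) = ∑ _i : ι, (1 : ℤ) := by simp
  refine ⟨?_, ?_, ?_, ?_, ?_, ?_⟩
  · simp only [nT, nS, nP, nHp, nHm, nC, hcard, ← Finset.sum_add_distrib]
    apply Finset.sum_congr rfl
    intro i _
    rcases ht i with ⟨h1, h2, h3⟩ | ⟨h1, h2, h3⟩ | ⟨h1, h2, h3⟩ | ⟨h1, h2, h3⟩ | ⟨h1, h2, h3⟩ | h1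
    · simp [h1, h2, h3]
    · simp [h1, h2, h3]
    · simp [h1, h2, h3]
    · simp [h1, h2, h3]
    · simp [h1, h2, h3]
    · simp [h1]
  · simp only [nT, nS, nP, nHp, nHm, cA2, cAB, Finset.mul_sum, ← Finset.sum_add_distrib]
    apply Finset.sum_congr rfl
    intro i _
    rcases ht i with ⟨h1, h2, h3⟩ | ⟨h1, h2, h3⟩ | ⟨h1, h2, h3⟩ | ⟨h1, h2, h3⟩ | ⟨h1, h2, h3⟩ | h1
    · simp [h1, h2, h3]
    · simp [h1, h2, h3] <;> ring
    · simp [h1, h2, h3] <;> ring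
    · simp [h1, h2, h3] <;> ring
    · simp [h1, h2, h3] <;> ring
    · simp [h1] <;> ring
  · simp only [nT, nS, nP, nHp, nHm, Finset.mul_sum, ← Finset.sum_add_distrib]
    apply Finset.sum_congr rfl
    intro i _
    rcases ht i with ⟨h1, h2, h3⟩ | ⟨h1, h2, h3⟩ | ⟨h1, h2, h3⟩ | ⟨h1, h2, h3⟩ | ⟨h1, h2, h3⟩ | h1
    · simp [h1, h2, h3]
    · simp [h1, h2, h3] <;> ring
    · simp [h1, h2, h3] <;> ring
    · simp [h1, h2, h3] <;> ring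
    · simp [h1, h2, h3] <;> ring
    · simp [h1]
  · simp only [nT, nS, nP, nHp, nHm, cA2, Finset.mul_sum, ← Finset.sum_add_distrib]
    apply Finset.sum_congr rfl
    intro i _
    rcases ht i with ⟨h1, h2, h3⟩ | ⟨h1, h2, h3⟩ | ⟨h1, h2, h3⟩ | ⟨h1, h2, h3⟩ | ⟨h1, h2, h3⟩ | h1
    · simp [h1, h2, h3]
    · simp [h1, h2, h3] <;> ring
    · simp [h1, h2, h3] <;> ring
    · simp [h1, h2, h3] <;> ring
    · simp [h1, h2, h3] <;> ring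
    · simp [h1] <;> ring
  · simp only [nT, nS, nP, nHp, nHm, cAB, Finset.mul_sum, ← Finset.sum_add_distrib]
    apply Finset.sum_congr rfl
    intro i _
    rcases ht i with ⟨h1, h2, h3⟩ | ⟨h1, h2, h3⟩ | ⟨h1, h2, h3⟩ | ⟨h1, h2, h3⟩ | ⟨h1, h2, h3⟩ | h1
    · simp [h1, h2, h3]
    · simp [h1, h2, h3] <;> ring
    · simp [h1, h2, h3] <;> ring
    · simp [h1, h2, h3] <;> ring
    · simp [h1, h2, h3] <;> ring
    · simp [h1] <;> ring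
  · simp only [nHp, nHm, Finset.mul_sum, ← Finset.sum_sub_distrib, ← Finset.sum_add_distrib]
    apply Finset.sum_congr rfl
    intro i _
    rcases ht i with ⟨h1, h2, h3⟩ | ⟨h1, h2, h3⟩ | ⟨h1, h2, h3⟩ | ⟨h1, h2, h3⟩ | ⟨h1, h2, h3⟩ | h1
    · simp [h1, h2, h3]
    · simp [h1, h2, h3]
    · simp [h1, h2, h3]
    · simp [h1, h2, h3] <;> ring
    · simp [h1, h2, h3] <;> ring
    · simp [h1] <;> ring

/-- the arithmetic of the counting argument -/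
theorem oddCount_solve (N nT nS nP nHp nHm nC cA2 cAB : ℤ) (hN : 1 ≤ N)
    (hT : nT = 1) (hHp : 0 ≤ nHp) (hHm : 0 ≤ nHm) (hD : 0 ≤ cA2 - 2 * cAB)
    (H1 : 2 * N + 5 = nT + nS + nP + nHp + nHm + nC)
    (H2 : 4 * N * (N + 1) * (2 * N + 1) = nT + (2 * N + 1) ^ 2 * nS + (2 * N + 2) ^ 2 * nP +
      (N + 1) ^ 2 * (nHp + nHm) + N ^ 2 * (cA2 + 2 * cAB))
    (H3 : 4 * N * (N + 1) = nT + (2 * N + 1) * nS + 2 * (2 * N + 2) * nP +
      (N + 1) * (nHp + nHm))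
    (H4 : 4 * N * (N + 2) = nT + (1 + 2 * N) * nS + (4 + 2 * N) * nP +
      (1 + N) * (nHp + nHm) + N * cA2)
    (H5 : 4 * N * (N + 1) = nT + (1 + 2 * N) * nS + (4 + 2 * N) * nP +
      (nHp + nHm) + 2 * N * cAB) :
    nS = 1 ∧ nP = N - 1 ∧ nHp + nHm = 2 ∧ nC = N + 2 ∧ cA2 = 2 * N + 2 ∧ cAB = N := by
  have hN0 : N ≠ 0 := by omega
  have F1 : (nHp + nHm) + cA2 - 2 * cAB = 4 := by
    apply mul_left_cancel₀ hN0
    linear_combination H5 - H4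
  have F2 : 2 * nP + (nHp + nHm) = 2 * cAB := by
    apply mul_left_cancel₀ hN0
    linear_combination H5 - H3
  have F3 : 4 * nP + (nHp + nHm) = 4 * N - 2 := by
    apply mul_left_cancel₀ hN0
    linear_combination H2 - (2 * N + 1) * H3 + N ^ 2 * F1 - 2 * N ^ 2 * F2 - 2 * N * hT
  have hH : nHp + nHm = 2 := by omega
  have hP : nP = N - 1 := by omega
  have hAB : cAB = N := by omega
  have hA2 : cA2 = 2 * N + 2 := by omega
  have hS : nS = 1 := by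
    have h2 : (2 * N + 1) ≠ 0 := by omega
    apply mul_left_cancel₀ h2
    rw [hT, hP, hH] at H3
    linear_combination -H3
  refine ⟨hS, hP, hH, ?_, hA2, hAB⟩
  rw [hT, hS, hP] at H1
  omega



/-- expansion of the cuspidal sums once the cuspidal types are known -/
theorem oddCount_cusp_expand (m a b : ι → ℕ)
    (hc : ∀ i, m i = 0 → (a i = 1 ∧ b i = 1) ∨ (a i = 1 ∧ b i = 0) ∨ (a i = 0 ∧ b i = 1)) :
    let nC11 := ∑ i, (if m i = 0 ∧ a i = 1 ∧ b i = 1 then (1 : ℤ) else 0)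
    let nC10 := ∑ i, (if m i = 0 ∧ a i = 1 ∧ b i = 0 then (1 : ℤ) else 0)
    let nC01 := ∑ i, (if m i = 0 ∧ a i = 0 ∧ b i = 1 then (1 : ℤ) else 0)
    (∑ i, (if m i = 0 then (1 : ℤ) else 0)) = nC11 + nC10 + nC01 ∧
    (∑ i, (if m i = 0 then ((a i : ℤ) ^ 2 + (b i : ℤ) ^ 2) else 0)) = 2 * nC11 + nC10 + nC01 ∧
    (∑ i, (if m i = 0 then ((a i : ℤ) * (b i : ℤ)) else 0)) = nC11 ∧
    (∑ i, (if m i = 0 then ((a i : ℤ) + (b i : ℤ)) * ((a i : ℤ) - (b i : ℤ)) else 0)) =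
      nC10 - nC01 := by
  intro nC11 nC10 nC01
  refine ⟨?_, ?_, ?_, ?_⟩
  · simp only [nC11, nC10, nC01, ← Finset.sum_add_distrib]
    apply Finset.sum_congr rfl
    intro i _
    by_cases h0 : m i = 0
    · rcases hc i h0 with ⟨h2, h3⟩ | ⟨h2, h3⟩ | ⟨h2, h3⟩ <;> simp [h0, h2, h3]
    · simp [h0]
  · simp only [nC11, nC10, nC01, Finset.mul_sum, ← Finset.sum_add_distrib]
    apply Finset.sum_congr rfl
    intro i _
    by_cases h0 : m i = 0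
    · rcases hc i h0 with ⟨h2, h3⟩ | ⟨h2, h3⟩ | ⟨h2, h3⟩ <;> simp [h0, h2, h3] <;> ring
    · simp [h0]
  · simp only [nC11]
    apply Finset.sum_congr rfl
    intro i _
    by_cases h0 : m i = 0
    · rcases hc i h0 with ⟨h2, h3⟩ | ⟨h2, h3⟩ | ⟨h2, h3⟩ <;> simp [h0, h2, h3]
    · simp [h0]
  · simp only [nC10, nC01, ← Finset.sum_sub_distrib]
    apply Finset.sum_congr rfl
    intro i _
    by_cases h0 : m i = 0
    · rcases hc i h0 with ⟨h2, h3⟩ | ⟨h2, h3⟩ | ⟨h2, h3⟩ <;> simp [h0, h2, h3]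
    · simp [h0]

/-- the cuspidal types from the vanishing of a sum of non-negative terms -/
theorem oddCount_cusp_types (m a b : ι → ℕ)
    (hpos : ∀ i, m i = 0 → 1 ≤ a i + b i)
    (hsum : (∑ i, (if m i = 0 then ((a i : ℤ) ^ 2 + (b i : ℤ) ^ 2) else 0)) -
      (∑ i, (if m i = 0 then ((a i : ℤ) * (b i : ℤ)) else 0)) -
      (∑ i, (if m i = 0 then (1 : ℤ) else 0)) = 0) :
    ∀ i, m i = 0 → (a i = 1 ∧ b i = 1) ∨ (a i = 1 ∧ b i = 0) ∨ (a i = 0 ∧ b i = 1) := by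
  rw [← Finset.sum_sub_distrib, ← Finset.sum_sub_distrib] at hsum
  have hnn : ∀ i ∈ (Finset.univ : Finset ι), 0 ≤
      ((if m i = 0 then ((a i : ℤ) ^ 2 + (b i : ℤ) ^ 2) else 0) -
        (if m i = 0 then ((a i : ℤ) * (b i : ℤ)) else 0) - (if m i = 0 then (1 : ℤ) else 0)) := by
    intro i _
    by_cases h0 : m i = 0
    · simp only [h0, if_true]
      have h1 := hpos i h0
      have ha : (0 : ℤ) ≤ a i := by positivity
      have hb : (0 : ℤ) ≤ b i := by positivity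
      have h1' : (1 : ℤ) ≤ (a i : ℤ) + (b i : ℤ) := by exact_mod_cast h1
      rcases Nat.eq_zero_or_pos (a i) with h | h
      · have hb1 : (1 : ℤ) ≤ b i := by rw [h] at h1'; simpa using h1'
        rw [h]; push_cast; nlinarith
      · rcases Nat.eq_zero_or_pos (b i) with h' | h'
        · have ha1 : (1 : ℤ) ≤ a i := by exact_mod_cast h
          rw [h']; push_cast; nlinarith
        · have ha1 : (1 : ℤ) ≤ a i := by exact_mod_cast h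
          have hb1 : (1 : ℤ) ≤ b i := by exact_mod_cast h'
          nlinarith [sq_nonneg ((a i : ℤ) - (b i : ℤ)), mul_le_mul ha1 hb1 (by norm_num) ha]
    · simp [h0]
  have hz := (Finset.sum_eq_zero_iff_of_nonneg hnn).mp hsum
  intro i h0
  have h := hz i (Finset.mem_univ i)
  simp only [h0, if_true] at h
  have h1 := hpos i h0
  have ha : (0 : ℤ) ≤ a i := by positivity
  have hb : (0 : ℤ) ≤ b i := by positivity
  have hb1 : (b i : ℤ) ≤ 1 := by nlinarith [sq_nonneg (2 * (a i : ℤ) - (b i : ℤ))]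
  have ha1 : (a i : ℤ) ≤ 1 := by nlinarith [sq_nonneg (2 * (b i : ℤ) - (a i : ℤ))]
  have ha1' : a i ≤ 1 := by exact_mod_cast ha1
  have hb1' : b i ≤ 1 := by exact_mod_cast hb1
  interval_cases hA : a i <;> interval_cases hB : b i <;> simp_all


/-- **The counting argument for `SL₂(q)`, `q = 2 N + 1` odd.** -/
theorem oddCount_main (N : ℤ) (hN : 1 ≤ N) (m a b : ι → ℕ)
    (ht : ∀ i, (m i = 1 ∧ a i = 0 ∧ b i = 0) ∨ (m i = 1 ∧ a i = 1 ∧ b i = 1) ∨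
      (m i = 2 ∧ a i = 1 ∧ b i = 1) ∨ (m i = 1 ∧ a i = 1 ∧ b i = 0) ∨
      (m i = 1 ∧ a i = 0 ∧ b i = 1) ∨ (m i = 0 ∧ 1 ≤ a i + b i))
    (hT : ∑ i, (if m i = 1 ∧ a i = 0 ∧ b i = 0 then (1 : ℤ) else 0) = 1)
    (H1 : (Fintype.card ι : ℤ) = 2 * N + 5)
    (H2 : ∑ i, ((m i : ℤ) + N * ((a i : ℤ) + (b i : ℤ))) ^ 2 = 4 * N * (N + 1) * (2 * N + 1))
    (H3 : ∑ i, ((m i : ℤ) + N * ((a i : ℤ) + (b i : ℤ))) * (m i : ℤ) = 4 * N * (N + 1))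
    (H4 : ∑ i, ((m i : ℤ) ^ 2 + N * (a i : ℤ) ^ 2 + N * (b i : ℤ) ^ 2) = 4 * N * (N + 2))
    (H5 : ∑ i, ((m i : ℤ) ^ 2 + 2 * N * ((a i : ℤ) * (b i : ℤ))) = 4 * N * (N + 1))
    (H6 : ∑ i, ((m i : ℤ) + N * ((a i : ℤ) + (b i : ℤ))) * ((a i : ℤ) - (b i : ℤ)) = 0) :
    (∀ i, m i = 0 → (a i = 1 ∧ b i = 1) ∨ (a i = 1 ∧ b i = 0) ∨ (a i = 0 ∧ b i = 1)) ∧
    (∑ i, (if m i = 1 ∧ a i = 1 ∧ b i = 1 then (1 : ℤ) else 0)) = 1 ∧
    (∑ i, (if m i = 2 ∧ a i = 1 ∧ b i = 1 then (1 : ℤ) else 0)) = N - 1 ∧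
    (∑ i, (if m i = 1 ∧ a i = 1 ∧ b i = 0 then (1 : ℤ) else 0)) = 1 ∧
    (∑ i, (if m i = 1 ∧ a i = 0 ∧ b i = 1 then (1 : ℤ) else 0)) = 1 ∧
    (∑ i, (if m i = 0 ∧ a i = 1 ∧ b i = 1 then (1 : ℤ) else 0)) = N ∧
    (∑ i, (if m i = 0 ∧ a i = 1 ∧ b i = 0 then (1 : ℤ) else 0)) = 1 ∧
    (∑ i, (if m i = 0 ∧ a i = 0 ∧ b i = 1 then (1 : ℤ) else 0)) = 1 := by
  have ht' : ∀ i, (m i = 1 ∧ a i = 0 ∧ b i = 0) ∨ (m i = 1 ∧ a i = 1 ∧ b i = 1) ∨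
      (m i = 2 ∧ a i = 1 ∧ b i = 1) ∨ (m i = 1 ∧ a i = 1 ∧ b i = 0) ∨
      (m i = 1 ∧ a i = 0 ∧ b i = 1) ∨ (m i = 0) := by
    intro i
    rcases ht i with h | h | h | h | h | h
    · exact Or.inl h
    · exact Or.inr (Or.inl h)
    · exact Or.inr (Or.inr (Or.inl h))
    · exact Or.inr (Or.inr (Or.inr (Or.inl h)))
    · exact Or.inr (Or.inr (Or.inr (Or.inr (Or.inl h))))
    · exact Or.inr (Or.inr (Or.inr (Or.inr (Or.inr h.1))))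
  have hpos : ∀ i, m i = 0 → 1 ≤ a i + b i := by
    intro i h0
    rcases ht i with h | h | h | h | h | h
    · omega
    · omega
    · omega
    · omega
    · omega
    · exact h.2
  obtain ⟨E1, E2, E3, E4, E5, E6⟩ := oddCount_expand N m a b ht'
  rw [H1] at E1
  rw [H2] at E2
  rw [H3] at E3
  rw [H4] at E4
  rw [H5] at E5
  rw [H6] at E6
  have hHp : (0 : ℤ) ≤ ∑ i, (if m i = 1 ∧ a i = 1 ∧ b i = 0 then (1 : ℤ) else 0) :=
    Finset.sum_nonneg (fun i _ => by split_ifs <;> norm_num)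
  have hHm : (0 : ℤ) ≤ ∑ i, (if m i = 1 ∧ a i = 0 ∧ b i = 1 then (1 : ℤ) else 0) :=
    Finset.sum_nonneg (fun i _ => by split_ifs <;> norm_num)
  have hD : (0 : ℤ) ≤ (∑ i, (if m i = 0 then ((a i : ℤ) ^ 2 + (b i : ℤ) ^ 2) else 0)) -
      2 * ∑ i, (if m i = 0 then ((a i : ℤ) * (b i : ℤ)) else 0) := by
    rw [Finset.mul_sum, ← Finset.sum_sub_distrib]
    apply Finset.sum_nonneg
    intro i _
    split_ifs
    · nlinarith [sq_nonneg ((a i : ℤ) - (b i : ℤ))]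
    · norm_num
  obtain ⟨hS, hP, hH, hC, hA2, hAB⟩ := oddCount_solve N _ _ _ _ _ _ _ _ hN hT hHp hHm hD
    E1 E2 E3 E4 E5
  have hc := oddCount_cusp_types m a b hpos (by rw [hA2, hAB, hC]; ring)
  obtain ⟨G1, G2, G3, G4⟩ := oddCount_cusp_expand m a b hc
  rw [hC] at G1
  rw [hA2] at G2
  rw [hAB] at G3
  rw [G4] at E6
  have h10 : (0 : ℤ) ≤ ∑ i, (if m i = 0 ∧ a i = 1 ∧ b i = 0 then (1 : ℤ) else 0) :=
    Finset.sum_nonneg (fun i _ => by split_ifs <;> norm_num)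
  have h01 : (0 : ℤ) ≤ ∑ i, (if m i = 0 ∧ a i = 0 ∧ b i = 1 then (1 : ℤ) else 0) :=
    Finset.sum_nonneg (fun i _ => by split_ifs <;> norm_num)
  set nHp := ∑ i, (if m i = 1 ∧ a i = 1 ∧ b i = 0 then (1 : ℤ) else 0)
  set nHm := ∑ i, (if m i = 1 ∧ a i = 0 ∧ b i = 1 then (1 : ℤ) else 0)
  set nC11 := ∑ i, (if m i = 0 ∧ a i = 1 ∧ b i = 1 then (1 : ℤ) else 0)
  set nC10 := ∑ i, (if m i = 0 ∧ a i = 1 ∧ b i = 0 then (1 : ℤ) else 0)
  set nC01 := ∑ i, (if m i = 0 ∧ a i = 0 ∧ b i = 1 then (1 : ℤ) else 0)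
  have hsum2 : nC10 + nC01 = 2 := by linarith
  have hHm' : nHm = 2 - nHp := by linarith
  have h01' : nC01 = 2 - nC10 := by linarith
  rw [hHm', h01'] at E6
  have hb1 : nHp ≤ 2 := by linarith
  have hb2 : nC10 ≤ 2 := by linarith
  have key : nHp = 1 ∧ nC10 = 1 := by
    interval_cases nHp <;> interval_cases nC10 <;> first | (constructor <;> rfl) | (exfalso; linarith)
  obtain ⟨k1, k2⟩ := key
  refine ⟨hc, hS, hP, k1, ?_, ?_, k2, ?_⟩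
  · rw [hHm', k1]; norm_num
  · linarith
  · rw [h01', k2]; norm_num

end oddcount

end Cfsg.Agent.Lib.Helper39
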