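import Mathlib
import Cfsg.Agent.Lib.Helper39.Mat2

set_option autoImplicit false

/-!
# Conjugacy in SL₂ over a field
-/

namespace Cfsg.Agent.Lib.Helper39

open Matrix

variable {F : Type*} [Field F]

theorem sl2_isConj_iff {g h : Matrix.SpecialLinearGroup (Fin 2) F} :
    IsConj g h ↔ ∃ Q : Matrix (Fin 2) (Fin 2) F, Q.det = 1 ∧ Q * g.1 = h.1 * Q := by
  rw [isConj_iff]
  constructor
  · rintro ⟨c, hc⟩
    refine ⟨c.1, c.2, ?_⟩
    rw [mul_inv_eq_iff_eq_mul] at hc
    have := congrArg (fun x : Matrix.SpecialLinearGroup (Fin 2) F => x.1) hc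
    simpa using this
  · rintro ⟨Q, hQ, hQg⟩
    let c : Matrix.SpecialLinearGroup (Fin 2) F := ⟨Q, hQ⟩
    have key : c * g = h * c := by
      apply Subtype.ext
      rw [Matrix.SpecialLinearGroup.coe_mul, Matrix.SpecialLinearGroup.coe_mul]
      exact hQg
    exact ⟨c, mul_inv_eq_iff_eq_mul.mpr key⟩

/-- companion element of SL₂ with trace `t`. -/
def compSL2 (t : F) : Matrix.SpecialLinearGroup (Fin 2) F := ⟨companion2 t 1, companion2_det t 1⟩

/-- upper triangular element of SL₂ with diagonal `s`, `s * s = 1`. -/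
def upperSL2 (s : F) (hs : s * s = 1) (c : F) : Matrix.SpecialLinearGroup (Fin 2) F :=
  ⟨!![s, c; 0, s], by simp [Matrix.det_fin_two, hs]⟩

theorem compSL2_val (t : F) : (compSL2 t).1 = companion2 t 1 := rfl

theorem upperSL2_val (s : F) (hs : s * s = 1) (c : F) : (upperSL2 s hs c).1 = !![s, c; 0, s] := rfl

theorem sl2_conj_trace {g h : Matrix.SpecialLinearGroup (Fin 2) F} (hc : IsConj g h) :
    g.1.trace = h.1.trace := by
  obtain ⟨Q, hQ, hQg⟩ := sl2_isConj_iff.mp hc
  have hQu : IsUnit Q.det := by rw [hQ]; exact isUnit_one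
  have : h.1 = Q * g.1 * Q⁻¹ := by
    rw [hQg, Matrix.mul_assoc, Matrix.mul_nonsing_inv _ hQu, Matrix.mul_one]
  rw [this, Matrix.trace_mul_cycle, Matrix.nonsing_inv_mul _ hQu, Matrix.one_mul]

theorem scalar2_commute {A : Matrix (Fin 2) (Fin 2) F} (hA : IsScalar2 A)
    (Q : Matrix (Fin 2) (Fin 2) F) : Q * A = A * Q := by
  obtain ⟨h01, h10, h00⟩ := hA
  rw [eta2 A, eta2 Q, h01, h10, ← h00]
  ext i j; fin_cases i <;> fin_cases j <;> simp [Matrix.mul_apply, Fin.sum_univ_two, mul_comm]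

theorem sl2_conj_scalar {g h : Matrix.SpecialLinearGroup (Fin 2) F} (hc : IsConj g h)
    (hg : IsScalar2 g.1) : h = g := by
  obtain ⟨Q, hQ, hQg⟩ := sl2_isConj_iff.mp hc
  have hQu : IsUnit Q.det := by rw [hQ]; exact isUnit_one
  rw [scalar2_commute hg] at hQg
  apply Subtype.ext
  have := congrArg (fun M => M * Q⁻¹) hQg
  simp only [Matrix.mul_assoc, Matrix.mul_nonsing_inv _ hQu, Matrix.mul_one] at this
  exact this.symm

theorem sl2_conj_scalar_iff {g h : Matrix.SpecialLinearGroup (Fin 2) F} (hc : IsConj g h) :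
    IsScalar2 g.1 ↔ IsScalar2 h.1 := by
  constructor
  · intro hg
    rw [sl2_conj_scalar hc hg]; exact hg
  · intro hh
    rw [sl2_conj_scalar hc.symm hh]; exact hh

theorem det_smul_one_add_smul (A : Matrix (Fin 2) (Fin 2) F) (x y : F) :
    (x • (1 : Matrix (Fin 2) (Fin 2) F) + y • A).det = x ^ 2 + A.trace * x * y + A.det * y ^ 2 := by
  rw [eta2 A]
  simp [Matrix.det_fin_two, Matrix.trace_fin_two]
  ring

/-- If the norm form `x² + t x y + y²` of a non-scalar `g ∈ SL₂` represents `c`, where `c⁻¹` is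
the determinant of some matrix conjugating `g` to the companion matrix, then `g` is conjugate in
`SL₂` to the companion matrix. We state it with the form representing every non-zero element. -/
theorem sl2_conj_comp_of_norm {g : Matrix.SpecialLinearGroup (Fin 2) F} (hg : ¬ IsScalar2 g.1)
    (hnorm : ∀ c : F, c ≠ 0 → ∃ x y : F, x ^ 2 + g.1.trace * x * y + y ^ 2 = c) :
    IsConj (compSL2 g.1.trace) g := by
  obtain ⟨P, hP, hAP⟩ := exists_conj_companion2 g.1 hg
  rw [g.2] at hAP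
  obtain ⟨x, y, hxy⟩ := hnorm (P.det)⁻¹ (inv_ne_zero hP)
  rw [sl2_isConj_iff]
  refine ⟨(x • (1 : Matrix (Fin 2) (Fin 2) F) + y • g.1) * P, ?_, ?_⟩
  · rw [Matrix.det_mul, det_smul_one_add_smul, g.2, one_mul, hxy, inv_mul_cancel₀ hP]
  · rw [compSL2_val, Matrix.mul_assoc, ← hAP, ← Matrix.mul_assoc, ← Matrix.mul_assoc]
    congr 1
    simp [Matrix.mul_add, Matrix.add_mul]

end Cfsg.Agent.Lib.Helper39
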