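import Cfsg.Agent.Lib.Helper39.SL2EvenCount
import Cfsg.Agent.Lib.Helper39.OddCount
import Cfsg.Agent.S2325

set_option autoImplicit false
set_option linter.style.haveILetI false

/-!
# The irreducible characters of `SL₂(q)`, `q` odd, by counting (helper39)
-/

namespace Cfsg.Agent.Lib.Helper39

open Matrix Cfsg.Agent.Lib.Helper41
open scoped ComplexConjugate

section nodd

variable {F : Type*} [Field F] [Fintype F] [DecidableEq F]

/-- the multiplicity function attached to the data `(m, a, b)` -/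
noncomputable def nOdd (m a b : ℕ) (c : F) : ℕ :=
  if c = 0 then m else if quadraticChar F c = 1 then a else b

theorem nOdd_zero (m a b : ℕ) : nOdd m a b (0 : F) = m := by simp [nOdd]

theorem nOdd_one (m a b : ℕ) : nOdd m a b (1 : F) = a := by simp [nOdd]

theorem nOdd_eps (m a b : ℕ) (ε : F) (hε : quadraticChar F ε = -1) : nOdd m a b ε = b := by
  have hε0 : ε ≠ 0 := by
    rintro rfl
    simp at hε
  simp [nOdd, hε0, hε]

theorem nOdd_eps_sq (m a b : ℕ) (ε : F) (hε : quadraticChar F ε = -1) :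
    nOdd m a b (ε * ε) = a := by
  have hε0 : ε ≠ 0 := by
    rintro rfl
    simp at hε
  have h : quadraticChar F (ε * ε) = 1 := by rw [map_mul, hε]; norm_num
  unfold nOdd
  rw [if_neg (mul_ne_zero hε0 hε0), if_pos h]

theorem nOdd_sq_mul (m a b : ℕ) (t : Fˣ) (c : F) :
    nOdd m a b ((t : F) ^ 2 * c) = nOdd m a b c := by
  have ht : (t : F) ^ 2 ≠ 0 := pow_ne_zero 2 t.ne_zero
  unfold nOdd
  have h1 : ((t : F) ^ 2 * c = 0) ↔ c = 0 := by
    constructor
    · intro h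
      rcases mul_eq_zero.mp h with h | h
      · exact absurd h ht
      · exact h
    · rintro rfl; simp
  have h2 : quadraticChar F ((t : F) ^ 2 * c) = quadraticChar F c := by
    rw [map_mul, quadraticChar_sq_one' t.ne_zero, one_mul]
  simp only [h1, h2]

/-- the sum of the squares of the multiplicities -/
theorem sum_nOdd_sq (hF : ringChar F ≠ 2) (ε : F) (hε : quadraticChar F ε = -1) (m a b : ℕ) :
    ∑ c : F, (nOdd m a b ((1 : F) * c) : ℂ) * (nOdd m a b c : ℂ) =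
      (m : ℂ) ^ 2 + (((Fintype.card F - 1) / 2 : ℕ) : ℂ) * (a : ℂ) ^ 2 +
        (((Fintype.card F - 1) / 2 : ℕ) : ℂ) * (b : ℂ) ^ 2 := by
  rw [sum_of_sq_invariant hF ε hε (fun c : F => (nOdd m a b ((1 : F) * c) : ℂ) * (nOdd m a b c : ℂ))
    (fun t c => by simp only [one_mul, nOdd_sq_mul])]
  simp only [one_mul, nOdd_zero, nOdd_one, nOdd_eps m a b ε hε, nsmul_eq_mul]
  ring

/-- the twisted sum of the products of the multiplicities -/
theorem sum_nOdd_eps (hF : ringChar F ≠ 2) (ε : F) (hε : quadraticChar F ε = -1) (m a b : ℕ) :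
    ∑ c : F, (nOdd m a b (ε * c) : ℂ) * (nOdd m a b c : ℂ) =
      (m : ℂ) ^ 2 + 2 * (((Fintype.card F - 1) / 2 : ℕ) : ℂ) * ((a : ℂ) * (b : ℂ)) := by
  rw [sum_of_sq_invariant hF ε hε (fun c : F => (nOdd m a b (ε * c) : ℂ) * (nOdd m a b c : ℂ))
    (fun t c => by
      have : ε * ((t : F) ^ 2 * c) = (t : F) ^ 2 * (ε * c) := by ring
      simp only [this, nOdd_sq_mul])]
  simp only [mul_zero, mul_one, nOdd_zero, nOdd_one, nOdd_eps m a b ε hε,
    nOdd_eps_sq m a b ε hε, nsmul_eq_mul]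
  ring

end nodd

section fourier

variable {F : Type*} [Field F] [Fintype F] [DecidableEq F]

/-- twisted Parseval formula -/
theorem twisted_parseval {ψ : AddChar F ℂ} (hψ : ψ.IsPrimitive) (n : F → ℕ) (f : F → ℂ)
    (hf : ∀ x, f x = ∑ c : F, (n c : ℂ) * ψ (c * x)) (e : F) :
    ∑ x : F, f x * conj (f (e * x)) =
      (Fintype.card F : ℂ) * ∑ c : F, (n (e * c) : ℂ) * (n c : ℂ) := by
  have h1 : ∀ x : F, f x * conj (f (e * x)) =
      ∑ c : F, ∑ c' : F, ((n c : ℂ) * (n c' : ℂ)) * ψ (x * (c - c' * e)) := by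
    intro x
    rw [hf x, hf (e * x), map_sum, Finset.sum_mul_sum]
    refine Finset.sum_congr rfl (fun c _ => Finset.sum_congr rfl (fun c' _ => ?_))
    rw [map_mul (starRingEnd ℂ), Complex.conj_natCast, ← AddChar.map_neg_eq_conj]
    have : ψ (x * (c - c' * e)) = ψ (c * x) * ψ (-(c' * (e * x))) := by
      rw [← AddChar.map_add_eq_mul]; congr 1; ring
    rw [this]; ring
  rw [Finset.sum_congr rfl (fun x _ => h1 x), Finset.sum_comm,
    Finset.sum_congr rfl (fun c _ => Finset.sum_comm), Finset.sum_comm, Finset.mul_sum]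
  refine Finset.sum_congr rfl (fun c' _ => ?_)
  have h2 : ∀ c : F, ∑ x : F, ((n c : ℂ) * (n c' : ℂ)) * ψ (x * (c - c' * e)) =
      (if c = e * c' then (Fintype.card F : ℂ) * ((n c : ℂ) * (n c' : ℂ)) else 0) := by
    intro c
    rw [← Finset.mul_sum, AddChar.sum_mulShift (c - c' * e) hψ]
    have : (c - c' * e = 0) ↔ c = e * c' := by
      rw [sub_eq_zero, mul_comm]
    simp only [this]
    split_ifs <;> simp [mul_comm]
  rw [Finset.sum_congr rfl (fun c _ => h2 c), Finset.sum_ite_eq' Finset.univ (e * c')]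
  simp

end fourier

section dataodd

variable {F : Type*} [Field F] [Fintype F] [DecidableEq F]
variable {V : Type*} [AddCommGroup V] [Module ℂ V]

/-- an irreducible representation of `SL₂(q)` of dimension `q` has character vanishing on the
non-trivial upper unitriangular matrices -/
theorem char_upperU_of_finrank_eq_card [FiniteDimensional ℂ V]
    (ρ : Representation ℂ (Matrix.SpecialLinearGroup (Fin 2) F) V) (hρ : ρ.IsIrreducible)
    (hd : Module.finrank ℂ V = Fintype.card F) (x : F) (hx : x ≠ 0) :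
    ρ.character (upperU x) = 0 := by
  classical
  obtain ⟨p, hchar⟩ := CharP.exists F
  haveI := hchar
  haveI hp : Fact p.Prime := ⟨CharP.char_is_prime F p⟩
  obtain ⟨n, hn⟩ := FiniteField.card F p
  have hq : 2 ≤ Fintype.card F := Fintype.one_lt_card
  have hG : Nat.card (Matrix.SpecialLinearGroup (Fin 2) F)
      = Fintype.card F * (Fintype.card F ^ 2 - 1) := Cfsg.Agent.Lib.Helper5.card_SL2
  haveI := hρ
  apply Cfsg.Agent.S0165.result ρ p n hp.out
  · rw [hG, ← hn.2]; exact dvd_mul_right _ _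
  · rw [hG, pow_succ, ← hn.2]
    intro hdvd
    have h1 : p ∣ Fintype.card F ^ 2 - 1 := by
      have := Nat.dvd_of_mul_dvd_mul_left (by positivity) hdvd
      exact this
    have h2 : p ∣ Fintype.card F ^ 2 := by
      rw [hn.2]
      exact dvd_pow (dvd_pow_self p n.ne_zero) (by norm_num)
    have h3 : 1 ≤ Fintype.card F ^ 2 := Nat.one_le_pow _ _ (by omega)
    have h4 : p ∣ 1 := by
      have := (Nat.dvd_sub h2 h1)
      rwa [Nat.sub_sub_self h3] at this
    exact hp.out.one_lt.ne' (Nat.dvd_one.mp h4)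
  · rw [hd, hn.2]
  · rw [orderOf_upperU p x hx]

/-- if the character is constant `κ` on `U ∖ 1`, all non-trivial additive characters have
multiplicity `(d - κ)/q` -/
theorem uMult_of_const [FiniteDimensional ℂ V]
    (ρ : Representation ℂ (Matrix.SpecialLinearGroup (Fin 2) F) V) {ψ : AddChar F ℂ}
    (hψ : ψ.IsPrimitive) (κ : ℂ) (hκ : ∀ x : F, x ≠ 0 → ρ.character (upperU x) = κ)
    (c : F) (hc : c ≠ 0) :
    (Fintype.card F : ℂ) * (uMult ρ ψ c : ℂ) = (Module.finrank ℂ V : ℂ) - κ := by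
  rw [← sum_addChar_char_upperU ρ ψ c,
    ← Finset.add_sum_erase Finset.univ _ (Finset.mem_univ (0 : F)), upperU_zero,
    Representation.char_one]
  simp only [mul_zero, neg_zero, AddChar.map_zero_eq_one, one_mul]
  rw [Finset.sum_congr rfl (fun x hx => by rw [hκ x (Finset.ne_of_mem_erase hx)]),
    ← Finset.sum_mul]
  have hs := AddChar.sum_mulShift (-c) hψ
  rw [if_neg (neg_ne_zero.mpr hc),
    ← Finset.add_sum_erase Finset.univ _ (Finset.mem_univ (0 : F))] at hs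
  simp only [zero_mul, AddChar.map_zero_eq_one] at hs
  have : ∑ x ∈ Finset.univ.erase (0 : F), ψ (-(c * x)) = -1 := by
    have h2 : ∀ x : F, ψ (-(c * x)) = ψ (x * -c) := fun x => by congr 1; ring
    simp only [h2]
    linear_combination hs
  rw [this]; ring

/-- the numerical data of an irreducible representation of `SL₂(q)`, `q` odd, for a fixed
primitive additive character and a fixed non-square -/
theorem data_odd_rep [FiniteDimensional ℂ V] (hodd : Odd (Fintype.card F))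
    {ψ : AddChar F ℂ} (hψ : ψ.IsPrimitive) (ε : F) (hε : quadraticChar F ε = -1)
    (ρ : Representation ℂ (Matrix.SpecialLinearGroup (Fin 2) F) V) (hρ : ρ.IsIrreducible) :
    (∀ c : F, uMult ρ ψ c = nOdd (fixUS ρ) (uMult ρ ψ 1) (uMult ρ ψ ε) c) ∧
    Module.finrank ℂ V = fixUS ρ +
        (Fintype.card F - 1) / 2 * (uMult ρ ψ 1 + uMult ρ ψ ε) ∧
    ((fixUS ρ = 1 ∧ uMult ρ ψ 1 = 0 ∧ uMult ρ ψ ε = 0) ∨
      (fixUS ρ = 1 ∧ uMult ρ ψ 1 = 1 ∧ uMult ρ ψ ε = 1) ∨
      (fixUS ρ = 2 ∧ uMult ρ ψ 1 = 1 ∧ uMult ρ ψ ε = 1) ∨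
      (fixUS ρ = 1 ∧ uMult ρ ψ 1 = 1 ∧ uMult ρ ψ ε = 0) ∨
      (fixUS ρ = 1 ∧ uMult ρ ψ 1 = 0 ∧ uMult ρ ψ ε = 1) ∨
      (fixUS ρ = 0 ∧ 1 ≤ uMult ρ ψ 1 + uMult ρ ψ ε)) := by
  classical
  have hF : ringChar F ≠ 2 := by
    intro h2
    have := FiniteField.even_card_iff_char_two.mp h2
    obtain ⟨k, hk⟩ := hodd
    omega
  have hq3 : 3 ≤ Fintype.card F := by
    have hq : 2 ≤ Fintype.card F := Fintype.one_lt_card
    obtain ⟨k, hk⟩ := hodd
    omega
  have hε0 : ε ≠ 0 := by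
    rintro rfl
    simp at hε
  have hq0 : (Fintype.card F : ℂ) ≠ 0 := by
    exact_mod_cast (Fintype.card_pos (α := F)).ne'
  have hn : ∀ c : F, uMult ρ ψ c = nOdd (fixUS ρ) (uMult ρ ψ 1) (uMult ρ ψ ε) c := by
    intro c
    unfold nOdd
    by_cases hc : c = 0
    · rw [if_pos hc, hc, uMult_zero]
    · rw [if_neg hc]
      exact eq_of_sq_invariant ε hε (uMult ρ ψ) (uMult_sq_mul ρ ψ) c hc
  have hD : Module.finrank ℂ V = fixUS ρ +
        (Fintype.card F - 1) / 2 * (uMult ρ ψ 1 + uMult ρ ψ ε) := by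
    rw [finrank_eq_sum_uMult ρ hψ,
      sum_of_sq_invariant hF ε hε (uMult ρ ψ) (uMult_sq_mul ρ ψ), uMult_zero]
    simp only [smul_eq_mul]
    ring
  refine ⟨hn, hD, ?_⟩
  have hNpos : 1 ≤ (Fintype.card F - 1) / 2 := by omega
  have hnt : 0 < Module.finrank ℂ V := by
    haveI := Cfsg.Agent.Lib.Helper78.nontrivial_of_isIrreducible ρ hρ
    exact Module.finrank_pos
  -- constant on `U ∖ 1` gives `a = b = 1`
  have hconst : ∀ κ : ℂ, (∀ x : F, x ≠ 0 → ρ.character (upperU x) = κ) →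
      (Module.finrank ℂ V : ℂ) - κ = (Fintype.card F : ℂ) →
      uMult ρ ψ 1 = 1 ∧ uMult ρ ψ ε = 1 := by
    intro κ hκ hval
    have h1 := uMult_of_const ρ hψ κ hκ 1 one_ne_zero
    have h2 := uMult_of_const ρ hψ κ hκ ε hε0
    rw [hval] at h1 h2
    constructor
    · have : (uMult ρ ψ 1 : ℂ) = 1 := by
        apply mul_left_cancel₀ hq0
        rw [h1, mul_one]
      exact_mod_cast this
    · have : (uMult ρ ψ ε : ℂ) = 1 := by
        apply mul_left_cancel₀ hq0
        rw [h2, mul_one]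
      exact_mod_cast this
  by_cases h0 : fixUS ρ = 0
  · right; right; right; right; right
    refine ⟨h0, ?_⟩
    rw [h0, zero_add] at hD
    by_contra hcon
    have : uMult ρ ψ 1 + uMult ρ ψ ε = 0 := by omega
    rw [this, mul_zero] at hD
    omega
  · rcases fixUS_cases_SL ρ hρ h0 with ⟨α, hα⟩ | h1 | hq' | ⟨-, h2, α, χ', -, -, hχ', hne, hsum⟩
    · right; right; left
      have hdeg : Module.finrank ℂ V = Fintype.card F + 1 := by
        have := congrFun hα 1
        rw [Representation.char_one, psSL_one] at this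
        exact_mod_cast this
      have hm := fixUS_of_psSL ρ α hα
      obtain ⟨ha, hb⟩ := hconst 1 (fun x hx => by rw [hα, psSL_upperU α x hx]) (by
        rw [hdeg]; push_cast; ring)
      exact ⟨hm, ha, hb⟩
    · left
      have hle := fixUS_le_finrank ρ
      have hm : fixUS ρ = 1 := by omega
      rw [hm, h1] at hD
      have h2 : (Fintype.card F - 1) / 2 * (uMult ρ ψ 1 + uMult ρ ψ ε) = 0 := by omega
      rcases Nat.mul_eq_zero.mp h2 with h | h
      · omega
      · exact ⟨hm, by omega, by omega⟩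
    · right; left
      have hm := fixUS_eq_one_of_finrank ρ hρ hq'
      obtain ⟨ha, hb⟩ := hconst 0 (char_upperU_of_finrank_eq_card ρ hρ hq') (by
        rw [hq']; ring)
      exact ⟨hm, ha, hb⟩
    · have hm := fixUS_eq_one_of_half ρ hρ h0 α χ' hχ' hne hsum
      rw [hm] at hD
      have h3 : (Fintype.card F - 1) / 2 * (uMult ρ ψ 1 + uMult ρ ψ ε) =
          (Fintype.card F - 1) / 2 * 1 := by
        obtain ⟨k, hk⟩ := hodd
        have : (Fintype.card F - 1) / 2 = k := by omega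
        rw [this] at hD ⊢
        omega
      have h4 : uMult ρ ψ 1 + uMult ρ ψ ε = 1 := Nat.eq_of_mul_eq_mul_left (by omega) h3
      have h5 : (uMult ρ ψ 1 = 1 ∧ uMult ρ ψ ε = 0) ∨ (uMult ρ ψ 1 = 0 ∧ uMult ρ ψ ε = 1) := by
        omega
      rcases h5 with ⟨ha, hb⟩ | ⟨ha, hb⟩
      · right; right; right; left; exact ⟨hm, ha, hb⟩
      · right; right; right; right; left; exact ⟨hm, ha, hb⟩

end dataodd

section sl2centodd

variable {F : Type*} [Field F]

/-- elements of `SL₂` commuting with a non-trivial upper unitriangular matrix -/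
theorem exists_of_commute_upperU (x : F) (hx : x ≠ 0) (g : Matrix.SpecialLinearGroup (Fin 2) F)
    (h : upperU x * g = g * upperU x) :
    ∃ (a b : F), a ^ 2 = 1 ∧ (g : Matrix (Fin 2) (Fin 2) F) = !![a, b; 0, a] := by
  have h1 := congrArg Subtype.val h
  rw [Matrix.SpecialLinearGroup.coe_mul, Matrix.SpecialLinearGroup.coe_mul, coe_upperU] at h1
  have hg : (g : Matrix (Fin 2) (Fin 2) F) = !![g.1 0 0, g.1 0 1; g.1 1 0, g.1 1 1] := by
    ext i j; fin_cases i <;> fin_cases j <;> rfl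
  rw [hg] at h1
  have e00 := congrFun (congrFun h1 0) 0
  have e01 := congrFun (congrFun h1 0) 1
  simp [Matrix.mul_apply, Fin.sum_univ_two] at e00 e01
  have hdet := g.2
  rw [Matrix.det_fin_two] at hdet
  have h10 : g.1 1 0 = 0 := by
    rcases e00 with h | h
    · exact absurd h hx
    · exact h
  have h11 : g.1 1 1 = g.1 0 0 := by
    have : x * (g.1 1 1 - g.1 0 0) = 0 := by linear_combination e01
    rcases mul_eq_zero.mp this with h | h
    · exact absurd h hx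
    · exact sub_eq_zero.mp h
  refine ⟨g.1 0 0, g.1 0 1, ?_, ?_⟩
  · rw [h10, h11] at hdet
    linear_combination hdet
  · ext i j
    fin_cases i <;> fin_cases j <;> simp [h10, h11]

/-- the centralizer of a non-trivial upper unitriangular matrix in `SL₂(q)`, `q` odd, has
order `2 q` -/
theorem card_centralizer_upperU_odd [Fintype F] [DecidableEq F] (hF : ringChar F ≠ 2)
    (x : F) (hx : x ≠ 0) :
    Nat.card (Subgroup.centralizer ({upperU x} : Set (Matrix.SpecialLinearGroup (Fin 2) F))) =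
      2 * Fintype.card F := by
  have hcomm : ∀ y : F, upperU y ∈
      Subgroup.centralizer ({upperU x} : Set (Matrix.SpecialLinearGroup (Fin 2) F)) := by
    intro y
    rw [Subgroup.mem_centralizer_iff]
    intro h hh
    rw [Set.mem_singleton_iff] at hh
    rw [hh, ← upperU_add, ← upperU_add, add_comm]
  have hneg : (negOneSL : Matrix.SpecialLinearGroup (Fin 2) F) ∈
      Subgroup.centralizer ({upperU x} : Set (Matrix.SpecialLinearGroup (Fin 2) F)) := by
    rw [Subgroup.mem_centralizer_iff]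
    intro h _
    exact ((Subgroup.mem_center_iff.mp negOneSL_mem_center) h)
  let f : F ⊕ F → Subgroup.centralizer
      ({upperU x} : Set (Matrix.SpecialLinearGroup (Fin 2) F)) := fun s =>
    Sum.elim (fun y => ⟨upperU y, hcomm y⟩)
      (fun y => ⟨negOneSL * upperU y, Subgroup.mul_mem _ hneg (hcomm y)⟩) s
  have hnegval : ((negOneSL : Matrix.SpecialLinearGroup (Fin 2) F) : Matrix (Fin 2) (Fin 2) F) =
      !![-1, 0; 0, -1] := by
    unfold negOneSL
    rw [coe_borelEl]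
    ext i j
    fin_cases i <;> fin_cases j <;> simp
  have hvalneg : ∀ y : F, ((negOneSL * upperU y : Matrix.SpecialLinearGroup (Fin 2) F) :
      Matrix (Fin 2) (Fin 2) F) = !![-1, -y; 0, -1] := by
    intro y
    rw [Matrix.SpecialLinearGroup.coe_mul, hnegval, coe_upperU]
    ext i j
    fin_cases i <;> fin_cases j <;> simp
  have h11 : (1 : F) ≠ -1 := fun h => (Ring.neg_one_ne_one_of_char_ne_two hF) h.symm
  have hf : Function.Bijective f := by
    constructor
    · rintro (y | y) (z | z) hyz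
      · have := congrArg Subtype.val hyz
        simp only [f, Sum.elim_inl] at this
        rw [upperU_injective this]
      · exfalso
        have := congrArg (fun g : Matrix.SpecialLinearGroup (Fin 2) F =>
          (g : Matrix (Fin 2) (Fin 2) F) 0 0) (congrArg Subtype.val hyz)
        simp only [f, Sum.elim_inl, Sum.elim_inr, hvalneg, coe_upperU] at this
        simp at this
        exact h11 this
      · exfalso
        have := congrArg (fun g : Matrix.SpecialLinearGroup (Fin 2) F =>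
          (g : Matrix (Fin 2) (Fin 2) F) 0 0) (congrArg Subtype.val hyz)
        simp only [f, Sum.elim_inl, Sum.elim_inr, hvalneg, coe_upperU] at this
        simp at this
        exact h11 this.symm
      · have := congrArg (fun g : Matrix.SpecialLinearGroup (Fin 2) F =>
          (g : Matrix (Fin 2) (Fin 2) F) 0 1) (congrArg Subtype.val hyz)
        simp only [f, Sum.elim_inr, hvalneg] at this
        simp at this
        rw [this]
    · rintro ⟨g, hg⟩
      rw [Subgroup.mem_centralizer_iff] at hg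
      obtain ⟨a, b, ha, hgab⟩ := exists_of_commute_upperU x hx g (hg _ rfl)
      have ha' : (a - 1) * (a + 1) = 0 := by linear_combination ha
      rcases mul_eq_zero.mp ha' with h | h
      · have ha1 : a = 1 := sub_eq_zero.mp h
        refine ⟨Sum.inl b, ?_⟩
        apply Subtype.ext
        apply Subtype.ext
        change (upperU b : Matrix (Fin 2) (Fin 2) F) = g.1
        rw [coe_upperU, hgab, ha1]
      · have ha1 : a = -1 := eq_neg_of_add_eq_zero_left h
        refine ⟨Sum.inr (-b), ?_⟩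
        apply Subtype.ext
        apply Subtype.ext
        change ((negOneSL * upperU (-b) : Matrix.SpecialLinearGroup (Fin 2) F) :
          Matrix (Fin 2) (Fin 2) F) = g.1
        rw [hvalneg, hgab, ha1, neg_neg]
  rw [← Nat.card_congr (Equiv.ofBijective f hf), Nat.card_eq_fintype_card, Fintype.card_sum]
  ring

/-- `upperU x` and `upperU (ε x)` are not conjugate in `SL₂` when `ε` is not a square -/
theorem not_isConj_upperU (ε : F) (hε : ¬ IsSquare ε) (x : F) (hx : x ≠ 0) :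
    ¬ IsConj (upperU x) (upperU (ε * x)) := by
  intro hc
  obtain ⟨Q, hQ, hQg⟩ := Cfsg.Agent.Lib.Helper39.sl2_isConj_iff.mp hc
  have hQe : Q = !![Q 0 0, Q 0 1; Q 1 0, Q 1 1] := by
    ext i j; fin_cases i <;> fin_cases j <;> rfl
  change Q * (upperU x : Matrix (Fin 2) (Fin 2) F) =
    (upperU (ε * x) : Matrix (Fin 2) (Fin 2) F) * Q at hQg
  rw [coe_upperU, coe_upperU, hQe] at hQg
  have e00 := congrFun (congrFun hQg 0) 0
  have e01 := congrFun (congrFun hQg 0) 1
  simp [Matrix.mul_apply, Fin.sum_univ_two] at e00 e01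
  rw [Matrix.det_fin_two] at hQ
  have hε0 : ε ≠ 0 := by
    rintro rfl
    exact hε ⟨0, by simp⟩
  have h10 : Q 1 0 = 0 := by
    rcases e00 with h | h
    · rcases h with h | h
      · exact absurd h hε0
      · exact absurd h hx
    · exact h
  have h00 : Q 0 0 = ε * Q 1 1 := by
    have : x * (Q 0 0 - ε * Q 1 1) = 0 := by linear_combination e01
    rcases mul_eq_zero.mp this with h | h
    · exact absurd h hx
    · exact sub_eq_zero.mp h
  rw [h10, h00] at hQ
  have ht : Q 1 1 ≠ 0 := by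
    intro h
    rw [h] at hQ
    simp at hQ
  apply hε
  refine ⟨(Q 1 1)⁻¹, ?_⟩
  field_simp
  linear_combination hQ

end sl2centodd

section sl2oddsums

variable {F : Type*} [Field F] [Fintype F] [DecidableEq F]

/-- the global sums over the irreducible characters of `SL₂(q)`, `q = 2 N + 1` -/
theorem sl2_odd_sums (N : ℕ) (hN : Fintype.card F = 2 * N + 1)
    {ψ : AddChar F ℂ} (hψ : ψ.IsPrimitive) (ε : F) (hε : quadraticChar F ε = -1)
    (m a b : Cfsg.IrrCharacter (Matrix.SpecialLinearGroup (Fin 2) F) → ℕ)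
    (hd : ∀ χ : Cfsg.IrrCharacter (Matrix.SpecialLinearGroup (Fin 2) F),
      (χ : Matrix.SpecialLinearGroup (Fin 2) F → ℂ) 1 = ((m χ + N * (a χ + b χ) : ℕ) : ℂ))
    (hval : ∀ (χ : Cfsg.IrrCharacter (Matrix.SpecialLinearGroup (Fin 2) F)) (x : F),
      (χ : Matrix.SpecialLinearGroup (Fin 2) F → ℂ) (upperU x) =
        ∑ c : F, (nOdd (m χ) (a χ) (b χ) c : ℂ) * ψ (c * x))
    (hinv : ∀ (χ : Cfsg.IrrCharacter (Matrix.SpecialLinearGroup (Fin 2) F)) (c : F),
      ∑ x : F, ψ (-(c * x)) * (χ : Matrix.SpecialLinearGroup (Fin 2) F → ℂ) (upperU x) =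
        (Fintype.card F : ℂ) * (nOdd (m χ) (a χ) (b χ) c : ℂ)) :
    (∑ χ, ((m χ : ℤ) + (N : ℤ) * ((a χ : ℤ) + (b χ : ℤ))) ^ 2 =
      4 * (N : ℤ) * ((N : ℤ) + 1) * (2 * (N : ℤ) + 1)) ∧
    (∑ χ, ((m χ : ℤ) + (N : ℤ) * ((a χ : ℤ) + (b χ : ℤ))) * (m χ : ℤ) =
      4 * (N : ℤ) * ((N : ℤ) + 1)) ∧
    (∑ χ, ((m χ : ℤ) ^ 2 + (N : ℤ) * (a χ : ℤ) ^ 2 + (N : ℤ) * (b χ : ℤ) ^ 2) =
      4 * (N : ℤ) * ((N : ℤ) + 2)) ∧
    (∑ χ, ((m χ : ℤ) ^ 2 + 2 * (N : ℤ) * ((a χ : ℤ) * (b χ : ℤ))) =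
      4 * (N : ℤ) * ((N : ℤ) + 1)) ∧
    (∑ χ, ((m χ : ℤ) + (N : ℤ) * ((a χ : ℤ) + (b χ : ℤ))) * ((a χ : ℤ) - (b χ : ℤ)) = 0) := by
  have hq : 2 ≤ Fintype.card F := Fintype.one_lt_card
  have hF : ringChar F ≠ 2 := by
    intro h2
    have := FiniteField.even_card_iff_char_two.mp h2
    omega
  have hNN : (Fintype.card F - 1) / 2 = N := by omega
  have hqC : (Fintype.card F : ℂ) = 2 * (N : ℂ) + 1 := by rw [hN]; push_cast; ring
  have hq0 : (Fintype.card F : ℂ) ≠ 0 := by exact_mod_cast (by omega : Fintype.card F ≠ 0)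
  have hε0 : ε ≠ 0 := by
    rintro rfl
    simp at hε
  have hεsq : ¬ IsSquare ε := quadraticChar_neg_one_iff_not_isSquare.mp hε
  have hG : (Nat.card (Matrix.SpecialLinearGroup (Fin 2) F) : ℂ) =
      (Fintype.card F : ℂ) * (4 * (N : ℂ) * ((N : ℂ) + 1)) := by
    rw [Cfsg.Agent.Lib.Helper5.card_SL2]
    have h1 : 1 ≤ Fintype.card F ^ 2 := Nat.one_le_pow _ _ (by omega)
    push_cast [Nat.cast_sub h1]
    rw [hqC]
    ring
  -- the degree
  have hdC : ∀ χ : Cfsg.IrrCharacter (Matrix.SpecialLinearGroup (Fin 2) F),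
      (χ : Matrix.SpecialLinearGroup (Fin 2) F → ℂ) 1 =
        (m χ : ℂ) + (N : ℂ) * ((a χ : ℂ) + (b χ : ℂ)) := by
    intro χ
    rw [hd χ]; push_cast; ring
  -- (H2)
  have H2 : ∑ χ, ((m χ : ℂ) + (N : ℂ) * ((a χ : ℂ) + (b χ : ℂ))) ^ 2 =
      4 * (N : ℂ) * ((N : ℂ) + 1) * (2 * (N : ℂ) + 1) := by
    have h := sum_irr_deg_sq (G := Matrix.SpecialLinearGroup (Fin 2) F)
    rw [hG, hqC] at h
    have h2 : ∀ χ : Cfsg.IrrCharacter (Matrix.SpecialLinearGroup (Fin 2) F),
        (χ : Matrix.SpecialLinearGroup (Fin 2) F → ℂ) 1 *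
          conj ((χ : Matrix.SpecialLinearGroup (Fin 2) F → ℂ) 1) =
        ((m χ : ℂ) + (N : ℂ) * ((a χ : ℂ) + (b χ : ℂ))) ^ 2 := by
      intro χ
      rw [hd χ, Complex.conj_natCast]; push_cast; ring
    rw [Finset.sum_congr rfl (fun χ _ => h2 χ)] at h
    rw [h]; ring
  -- the sums `Σ d n(c)`
  have Hc : ∀ c : F, ∑ χ, ((m χ : ℂ) + (N : ℂ) * ((a χ : ℂ) + (b χ : ℂ))) *
      (nOdd (m χ) (a χ) (b χ) c : ℂ) = 4 * (N : ℂ) * ((N : ℂ) + 1) := by
    intro c
    have h : ∑ x : F, ψ (c * x) *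
        ∑ χ : Cfsg.IrrCharacter (Matrix.SpecialLinearGroup (Fin 2) F),
        (χ : Matrix.SpecialLinearGroup (Fin 2) F → ℂ) 1 *
          conj ((χ : Matrix.SpecialLinearGroup (Fin 2) F → ℂ) (upperU x)) =
        (Fintype.card F : ℂ) * (4 * (N : ℂ) * ((N : ℂ) + 1)) := by
      rw [← Finset.add_sum_erase Finset.univ _ (Finset.mem_univ (0 : F)), upperU_zero,
        sum_irr_deg_sq, hG, Finset.sum_eq_zero, add_zero]
      · simp
      · intro x hx
        rw [sum_irr_deg_mul_conj, mul_zero]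
        rw [Ne, upperU_eq_one_iff]
        exact Finset.ne_of_mem_erase hx
    simp only [Finset.mul_sum] at h
    rw [Finset.sum_comm] at h
    have h2 : ∀ χ : Cfsg.IrrCharacter (Matrix.SpecialLinearGroup (Fin 2) F),
        ∑ x : F, ψ (c * x) * ((χ : Matrix.SpecialLinearGroup (Fin 2) F → ℂ) 1 *
          conj ((χ : Matrix.SpecialLinearGroup (Fin 2) F → ℂ) (upperU x))) =
        (Fintype.card F : ℂ) * (((m χ : ℂ) + (N : ℂ) * ((a χ : ℂ) + (b χ : ℂ))) *
          (nOdd (m χ) (a χ) (b χ) c : ℂ)) := by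
      intro χ
      have h3 := congrArg conj (hinv χ c)
      rw [map_sum, map_mul, Complex.conj_natCast, Complex.conj_natCast] at h3
      rw [← hdC χ, mul_left_comm, ← h3, Finset.mul_sum]
      refine Finset.sum_congr rfl (fun x _ => ?_)
      rw [map_mul (starRingEnd ℂ), ← AddChar.map_neg_eq_conj, neg_neg]
      ring
    rw [Finset.sum_congr rfl (fun χ _ => h2 χ), ← Finset.mul_sum] at h
    exact mul_left_cancel₀ hq0 h
  -- the twisted Parseval sums
  have He : ∀ e : F, (Fintype.card F : ℂ) *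
      ∑ χ : Cfsg.IrrCharacter (Matrix.SpecialLinearGroup (Fin 2) F),
      ∑ c : F, (nOdd (m χ) (a χ) (b χ) (e * c) : ℂ) * (nOdd (m χ) (a χ) (b χ) c : ℂ) =
      (Fintype.card F : ℂ) * (4 * (N : ℂ) * ((N : ℂ) + 1)) +
      ∑ x ∈ Finset.univ.erase (0 : F),
        ∑ χ : Cfsg.IrrCharacter (Matrix.SpecialLinearGroup (Fin 2) F),
        (χ : Matrix.SpecialLinearGroup (Fin 2) F → ℂ) (upperU x) *
          conj ((χ : Matrix.SpecialLinearGroup (Fin 2) F → ℂ) (upperU (e * x))) := by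
    intro e
    have h : ∑ x : F, ∑ χ : Cfsg.IrrCharacter (Matrix.SpecialLinearGroup (Fin 2) F),
        (χ : Matrix.SpecialLinearGroup (Fin 2) F → ℂ) (upperU x) *
          conj ((χ : Matrix.SpecialLinearGroup (Fin 2) F → ℂ) (upperU (e * x))) =
        (Fintype.card F : ℂ) * ∑ χ : Cfsg.IrrCharacter (Matrix.SpecialLinearGroup (Fin 2) F),
      ∑ c : F, (nOdd (m χ) (a χ) (b χ) (e * c) : ℂ) * (nOdd (m χ) (a χ) (b χ) c : ℂ) := by
      rw [Finset.sum_comm, Finset.mul_sum]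
      refine Finset.sum_congr rfl (fun χ _ => ?_)
      exact twisted_parseval hψ (nOdd (m χ) (a χ) (b χ))
        (fun x => (χ : Matrix.SpecialLinearGroup (Fin 2) F → ℂ) (upperU x)) (hval χ) e
    rw [← Finset.add_sum_erase Finset.univ _ (Finset.mem_univ (0 : F)), mul_zero, upperU_zero,
      sum_irr_deg_sq, hG] at h
    rw [← h]
  -- (H4)
  have H4 : ∑ χ, ((m χ : ℂ) ^ 2 + (N : ℂ) * (a χ : ℂ) ^ 2 + (N : ℂ) * (b χ : ℂ) ^ 2) =
      4 * (N : ℂ) * ((N : ℂ) + 2) := by
    have h := He 1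
    rw [Finset.sum_congr rfl (fun χ _ => sum_nOdd_sq hF ε hε (m χ) (a χ) (b χ)), hNN] at h
    have hc1 : ((Fintype.card F - 1 : ℕ) : ℂ) = 2 * (N : ℂ) := by
      rw [hN]; simp
    have hs : ∑ x ∈ Finset.univ.erase (0 : F),
        ∑ χ : Cfsg.IrrCharacter (Matrix.SpecialLinearGroup (Fin 2) F),
        (χ : Matrix.SpecialLinearGroup (Fin 2) F → ℂ) (upperU x) *
          conj ((χ : Matrix.SpecialLinearGroup (Fin 2) F → ℂ) (upperU (1 * x))) =
        2 * (N : ℂ) * (2 * (Fintype.card F : ℂ)) := by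
      rw [Finset.sum_congr rfl (fun x hx => by
        rw [one_mul, sum_irr_norm_sq,
          card_centralizer_upperU_odd hF x (Finset.ne_of_mem_erase hx)]),
        Finset.sum_const, Finset.card_erase_of_mem (Finset.mem_univ _), Finset.card_univ,
        nsmul_eq_mul, hc1]
      push_cast
      ring
    rw [hs] at h
    apply mul_left_cancel₀ hq0
    rw [h]
    ring
  -- (H5)
  have H5 : ∑ χ, ((m χ : ℂ) ^ 2 + 2 * (N : ℂ) * ((a χ : ℂ) * (b χ : ℂ))) =
      4 * (N : ℂ) * ((N : ℂ) + 1) := by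
    have h := He ε
    rw [Finset.sum_congr rfl (fun χ _ => sum_nOdd_eps hF ε hε (m χ) (a χ) (b χ)), hNN] at h
    rw [Finset.sum_eq_zero (fun x hx =>
      Cfsg.Agent.Lib.Helper78.second_orthogonality_of_not_isConj
        (not_isConj_upperU ε hεsq x (Finset.ne_of_mem_erase hx))), add_zero] at h
    exact mul_left_cancel₀ hq0 h
  have H3 := Hc 0
  have H6a := Hc 1
  have H6b := Hc ε
  simp only [nOdd_zero, nOdd_one, nOdd_eps _ _ _ ε hε] at H3 H6a H6b
  refine ⟨?_, ?_, ?_, ?_, ?_⟩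
  · exact_mod_cast H2
  · exact_mod_cast H3
  · exact_mod_cast H4
  · exact_mod_cast H5
  · have : ∑ χ, ((m χ : ℂ) + (N : ℂ) * ((a χ : ℂ) + (b χ : ℂ))) * ((a χ : ℂ) - (b χ : ℂ)) = 0 := by
      simp only [mul_sub, Finset.sum_sub_distrib]
      rw [H6a, H6b, sub_self]
    exact_mod_cast this

end sl2oddsums

section main

variable {F : Type*} [Field F] [Fintype F] [DecidableEq F]

/-- the numerical data of an irreducible character of `SL₂(q)`, `q = 2 N + 1` -/
theorem exists_data_odd (N : ℕ) (hN : Fintype.card F = 2 * N + 1)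
    {ψ : AddChar F ℂ} (hψ : ψ.IsPrimitive) (ε : F) (hε : quadraticChar F ε = -1)
    (χ : Cfsg.IrrCharacter (Matrix.SpecialLinearGroup (Fin 2) F)) :
    ∃ m a b : ℕ,
      (χ : Matrix.SpecialLinearGroup (Fin 2) F → ℂ) 1 = ((m + N * (a + b) : ℕ) : ℂ) ∧
      (∀ x : F, (χ : Matrix.SpecialLinearGroup (Fin 2) F → ℂ) (upperU x) =
        ∑ c : F, (nOdd m a b c : ℂ) * ψ (c * x)) ∧
      (∀ c : F, ∑ x : F, ψ (-(c * x)) * (χ : Matrix.SpecialLinearGroup (Fin 2) F → ℂ) (upperU x) =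
        (Fintype.card F : ℂ) * (nOdd m a b c : ℂ)) ∧
      ((m = 1 ∧ a = 0 ∧ b = 0) ∨ (m = 1 ∧ a = 1 ∧ b = 1) ∨ (m = 2 ∧ a = 1 ∧ b = 1) ∨
        (m = 1 ∧ a = 1 ∧ b = 0) ∨ (m = 1 ∧ a = 0 ∧ b = 1) ∨ (m = 0 ∧ 1 ≤ a + b)) ∧
      (m = 1 → a = 0 → b = 0 → (χ : Matrix.SpecialLinearGroup (Fin 2) F → ℂ) = fun _ => 1) := by
  obtain ⟨χ, n, ρ, hirr, rfl⟩ := χ
  have hodd : Odd (Fintype.card F) := ⟨N, hN⟩
  have hNN : (Fintype.card F - 1) / 2 = N := by omega
  obtain ⟨hn, hD, ht⟩ := data_odd_rep hodd hψ ε hε ρ hirr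
  rw [hNN] at hD
  have hval : ∀ x : F, ρ.character (upperU x) =
      ∑ c : F, (nOdd (fixUS ρ) (uMult ρ ψ 1) (uMult ρ ψ ε) c : ℂ) * ψ (c * x) := by
    intro x
    rw [char_upperU_eq_sum ρ hψ x]
    refine Finset.sum_congr rfl (fun c _ => ?_)
    rw [hn c]
  refine ⟨fixUS ρ, uMult ρ ψ 1, uMult ρ ψ ε, ?_, hval, ?_, ht, ?_⟩
  · change ρ.character 1 = _
    rw [Representation.char_one, hD]
  · intro c
    change ∑ x : F, ψ (-(c * x)) * ρ.character (upperU x) = _
    rw [sum_addChar_char_upperU, hn c]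
  · intro hm ha hb
    rw [hm, ha, hb] at hD
    have hχ1 : ρ.character 1 = 1 := by
      rw [Representation.char_one, hD]; simp
    obtain ⟨μ, hμ⟩ := exists_hom_of_degree_one ⟨n, ρ, rfl⟩ hχ1
    have hμ1 : μ = 1 := by
      apply hom_eq_one_of_upperU
      intro x
      apply Units.ext
      rw [Units.val_one, ← congrFun hμ (upperU x), hval x, hm, ha, hb,
        Finset.sum_eq_single (0 : F)]
      · simp [nOdd]
      · intro c _ hc
        simp [nOdd, hc]
      · intro h; exact absurd (Finset.mem_univ _) h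
    change ρ.character = _
    rw [hμ, hμ1]
    funext g
    simp

/-- **The irreducible characters of `SL₂(q)`, `q = 2 N + 1` odd, by type** -/
theorem sl2_odd_main (N : ℕ) (hN : Fintype.card F = 2 * N + 1)
    {ψ : AddChar F ℂ} (hψ : ψ.IsPrimitive) (ε : F) (hε : quadraticChar F ε = -1) :
    ∃ m a b : Cfsg.IrrCharacter (Matrix.SpecialLinearGroup (Fin 2) F) → ℕ,
      (∀ χ : Cfsg.IrrCharacter (Matrix.SpecialLinearGroup (Fin 2) F),
        (χ : Matrix.SpecialLinearGroup (Fin 2) F → ℂ) 1 =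
          ((m χ + N * (a χ + b χ) : ℕ) : ℂ)) ∧
      (∀ (χ : Cfsg.IrrCharacter (Matrix.SpecialLinearGroup (Fin 2) F)) (x : F),
        (χ : Matrix.SpecialLinearGroup (Fin 2) F → ℂ) (upperU x) =
          ∑ c : F, (nOdd (m χ) (a χ) (b χ) c : ℂ) * ψ (c * x)) ∧
      (∀ χ, (m χ = 1 ∧ a χ = 0 ∧ b χ = 0) ∨ (m χ = 1 ∧ a χ = 1 ∧ b χ = 1) ∨
        (m χ = 2 ∧ a χ = 1 ∧ b χ = 1) ∨ (m χ = 1 ∧ a χ = 1 ∧ b χ = 0) ∨
        (m χ = 1 ∧ a χ = 0 ∧ b χ = 1) ∨ (m χ = 0 ∧ a χ = 1 ∧ b χ = 1) ∨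
        (m χ = 0 ∧ a χ = 1 ∧ b χ = 0) ∨ (m χ = 0 ∧ a χ = 0 ∧ b χ = 1)) ∧
      (∑ χ, (if m χ = 1 ∧ a χ = 0 ∧ b χ = 0 then (1 : ℤ) else 0)) = 1 ∧
      (∑ χ, (if m χ = 1 ∧ a χ = 1 ∧ b χ = 1 then (1 : ℤ) else 0)) = 1 ∧
      (∑ χ, (if m χ = 2 ∧ a χ = 1 ∧ b χ = 1 then (1 : ℤ) else 0)) = (N : ℤ) - 1 ∧
      (∑ χ, (if m χ = 1 ∧ a χ = 1 ∧ b χ = 0 then (1 : ℤ) else 0)) = 1 ∧
      (∑ χ, (if m χ = 1 ∧ a χ = 0 ∧ b χ = 1 then (1 : ℤ) else 0)) = 1 ∧
      (∑ χ, (if m χ = 0 ∧ a χ = 1 ∧ b χ = 1 then (1 : ℤ) else 0)) = (N : ℤ) ∧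
      (∑ χ, (if m χ = 0 ∧ a χ = 1 ∧ b χ = 0 then (1 : ℤ) else 0)) = 1 ∧
      (∑ χ, (if m χ = 0 ∧ a χ = 0 ∧ b χ = 1 then (1 : ℤ) else 0)) = 1 := by
  have hq : 2 ≤ Fintype.card F := Fintype.one_lt_card
  have hN1 : 1 ≤ N := by omega
  have hodd : Odd (Fintype.card F) := ⟨N, hN⟩
  choose m a b hd hval hinv ht hlin using exists_data_odd (F := F) N hN hψ ε hε
  obtain ⟨H2, H3, H4, H5, H6⟩ := sl2_odd_sums N hN hψ ε hε m a b hd hval hinv
  -- the number of irreducible characters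
  have H1 : (Fintype.card (Cfsg.IrrCharacter (Matrix.SpecialLinearGroup (Fin 2) F)) : ℤ) =
      2 * (N : ℤ) + 5 := by
    have h := Cfsg.Agent.S0133.result (G := Matrix.SpecialLinearGroup (Fin 2) F)
    rw [Cfsg.Agent.S2325.result hodd, Nat.card_eq_fintype_card] at h
    rw [h, hN]; push_cast; ring
  -- exactly one character of type `(1, 0, 0)`: the trivial one
  have hone : Cfsg.IsIrrCharacter (Matrix.SpecialLinearGroup (Fin 2) F) (fun _ => (1 : ℂ)) :=
    Cfsg.Agent.Lib.Helper80.isIrrCharacter_one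
  have hT : (∑ χ, (if m χ = 1 ∧ a χ = 0 ∧ b χ = 0 then (1 : ℤ) else 0)) = 1 := by
    rw [Finset.sum_eq_single (⟨fun _ => (1 : ℂ), hone⟩ :
      Cfsg.IrrCharacter (Matrix.SpecialLinearGroup (Fin 2) F))]
    · rw [if_pos]
      set χ₀ : Cfsg.IrrCharacter (Matrix.SpecialLinearGroup (Fin 2) F) := ⟨fun _ => (1 : ℂ), hone⟩
      have h1 : ((m χ₀ + N * (a χ₀ + b χ₀) : ℕ) : ℂ) = 1 := (hd χ₀).symm
      have h1' : m χ₀ + N * (a χ₀ + b χ₀) = 1 := by exact_mod_cast h1
      rcases ht χ₀ with h | ⟨h3, h4, h5⟩ | ⟨h3, h4, h5⟩ | ⟨h3, h4, h5⟩ | ⟨h3, h4, h5⟩ | ⟨h3, h4⟩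
      · exact h
      · rw [h3, h4, h5] at h1'; omega
      · rw [h3, h4, h5] at h1'; omega
      · rw [h3, h4, h5] at h1'; omega
      · rw [h3, h4, h5] at h1'; omega
      · exfalso
        rw [h3, zero_add] at h1'
        -- the trivial character has `U`-fixed vectors
        have h2 := hinv χ₀ 0
        simp only [mul_zero, zero_mul, neg_zero, AddChar.map_zero_eq_one, one_mul, nOdd_zero,
          h3, Nat.cast_zero] at h2
        have h5 : ∑ x : F, (χ₀ : Matrix.SpecialLinearGroup (Fin 2) F → ℂ) (upperU x) =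
            (Fintype.card F : ℂ) := by
          change ∑ x : F, (1 : ℂ) = _
          simp
        rw [h5] at h2
        have : (Fintype.card F : ℂ) ≠ 0 := by exact_mod_cast (by omega : Fintype.card F ≠ 0)
        exact this h2
    · intro χ _ hne
      rw [if_neg]
      rintro ⟨h1, h2, h3⟩
      apply hne
      apply Subtype.ext
      exact hlin χ h1 h2 h3
    · intro h; exact absurd (Finset.mem_univ _) h
  obtain ⟨hc, hS, hP, hHp, hHm, hC11, hC10, hC01⟩ := oddCount_main (N : ℤ) (by exact_mod_cast hN1)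
    m a b ht hT H1 H2 H3 H4 H5 H6
  refine ⟨m, a, b, hd, hval, ?_, hT, hS, hP, hHp, hHm, hC11, hC10, hC01⟩
  intro χ
  rcases ht χ with h | h | h | h | h | ⟨h0, -⟩
  · exact Or.inl h
  · exact Or.inr (Or.inl h)
  · exact Or.inr (Or.inr (Or.inl h))
  · exact Or.inr (Or.inr (Or.inr (Or.inl h)))
  · exact Or.inr (Or.inr (Or.inr (Or.inr (Or.inl h))))
  · rcases hc χ h0 with h | h | h
    · exact Or.inr (Or.inr (Or.inr (Or.inr (Or.inr (Or.inl ⟨h0, h⟩)))))
    · exact Or.inr (Or.inr (Or.inr (Or.inr (Or.inr (Or.inr (Or.inl ⟨h0, h⟩))))))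
    · exact Or.inr (Or.inr (Or.inr (Or.inr (Or.inr (Or.inr (Or.inr ⟨h0, h⟩))))))

end main

end Cfsg.Agent.Lib.Helper39
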