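import Mathlib

set_option autoImplicit false

/-!
# Degrees versus types for `SL₂(q)`, `q = 2 N + 1` odd (helper39)
-/

namespace Cfsg.Agent.Lib.Helper39

/-- for `N ≥ 2` the degree `m + N (a + b)` determines the type (up to the two halves) -/
theorem sl2_odd_deg_iff (N : ℕ) (hN2 : 2 ≤ N) (m a b : ℕ)
    (ht : (m = 1 ∧ a = 0 ∧ b = 0) ∨ (m = 1 ∧ a = 1 ∧ b = 1) ∨
        (m = 2 ∧ a = 1 ∧ b = 1) ∨ (m = 1 ∧ a = 1 ∧ b = 0) ∨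
        (m = 1 ∧ a = 0 ∧ b = 1) ∨ (m = 0 ∧ a = 1 ∧ b = 1) ∨
        (m = 0 ∧ a = 1 ∧ b = 0) ∨ (m = 0 ∧ a = 0 ∧ b = 1)) :
    (m + N * (a + b) = 1 ↔ (m = 1 ∧ a = 0 ∧ b = 0)) ∧
    (m + N * (a + b) = 2 * N + 1 ↔ (m = 1 ∧ a = 1 ∧ b = 1)) ∧
    (m + N * (a + b) = 2 * N + 2 ↔ (m = 2 ∧ a = 1 ∧ b = 1)) ∧
    (m + N * (a + b) = 2 * N ↔ (m = 0 ∧ a = 1 ∧ b = 1)) ∧
    (m + N * (a + b) = N + 1 ↔ ((m = 1 ∧ a = 1 ∧ b = 0) ∨ (m = 1 ∧ a = 0 ∧ b = 1))) ∧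
    (m + N * (a + b) = N ↔ ((m = 0 ∧ a = 1 ∧ b = 0) ∨ (m = 0 ∧ a = 0 ∧ b = 1))) := by
  rcases ht with ⟨h1, h2, h3⟩ | ⟨h1, h2, h3⟩ | ⟨h1, h2, h3⟩ | ⟨h1, h2, h3⟩ | ⟨h1, h2, h3⟩ |
    ⟨h1, h2, h3⟩ | ⟨h1, h2, h3⟩ | ⟨h1, h2, h3⟩ <;> subst h1 h2 h3 <;>
    refine ⟨?_, ?_, ?_, ?_, ?_, ?_⟩ <;> constructor <;> intro h <;> omega

/-- indicator of a disjunction of two mutually exclusive conditions -/
theorem sum_ite_or {ι : Type*} [Fintype ι] (A B : ι → Prop) [DecidablePred A] [DecidablePred B]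
    (hAB : ∀ i, ¬ (A i ∧ B i)) :
    (∑ i, (if A i ∨ B i then (1 : ℤ) else 0)) =
      (∑ i, (if A i then (1 : ℤ) else 0)) + ∑ i, (if B i then (1 : ℤ) else 0) := by
  rw [← Finset.sum_add_distrib]
  refine Finset.sum_congr rfl (fun i _ => ?_)
  by_cases hA : A i <;> by_cases hB : B i
  · exact absurd ⟨hA, hB⟩ (hAB i)
  · simp [hA, hB]
  · simp [hA, hB]
  · simp [hA, hB]

end Cfsg.Agent.Lib.Helper39
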