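import Mathlib

set_option autoImplicit false

namespace Cfsg.Agent.Lib.Helper39

section irrcount

variable {ι : Type*} [Fintype ι]

/-- the key identity of the counting argument for the characters of `GL₂(q)` and `SL₂(q)` -/
theorem irrCount_key (q : ℤ) (d m b : ι → ℤ)
    (hd : ∀ i, d i = m i + (q - 1) * b i)
    (ht : ∀ i, m i = 0 ∨ (m i = 1 ∧ b i = 0) ∨ (m i = 1 ∧ b i = 1) ∨ (m i = 2 ∧ b i = 1)) :
    q ^ 2 * (q - 1) * (∑ i, (if m i = 0 then b i ^ 2 - 1 else if b i = 0 then -1 else 0)) =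
      -(q ^ 2 * (q - 1)) * (Fintype.card ι : ℤ) + (q + 1) * ∑ i, d i ^ 2
        - 2 * q * ∑ i, d i * m i + (q - 1) * ∑ i, (m i - b i) ^ 2 := by
  have hcard : (Fintype.card ι : ℤ) = ∑ _i : ι, (1 : ℤ) := by simp
  rw [hcard, Finset.mul_sum, Finset.mul_sum, Finset.mul_sum, Finset.mul_sum, Finset.mul_sum,
    ← Finset.sum_add_distrib, ← Finset.sum_sub_distrib, ← Finset.sum_add_distrib]
  apply Finset.sum_congr rfl
  intro i _
  rcases ht i with h | ⟨h1, h2⟩ | ⟨h1, h2⟩ | ⟨h1, h2⟩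
  · rw [if_pos h, hd i, h]; ring
  · rw [if_neg (by rw [h1]; norm_num), if_pos h2, hd i, h1, h2]; ring
  · rw [if_neg (by rw [h1]; norm_num), if_neg (by rw [h2]; norm_num), hd i, h1, h2]; ring
  · rw [if_neg (by rw [h1]; norm_num), if_neg (by rw [h2]; norm_num), hd i, h1, h2]; ring

/-- the cuspidal characters have multiplicity one -/
theorem irrCount_cusp (q : ℤ) (hq : 2 ≤ q) (d m b : ι → ℤ)
    (hd : ∀ i, d i = m i + (q - 1) * b i)
    (ht : ∀ i, (m i = 0 ∧ 1 ≤ b i) ∨ (m i = 1 ∧ b i = 0) ∨ (m i = 1 ∧ b i = 1) ∨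
      (m i = 2 ∧ b i = 1))
    (n₁ : ℤ) (hlin : ∑ i, (if m i = 1 ∧ b i = 0 then (1 : ℤ) else 0) = n₁)
    (hnum : -(q ^ 2 * (q - 1)) * (Fintype.card ι : ℤ) + (q + 1) * ∑ i, d i ^ 2
        - 2 * q * ∑ i, d i * m i + (q - 1) * ∑ i, (m i - b i) ^ 2 = -(q ^ 2 * (q - 1)) * n₁) :
    ∀ i, m i = 0 → b i = 1 := by
  have ht' : ∀ i, m i = 0 ∨ (m i = 1 ∧ b i = 0) ∨ (m i = 1 ∧ b i = 1) ∨ (m i = 2 ∧ b i = 1) := by
    intro i
    rcases ht i with h | h | h | h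
    · exact Or.inl h.1
    · exact Or.inr (Or.inl h)
    · exact Or.inr (Or.inr (Or.inl h))
    · exact Or.inr (Or.inr (Or.inr h))
  have key := irrCount_key q d m b hd ht'
  rw [hnum] at key
  have hsplit : ∀ i, (if m i = 0 then b i ^ 2 - 1 else if b i = 0 then -1 else 0) =
      (if m i = 0 then b i ^ 2 - 1 else 0) - (if m i = 1 ∧ b i = 0 then (1 : ℤ) else 0) := by
    intro i
    rcases ht i with ⟨h1, h2⟩ | ⟨h1, h2⟩ | ⟨h1, h2⟩ | ⟨h1, h2⟩
    · rw [if_pos h1, if_pos h1, if_neg (by rw [h1]; norm_num)]; ring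
    · rw [if_neg (by rw [h1]; norm_num), if_pos h2, if_neg (by rw [h1]; norm_num),
        if_pos ⟨h1, h2⟩]; ring
    · rw [if_neg (by rw [h1]; norm_num), if_neg (by rw [h2]; norm_num),
        if_neg (by rw [h1]; norm_num), if_neg (by rw [h2]; norm_num)]; ring
    · rw [if_neg (by rw [h1]; norm_num), if_neg (by rw [h2]; norm_num),
        if_neg (by rw [h1]; norm_num), if_neg (by rw [h2]; norm_num)]; ring
  rw [Finset.sum_congr rfl (fun i _ => hsplit i), Finset.sum_sub_distrib, hlin] at key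
  have hq0 : q ^ 2 * (q - 1) ≠ 0 := by
    apply mul_ne_zero
    · positivity
    · omega
  have hsum : ∑ i, (if m i = 0 then b i ^ 2 - 1 else 0) = 0 := by
    have h2 : q ^ 2 * (q - 1) * (∑ i, (if m i = 0 then b i ^ 2 - 1 else 0)) = 0 := by
      linear_combination key
    rcases mul_eq_zero.mp h2 with h | h
    · exact absurd h hq0
    · exact h
  have hnonneg : ∀ i ∈ Finset.univ, 0 ≤ (if m i = 0 then b i ^ 2 - 1 else 0) := by
    intro i _
    rcases ht i with ⟨h1, h2⟩ | ⟨h1, h2⟩ | ⟨h1, h2⟩ | ⟨h1, h2⟩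
    · rw [if_pos h1]; nlinarith
    · rw [if_neg (by rw [h1]; norm_num)]
    · rw [if_neg (by rw [h1]; norm_num)]
    · rw [if_neg (by rw [h1]; norm_num)]
  have hall := (Finset.sum_eq_zero_iff_of_nonneg hnonneg).mp hsum
  intro i hi
  have h1 := hall i (Finset.mem_univ i)
  rw [if_pos hi] at h1
  rcases ht i with ⟨_, h2⟩ | ⟨h1', _⟩ | ⟨h1', _⟩ | ⟨h1', _⟩
  · nlinarith
  · rw [hi] at h1'; norm_num at h1'
  · rw [hi] at h1'; norm_num at h1'
  · rw [hi] at h1'; norm_num at h1'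

end irrcount

section irrcount2

variable {ι : Type*} [Fintype ι]

/-- the three linear relations between the numbers of characters of the four types -/
theorem irrCount_counts (q : ℤ) (d m b : ι → ℤ)
    (hd : ∀ i, d i = m i + (q - 1) * b i)
    (ht : ∀ i, (m i = 0 ∧ b i = 1) ∨ (m i = 1 ∧ b i = 0) ∨ (m i = 1 ∧ b i = 1) ∨
      (m i = 2 ∧ b i = 1)) :
    (∑ i, (if m i = 1 ∧ b i = 0 then (1 : ℤ) else 0)) +
        (∑ i, (if m i = 1 ∧ b i = 1 then (1 : ℤ) else 0)) +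
        (∑ i, (if m i = 2 ∧ b i = 1 then (1 : ℤ) else 0)) +
        (∑ i, (if m i = 0 ∧ b i = 1 then (1 : ℤ) else 0)) = (Fintype.card ι : ℤ) ∧
    (∑ i, (if m i = 1 ∧ b i = 0 then (1 : ℤ) else 0)) +
        q * (∑ i, (if m i = 1 ∧ b i = 1 then (1 : ℤ) else 0)) +
        2 * (q + 1) * (∑ i, (if m i = 2 ∧ b i = 1 then (1 : ℤ) else 0)) = ∑ i, d i * m i ∧
    (∑ i, (if m i = 1 ∧ b i = 0 then (1 : ℤ) else 0)) +
        (∑ i, (if m i = 2 ∧ b i = 1 then (1 : ℤ) else 0)) +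
        (∑ i, (if m i = 0 ∧ b i = 1 then (1 : ℤ) else 0)) = ∑ i, (m i - b i) ^ 2 := by
  have hcard : (Fintype.card ι : ℤ) = ∑ _i : ι, (1 : ℤ) := by simp
  refine ⟨?_, ?_, ?_⟩
  · rw [hcard, ← Finset.sum_add_distrib, ← Finset.sum_add_distrib, ← Finset.sum_add_distrib]
    apply Finset.sum_congr rfl
    intro i _
    rcases ht i with ⟨h1, h2⟩ | ⟨h1, h2⟩ | ⟨h1, h2⟩ | ⟨h1, h2⟩ <;> simp [h1, h2]
  · rw [Finset.mul_sum, Finset.mul_sum, ← Finset.sum_add_distrib, ← Finset.sum_add_distrib]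
    apply Finset.sum_congr rfl
    intro i _
    rcases ht i with ⟨h1, h2⟩ | ⟨h1, h2⟩ | ⟨h1, h2⟩ | ⟨h1, h2⟩ <;> simp [hd i, h1, h2] <;> try ring
  · rw [← Finset.sum_add_distrib, ← Finset.sum_add_distrib]
    apply Finset.sum_congr rfl
    intro i _
    rcases ht i with ⟨h1, h2⟩ | ⟨h1, h2⟩ | ⟨h1, h2⟩ | ⟨h1, h2⟩ <;> simp [h1, h2]

end irrcount2

end Cfsg.Agent.Lib.Helper39
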