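import Cfsg.Agent.Lib.Helper78.CharOrtho

set_option autoImplicit false

namespace Cfsg.Agent.Lib.Helper39

open Cfsg Cfsg.Agent.Lib.Helper78
open scoped ComplexConjugate

section irrsums

variable {G : Type*} [Group G] [Fintype G]

theorem sum_irr_norm_sq (g : G) :
    ∑ χ : IrrCharacter G, (χ : G → ℂ) g * conj ((χ : G → ℂ) g) =
      (Nat.card (Subgroup.centralizer ({g} : Set G)) : ℂ) :=
  second_orthogonality_of_isConj (IsConj.refl g)

theorem sum_irr_deg_sq :
    ∑ χ : IrrCharacter G, (χ : G → ℂ) 1 * conj ((χ : G → ℂ) 1) = (Nat.card G : ℂ) := by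
  rw [sum_irr_norm_sq]
  have h : Subgroup.centralizer ({1} : Set G) = ⊤ := by
    ext x
    simp [Subgroup.mem_centralizer_iff]
  rw [h, Subgroup.card_top]

theorem sum_irr_deg_mul_conj {g : G} (hg : g ≠ 1) :
    ∑ χ : IrrCharacter G, (χ : G → ℂ) 1 * conj ((χ : G → ℂ) g) = 0 := by
  apply second_orthogonality_of_not_isConj
  intro h
  apply hg
  exact isConj_one_right.mp h

end irrsums

end Cfsg.Agent.Lib.Helper39
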