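import Cfsg.Agent.Lib.Helper39.SL2Cusp2
import Cfsg.Agent.Lib.Helper39.IrrCount
import Cfsg.Agent.Lib.Helper39.IrrSums
import Cfsg.Agent.S2331
import Cfsg.Agent.S0133

set_option autoImplicit false
set_option linter.style.haveILetI false

/-!
# The irreducible characters of `SL₂(q)`, `q` even, by counting (helper39)
-/

namespace Cfsg.Agent.Lib.Helper39

open Matrix Cfsg.Agent.Lib.Helper41
open scoped ComplexConjugate

section sl2even

variable {F : Type*} [Field F] [Fintype F] [DecidableEq F]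

/-- the numerical data of an irreducible character of `SL₂(q)`, `q` even -/
theorem exists_data_even (heven : Even (Fintype.card F))
    (χ : Cfsg.IrrCharacter (Matrix.SpecialLinearGroup (Fin 2) F)) :
    ∃ m a : ℕ, (χ : Matrix.SpecialLinearGroup (Fin 2) F → ℂ) 1 =
        ((m + (Fintype.card F - 1) * a : ℕ) : ℂ) ∧
      (∀ x : F, x ≠ 0 → (χ : Matrix.SpecialLinearGroup (Fin 2) F → ℂ) (upperU x) = (m : ℂ) - a) ∧
      (∑ x : F, (χ : Matrix.SpecialLinearGroup (Fin 2) F → ℂ) (upperU x) =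
        (Fintype.card F : ℂ) * m) ∧
      ((m = 0 ∧ 1 ≤ a) ∨ (m = 1 ∧ a = 0) ∨ (m = 1 ∧ a = 1) ∨ (m = 2 ∧ a = 1)) ∧
      (m = 1 → a = 0 → (χ : Matrix.SpecialLinearGroup (Fin 2) F → ℂ) = fun _ => 1) := by
  obtain ⟨χ, n, ρ, hirr, rfl⟩ := χ
  have hq : 2 ≤ Fintype.card F := Fintype.one_lt_card
  obtain ⟨a, ha, hval⟩ := cusp_data_even heven ρ
  have hnt : 0 < Module.finrank ℂ (Fin n → ℂ) := by
    haveI := Cfsg.Agent.Lib.Helper78.nontrivial_of_isIrreducible ρ hirr
    exact Module.finrank_pos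
  refine ⟨fixUS ρ, a, ?_, hval, sum_char_upperU ρ, ?_, ?_⟩
  · change ρ.character 1 = _
    rw [Representation.char_one, ha]
  · by_cases h0 : fixUS ρ = 0
    · left
      refine ⟨h0, ?_⟩
      rw [h0, zero_add] at ha
      by_contra hcon
      have : a = 0 := by omega
      rw [this, mul_zero] at ha
      omega
    · right
      rcases fixUS_cases_SL ρ hirr h0 with ⟨α, hα⟩ | h1 | hq' | ⟨hodd, -⟩
      · right; right
        have hdeg : Module.finrank ℂ (Fin n → ℂ) = Fintype.card F + 1 := by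
          have := congrFun hα 1
          rw [Representation.char_one, psSL_one] at this
          exact_mod_cast this
        have hm := fixUS_of_psSL ρ α hα
        refine ⟨hm, ?_⟩
        rw [hm, hdeg] at ha
        have h1 : (Fintype.card F - 1) * a = (Fintype.card F - 1) * 1 := by omega
        exact Nat.eq_of_mul_eq_mul_left (by omega) h1
      · left
        rw [h1] at ha
        have hm : fixUS ρ = 1 := by omega
        refine ⟨hm, ?_⟩
        rw [hm] at ha
        have h2 : (Fintype.card F - 1) * a = 0 := by omega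
        rcases Nat.mul_eq_zero.mp h2 with h | h
        · omega
        · exact h
      · right; left
        have hm := fixUS_eq_one_of_finrank ρ hirr hq'
        refine ⟨hm, ?_⟩
        rw [hm, hq'] at ha
        have h1 : (Fintype.card F - 1) * a = (Fintype.card F - 1) * 1 := by omega
        exact Nat.eq_of_mul_eq_mul_left (by omega) h1
      · exfalso
        exact (Nat.not_even_iff_odd.mpr hodd) heven
  · intro hm ha0
    rw [hm, ha0, mul_zero, add_zero] at ha
    have hχ1 : ρ.character 1 = 1 := by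
      rw [Representation.char_one, ha]; simp
    obtain ⟨μ, hμ⟩ := exists_hom_of_degree_one ⟨n, ρ, rfl⟩ hχ1
    have hμ1 : μ = 1 := by
      apply hom_eq_one_of_upperU
      intro x
      apply Units.ext
      rw [Units.val_one, ← congrFun hμ (upperU x)]
      by_cases hx : x = 0
      · rw [hx, upperU_zero, hχ1]
      · rw [hval x hx, hm, ha0]; simp
    change ρ.character = _
    rw [hμ, hμ1]
    funext g
    simp

end sl2even

section sl2cent

variable {F : Type*} [Field F]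

/-- elements of `SL₂` commuting with the standard transvection -/
theorem exists_of_commute_upperU_one (g : Matrix.SpecialLinearGroup (Fin 2) F)
    (h : upperU (1 : F) * g = g * upperU 1) :
    ∃ (a b : F), a ^ 2 = 1 ∧ (g : Matrix (Fin 2) (Fin 2) F) = !![a, b; 0, a] := by
  have h1 := congrArg Subtype.val h
  rw [Matrix.SpecialLinearGroup.coe_mul, Matrix.SpecialLinearGroup.coe_mul, coe_upperU] at h1
  have hg : (g : Matrix (Fin 2) (Fin 2) F) = !![g.1 0 0, g.1 0 1; g.1 1 0, g.1 1 1] := by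
    ext i j; fin_cases i <;> fin_cases j <;> rfl
  rw [hg] at h1
  have e00 := congrFun (congrFun h1 0) 0
  have e01 := congrFun (congrFun h1 0) 1
  simp [Matrix.mul_apply, Fin.sum_univ_two] at e00 e01
  have hdet := g.2
  rw [Matrix.det_fin_two] at hdet
  have h10 : g.1 1 0 = 0 := e00
  have h11 : g.1 1 1 = g.1 0 0 := by linear_combination e01
  refine ⟨g.1 0 0, g.1 0 1, ?_, ?_⟩
  · rw [h10, h11] at hdet
    linear_combination hdet
  · ext i j
    fin_cases i <;> fin_cases j <;> simp [h10, h11]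

theorem card_centralizer_upperU_one [Fintype F] [CharP F 2] :
    Nat.card (Subgroup.centralizer ({upperU (1 : F)} : Set (Matrix.SpecialLinearGroup (Fin 2) F))) =
      Fintype.card F := by
  have hcomm : ∀ x : F, upperU x ∈
      Subgroup.centralizer ({upperU (1 : F)} : Set (Matrix.SpecialLinearGroup (Fin 2) F)) := by
    intro x
    rw [Subgroup.mem_centralizer_iff]
    intro h hh
    rw [Set.mem_singleton_iff] at hh
    rw [hh, ← upperU_add, ← upperU_add, add_comm]
  let f : F → Subgroup.centralizer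
      ({upperU (1 : F)} : Set (Matrix.SpecialLinearGroup (Fin 2) F)) := fun x => ⟨upperU x, hcomm x⟩
  have hf : Function.Bijective f := by
    constructor
    · intro x y hxy
      exact upperU_injective (congrArg Subtype.val hxy)
    · rintro ⟨g, hg⟩
      rw [Subgroup.mem_centralizer_iff] at hg
      obtain ⟨a, b, ha, hgab⟩ := exists_of_commute_upperU_one g (hg _ rfl)
      have ha1 : a = 1 := by
        have h2 : (a - 1) ^ 2 = 0 := by
          have : (2 : F) = 0 := CharTwo.two_eq_zero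
          linear_combination ha + (1 - a) * this
        have := pow_eq_zero_iff (two_ne_zero) |>.mp h2
        exact sub_eq_zero.mp this
      refine ⟨b, ?_⟩
      apply Subtype.ext
      apply Subtype.ext
      change (upperU b : Matrix (Fin 2) (Fin 2) F) = g.1
      rw [coe_upperU, hgab, ha1]
  rw [← Nat.card_congr (Equiv.ofBijective f hf), Nat.card_eq_fintype_card]

end sl2cent

section sl2sums

variable {F : Type*} [Field F] [Fintype F] [DecidableEq F]

/-- the three sums over the irreducible characters of `SL₂(q)`, in terms of the data `(m, a)` -/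
theorem sl2_sums (m a : Cfsg.IrrCharacter (Matrix.SpecialLinearGroup (Fin 2) F) → ℕ)
    (hd : ∀ χ : Cfsg.IrrCharacter (Matrix.SpecialLinearGroup (Fin 2) F),
      (χ : Matrix.SpecialLinearGroup (Fin 2) F → ℂ) 1 =
        ((m χ + (Fintype.card F - 1) * a χ : ℕ) : ℂ))
    (hsum : ∀ χ : Cfsg.IrrCharacter (Matrix.SpecialLinearGroup (Fin 2) F),
      ∑ x : F, (χ : Matrix.SpecialLinearGroup (Fin 2) F → ℂ) (upperU x) =
        (Fintype.card F : ℂ) * m χ) :
    (∑ χ, ((m χ + (Fintype.card F - 1) * a χ : ℕ) : ℤ) ^ 2 =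
      (Fintype.card F : ℤ) * ((Fintype.card F : ℤ) ^ 2 - 1)) ∧
    (∑ χ, ((m χ + (Fintype.card F - 1) * a χ : ℕ) : ℤ) * (m χ : ℤ) =
      (Fintype.card F : ℤ) ^ 2 - 1) := by
  have hq : 2 ≤ Fintype.card F := Fintype.one_lt_card
  have hG : (Nat.card (Matrix.SpecialLinearGroup (Fin 2) F) : ℂ) =
      (Fintype.card F : ℂ) * ((Fintype.card F : ℂ) ^ 2 - 1) := by
    rw [Cfsg.Agent.Lib.Helper5.card_SL2]
    have h1 : 1 ≤ Fintype.card F ^ 2 := Nat.one_le_pow _ _ (by omega)
    push_cast [Nat.cast_sub h1]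
    ring
  constructor
  · have h := sum_irr_deg_sq (G := Matrix.SpecialLinearGroup (Fin 2) F)
    rw [hG] at h
    have h2 : ∀ χ : Cfsg.IrrCharacter (Matrix.SpecialLinearGroup (Fin 2) F),
        (χ : Matrix.SpecialLinearGroup (Fin 2) F → ℂ) 1 *
          conj ((χ : Matrix.SpecialLinearGroup (Fin 2) F → ℂ) 1) =
        ((((m χ + (Fintype.card F - 1) * a χ : ℕ) : ℤ) ^ 2 : ℤ) : ℂ) := by
      intro χ
      rw [hd χ, Complex.conj_natCast]
      push_cast
      ring
    rw [Finset.sum_congr rfl (fun χ _ => h2 χ), ← Int.cast_sum] at h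
    have h3 : ((∑ χ, ((m χ + (Fintype.card F - 1) * a χ : ℕ) : ℤ) ^ 2 : ℤ) : ℂ) =
        (((Fintype.card F : ℤ) * ((Fintype.card F : ℤ) ^ 2 - 1) : ℤ) : ℂ) := by
      rw [h]; push_cast; ring
    exact_mod_cast h3
  · have h : ∑ x : F, ∑ χ : Cfsg.IrrCharacter (Matrix.SpecialLinearGroup (Fin 2) F),
        (χ : Matrix.SpecialLinearGroup (Fin 2) F → ℂ) 1 *
          conj ((χ : Matrix.SpecialLinearGroup (Fin 2) F → ℂ) (upperU x)) =
        (Fintype.card F : ℂ) * ((Fintype.card F : ℂ) ^ 2 - 1) := by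
      rw [← Finset.add_sum_erase Finset.univ _ (Finset.mem_univ (0 : F)), upperU_zero,
        sum_irr_deg_sq, hG, Finset.sum_eq_zero, add_zero]
      intro x hx
      apply sum_irr_deg_mul_conj
      rw [Ne, upperU_eq_one_iff]
      exact Finset.ne_of_mem_erase hx
    rw [Finset.sum_comm] at h
    have h2 : ∀ χ : Cfsg.IrrCharacter (Matrix.SpecialLinearGroup (Fin 2) F),
        ∑ x : F, (χ : Matrix.SpecialLinearGroup (Fin 2) F → ℂ) 1 *
          conj ((χ : Matrix.SpecialLinearGroup (Fin 2) F → ℂ) (upperU x)) =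
        (Fintype.card F : ℂ) *
          ((((m χ + (Fintype.card F - 1) * a χ : ℕ) : ℤ) * (m χ : ℤ) : ℤ) : ℂ) := by
      intro χ
      rw [← Finset.mul_sum, ← map_sum, hsum χ, hd χ, map_mul, Complex.conj_natCast,
        Complex.conj_natCast]
      push_cast
      ring
    rw [Finset.sum_congr rfl (fun χ _ => h2 χ), ← Finset.mul_sum, ← Int.cast_sum] at h
    have hq0 : (Fintype.card F : ℂ) ≠ 0 := by exact_mod_cast (by omega : Fintype.card F ≠ 0)
    have h3 := mul_left_cancel₀ hq0 h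
    have h4 : ((∑ χ, ((m χ + (Fintype.card F - 1) * a χ : ℕ) : ℤ) * (m χ : ℤ) : ℤ) : ℂ) =
        (((Fintype.card F : ℤ) ^ 2 - 1 : ℤ) : ℂ) := by
      rw [h3]; push_cast; ring
    exact_mod_cast h4

end sl2sums

section sl2evenmain

variable {F : Type*} [Field F] [Fintype F] [DecidableEq F]

/-- **The irreducible characters of `SL₂(q)`, `q` even, by type** -/
theorem sl2_even_main [CharP F 2] :
    ∃ m a : Cfsg.IrrCharacter (Matrix.SpecialLinearGroup (Fin 2) F) → ℕ,
      (∀ χ : Cfsg.IrrCharacter (Matrix.SpecialLinearGroup (Fin 2) F),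
        (χ : Matrix.SpecialLinearGroup (Fin 2) F → ℂ) 1 =
        ((m χ + (Fintype.card F - 1) * a χ : ℕ) : ℂ)) ∧
      (∀ χ, (m χ = 0 ∧ a χ = 1) ∨ (m χ = 1 ∧ a χ = 0) ∨ (m χ = 1 ∧ a χ = 1) ∨
        (m χ = 2 ∧ a χ = 1)) ∧
      (∑ χ, (if m χ = 1 ∧ a χ = 0 then (1 : ℤ) else 0)) = 1 ∧
      (∑ χ, (if m χ = 1 ∧ a χ = 1 then (1 : ℤ) else 0)) = 1 ∧
      2 * (∑ χ, (if m χ = 2 ∧ a χ = 1 then (1 : ℤ) else 0)) = (Fintype.card F : ℤ) - 2 ∧
      2 * (∑ χ, (if m χ = 0 ∧ a χ = 1 then (1 : ℤ) else 0)) = (Fintype.card F : ℤ) := by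
  have hq : 2 ≤ Fintype.card F := Fintype.one_lt_card
  have heven : Even (Fintype.card F) := by
    have h2 : ringChar F = 2 := ringChar.eq F 2
    exact Nat.even_iff.mpr (FiniteField.even_card_iff_char_two.mp h2)
  choose m a hd hval hsum ht hlin using exists_data_even (F := F) heven
  obtain ⟨H2, H3⟩ := sl2_sums m a hd hsum
  -- the sum of `|χ(u)|²`
  have H4 : ∑ χ, ((m χ : ℤ) - (a χ : ℤ)) ^ 2 = (Fintype.card F : ℤ) := by
    have h := sum_irr_norm_sq (G := Matrix.SpecialLinearGroup (Fin 2) F) (upperU (1 : F))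
    rw [card_centralizer_upperU_one] at h
    have h2 : ∀ χ : Cfsg.IrrCharacter (Matrix.SpecialLinearGroup (Fin 2) F),
        (χ : Matrix.SpecialLinearGroup (Fin 2) F → ℂ) (upperU 1) *
          conj ((χ : Matrix.SpecialLinearGroup (Fin 2) F → ℂ) (upperU 1)) =
        ((((m χ : ℤ) - (a χ : ℤ)) ^ 2 : ℤ) : ℂ) := by
      intro χ
      rw [hval χ 1 one_ne_zero, map_sub, Complex.conj_natCast, Complex.conj_natCast]
      push_cast
      ring
    rw [Finset.sum_congr rfl (fun χ _ => h2 χ), ← Int.cast_sum] at h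
    have h3 : ((∑ χ, ((m χ : ℤ) - (a χ : ℤ)) ^ 2 : ℤ) : ℂ) = (((Fintype.card F : ℤ) : ℤ) : ℂ) := by
      rw [h]; push_cast; ring
    exact_mod_cast h3
  -- the number of irreducible characters
  have H1 : (Fintype.card (Cfsg.IrrCharacter (Matrix.SpecialLinearGroup (Fin 2) F)) : ℤ) =
      (Fintype.card F : ℤ) + 1 := by
    have h := Cfsg.Agent.S0133.result (G := Matrix.SpecialLinearGroup (Fin 2) F)
    rw [Cfsg.Agent.S2331.result, Nat.card_eq_fintype_card] at h
    rw [h]; push_cast; ring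
  -- exactly one character of type `(1, 0)`: the trivial one
  have hone : Cfsg.IsIrrCharacter (Matrix.SpecialLinearGroup (Fin 2) F) (fun _ => (1 : ℂ)) :=
    Cfsg.Agent.Lib.Helper80.isIrrCharacter_one
  have hX : (∑ χ, (if m χ = 1 ∧ a χ = 0 then (1 : ℤ) else 0)) = 1 := by
    rw [Finset.sum_eq_single (⟨fun _ => (1 : ℂ), hone⟩ :
      Cfsg.IrrCharacter (Matrix.SpecialLinearGroup (Fin 2) F))]
    · rw [if_pos]
      set χ₀ : Cfsg.IrrCharacter (Matrix.SpecialLinearGroup (Fin 2) F) := ⟨fun _ => (1 : ℂ), hone⟩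
      have h1 : ((m χ₀ + (Fintype.card F - 1) * a χ₀ : ℕ) : ℂ) = 1 := (hd χ₀).symm
      have h2 : (m χ₀ : ℂ) - a χ₀ = 1 := (hval χ₀ 1 one_ne_zero).symm
      have h1' : m χ₀ + (Fintype.card F - 1) * a χ₀ = 1 := by exact_mod_cast h1
      have h2' : (m χ₀ : ℤ) - a χ₀ = 1 := by exact_mod_cast h2
      rcases ht χ₀ with ⟨h3, h4⟩ | h | ⟨h3, h4⟩ | ⟨h3, h4⟩
      · rw [h3] at h2'
        omega
      · exact h
      · rw [h3, h4] at h2'; omega
      · rw [h3, h4] at h1'; omega
    · intro χ _ hne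
      rw [if_neg]
      rintro ⟨h1, h2⟩
      apply hne
      apply Subtype.ext
      exact hlin χ h1 h2
    · intro h; exact absurd (Finset.mem_univ _) h
  -- all cuspidal characters have `a = 1`
  have hcast : ∀ χ, (((m χ + (Fintype.card F - 1) * a χ : ℕ) : ℤ)) =
      (m χ : ℤ) + ((Fintype.card F : ℤ) - 1) * (a χ : ℤ) := by
    intro χ
    push_cast [Nat.cast_sub (by omega : 1 ≤ Fintype.card F)]
    ring
  have htZ : ∀ χ, ((m χ : ℤ) = 0 ∧ 1 ≤ (a χ : ℤ)) ∨ ((m χ : ℤ) = 1 ∧ (a χ : ℤ) = 0) ∨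
      ((m χ : ℤ) = 1 ∧ (a χ : ℤ) = 1) ∨ ((m χ : ℤ) = 2 ∧ (a χ : ℤ) = 1) := by
    intro χ
    rcases ht χ with ⟨h1, h2⟩ | ⟨h1, h2⟩ | ⟨h1, h2⟩ | ⟨h1, h2⟩
    · left; exact ⟨by exact_mod_cast h1, by exact_mod_cast h2⟩
    · right; left; exact ⟨by exact_mod_cast h1, by exact_mod_cast h2⟩
    · right; right; left; exact ⟨by exact_mod_cast h1, by exact_mod_cast h2⟩
    · right; right; right; exact ⟨by exact_mod_cast h1, by exact_mod_cast h2⟩
  have hXZ : (∑ χ, (if (m χ : ℤ) = 1 ∧ (a χ : ℤ) = 0 then (1 : ℤ) else 0)) = 1 := by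
    refine Eq.trans ?_ hX
    apply Finset.sum_congr rfl
    intro χ _
    congr 1
    rw [eq_iff_iff]
    constructor
    · rintro ⟨h1, h2⟩; exact ⟨by exact_mod_cast h1, by exact_mod_cast h2⟩
    · rintro ⟨h1, h2⟩; exact ⟨by exact_mod_cast h1, by exact_mod_cast h2⟩
  have hcusp := irrCount_cusp (ι := Cfsg.IrrCharacter (Matrix.SpecialLinearGroup (Fin 2) F))
    (Fintype.card F : ℤ) (by exact_mod_cast hq)
    (fun χ => ((m χ + (Fintype.card F - 1) * a χ : ℕ) : ℤ)) (fun χ => (m χ : ℤ))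
    (fun χ => (a χ : ℤ)) hcast htZ 1 hXZ (by
      rw [H1, H2, H3, H4]; ring)
  have ht' : ∀ χ, (m χ = 0 ∧ a χ = 1) ∨ (m χ = 1 ∧ a χ = 0) ∨ (m χ = 1 ∧ a χ = 1) ∨
      (m χ = 2 ∧ a χ = 1) := by
    intro χ
    rcases ht χ with ⟨h1, h2⟩ | h | h | h
    · left
      refine ⟨h1, ?_⟩
      have := hcusp χ (by exact_mod_cast h1)
      exact_mod_cast this
    · right; left; exact h
    · right; right; left; exact h
    · right; right; right; exact h
  have htZ' : ∀ χ, ((m χ : ℤ) = 0 ∧ (a χ : ℤ) = 1) ∨ ((m χ : ℤ) = 1 ∧ (a χ : ℤ) = 0) ∨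
      ((m χ : ℤ) = 1 ∧ (a χ : ℤ) = 1) ∨ ((m χ : ℤ) = 2 ∧ (a χ : ℤ) = 1) := by
    intro χ
    rcases ht' χ with ⟨h1, h2⟩ | ⟨h1, h2⟩ | ⟨h1, h2⟩ | ⟨h1, h2⟩
    · left; exact ⟨by exact_mod_cast h1, by exact_mod_cast h2⟩
    · right; left; exact ⟨by exact_mod_cast h1, by exact_mod_cast h2⟩
    · right; right; left; exact ⟨by exact_mod_cast h1, by exact_mod_cast h2⟩
    · right; right; right; exact ⟨by exact_mod_cast h1, by exact_mod_cast h2⟩
  obtain ⟨C1, C3, C4⟩ := irrCount_counts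
    (ι := Cfsg.IrrCharacter (Matrix.SpecialLinearGroup (Fin 2) F)) (Fintype.card F : ℤ)
    (fun χ => ((m χ + (Fintype.card F - 1) * a χ : ℕ) : ℤ)) (fun χ => (m χ : ℤ))
    (fun χ => (a χ : ℤ)) hcast htZ'
  have hconv : ∀ (k l : ℕ), (∑ χ, if (m χ : ℤ) = (k : ℤ) ∧ (a χ : ℤ) = (l : ℤ) then (1 : ℤ) else 0) =
      ∑ χ, if m χ = k ∧ a χ = l then (1 : ℤ) else 0 := by
    intro k l
    apply Finset.sum_congr rfl
    intro χ _
    congr 1
    rw [eq_iff_iff]
    constructor
    · rintro ⟨h1, h2⟩; exact ⟨by exact_mod_cast h1, by exact_mod_cast h2⟩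
    · rintro ⟨h1, h2⟩; exact ⟨by exact_mod_cast h1, by exact_mod_cast h2⟩
  have c10 := hconv 1 0
  have c11 := hconv 1 1
  have c21 := hconv 2 1
  have c01 := hconv 0 1
  simp only [Nat.cast_one, Nat.cast_zero, Nat.cast_ofNat] at c10 c11 c21 c01
  rw [c10, c11, c21, c01, H1] at C1
  rw [c10, c11, c21, H3] at C3
  rw [c10, c21, c01, H4] at C4
  rw [hX] at C1 C3 C4
  refine ⟨m, a, hd, ht', hX, ?_, ?_, ?_⟩
  · linarith
  · have hY : (∑ χ, (if m χ = 1 ∧ a χ = 1 then (1 : ℤ) else 0)) = 1 := by linarith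
    rw [hY] at C3
    have hq1 : ((Fintype.card F : ℤ) + 1) ≠ 0 := by positivity
    apply mul_left_cancel₀ hq1
    linear_combination C3
  · have hY : (∑ χ, (if m χ = 1 ∧ a χ = 1 then (1 : ℤ) else 0)) = 1 := by linarith
    rw [hY] at C3
    have hq1 : ((Fintype.card F : ℤ) + 1) ≠ 0 := by positivity
    have hZ : 2 * (∑ χ, (if m χ = 2 ∧ a χ = 1 then (1 : ℤ) else 0)) = (Fintype.card F : ℤ) - 2 := by
      apply mul_left_cancel₀ hq1
      linear_combination C3
    linarith

end sl2evenmain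

end Cfsg.Agent.Lib.Helper39
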