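import Cfsg.Prelude.Def_DegreeGraph
import Cfsg.Agent.Lib.Helper81.IrrTwist
import Cfsg.Agent.S2300
import Cfsg.Agent.S2299

set_option autoImplicit false

/-!
# Character degree sets and degree graphs of `(P)SL₂(q)` (helper39)
-/

namespace Cfsg.Agent.Lib.Helper39

section general

theorem charDegree_natCast {G : Type*} [Group G] (χ : G → ℂ) (k : ℕ) (h : χ 1 = (k : ℂ)) :
    Cfsg.charDegree χ = k := by
  unfold Cfsg.charDegree
  rw [h]
  simp

/-- isomorphic groups have the same set of character degrees -/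
theorem charDegrees_congr {H : Type*} {G : Type*} [Group H] [Group G] (e : H ≃* G) :
    Cfsg.charDegrees H = Cfsg.charDegrees G := by
  ext d
  constructor
  · rintro ⟨χ, rfl⟩
    refine ⟨⟨(χ : H → ℂ) ∘ e.symm,
      Cfsg.Agent.Lib.Helper81.isIrrCharacter_comp_mulEquiv χ.2 e.symm⟩, ?_⟩
    unfold Cfsg.charDegree
    simp
  · rintro ⟨χ, rfl⟩
    refine ⟨⟨(χ : G → ℂ) ∘ e, Cfsg.Agent.Lib.Helper81.isIrrCharacter_comp_mulEquiv χ.2 e⟩, ?_⟩
    unfold Cfsg.charDegree
    simp

theorem degreePrimes_congr {H : Type*} {G : Type*} [Group H] [Group G]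
    (h : Cfsg.charDegrees H = Cfsg.charDegrees G) :
    Cfsg.degreePrimes H = Cfsg.degreePrimes G := by
  unfold Cfsg.degreePrimes
  rw [h]

theorem degreeGraph_adj_congr {H : Type*} {G : Type*} [Group H] [Group G]
    (h : Cfsg.charDegrees H = Cfsg.charDegrees G) (r s : ℕ) :
    (Cfsg.degreeGraph H).Adj r s ↔ (Cfsg.degreeGraph G).Adj r s := by
  unfold Cfsg.degreeGraph
  simp only [h]

end general

section even

variable (F : Type*) [Field F] [Fintype F]

/-- in characteristic two `PSL₂` is `SL₂` -/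
theorem center_SL2_eq_bot [CharP F 2] :
    Subgroup.center (Matrix.SpecialLinearGroup (Fin 2) F) = ⊥ := by
  rw [eq_bot_iff]
  intro z hz
  rw [Subgroup.mem_bot]
  rcases (Cfsg.Agent.Lib.Helper41.mem_center_iff_pm z).mp hz with h | h
  · exact Subtype.ext h
  · apply Subtype.ext
    rw [h]
    have : (-1 : F) = 1 := by
      have h2 : (2 : F) = 0 := CharTwo.two_eq_zero
      linear_combination -h2
    ext i j
    simp [Matrix.neg_apply, Matrix.one_apply]
    split_ifs
    · exact this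
    · simp

noncomputable def pslEquivSL [CharP F 2] :
    Matrix.ProjectiveSpecialLinearGroup (Fin 2) F ≃* Matrix.SpecialLinearGroup (Fin 2) F :=
  (QuotientGroup.quotientMulEquivOfEq (center_SL2_eq_bot F)).trans QuotientGroup.quotientBot

/-- the character degrees of `SL₂(q)`, `q ≥ 4` even -/
theorem charDegrees_SL2_even [CharP F 2] (h4 : 4 ≤ Fintype.card F) :
    Cfsg.charDegrees (Matrix.SpecialLinearGroup (Fin 2) F) =
      {1, Fintype.card F - 1, Fintype.card F, Fintype.card F + 1} := by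
  classical
  have hq1 : 1 ≤ Fintype.card F := by omega
  have hqm1 : (Fintype.card F : ℂ) - 1 = ((Fintype.card F - 1 : ℕ) : ℂ) := by
    rw [Nat.cast_sub hq1]; simp
  have hqp1 : (Fintype.card F : ℂ) + 1 = ((Fintype.card F + 1 : ℕ) : ℂ) := by
    push_cast; ring
  obtain ⟨h1, h2⟩ := Cfsg.Agent.S2300.result (F := F)
  obtain ⟨c1, cq, cq1, cqm1⟩ := h2 h4
  ext d
  simp only [Set.mem_insert_iff, Set.mem_singleton_iff]
  constructor
  · rintro ⟨χ, rfl⟩
    rcases h1 χ.1 χ.2 with h | h | h | h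
    · left; exact charDegree_natCast _ 1 (by rw [h]; simp)
    · right; left; exact charDegree_natCast _ _ (by rw [h, hqm1])
    · right; right; left; exact charDegree_natCast _ _ h
    · right; right; right; exact charDegree_natCast _ _ (by rw [h, hqp1])
  · have hex : ∀ (v : ℂ) (k : ℕ), v = (k : ℂ) →
        0 < Nat.card {χ : Cfsg.IrrCharacter (Matrix.SpecialLinearGroup (Fin 2) F) //
          (χ : Matrix.SpecialLinearGroup (Fin 2) F → ℂ) 1 = v} →
        k ∈ Cfsg.charDegrees (Matrix.SpecialLinearGroup (Fin 2) F) := by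
      intro v k hv hpos
      obtain ⟨⟨χ, hχ⟩⟩ := (Nat.card_pos_iff.mp hpos).1
      exact ⟨χ, charDegree_natCast _ k (by rw [hχ, hv])⟩
    rintro (rfl | rfl | rfl | rfl)
    · exact hex 1 1 (by simp) (by rw [c1]; norm_num)
    · exact hex _ _ hqm1 (by rw [cqm1]; omega)
    · exact hex _ _ rfl (by rw [cq]; norm_num)
    · exact hex _ _ hqp1 (by rw [cq1]; omega)

end even

section graphs

/-- the character degree graph of a group with character degrees `1, q - 1, q, q + 1`,
`q` a power of two -/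
theorem degGraph_even (S : Type*) [Group S] (q a : ℕ) (hq : q = 2 ^ a) (h4 : 4 ≤ q)
    (hdeg : Cfsg.charDegrees S = {1, q - 1, q, q + 1}) :
    Cfsg.degreePrimes S = {r : ℕ | r.Prime ∧ r ∣ q * (q ^ 2 - 1)} ∧
    ∀ r s : ℕ, (Cfsg.degreeGraph S).Adj r s ↔
      (r ≠ s ∧ r.Prime ∧ s.Prime ∧ ((r ∣ q + 1 ∧ s ∣ q + 1) ∨ (r ∣ q - 1 ∧ s ∣ q - 1))) := by
  have hfac : q ^ 2 - 1 = (q - 1) * (q + 1) := by
    obtain ⟨k, rfl⟩ : ∃ k, q = k + 1 := ⟨q - 1, by omega⟩
    rw [Nat.add_sub_cancel]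
    apply Nat.sub_eq_of_eq_add
    ring
  constructor
  · ext r
    unfold Cfsg.degreePrimes
    simp only [hdeg, Set.mem_ofPred_eq, Set.mem_insert_iff, Set.mem_singleton_iff]
    constructor
    · rintro ⟨hr, d, hd, hdiv⟩
      refine ⟨hr, ?_⟩
      rw [hfac]
      rcases hd with rfl | rfl | rfl | rfl
      · exact absurd (Nat.dvd_one.mp hdiv) hr.one_lt.ne'
      · exact Dvd.dvd.mul_left (Dvd.dvd.mul_right hdiv _) _
      · exact Dvd.dvd.mul_right hdiv _
      · exact Dvd.dvd.mul_left (Dvd.dvd.mul_left hdiv _) _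
    · rintro ⟨hr, hdiv⟩
      refine ⟨hr, ?_⟩
      rw [hfac] at hdiv
      rcases (Nat.Prime.dvd_mul hr).mp hdiv with h | h
      · exact ⟨q, Or.inr (Or.inr (Or.inl rfl)), h⟩
      · rcases (Nat.Prime.dvd_mul hr).mp h with h | h
        · exact ⟨q - 1, Or.inr (Or.inl rfl), h⟩
        · exact ⟨q + 1, Or.inr (Or.inr (Or.inr rfl)), h⟩
  · intro r s
    unfold Cfsg.degreeGraph
    simp only [hdeg, Set.mem_insert_iff, Set.mem_singleton_iff]
    constructor
    · rintro ⟨hne, hr, hs, d, hd, hdiv⟩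
      refine ⟨hne, hr, hs, ?_⟩
      have hrd : r ∣ d := (Dvd.intro _ rfl).trans hdiv
      have hsd : s ∣ d := (Dvd.intro_left _ rfl).trans hdiv
      rcases hd with rfl | rfl | rfl | rfl
      · exact absurd (Nat.dvd_one.mp hrd) hr.one_lt.ne'
      · right; exact ⟨hrd, hsd⟩
      · exfalso
        rw [hq] at hrd hsd
        have h1 := (Nat.prime_dvd_prime_iff_eq hr Nat.prime_two).mp (hr.dvd_of_dvd_pow hrd)
        have h2 := (Nat.prime_dvd_prime_iff_eq hs Nat.prime_two).mp (hs.dvd_of_dvd_pow hsd)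
        exact hne (h1.trans h2.symm)
      · left; exact ⟨hrd, hsd⟩
    · rintro ⟨hne, hr, hs, h | h⟩
      · exact ⟨hne, hr, hs, q + 1, Or.inr (Or.inr (Or.inr rfl)),
          Nat.Coprime.mul_dvd_of_dvd_of_dvd ((Nat.coprime_primes hr hs).mpr hne) h.1 h.2⟩
      · exact ⟨hne, hr, hs, q - 1, Or.inr (Or.inl rfl),
          Nat.Coprime.mul_dvd_of_dvd_of_dvd ((Nat.coprime_primes hr hs).mpr hne) h.1 h.2⟩

end graphs

end Cfsg.Agent.Lib.Helper39
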