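import Mathlib

set_option autoImplicit false

/-!
S3822 MODULE [CORELIFT] (board #3938), part 1: elementary group-theoretic lemmas.
-/

namespace Cfsg.Agent.Lib.Helper39.Flavell

open scoped commutatorElement

variable {G : Type*} [Group G]

theorem le_normalizer_of_conj {A X : Subgroup G}
    (h : ∀ a ∈ A, ∀ x ∈ X, a * x * a⁻¹ ∈ X) : A ≤ Subgroup.normalizer (X : Set G) := by
  intro a ha
  rw [Subgroup.mem_normalizer_iff]
  intro x
  constructor
  · intro hx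
    exact h a ha x hx
  · intro hx
    have := h a⁻¹ (A.inv_mem ha) _ hx
    simpa [mul_assoc] using this

theorem conj_mem_of_le_normalizer {A X : Subgroup G} (h : A ≤ Subgroup.normalizer (X : Set G))
    {a x : G} (ha : a ∈ A) (hx : x ∈ X) : a * x * a⁻¹ ∈ X :=
  ((Subgroup.mem_normalizer_iff.1 (h ha)) x).1 hx

theorem conj_mem_of_le_normalizer' {A X : Subgroup G} (h : A ≤ Subgroup.normalizer (X : Set G))
    {a x : G} (ha : a ∈ A) (hx : x ∈ X) : a⁻¹ * x * a ∈ X := by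
  have := conj_mem_of_le_normalizer h (A.inv_mem ha) hx
  simpa using this

theorem le_normalizer_sup {A X Y : Subgroup G} (hX : A ≤ Subgroup.normalizer (X : Set G))
    (hY : A ≤ Subgroup.normalizer (Y : Set G)) :
    A ≤ Subgroup.normalizer ((X ⊔ Y : Subgroup G) : Set G) := by
  apply le_normalizer_of_conj
  intro a ha z hz
  have hmap : (X ⊔ Y).map (MulAut.conj a).toMonoidHom ≤ X ⊔ Y := by
    rw [Subgroup.map_sup]
    apply sup_le_sup
    · rintro _ ⟨x, hx, rfl⟩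
      exact conj_mem_of_le_normalizer hX ha hx
    · rintro _ ⟨x, hx, rfl⟩
      exact conj_mem_of_le_normalizer hY ha hx
  exact hmap ⟨z, hz, rfl⟩

theorem le_normalizer_inf {A X Y : Subgroup G} (hX : A ≤ Subgroup.normalizer (X : Set G))
    (hY : A ≤ Subgroup.normalizer (Y : Set G)) :
    A ≤ Subgroup.normalizer ((X ⊓ Y : Subgroup G) : Set G) := by
  apply le_normalizer_of_conj
  intro a ha z hz
  exact ⟨conj_mem_of_le_normalizer hX ha hz.1, conj_mem_of_le_normalizer hY ha hz.2⟩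

/-- the "centralizer modulo `Φ`" of an element, as a subgroup -/
theorem exists_centMod (U Φ : Subgroup G) (hUΦ : U ≤ Subgroup.normalizer (Φ : Set G)) (g : G) :
    ∃ C : Subgroup G, ∀ w, w ∈ C ↔ w ∈ U ∧ ⁅w, g⁆ ∈ Φ := by
  refine ⟨{ carrier := {w | w ∈ U ∧ ⁅w, g⁆ ∈ Φ}
            one_mem' := ⟨U.one_mem, by simp⟩
            mul_mem' := ?_
            inv_mem' := ?_ }, fun w => Iff.rfl⟩
  · rintro w w' ⟨hw, hwg⟩ ⟨hw', hwg'⟩
    refine ⟨U.mul_mem hw hw', ?_⟩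
    have e : ⁅w * w', g⁆ = w * ⁅w', g⁆ * w⁻¹ * ⁅w, g⁆ := by
      simp only [commutatorElement_def]; group
    rw [e]
    exact Φ.mul_mem (conj_mem_of_le_normalizer hUΦ hw hwg') hwg
  · rintro w ⟨hw, hwg⟩
    refine ⟨U.inv_mem hw, ?_⟩
    have e : ⁅w⁻¹, g⁆ = w⁻¹ * ⁅w, g⁆⁻¹ * w := by
      simp only [commutatorElement_def]; group
    rw [e]
    exact conj_mem_of_le_normalizer' hUΦ hw (Φ.inv_mem hwg)

/-- counting: if `U = Cx * Cy` then `|U : Φ| ≤ |Cx : Φ| |Cy : Φ|`. -/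
theorem relIndex_le_mul [Finite G] (Φ Cx Cy U : Subgroup G)
    (hyU : Cy ≤ U)
    (hUΦ : U ≤ Subgroup.normalizer (Φ : Set G))
    (hcov : ∀ w ∈ U, ∃ c ∈ Cx, ∃ d ∈ Cy, w = c * d) :
    Φ.relIndex U ≤ Φ.relIndex Cx * Φ.relIndex Cy := by
  classical
  have hch : ∀ w : ↥U, ∃ cd : ↥Cx × ↥Cy, (w : G) = (cd.1 : G) * (cd.2 : G) := by
    intro w
    obtain ⟨c, hc, d, hd, h⟩ := hcov w.1 w.2
    exact ⟨(⟨c, hc⟩, ⟨d, hd⟩), h⟩
  choose cd hcd using hch
  let f : (↥U ⧸ Φ.subgroupOf U) → (↥Cx ⧸ Φ.subgroupOf Cx) × (↥Cy ⧸ Φ.subgroupOf Cy) :=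
    fun t => (QuotientGroup.mk (cd (Quotient.out t)).1, QuotientGroup.mk (cd (Quotient.out t)).2)
  have hf : Function.Injective f := by
    intro t₁ t₂ h
    have h1 : (QuotientGroup.mk (cd (Quotient.out t₁)).1 : ↥Cx ⧸ Φ.subgroupOf Cx) =
        QuotientGroup.mk (cd (Quotient.out t₂)).1 := congrArg Prod.fst h
    have h2 : (QuotientGroup.mk (cd (Quotient.out t₁)).2 : ↥Cy ⧸ Φ.subgroupOf Cy) =
        QuotientGroup.mk (cd (Quotient.out t₂)).2 := congrArg Prod.snd h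
    rw [QuotientGroup.eq, Subgroup.mem_subgroupOf] at h1 h2
    have e1 := hcd (Quotient.out t₁)
    have e2 := hcd (Quotient.out t₂)
    rw [← QuotientGroup.out_eq' t₁, ← QuotientGroup.out_eq' t₂, QuotientGroup.eq,
      Subgroup.mem_subgroupOf]
    set c₁ := (cd (Quotient.out t₁)).1
    set c₂ := (cd (Quotient.out t₂)).1
    set d₁ := (cd (Quotient.out t₁)).2
    set d₂ := (cd (Quotient.out t₂)).2
    have hd₁ : (d₁ : G) ∈ U := hyU d₁.2
    have e : (((Quotient.out t₁)⁻¹ * Quotient.out t₂ : ↥U) : G) =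
        ((d₁ : G)⁻¹ * ((c₁ : G)⁻¹ * (c₂ : G)) * (d₁ : G)) * ((d₁ : G)⁻¹ * (d₂ : G)) := by
      rw [Subgroup.coe_mul, Subgroup.coe_inv, e1, e2]
      group
    rw [e]
    apply Φ.mul_mem _ (by simpa using h2)
    apply conj_mem_of_le_normalizer' hUΦ hd₁
    simpa using h1
  have := Nat.card_le_card_of_injective f hf
  rw [Nat.card_prod] at this
  exact this

end Cfsg.Agent.Lib.Helper39.Flavell
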