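import Mathlib
import Cfsg.Agent.Lib.Helper39.FlavellBasic

set_option autoImplicit false

/-!
S3822 MODULE [CORELIFT] (board #3938), part 3: passage to the quotient by `Φ` and application
of the conjugacy of complements (module [COMPLCONJ], taken here as a hypothesis).
-/

namespace Cfsg.Agent.Lib.Helper39.Flavell

open scoped commutatorElement

universe u

/-- the statement of module [COMPLCONJ] for groups in universe `u` -/
def ComplConjStmt : Prop :=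
  ∀ {H : Type u} [Group H] [Finite H] {q r : ℕ} [Fact q.Prime] [Fact r.Prime] (_ : q ≠ r)
    (N A B R : Subgroup H) [N.Normal] (_ : IsPGroup q N) (_ : A ⊓ N = ⊥) (_ : A ⊔ N = ⊤)
    (_ : B ⊓ N = ⊥) (_ : B ⊔ N = ⊤) (_ : IsPGroup r R) (_ : R ≤ A)
    (_ : A ≤ Subgroup.normalizer (R : Set H))
    (_ : ∀ n ∈ N, (∀ f ∈ R, f * n = n * f) → n = 1),
    ∃ n ∈ N, B = A.map (MulAut.conj n).toMonoidHom

theorem step45 {G : Type u} [Group G] [Finite G] (hcc : ComplConjStmt.{u})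
    {q r : ℕ} [Fact q.Prime] [Fact r.Prime] (hqr : q ≠ r)
    (A U Φ R B : Subgroup G) (hΦU : Φ ≤ U)
    (hAU : A ≤ Subgroup.normalizer (U : Set G)) (hAΦ : A ≤ Subgroup.normalizer (Φ : Set G))
    (hUΦ : U ≤ Subgroup.normalizer (Φ : Set G))
    (hU : IsPGroup q U) (hR : IsPGroup r R) (hRA : R ≤ A)
    (hAR : A ≤ Subgroup.normalizer (R : Set G))
    (hfix : ∀ w ∈ U, (∀ f ∈ R, ⁅f, w⁆ ∈ Φ) → w ∈ Φ)
    (h1 : A ⊓ U ≤ Φ) (hBH : B ≤ A ⊔ U) (h3 : B ⊓ U ≤ Φ) (hBU : A ≤ B ⊔ U)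
    (x y w : G) (hxA : x ∈ A) (hxB : x ∈ B) (hyA : y ∈ A) (hw : w ∈ U)
    (hz : w * y * w⁻¹ ∈ B) :
    ∃ u ∈ U, ⁅u, x⁆ ∈ Φ ∧ ⁅u⁻¹ * w, y⁆ ∈ Φ := by
  set H : Subgroup G := A ⊔ U with hH
  have hAH : A ≤ H := le_sup_left
  have hUH : U ≤ H := le_sup_right
  have hΦH : Φ ≤ H := hΦU.trans hUH
  have hHΦ : H ≤ Subgroup.normalizer (Φ : Set G) := sup_le hAΦ hUΦ
  have hHU : H ≤ Subgroup.normalizer (U : Set G) := sup_le hAU Subgroup.le_normalizer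
  have hΦn : (Φ.subgroupOf H).Normal := (Subgroup.normal_subgroupOf_iff_le_normalizer hΦH).2 hHΦ
  have hUn : (U.subgroupOf H).Normal := (Subgroup.normal_subgroupOf_iff_le_normalizer hUH).2 hHU
  set π := QuotientGroup.mk' (Φ.subgroupOf H) with hπ
  have hπs : Function.Surjective π := QuotientGroup.mk'_surjective _
  let bar : Subgroup G → Subgroup (↥H ⧸ Φ.subgroupOf H) := fun X => (X.subgroupOf H).map π
  have F1 : ∀ h : ↥H, π h = 1 ↔ (h : G) ∈ Φ := by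
    intro h
    rw [hπ, QuotientGroup.mk'_apply, QuotientGroup.eq_one_iff, Subgroup.mem_subgroupOf]
  have F2 : ∀ (X : Subgroup G) (t), t ∈ bar X ↔ ∃ g : ↥H, (g : G) ∈ X ∧ π g = t := by
    intro X t
    constructor
    · rintro ⟨g, hg, rfl⟩
      exact ⟨g, hg, rfl⟩
    · rintro ⟨g, hgX, rfl⟩
      exact ⟨g, hgX, rfl⟩
  have hNn : (bar U).Normal := hUn.map π hπs
  have hNq : IsPGroup q (bar U) := (hU.comap_subtype).map π
  have hinf : ∀ X : Subgroup G, X ⊓ U ≤ Φ → bar X ⊓ bar U = ⊥ := by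
    intro X hX
    rw [eq_bot_iff]
    rintro t ⟨htX, htU⟩
    obtain ⟨a, haX, rfl⟩ := (F2 X t).1 htX
    obtain ⟨v, hvU, hv⟩ := (F2 U _).1 htU
    have h : π (a⁻¹ * v) = 1 := by rw [map_mul, map_inv, hv, inv_mul_cancel]
    have h' : (a : G)⁻¹ * (v : G) ∈ Φ := by
      have := (F1 _).1 h
      simpa using this
    have haU : (a : G) ∈ U := by
      have := U.mul_mem hvU (U.inv_mem (hΦU h'))
      simpa using this
    rw [Subgroup.mem_bot, F1]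
    exact hX ⟨haX, haU⟩
  have hsup : ∀ X : Subgroup G, X ≤ H → H ≤ X ⊔ U → bar X ⊔ bar U = ⊤ := by
    intro X hXH hHX
    show (X.subgroupOf H).map π ⊔ (U.subgroupOf H).map π = ⊤
    rw [← Subgroup.map_sup, ← Subgroup.subgroupOf_sup hXH hUH]
    have : X ⊔ U = H := le_antisymm (sup_le hXH hUH) hHX
    rw [this, Subgroup.subgroupOf_self]
    exact Subgroup.map_top_of_surjective _ hπs
  have hRr : IsPGroup r (bar R) := (hR.comap_subtype).map π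
  have hRA' : bar R ≤ bar A := Subgroup.map_mono (Subgroup.comap_mono hRA)
  have hAR' : bar A ≤ Subgroup.normalizer ((bar R : Subgroup (↥H ⧸ Φ.subgroupOf H)) : Set _) := by
    have h1 : A.subgroupOf H ≤ Subgroup.normalizer ((R.subgroupOf H : Subgroup ↥H) : Set ↥H) :=
      (Subgroup.comap_mono hAR).trans (Subgroup.le_normalizer_comap H.subtype)
    exact (Subgroup.map_mono h1).trans (Subgroup.le_normalizer_map π)
  have hfix' : ∀ n ∈ bar U, (∀ f ∈ bar R, f * n = n * f) → n = 1 := by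
    intro n hn hc
    obtain ⟨v, hvU, rfl⟩ := (F2 U n).1 hn
    rw [F1]
    apply hfix v hvU
    intro f hf
    have hfH : f ∈ H := hAH (hRA hf)
    have h2 := hc (π ⟨f, hfH⟩) ((F2 R _).2 ⟨⟨f, hfH⟩, hf, rfl⟩)
    have h3 : π (⁅(⟨f, hfH⟩ : ↥H), v⁆) = 1 := by
      rw [map_commutatorElement, commutatorElement_eq_one_iff_mul_comm]
      exact h2
    exact (F1 _).1 h3
  obtain ⟨n, hn, hBA⟩ := @hcc (↥H ⧸ Φ.subgroupOf H) _ _ q r _ _ hqr (bar U) (bar A) (bar B)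
    (bar R) hNn hNq (hinf A h1) (hsup A hAH le_rfl) (hinf B h3)
    (hsup B hBH (sup_le hBU le_sup_right)) hRr hRA' hAR' hfix'
  obtain ⟨u, huU, hun⟩ := (F2 U n).1 hn
  have hbot := hinf A h1
  refine ⟨u, huU, ?_, ?_⟩
  · -- the element `x`
    have hxH : x ∈ H := hAH hxA
    have hxb : π ⟨x, hxH⟩ ∈ bar B := (F2 B _).2 ⟨⟨x, hxH⟩, hxB, rfl⟩
    have hxbA : π ⟨x, hxH⟩ ∈ bar A := (F2 A _).2 ⟨⟨x, hxH⟩, hxA, rfl⟩
    rw [hBA] at hxb
    obtain ⟨ab, hab, habx⟩ := hxb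
    set xb := π ⟨x, hxH⟩ with hxbdef
    have habx' : n * ab * n⁻¹ = xb := habx
    have e1 : n⁻¹ * xb * n = ab := by rw [← habx']; group
    have hc1 : xb⁻¹ * (n⁻¹ * xb * n) ∈ bar A := by
      rw [e1]; exact mul_mem (inv_mem hxbA) hab
    have hc2 : xb⁻¹ * (n⁻¹ * xb * n) ∈ bar U := by
      have : xb⁻¹ * (n⁻¹ * xb * n) = (xb⁻¹ * n⁻¹ * xb⁻¹⁻¹) * n := by group
      rw [this]
      exact mul_mem (hNn.conj_mem _ (inv_mem hn) _) hn
    have hc : xb⁻¹ * (n⁻¹ * xb * n) = 1 := by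
      have : xb⁻¹ * (n⁻¹ * xb * n) ∈ bar A ⊓ bar U := ⟨hc1, hc2⟩
      rw [hbot, Subgroup.mem_bot] at this
      exact this
    have hcomm : n * xb = xb * n := by
      calc n * xb = n * xb * (xb⁻¹ * (n⁻¹ * xb * n)) := by rw [hc, mul_one]
        _ = xb * n := by group
    have h5 : π ⁅u, (⟨x, hxH⟩ : ↥H)⁆ = 1 := by
      rw [map_commutatorElement, commutatorElement_eq_one_iff_mul_comm, hun]
      exact hcomm
    exact (F1 _).1 h5
  · -- the element `w y w⁻¹`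
    have hyH : y ∈ H := hAH hyA
    have hwH : w ∈ H := hUH hw
    have hzb : π (⟨w, hwH⟩ * ⟨y, hyH⟩ * ⟨w, hwH⟩⁻¹) ∈ bar B :=
      (F2 B _).2 ⟨⟨w, hwH⟩ * ⟨y, hyH⟩ * ⟨w, hwH⟩⁻¹, hz, rfl⟩
    have hybA : π ⟨y, hyH⟩ ∈ bar A := (F2 A _).2 ⟨⟨y, hyH⟩, hyA, rfl⟩
    have hwbU : π ⟨w, hwH⟩ ∈ bar U := (F2 U _).2 ⟨⟨w, hwH⟩, hw, rfl⟩
    rw [hBA, map_mul, map_mul, map_inv] at hzb
    obtain ⟨ab, hab, habz⟩ := hzb
    set yb := π ⟨y, hyH⟩ with hybdef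
    set wb := π ⟨w, hwH⟩ with hwbdef
    have habz' : n * ab * n⁻¹ = wb * yb * wb⁻¹ := habz
    have hm : n⁻¹ * wb ∈ bar U := mul_mem (inv_mem hn) hwbU
    have e1 : (n⁻¹ * wb) * yb * (n⁻¹ * wb)⁻¹ = ab := by
      have : (n⁻¹ * wb) * yb * (n⁻¹ * wb)⁻¹ = n⁻¹ * (wb * yb * wb⁻¹) * n := by group
      rw [this, ← habz']; group
    have hc1 : (n⁻¹ * wb) * yb * (n⁻¹ * wb)⁻¹ * yb⁻¹ ∈ bar A := by
      rw [e1]; exact mul_mem hab (inv_mem hybA)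
    have hc2 : (n⁻¹ * wb) * yb * (n⁻¹ * wb)⁻¹ * yb⁻¹ ∈ bar U := by
      have : (n⁻¹ * wb) * yb * (n⁻¹ * wb)⁻¹ * yb⁻¹ =
          (n⁻¹ * wb) * (yb * (n⁻¹ * wb)⁻¹ * yb⁻¹) := by group
      rw [this]
      exact mul_mem hm (hNn.conj_mem _ (inv_mem hm) _)
    have hc : (n⁻¹ * wb) * yb * (n⁻¹ * wb)⁻¹ * yb⁻¹ = 1 := by
      have : (n⁻¹ * wb) * yb * (n⁻¹ * wb)⁻¹ * yb⁻¹ ∈ bar A ⊓ bar U := ⟨hc1, hc2⟩
      rw [hbot, Subgroup.mem_bot] at this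
      exact this
    have h5 : π ⁅u⁻¹ * (⟨w, hwH⟩ : ↥H), (⟨y, hyH⟩ : ↥H)⁆ = 1 := by
      rw [map_commutatorElement, map_mul, map_inv, hun, commutatorElement_def]
      exact hc
    exact (F1 _).1 h5

end Cfsg.Agent.Lib.Helper39.Flavell
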