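import Mathlib
import Cfsg.Agent.Lib.Helper39.FlavellBasic

set_option autoImplicit false

/-!
S3822 MODULE [CORELIFT] (board #3938), part 2: solvability of `A U₀`, kernels of the action on a
section.
-/

namespace Cfsg.Agent.Lib.Helper39.Flavell

open scoped commutatorElement

variable {G : Type*} [Group G]

/-- `A U` is solvable when `A` is solvable and normalizes the `q`-group `U`. -/
theorem solvable_sup [Finite G] {q : ℕ} [Fact q.Prime] (A U : Subgroup G)
    (hA : Group.IsSolvable ↥A) (hU : IsPGroup q U) (hAU : A ≤ Subgroup.normalizer (U : Set G)) :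
    Group.IsSolvable ↥(A ⊔ U : Subgroup G) := by
  set H : Subgroup G := A ⊔ U with hH
  have hAH : A ≤ H := le_sup_left
  have hUH : U ≤ H := le_sup_right
  have hHU : H ≤ Subgroup.normalizer (U : Set G) := sup_le hAU Subgroup.le_normalizer
  have : (U.subgroupOf H).Normal := (Subgroup.normal_subgroupOf_iff_le_normalizer hUH).2 hHU
  have : Group.IsNilpotent ↥U := hU.isNilpotent
  have : Group.IsSolvable ↥U := inferInstance
  have : Group.IsSolvable (↥H ⧸ U.subgroupOf H) := by
    apply Group.isSolvable_of_surjective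
      (f := (QuotientGroup.mk' (U.subgroupOf H)).comp (Subgroup.inclusion hAH))
    rw [← MonoidHom.range_eq_top, MonoidHom.range_comp, Subgroup.inclusion_range]
    have h1 : (A.subgroupOf H ⊔ U.subgroupOf H).map (QuotientGroup.mk' (U.subgroupOf H)) = ⊤ := by
      rw [← Subgroup.subgroupOf_sup hAH hUH, Subgroup.subgroupOf_self]
      exact Subgroup.map_top_of_surjective _ (QuotientGroup.mk'_surjective _)
    rw [Subgroup.map_sup, QuotientGroup.map_mk'_self, sup_bot_eq] at h1
    exact h1
  apply Group.isSolvable_of_ker_le_range (Subgroup.inclusion hUH) (QuotientGroup.mk' (U.subgroupOf H))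
  rw [QuotientGroup.ker_mk', Subgroup.inclusion_range]

/-- If the normal closure of `g` in `A` is `A`, `R ≤ A` and `g` acts trivially on `U/Φ`, then so
does `R`. -/
theorem comm_mem_of_normalClosure (A U Φ : Subgroup G)
    (hAU : A ≤ Subgroup.normalizer (U : Set G)) (hAΦ : A ≤ Subgroup.normalizer (Φ : Set G))
    (g : G) (hg : g ∈ A)
    (hN : Subgroup.normalClosure ({⟨g, hg⟩} : Set ↥A) = ⊤)
    (hcon : ∀ w ∈ U, ⁅w, g⁆ ∈ Φ) : ∀ b ∈ A, ∀ w ∈ U, ⁅w, b⁆ ∈ Φ := by
  let K : Subgroup ↥A :=
    { carrier := {b | ∀ w ∈ U, ⁅w, (b : G)⁆ ∈ Φ}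
      one_mem' := by
        intro w _
        simp
      mul_mem' := by
        intro b b' hb hb' w hw
        have e : ⁅w, ((b * b' : ↥A) : G)⁆ = ⁅w, (b : G)⁆ * ((b : G) * ⁅w, (b' : G)⁆ * (b : G)⁻¹) := by
          rw [Subgroup.coe_mul]
          simp only [commutatorElement_def]; group
        rw [e]
        exact Φ.mul_mem (hb w hw) (conj_mem_of_le_normalizer hAΦ b.2 (hb' w hw))
      inv_mem' := by
        intro b hb w hw
        have e : ⁅w, ((b⁻¹ : ↥A) : G)⁆ = (b : G)⁻¹ * ⁅w, (b : G)⁆⁻¹ * (b : G) := by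
          rw [Subgroup.coe_inv]
          simp only [commutatorElement_def]; group
        rw [e]
        exact conj_mem_of_le_normalizer' hAΦ b.2 (Φ.inv_mem (hb w hw)) }
  have : K.Normal := by
    constructor
    intro b hb c w hw
    have e : ⁅w, ((c * b * c⁻¹ : ↥A) : G)⁆ =
        (c : G) * ⁅(c : G)⁻¹ * w * (c : G), (b : G)⁆ * (c : G)⁻¹ := by
      rw [Subgroup.coe_mul, Subgroup.coe_mul, Subgroup.coe_inv]
      simp only [commutatorElement_def]; group
    rw [e]
    exact conj_mem_of_le_normalizer hAΦ c.2 (hb _ (conj_mem_of_le_normalizer' hAU c.2 hw))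
  have hK : Subgroup.normalClosure ({⟨g, hg⟩} : Set ↥A) ≤ K := by
    apply Subgroup.normalClosure_le_normal
    rintro _ rfl
    exact hcon
  rw [hN] at hK
  intro b hb w hw
  exact hK (Subgroup.mem_top (⟨b, hb⟩ : ↥A)) w hw

end Cfsg.Agent.Lib.Helper39.Flavell
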