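import Mathlib
import Cfsg.Agent.Lib.Helper39.FlavellBasic
import Cfsg.Agent.Lib.Helper39.FlavellSolv
import Cfsg.Agent.Lib.Helper39.FlavellQuot

set_option autoImplicit false

/-!
S3822 MODULE [CORELIFT] (board #3938), part 4: the main argument, with [COMPLCONJ] as a hypothesis.
-/

namespace Cfsg.Agent.Lib.Helper39.Flavell

open scoped commutatorElement

universe u

theorem normalClosure_conj_eq_top {A : Type*} [Group A] (g c : A)
    (h : Subgroup.normalClosure ({g} : Set A) = ⊤) :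
    Subgroup.normalClosure ({c * g * c⁻¹} : Set A) = ⊤ := by
  rw [eq_top_iff, ← h]
  apply Subgroup.normalClosure_le_normal
  rw [Set.singleton_subset_iff]
  have h1 : c * g * c⁻¹ ∈ Subgroup.normalClosure ({c * g * c⁻¹} : Set A) :=
    Subgroup.subset_normalClosure (Set.mem_singleton _)
  have := (Subgroup.normalClosure_normal (s := ({c * g * c⁻¹} : Set A))).conj_mem _ h1 c⁻¹
  simpa [mul_assoc] using this

theorem core_lift_of {G : Type u} [Group G] [Finite G] (hcc : ComplConjStmt.{u})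
    {p : ℕ} [Fact p.Prime] (P : Subgroup G) (hP : Nat.card P = p) (A : Subgroup G)
    (hA : Group.IsSolvable ↥A ∧ ∃ a ∈ A, A = P ⊔ P.map (MulAut.conj a).toMonoidHom)
    (hmax : ∀ B : Subgroup G, A ≤ B → Group.IsSolvable ↥B →
      (∃ b ∈ B, B = P ⊔ P.map (MulAut.conj b).toMonoidHom) → B = A)
    {q r : ℕ} [Fact q.Prime] [Fact r.Prime] (hqr : q ≠ r) (R U₀ Φ : Subgroup G)
    (hU : IsPGroup q U₀) (hR : IsPGroup r R) (hRA : R ≤ A)
    (hAR : A ≤ Subgroup.normalizer (R : Set G)) (hΦU : Φ < U₀)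
    (hAU₀ : A ≤ Subgroup.normalizer (U₀ : Set G)) (hAΦ : A ≤ Subgroup.normalizer (Φ : Set G))
    (hUΦ : U₀ ≤ Subgroup.normalizer (Φ : Set G))
    (hab : ∀ w ∈ U₀, ∀ w' ∈ U₀, ⁅w, w'⁆ ∈ Φ)
    (hnongen : ∀ X : Subgroup G, X ≤ U₀ → X ⊔ Φ = U₀ → X = U₀)
    (hirr : ∀ U₁ : Subgroup G, A ≤ Subgroup.normalizer (U₁ : Set G) → Φ ≤ U₁ → U₁ ≤ U₀ →
      U₁ = Φ ∨ U₁ = U₀)
    (hfix : ∀ w ∈ U₀, (∀ f ∈ R, ⁅f, w⁆ ∈ Φ) → w ∈ Φ)
    (hsec : ∀ (y : G) (_ : y ∈ A) (Cy : Subgroup G), y ^ p = 1 →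
      (∀ hy : y ∈ A, Subgroup.normalClosure ({⟨y, hy⟩} : Set ↥A) = ⊤) →
      (∃ w ∈ U₀, ⁅w, y⁆ ∉ Φ) → (∀ w, w ∈ Cy ↔ w ∈ U₀ ∧ ⁅w, y⁆ ∈ Φ) →
      (Φ.relIndex Cy) ^ 2 < Φ.relIndex U₀) : False := by
  obtain ⟨hAsolv, a, haA, hAeq⟩ := hA
  have hPA : P ≤ A := by rw [hAeq]; exact le_sup_left
  have hPaA : P.map (MulAut.conj a).toMonoidHom ≤ A := by
    conv_rhs => rw [hAeq]
    exact le_sup_right
  -- `U₀ ⊄ Φ`
  have hnot : ¬ U₀ ≤ Φ := fun h => (lt_irrefl _ (lt_of_lt_of_le hΦU h))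
  -- a generator of `P`
  have hPcyc : IsCyclic ↥P := isCyclic_of_prime_card hP
  obtain ⟨x, hx⟩ := hPcyc.exists_generator
  have hx0P : (x : G) ∈ P := x.2
  have hx0A : (x : G) ∈ A := hPA hx0P
  have hxp : (x : G) ^ p = 1 := by
    have h := pow_card_eq_one' (G := ↥P) (x := x)
    rw [hP] at h
    have := congrArg (Subtype.val : ↥P → G) h
    simpa using this
  obtain ⟨y, hy⟩ : ∃ y : G, y = a * (x : G) * a⁻¹ := ⟨_, rfl⟩
  have hyPa : y ∈ P.map (MulAut.conj a).toMonoidHom := ⟨(x : G), hx0P, by rw [hy]; rfl⟩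
  have hyA : y ∈ A := hPaA hyPa
  have hyp : y ^ p = 1 := by rw [hy, conj_pow, hxp]; group
  -- normal closures
  have hNx : Subgroup.normalClosure ({⟨(x : G), hx0A⟩} : Set ↥A) = ⊤ := by
    set Nx := Subgroup.normalClosure ({⟨(x : G), hx0A⟩} : Set ↥A) with hNxdef
    have hxN : (⟨(x : G), hx0A⟩ : ↥A) ∈ Nx := Subgroup.subset_normalClosure rfl
    have hPN : ∀ t (ht : t ∈ P), (⟨t, hPA ht⟩ : ↥A) ∈ Nx := by
      intro t ht
      obtain ⟨k, hk⟩ := Subgroup.mem_zpowers_iff.1 (hx ⟨t, ht⟩)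
      have : (⟨t, hPA ht⟩ : ↥A) = (⟨(x : G), hx0A⟩ : ↥A) ^ k := by
        apply Subtype.ext
        rw [Subgroup.coe_zpow]
        have := congrArg (Subtype.val : ↥P → G) hk
        rw [Subgroup.coe_zpow] at this
        exact this.symm
      rw [this]
      exact Nx.zpow_mem hxN k
    rw [eq_top_iff]
    have key : A ≤ Nx.map A.subtype := by
      conv_lhs => rw [hAeq]
      apply sup_le
      · intro t ht
        exact ⟨⟨t, hPA ht⟩, hPN t ht, rfl⟩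
      · rintro _ ⟨t, ht, rfl⟩
        refine ⟨⟨a, haA⟩ * ⟨t, hPA ht⟩ * ⟨a, haA⟩⁻¹, ?_, rfl⟩
        exact (Subgroup.normalClosure_normal).conj_mem _ (hPN t ht) _
    intro g _
    obtain ⟨g', hg', hgg⟩ := key g.2
    have : g' = g := Subtype.ext hgg
    rw [← this]; exact hg'
  have hNy : Subgroup.normalClosure ({⟨y, hyA⟩} : Set ↥A) = ⊤ := by
    have e : (⟨y, hyA⟩ : ↥A) = (⟨a, haA⟩ : ↥A) * ⟨(x : G), hx0A⟩ * (⟨a, haA⟩ : ↥A)⁻¹ := by
      apply Subtype.ext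
      simp only [Subgroup.coe_mul, Subgroup.coe_inv, hy]
    rw [e]
    exact normalClosure_conj_eq_top _ _ hNx
  -- the group `H = A U₀`
  set H : Subgroup G := A ⊔ U₀ with hH
  have hAH : A ≤ H := le_sup_left
  have hUH : U₀ ≤ H := le_sup_right
  have hHΦ : H ≤ Subgroup.normalizer (Φ : Set G) := sup_le hAΦ hUΦ
  have hHU : H ≤ Subgroup.normalizer (U₀ : Set G) := sup_le hAU₀ Subgroup.le_normalizer
  have hHsolv : Group.IsSolvable ↥H := solvable_sup A U₀ hAsolv hU hAU₀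
  -- step (1)
  have h1 : A ⊓ U₀ ≤ Φ := by
    have hAX : A ≤ Subgroup.normalizer (((A ⊓ U₀) ⊔ Φ : Subgroup G) : Set G) :=
      le_normalizer_sup (le_normalizer_inf Subgroup.le_normalizer hAU₀) hAΦ
    rcases hirr _ hAX le_sup_right (sup_le inf_le_right hΦU.le) with hX | hX
    · exact le_sup_left.trans hX.le
    · exfalso
      have hUA : U₀ ≤ A := by
        have := hnongen (A ⊓ U₀) inf_le_right hX
        exact inf_eq_right.mp this
      apply hnot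
      intro w hw
      apply hfix w hw
      intro f hf
      have hm : ⁅f, w⁆ ∈ R ⊓ U₀ := by
        constructor
        · have e : ⁅f, w⁆ = f * (w * f⁻¹ * w⁻¹) := by
            simp only [commutatorElement_def]; group
          rw [e]
          exact R.mul_mem hf (conj_mem_of_le_normalizer hAR (hUA hw) (R.inv_mem hf))
        · have e : ⁅f, w⁆ = (f * w * f⁻¹) * w⁻¹ := by
            simp only [commutatorElement_def]
          rw [e]
          exact U₀.mul_mem (conj_mem_of_le_normalizer hAU₀ (hRA hf) hw) (U₀.inv_mem hw)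
      have hdis := (IsPGroup.disjoint_of_ne r q (Ne.symm hqr) R U₀ hR hU).eq_bot
      rw [hdis, Subgroup.mem_bot] at hm
      rw [hm]
      exact Φ.one_mem
  -- step (2)
  have h2 : ∀ (g : G) (hg : g ∈ A), Subgroup.normalClosure ({⟨g, hg⟩} : Set ↥A) = ⊤ →
      ∃ w ∈ U₀, ⁅w, g⁆ ∉ Φ := by
    intro g hg hN
    by_contra hcon
    push Not at hcon
    have hall := comm_mem_of_normalClosure A U₀ Φ hAU₀ hAΦ g hg hN hcon
    apply hnot
    intro w hw
    apply hfix w hw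
    intro f hf
    have := hall f (hRA hf) w hw
    have e : ⁅f, w⁆ = ⁅w, f⁆⁻¹ := (commutatorElement_inv w f).symm
    rw [e]
    exact Φ.inv_mem this
  -- step (3)
  have h3 : ∀ w ∈ U₀, ∃ B : Subgroup G, B ≤ H ∧ B ⊓ U₀ ≤ Φ ∧ A ≤ B ⊔ U₀ ∧ (x : G) ∈ B ∧
      w * y * w⁻¹ ∈ B := by
    intro w hw
    set B : Subgroup G := P ⊔ P.map (MulAut.conj (w * a)).toMonoidHom with hB
    have hPB : P ≤ B := le_sup_left
    have hPwB : P.map (MulAut.conj (w * a)).toMonoidHom ≤ B := le_sup_right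
    have hBH : B ≤ H := by
      apply sup_le (hPA.trans hAH)
      rintro _ ⟨t, ht, rfl⟩
      have hwaH : w * a ∈ H := H.mul_mem (hUH hw) (hAH haA)
      exact H.mul_mem (H.mul_mem hwaH (hAH (hPA ht))) (H.inv_mem hwaH)
    have hzB : w * y * w⁻¹ ∈ B := by
      apply hPwB
      refine ⟨(x : G), hx0P, ?_⟩
      rw [hy]
      simp only [MulEquiv.coe_toMonoidHom, MulAut.conj_apply]
      group
    have hABU : A ≤ B ⊔ U₀ := by
      conv_lhs => rw [hAeq]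
      apply sup_le (hPB.trans le_sup_left)
      rintro _ ⟨t, ht, rfl⟩
      have e : (MulAut.conj a).toMonoidHom t = w⁻¹ * ((w * a) * t * (w * a)⁻¹) * w := by
        simp only [MulEquiv.coe_toMonoidHom, MulAut.conj_apply]
        group
      rw [e]
      have hwBU : w ∈ B ⊔ U₀ := (le_sup_right : U₀ ≤ B ⊔ U₀) hw
      have hmid : (w * a) * t * (w * a)⁻¹ ∈ B ⊔ U₀ :=
        (le_sup_left : B ≤ B ⊔ U₀) (hPwB ⟨t, ht, rfl⟩)
      exact mul_mem (mul_mem (inv_mem hwBU) hmid) hwBU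
    refine ⟨B, hBH, ?_, hABU, hPB hx0P, hzB⟩
    -- `B ⊓ U₀ ≤ Φ`
    have hXU : (B ⊓ U₀) ⊔ Φ ≤ U₀ := sup_le inf_le_right hΦU.le
    have hBX : B ≤ Subgroup.normalizer (((B ⊓ U₀) ⊔ Φ : Subgroup G) : Set G) :=
      le_normalizer_sup (le_normalizer_inf Subgroup.le_normalizer (hBH.trans hHU))
        (hBH.trans hHΦ)
    have hUX : U₀ ≤ Subgroup.normalizer (((B ⊓ U₀) ⊔ Φ : Subgroup G) : Set G) := by
      apply le_normalizer_of_conj
      intro u hu z hz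
      have e : u * z * u⁻¹ = ⁅u, z⁆ * z := by
        simp only [commutatorElement_def]; group
      rw [e]
      exact mul_mem ((le_sup_right : Φ ≤ (B ⊓ U₀) ⊔ Φ) (hab u hu z (hXU hz))) hz
    have hAX : A ≤ Subgroup.normalizer (((B ⊓ U₀) ⊔ Φ : Subgroup G) : Set G) :=
      hABU.trans (sup_le hBX hUX)
    rcases hirr _ hAX le_sup_right hXU with hX | hX
    · exact le_sup_left.trans hX.le
    · exfalso
      have hUB : U₀ ≤ B := by
        have := hnongen (B ⊓ U₀) inf_le_right hX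
        exact inf_eq_right.mp this
      have hAB : A ≤ B := hABU.trans (sup_le le_rfl hUB)
      have hBeq : B = H := le_antisymm hBH (sup_le hAB hUB)
      have hBsolv : Group.IsSolvable ↥B := by rw [hBeq]; exact hHsolv
      have hBA : B = A := hmax B hAB hBsolv ⟨w * a, B.mul_mem (hUB hw) (hAB haA), rfl⟩
      apply hnot
      have hUA : U₀ ≤ A := by rw [← hBA]; exact hUB
      exact (le_inf hUA le_rfl).trans h1
  -- the centralizers modulo `Φ`
  obtain ⟨Cx, hCx⟩ := exists_centMod U₀ Φ hUΦ (x : G)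
  obtain ⟨Cy, hCy⟩ := exists_centMod U₀ Φ hUΦ y
  have hsx := hsec (x : G) hx0A Cx hxp (fun _ => hNx) (h2 _ hx0A hNx) hCx
  have hsy := hsec y hyA Cy hyp (fun _ => hNy) (h2 _ hyA hNy) hCy
  -- steps (4), (5)
  have hcov : ∀ w ∈ U₀, ∃ c ∈ Cx, ∃ d ∈ Cy, w = c * d := by
    intro w hw
    obtain ⟨B, hBH, hBU, hABU, hxB, hzB⟩ := h3 w hw
    obtain ⟨u, hu, hux, huy⟩ := step45 hcc hqr A U₀ Φ R B hΦU.le hAU₀ hAΦ hUΦ hU hR hRA hAR hfix
      h1 hBH hBU hABU (x : G) y w hx0A hxB hyA hw hzB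
    refine ⟨u, (hCx u).2 ⟨hu, hux⟩, u⁻¹ * w, (hCy _).2 ⟨U₀.mul_mem (U₀.inv_mem hu) hw, huy⟩, ?_⟩
    group
  have hle := relIndex_le_mul Φ Cx Cy U₀ (fun w hw => ((hCy w).1 hw).1) hUΦ hcov
  nlinarith [hsx, hsy, hle, Nat.zero_le (Φ.relIndex Cx), Nat.zero_le (Φ.relIndex Cy)]

end Cfsg.Agent.Lib.Helper39.Flavell
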