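import Mathlib
import Cfsg.Agent.Lib.Helper1.FlavellComplConj
import Cfsg.Agent.Lib.Helper39.FlavellCoreLiftOf

set_option autoImplicit false

/-!
S3822 MODULE [CORELIFT] (board #3938): the exact statement, with [COMPLCONJ] of helper1 plugged in.
-/

namespace Cfsg.Agent.Lib.Helper39.Flavell

open scoped commutatorElement

theorem core_lift {G : Type*} [Group G] [Finite G] {p : ℕ} [Fact p.Prime] (hp : 3 < p)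
    (P : Subgroup G) (hP : Nat.card P = p) (A : Subgroup G)
    (hA : Group.IsSolvable ↥A ∧ ∃ a ∈ A, A = P ⊔ P.map (MulAut.conj a).toMonoidHom)
    (hmax : ∀ B : Subgroup G, A ≤ B → Group.IsSolvable ↥B →
      (∃ b ∈ B, B = P ⊔ P.map (MulAut.conj b).toMonoidHom) → B = A)
    {q r : ℕ} [Fact q.Prime] [Fact r.Prime] (hqr : q ≠ r) (R U₀ Φ : Subgroup G)
    (hU : IsPGroup q U₀) (hR : IsPGroup r R) (hRA : R ≤ A)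
    (hAR : A ≤ Subgroup.normalizer (R : Set G)) (hΦU : Φ < U₀)
    (hAU₀ : A ≤ Subgroup.normalizer (U₀ : Set G)) (hAΦ : A ≤ Subgroup.normalizer (Φ : Set G))
    (hUΦ : U₀ ≤ Subgroup.normalizer (Φ : Set G))
    (hab : ∀ w ∈ U₀, ∀ w' ∈ U₀, ⁅w, w'⁆ ∈ Φ) (hexp : ∀ w ∈ U₀, w ^ q ∈ Φ)
    (hnongen : ∀ X : Subgroup G, X ≤ U₀ → X ⊔ Φ = U₀ → X = U₀)
    (hirr : ∀ U₁ : Subgroup G, A ≤ Subgroup.normalizer (U₁ : Set G) → Φ ≤ U₁ → U₁ ≤ U₀ →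
      U₁ = Φ ∨ U₁ = U₀)
    (hfix : ∀ w ∈ U₀, (∀ f ∈ R, ⁅f, w⁆ ∈ Φ) → w ∈ Φ)
    (hsec : ∀ (y : G) (_ : y ∈ A) (Cy : Subgroup G), y ^ p = 1 →
      (∀ hy : y ∈ A, Subgroup.normalClosure ({⟨y, hy⟩} : Set ↥A) = ⊤) →
      (∃ w ∈ U₀, ⁅w, y⁆ ∉ Φ) → (∀ w, w ∈ Cy ↔ w ∈ U₀ ∧ ⁅w, y⁆ ∈ Φ) →
      (Φ.relIndex Cy) ^ 2 < Φ.relIndex U₀) : False := by
  have _ := hp
  have _ := hexp
  refine core_lift_of ?_ P hP A hA hmax hqr R U₀ Φ hU hR hRA hAR hΦU hAU₀ hAΦ hUΦ hab hnongen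
    hirr hfix hsec
  intro H _ _ q r _ _ hqr N A B R _ hN hAN hAN' hBN hBN' hR hRA hAR hfix
  exact Cfsg.Agent.Lib.Helper1.Flavell.compl_conj hqr N A B R hN hAN hAN' hBN hBN' hR hRA hAR hfix

end Cfsg.Agent.Lib.Helper39.Flavell
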