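import Cfsg.Agent.Lib.Helper39.GL2PS
import Cfsg.Agent.Lib.Helper41.SL2BorelMackey

set_option autoImplicit false
set_option linter.style.haveILetI false

namespace Cfsg.Agent.Lib.Helper39

open Matrix
open scoped ComplexConjugate

variable {F : Type*} [Field F]

/-- parametrisation of the Borel subgroup of `GL₂` -/
noncomputable def borelParam (p : Fˣ × Fˣ × F) : Cfsg.upperTriangularGL 2 F :=
  ⟨dT p.1 p.2.1 * uT p.2.2, mul_mem (dT_mem_borel _ _) (uT_mem_borel _)⟩

theorem borelParam_val00 (p : Fˣ × Fˣ × F) :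
    ((borelParam p : GL (Fin 2) F) : Matrix (Fin 2) (Fin 2) F) 0 0 = p.1 := by
  simp [borelParam, dT_val, uT_val, Matrix.mul_apply, Fin.sum_univ_two]

theorem borelParam_val01 (p : Fˣ × Fˣ × F) :
    ((borelParam p : GL (Fin 2) F) : Matrix (Fin 2) (Fin 2) F) 0 1 = p.1 * p.2.2 := by
  simp [borelParam, dT_val, uT_val, Matrix.mul_apply, Fin.sum_univ_two]

theorem borelParam_val10 (p : Fˣ × Fˣ × F) :
    ((borelParam p : GL (Fin 2) F) : Matrix (Fin 2) (Fin 2) F) 1 0 = 0 := by
  simp [borelParam, dT_val, uT_val, Matrix.mul_apply, Fin.sum_univ_two]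

theorem borelParam_val11 (p : Fˣ × Fˣ × F) :
    ((borelParam p : GL (Fin 2) F) : Matrix (Fin 2) (Fin 2) F) 1 1 = p.2.1 := by
  simp [borelParam, dT_val, uT_val, Matrix.mul_apply, Fin.sum_univ_two]

theorem borelParam_bijective : Function.Bijective (borelParam (F := F)) := by
  constructor
  · rintro ⟨s, t, x⟩ ⟨s', t', x'⟩ h
    have h00 := congrArg (fun b : Cfsg.upperTriangularGL 2 F =>
      ((b : GL (Fin 2) F) : Matrix (Fin 2) (Fin 2) F) 0 0) h
    have h01 := congrArg (fun b : Cfsg.upperTriangularGL 2 F =>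
      ((b : GL (Fin 2) F) : Matrix (Fin 2) (Fin 2) F) 0 1) h
    have h11 := congrArg (fun b : Cfsg.upperTriangularGL 2 F =>
      ((b : GL (Fin 2) F) : Matrix (Fin 2) (Fin 2) F) 1 1) h
    simp only [borelParam_val00, borelParam_val01, borelParam_val11] at h00 h01 h11
    have hs : s = s' := Units.ext h00
    have ht : t = t' := Units.ext h11
    subst hs ht
    have hx : x = x' := mul_left_cancel₀ s.ne_zero h01
    rw [hx]
  · intro b
    obtain ⟨s, t, x, -, -, hb⟩ := borel_decomp b.1 b.2
    exact ⟨(s, t, x), Subtype.ext hb.symm⟩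

theorem card_upperTriangularGL_two [Fintype F] :
    Nat.card (Cfsg.upperTriangularGL 2 F) = (Fintype.card F - 1) * ((Fintype.card F - 1) * Fintype.card F) := by
  classical
  rw [← Nat.card_congr (Equiv.ofBijective _ (borelParam_bijective (F := F))), Nat.card_prod,
    Nat.card_prod, Nat.card_eq_fintype_card, Nat.card_eq_fintype_card, Fintype.card_units]

end Cfsg.Agent.Lib.Helper39
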