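import Mathlib
import Cfsg.Agent.Lib.Helper39.IrrCount

set_option autoImplicit false

namespace Cfsg.Agent.Lib.Helper39

section irrcount3

variable {ι : Type*} [Fintype ι]

/-- variant of `irrCount_cusp` with only an upper bound for the number of linear characters -/
theorem irrCount_cusp_le (q : ℤ) (hq : 2 ≤ q) (d m b : ι → ℤ)
    (hd : ∀ i, d i = m i + (q - 1) * b i)
    (ht : ∀ i, (m i = 0 ∧ 1 ≤ b i) ∨ (m i = 1 ∧ b i = 0) ∨ (m i = 1 ∧ b i = 1) ∨
      (m i = 2 ∧ b i = 1))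
    (N : ℤ) (hlin : ∑ i, (if m i = 1 ∧ b i = 0 then (1 : ℤ) else 0) ≤ N)
    (hnum : -(q ^ 2 * (q - 1)) * (Fintype.card ι : ℤ) + (q + 1) * ∑ i, d i ^ 2
        - 2 * q * ∑ i, d i * m i + (q - 1) * ∑ i, (m i - b i) ^ 2 = -(q ^ 2 * (q - 1)) * N) :
    (∀ i, m i = 0 → b i = 1) ∧ ∑ i, (if m i = 1 ∧ b i = 0 then (1 : ℤ) else 0) = N := by
  have ht' : ∀ i, m i = 0 ∨ (m i = 1 ∧ b i = 0) ∨ (m i = 1 ∧ b i = 1) ∨ (m i = 2 ∧ b i = 1) := by
    intro i
    rcases ht i with h | h | h | h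
    · exact Or.inl h.1
    · exact Or.inr (Or.inl h)
    · exact Or.inr (Or.inr (Or.inl h))
    · exact Or.inr (Or.inr (Or.inr h))
  have key := irrCount_key q d m b hd ht'
  rw [hnum] at key
  have hsplit : ∀ i, (if m i = 0 then b i ^ 2 - 1 else if b i = 0 then -1 else 0) =
      (if m i = 0 then b i ^ 2 - 1 else 0) - (if m i = 1 ∧ b i = 0 then (1 : ℤ) else 0) := by
    intro i
    rcases ht i with ⟨h1, h2⟩ | ⟨h1, h2⟩ | ⟨h1, h2⟩ | ⟨h1, h2⟩
    · rw [if_pos h1, if_pos h1, if_neg (by rw [h1]; norm_num)]; ring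
    · rw [if_neg (by rw [h1]; norm_num), if_pos h2, if_neg (by rw [h1]; norm_num),
        if_pos ⟨h1, h2⟩]; ring
    · rw [if_neg (by rw [h1]; norm_num), if_neg (by rw [h2]; norm_num),
        if_neg (by rw [h1]; norm_num), if_neg (by rw [h2]; norm_num)]; ring
    · rw [if_neg (by rw [h1]; norm_num), if_neg (by rw [h2]; norm_num),
        if_neg (by rw [h1]; norm_num), if_neg (by rw [h2]; norm_num)]; ring
  rw [Finset.sum_congr rfl (fun i _ => hsplit i), Finset.sum_sub_distrib] at key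
  have hq0 : q ^ 2 * (q - 1) ≠ 0 := by
    apply mul_ne_zero
    · positivity
    · omega
  have hnonneg : ∀ i ∈ Finset.univ, 0 ≤ (if m i = 0 then b i ^ 2 - 1 else 0) := by
    intro i _
    rcases ht i with ⟨h1, h2⟩ | ⟨h1, h2⟩ | ⟨h1, h2⟩ | ⟨h1, h2⟩
    · rw [if_pos h1]; nlinarith
    · rw [if_neg (by rw [h1]; norm_num)]
    · rw [if_neg (by rw [h1]; norm_num)]
    · rw [if_neg (by rw [h1]; norm_num)]
  have hS0 : 0 ≤ ∑ i, (if m i = 0 then b i ^ 2 - 1 else 0) := Finset.sum_nonneg hnonneg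
  have hrel : (∑ i, (if m i = 0 then b i ^ 2 - 1 else 0)) -
      (∑ i, (if m i = 1 ∧ b i = 0 then (1 : ℤ) else 0)) = -N := by
    apply mul_left_cancel₀ hq0
    linear_combination key
  have hsum : ∑ i, (if m i = 0 then b i ^ 2 - 1 else 0) = 0 := by linarith
  refine ⟨?_, by linarith⟩
  have hall := (Finset.sum_eq_zero_iff_of_nonneg hnonneg).mp hsum
  intro i hi
  have h1 := hall i (Finset.mem_univ i)
  rw [if_pos hi] at h1
  rcases ht i with ⟨_, h2⟩ | ⟨h1', _⟩ | ⟨h1', _⟩ | ⟨h1', _⟩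
  · nlinarith
  · rw [hi] at h1'; norm_num at h1'
  · rw [hi] at h1'; norm_num at h1'
  · rw [hi] at h1'; norm_num at h1'

end irrcount3

end Cfsg.Agent.Lib.Helper39
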