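import Cfsg.Agent.Lib.Helper39.GL2PS
import Cfsg.Agent.Lib.Helper39.IrrCount2
import Cfsg.Agent.Lib.Helper39.IrrSums
import Cfsg.Agent.S2330
import Cfsg.Agent.S0133

set_option autoImplicit false
set_option linter.style.haveILetI false
set_option linter.unusedSectionVars false

/-!
# The irreducible characters of `GL₂(q)` by counting (helper39)
-/

namespace Cfsg.Agent.Lib.Helper39

open Matrix
open scoped ComplexConjugate

section gl2data

variable {F : Type*} [Field F] [Fintype F] [DecidableEq F]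

theorem indFun_lam_uT (lam : (Cfsg.upperTriangularGL 2 F) →* ℂˣ)
    (hU : ∀ x : F, lam ⟨uT x, uT_mem_borel x⟩ = 1) :
    Cfsg.indFun (Cfsg.upperTriangularGL 2 F) (fun b => ((lam b : ℂˣ) : ℂ)) (uT 1) = 1 := by
  rw [indFun_lam lam hU, Fintype.sum_option]
  have h4 : fOf lam (1 : F) 1 = 1 := by
    have := fOf_units lam 1 1
    simp only [Units.val_one] at this
    rw [this]
    have : (⟨dT 1 1, dT_mem_borel _ _⟩ : Cfsg.upperTriangularGL 2 F) = 1 := Subtype.ext dT_one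
    rw [this, map_one, Units.val_one]
  have e00 : ((uT (1 : F) : GL (Fin 2) F) : Matrix (Fin 2) (Fin 2) F) 0 0 = 1 := by simp [uT_val]
  have e01 : ((uT (1 : F) : GL (Fin 2) F) : Matrix (Fin 2) (Fin 2) F) 0 1 = 1 := by simp [uT_val]
  have e10 : ((uT (1 : F) : GL (Fin 2) F) : Matrix (Fin 2) (Fin 2) F) 1 0 = 0 := by simp [uT_val]
  have e11 : ((uT (1 : F) : GL (Fin 2) F) : Matrix (Fin 2) (Fin 2) F) 1 1 = 1 := by simp [uT_val]
  simp only [borelEntry_none, borelDiag0_none, borelDiag1_none, borelEntry_some, borelDiag0_some,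
    borelDiag1_some, e00, e01, e10, e11]
  rw [Finset.sum_eq_single (0 : F)]
  · simp [h4]
  · intro c _ hc
    rw [if_neg]
    simp [hc]
  · intro h; exact absurd (Finset.mem_univ _) h

/-- the numerical data of an irreducible character of `GL₂(q)` -/
theorem exists_data_GL (χ : Cfsg.IrrCharacter (GL (Fin 2) F)) :
    ∃ m b : ℕ, (χ : GL (Fin 2) F → ℂ) 1 = ((m + (Fintype.card F - 1) * b : ℕ) : ℂ) ∧
      ((χ : GL (Fin 2) F → ℂ) (uT 1) = (m : ℂ) - b) ∧
      (∑ x : F, (χ : GL (Fin 2) F → ℂ) (uT x) = (Fintype.card F : ℂ) * m) ∧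
      ((m = 0 ∧ 1 ≤ b) ∨ (m = 1 ∧ b = 0) ∨ (m = 1 ∧ b = 1) ∨ (m = 2 ∧ b = 1)) ∧
      (m = 1 → b = 0 → ∃ μ : GL (Fin 2) F →* ℂˣ,
        ((χ : GL (Fin 2) F → ℂ) = fun g => ((μ g : ℂˣ) : ℂ)) ∧
        ∀ g : GL (Fin 2) F, (g : Matrix (Fin 2) (Fin 2) F).det = 1 → μ g = 1) := by
  obtain ⟨χ, n, ρ, hirr, rfl⟩ := χ
  have hq : 2 ≤ Fintype.card F := Fintype.one_lt_card
  obtain ⟨b, hd, hc⟩ := exists_b ρ
  have hnt : 0 < Module.finrank ℂ (Fin n → ℂ) := by
    haveI := Cfsg.Agent.Lib.Helper78.nontrivial_of_isIrreducible ρ hirr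
    exact Module.finrank_pos
  refine ⟨fixU ρ, b, ?_, hc, sum_char_uT ρ, ?_, ?_⟩
  · change ρ.character 1 = _
    rw [Representation.char_one, hd, mul_comm]
  · by_cases h0 : fixU ρ = 0
    · left
      refine ⟨h0, ?_⟩
      rw [h0, zero_add] at hd
      by_contra hcon
      have : b = 0 := by omega
      rw [this, zero_mul] at hd
      omega
    · right
      obtain ⟨lam, m', R, hU, hm', hR, hdec, -⟩ := exists_ps ρ hirr h0
      obtain ⟨r, ρR, rfl⟩ := hR
      have hone := congrFun hdec 1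
      rw [indFun_lam_one lam hU] at hone
      simp only [Pi.add_apply, Pi.smul_apply, smul_eq_mul, Representation.char_one] at hone
      have hr : Module.finrank ℂ (Fin r → ℂ) = r := by simp
      rw [hr] at hone
      have hone' : (Fintype.card F : ℤ) + 1 = (m' : ℤ) * (Module.finrank ℂ (Fin n → ℂ) : ℤ) + r := by
        exact_mod_cast hone
      have hu := congrFun hdec (uT 1)
      rw [indFun_lam_uT lam hU] at hu
      simp only [Pi.add_apply, Pi.smul_apply, smul_eq_mul, hc] at hu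
      have hRu : ρR.character (uT 1) = (((1 : ℤ) - (m' : ℤ) * ((fixU ρ : ℤ) - b) : ℤ) : ℂ) := by
        push_cast
        linear_combination -hu
      have hbound := Cfsg.Agent.Lib.Helper80.rep_norm_char_le ρR (uT (1 : F))
      rw [hRu, hr] at hbound
      have hk : (((1 : ℤ) - (m' : ℤ) * ((fixU ρ : ℤ) - b) : ℤ) : ℝ) ≤ (r : ℝ) := by
        refine le_trans ?_ hbound
        rw [Complex.norm_intCast]
        exact le_abs_self _
      have hk' : (1 : ℤ) - (m' : ℤ) * ((fixU ρ : ℤ) - b) ≤ (r : ℤ) := by exact_mod_cast hk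
      have hdZ : (Module.finrank ℂ (Fin n → ℂ) : ℤ) = (fixU ρ : ℤ) + b * ((Fintype.card F : ℤ) - 1) := by
        rw [hd]; push_cast [Nat.cast_sub (by omega : 1 ≤ Fintype.card F)]; ring
      have hqZ : (2 : ℤ) ≤ (Fintype.card F : ℤ) := by exact_mod_cast hq
      have hmb : (m' : ℤ) * b * (Fintype.card F : ℤ) ≤ (Fintype.card F : ℤ) := by
        rw [hdZ] at hone'
        nlinarith
      have hm'Z : (1 : ℤ) ≤ (m' : ℤ) := by exact_mod_cast hm'
      have hfix1 : (1 : ℤ) ≤ (fixU ρ : ℤ) := by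
        have : 1 ≤ fixU ρ := by omega
        exact_mod_cast this
      rcases Nat.eq_zero_or_pos b with hb0 | hbpos
      · left
        subst hb0
        rw [zero_mul, add_zero] at hd
        have h1 := finrank_eq_one_of_fixU ρ hirr hd.symm
        exact ⟨by omega, rfl⟩
      · have hbZ : (1 : ℤ) ≤ (b : ℤ) := by exact_mod_cast hbpos
        have hmb1 : (m' : ℤ) * b ≤ 1 := by
          by_contra hcon
          push Not at hcon
          have : 2 * (Fintype.card F : ℤ) ≤ (m' : ℤ) * b * (Fintype.card F : ℤ) := by nlinarith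
          linarith
        have hm1 : (m' : ℤ) = 1 := by nlinarith
        have hb1 : (b : ℤ) = 1 := by nlinarith
        have hb1' : b = 1 := by exact_mod_cast hb1
        rw [hm1, hdZ, hb1] at hone'
        have hr0 : (0 : ℤ) ≤ (r : ℤ) := by positivity
        have hle2 : (fixU ρ : ℤ) ≤ 2 := by linarith
        have hle2' : fixU ρ ≤ 2 := by exact_mod_cast hle2
        right
        rcases Nat.lt_or_ge (fixU ρ) 2 with h | h
        · left; exact ⟨by omega, hb1'⟩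
        · right; exact ⟨by omega, hb1'⟩
  · intro hm hb0
    rw [hm, hb0, zero_mul, add_zero] at hd
    have hχ1 : ρ.character 1 = 1 := by
      rw [Representation.char_one, hd]; simp
    obtain ⟨μ, hμ⟩ := exists_hom_of_degree_one ⟨n, ρ, rfl⟩ hχ1
    refine ⟨μ, hμ, ?_⟩
    intro g hg
    have h1 := rho_eq_one_of_det ρ (by rw [hm, hd]) g hg
    apply Units.ext
    rw [Units.val_one, ← congrFun hμ g]
    change LinearMap.trace ℂ _ (ρ g) = 1
    rw [h1]
    change LinearMap.trace ℂ _ (LinearMap.id) = 1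
    rw [LinearMap.trace_id, hd]; simp

end gl2data

section gl2cent

variable {F : Type*} [Field F]

/-- elements of `GL₂` commuting with the standard transvection -/
theorem exists_of_commute_uT_one (g : GL (Fin 2) F) (h : uT (1 : F) * g = g * uT 1) :
    (g : Matrix (Fin 2) (Fin 2) F) 1 0 = 0 ∧
      (g : Matrix (Fin 2) (Fin 2) F) 1 1 = (g : Matrix (Fin 2) (Fin 2) F) 0 0 := by
  have h1 := congrArg (fun x : GL (Fin 2) F => (x : Matrix (Fin 2) (Fin 2) F)) h
  simp only [Matrix.GeneralLinearGroup.coe_mul, uT_val] at h1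
  have e00 := congrFun (congrFun h1 0) 0
  have e01 := congrFun (congrFun h1 0) 1
  simp [Matrix.mul_apply, Fin.sum_univ_two] at e00 e01
  exact ⟨e00, by linear_combination e01⟩

theorem card_centralizer_uT_one [Fintype F] [DecidableEq F] :
    Nat.card (Subgroup.centralizer ({uT (1 : F)} : Set (GL (Fin 2) F))) =
      (Fintype.card F - 1) * Fintype.card F := by
  have hcomm : ∀ (s : Fˣ) (x : F), dT s s * uT x ∈
      Subgroup.centralizer ({uT (1 : F)} : Set (GL (Fin 2) F)) := by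
    intro s x
    rw [Subgroup.mem_centralizer_iff]
    intro h hh
    rw [Set.mem_singleton_iff] at hh
    rw [hh, ← mul_assoc, ← dT_central s (uT 1), mul_assoc, mul_assoc, ← uT_add, ← uT_add, add_comm]
  let f : Fˣ × F → Subgroup.centralizer ({uT (1 : F)} : Set (GL (Fin 2) F)) :=
    fun p => ⟨dT p.1 p.1 * uT p.2, hcomm p.1 p.2⟩
  have hf : Function.Bijective f := by
    constructor
    · rintro ⟨s, x⟩ ⟨t, y⟩ hxy
      have h1 : dT s s * uT x = dT t t * uT y := congrArg Subtype.val hxy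
      have h00 := congrArg (fun g : GL (Fin 2) F => (g : Matrix (Fin 2) (Fin 2) F) 0 0) h1
      have h01 := congrArg (fun g : GL (Fin 2) F => (g : Matrix (Fin 2) (Fin 2) F) 0 1) h1
      simp [dT_val, uT_val, Matrix.mul_apply, Fin.sum_univ_two] at h00 h01
      have hst : s = t := Units.ext h00
      subst hst
      have hxy' : x = y := by
        exact mul_left_cancel₀ s.ne_zero h01
      rw [hxy']
    · rintro ⟨g, hg⟩
      rw [Subgroup.mem_centralizer_iff] at hg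
      obtain ⟨h10, h11⟩ := exists_of_commute_uT_one g (hg _ rfl)
      have hdet : (g : Matrix (Fin 2) (Fin 2) F).det ≠ 0 := by
        have := Matrix.GeneralLinearGroup.det_ne_zero g
        exact this
      rw [Matrix.det_fin_two, h10, h11, mul_zero, sub_zero] at hdet
      have h00 : (g : Matrix (Fin 2) (Fin 2) F) 0 0 ≠ 0 := by
        intro h0
        rw [h0, mul_zero] at hdet
        exact hdet rfl
      refine ⟨(Units.mk0 _ h00, (g : Matrix (Fin 2) (Fin 2) F) 0 1 / (g : Matrix (Fin 2) (Fin 2) F) 0 0), ?_⟩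
      apply Subtype.ext
      apply gl2_ext
      · simp [f, dT_val, uT_val, Matrix.mul_apply, Fin.sum_univ_two]
      · simp [f, dT_val, uT_val, Matrix.mul_apply, Fin.sum_univ_two]
        field_simp
      · simp [f, dT_val, uT_val, Matrix.mul_apply, Fin.sum_univ_two, h10]
      · simp [f, dT_val, uT_val, Matrix.mul_apply, Fin.sum_univ_two, h11]
  rw [← Nat.card_congr (Equiv.ofBijective f hf), Nat.card_prod, Nat.card_eq_fintype_card,
    Nat.card_eq_fintype_card, Fintype.card_units]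

end gl2cent

section gl2lin

variable {F : Type*} [Field F] [Fintype F] [DecidableEq F]

theorem natCard_subtype_eq_sum_ind {ι : Type*} [Fintype ι] (P : ι → Prop) [DecidablePred P] :
    (Nat.card {i : ι // P i} : ℤ) = ∑ i, (if P i then (1 : ℤ) else 0) := by
  rw [Nat.card_eq_fintype_card, Fintype.card_subtype, Finset.sum_boole]

theorem card_monoidHom_units_complex (A : Type*) [CommGroup A] [Finite A] :
    Finite (A →* ℂˣ) ∧ Nat.card (A →* ℂˣ) = Nat.card A := by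
  haveI : NeZero ((Monoid.exponent A : ℕ) : ℂ) :=
    ⟨by exact_mod_cast Monoid.exponent_ne_zero_of_finite⟩
  obtain ⟨e⟩ := CommGroup.monoidHom_mulEquiv_of_hasEnoughRootsOfUnity A ℂ
  exact ⟨Finite.of_equiv A e.symm.toEquiv, Nat.card_congr e.toEquiv⟩

/-- the number of linear characters of `GL₂(q)` trivial on `SL₂(q)` is at most `q - 1` -/
theorem sum_linear_le (m b : Cfsg.IrrCharacter (GL (Fin 2) F) → ℕ)
    (hlin : ∀ χ : Cfsg.IrrCharacter (GL (Fin 2) F), m χ = 1 → b χ = 0 →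
      ∃ μ : GL (Fin 2) F →* ℂˣ, ((χ : GL (Fin 2) F → ℂ) = fun g => ((μ g : ℂˣ) : ℂ)) ∧
        ∀ g : GL (Fin 2) F, (g : Matrix (Fin 2) (Fin 2) F).det = 1 → μ g = 1) :
    (∑ χ, (if m χ = 1 ∧ b χ = 0 then (1 : ℤ) else 0)) ≤ (Fintype.card F : ℤ) - 1 := by
  classical
  rw [← natCard_subtype_eq_sum_ind]
  obtain ⟨hfin, hcard⟩ := card_monoidHom_units_complex Fˣ
  have hchoose : ∀ χ : {χ : Cfsg.IrrCharacter (GL (Fin 2) F) // m χ = 1 ∧ b χ = 0},
      ∃ μ : GL (Fin 2) F →* ℂˣ, ((χ.1 : GL (Fin 2) F → ℂ) = fun g => ((μ g : ℂˣ) : ℂ)) ∧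
        ∀ g : GL (Fin 2) F, (g : Matrix (Fin 2) (Fin 2) F).det = 1 → μ g = 1 :=
    fun χ => hlin χ.1 χ.2.1 χ.2.2
  choose μ hμ hμ1 using hchoose
  let Φ : {χ : Cfsg.IrrCharacter (GL (Fin 2) F) // m χ = 1 ∧ b χ = 0} → (Fˣ →* ℂˣ) :=
    fun χ => (μ χ).comp (dHom.comp (MonoidHom.inl Fˣ Fˣ))
  have hΦ : Function.Injective Φ := by
    intro χ χ' h
    apply Subtype.ext
    apply Subtype.ext
    rw [hμ χ, hμ χ']
    funext g
    congr 1
    -- decompose `g = dT (det g) 1 * g₁`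
    set s : Fˣ := Matrix.GeneralLinearGroup.det g with hs
    have hg : g = dT s 1 * ((dT s 1)⁻¹ * g) := by group
    have hdet : (((dT s 1)⁻¹ * g : GL (Fin 2) F) : Matrix (Fin 2) (Fin 2) F).det = 1 := by
      rw [← Matrix.GeneralLinearGroup.val_det_apply, map_mul, map_inv]
      have h1 : Matrix.GeneralLinearGroup.det (dT s 1) = s := by
        apply Units.ext
        rw [Matrix.GeneralLinearGroup.val_det_apply, dT_val, Matrix.det_fin_two_of]
        simp
      rw [h1, ← hs, inv_mul_cancel, Units.val_one]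
    have e1 : μ χ g = Φ χ s := by
      have h3 := congrArg (μ χ) hg
      rw [map_mul, hμ1 χ _ hdet, mul_one] at h3
      exact h3
    have e2 : μ χ' g = Φ χ' s := by
      have h3 := congrArg (μ χ') hg
      rw [map_mul, hμ1 χ' _ hdet, mul_one] at h3
      exact h3
    rw [e1, e2, h]
  have h1 := Nat.card_le_card_of_injective Φ hΦ
  rw [hcard, Nat.card_units, Nat.card_eq_fintype_card (α := F)] at h1
  have hq : 1 ≤ Fintype.card F := Fintype.card_pos
  have h2 : ((Nat.card {χ : Cfsg.IrrCharacter (GL (Fin 2) F) // m χ = 1 ∧ b χ = 0} : ℕ) : ℤ) ≤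
      ((Fintype.card F - 1 : ℕ) : ℤ) := by exact_mod_cast h1
  rw [Nat.cast_sub hq] at h2
  simpa using h2

end gl2lin

section gl2main

variable {F : Type*} [Field F] [Fintype F] [DecidableEq F]

theorem uT_eq_one_iff (x : F) : uT x = 1 ↔ x = 0 := by
  constructor
  · intro h
    rw [← uT_zero] at h
    exact uT_injective h
  · rintro rfl
    exact uT_zero

/-- the sums over the irreducible characters of `GL₂(q)`, in terms of the data `(m, b)` -/
theorem gl2_sums (m a : Cfsg.IrrCharacter (GL (Fin 2) F) → ℕ)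
    (hd : ∀ χ : Cfsg.IrrCharacter (GL (Fin 2) F),
      (χ : GL (Fin 2) F → ℂ) 1 = ((m χ + (Fintype.card F - 1) * a χ : ℕ) : ℂ))
    (hsum : ∀ χ : Cfsg.IrrCharacter (GL (Fin 2) F),
      ∑ x : F, (χ : GL (Fin 2) F → ℂ) (uT x) = (Fintype.card F : ℂ) * m χ) :
    (∑ χ, ((m χ + (Fintype.card F - 1) * a χ : ℕ) : ℤ) ^ 2 =
      ((Fintype.card F : ℤ) ^ 2 - 1) * ((Fintype.card F : ℤ) ^ 2 - (Fintype.card F : ℤ))) ∧
    (∑ χ, ((m χ + (Fintype.card F - 1) * a χ : ℕ) : ℤ) * (m χ : ℤ) =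
      ((Fintype.card F : ℤ) ^ 2 - 1) * ((Fintype.card F : ℤ) - 1)) := by
  have hq : 2 ≤ Fintype.card F := Fintype.one_lt_card
  have hG : (Nat.card (GL (Fin 2) F) : ℂ) =
      ((Fintype.card F : ℂ) ^ 2 - 1) * ((Fintype.card F : ℂ) ^ 2 - (Fintype.card F : ℂ)) := by
    rw [card_GL2]
    have h1 : 1 ≤ Fintype.card F ^ 2 := Nat.one_le_pow _ _ (by omega)
    have h2 : Fintype.card F ≤ Fintype.card F ^ 2 := by nlinarith
    push_cast [Nat.cast_sub h1, Nat.cast_sub h2]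
    ring
  constructor
  · have h := sum_irr_deg_sq (G := GL (Fin 2) F)
    rw [hG] at h
    have h2 : ∀ χ : Cfsg.IrrCharacter (GL (Fin 2) F),
        (χ : GL (Fin 2) F → ℂ) 1 * conj ((χ : GL (Fin 2) F → ℂ) 1) =
        ((((m χ + (Fintype.card F - 1) * a χ : ℕ) : ℤ) ^ 2 : ℤ) : ℂ) := by
      intro χ
      rw [hd χ, Complex.conj_natCast]
      push_cast
      ring
    rw [Finset.sum_congr rfl (fun χ _ => h2 χ), ← Int.cast_sum] at h
    have h3 : ((∑ χ, ((m χ + (Fintype.card F - 1) * a χ : ℕ) : ℤ) ^ 2 : ℤ) : ℂ) =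
        ((((Fintype.card F : ℤ) ^ 2 - 1) * ((Fintype.card F : ℤ) ^ 2 - (Fintype.card F : ℤ)) : ℤ) : ℂ) := by
      rw [h]; push_cast; ring
    exact_mod_cast h3
  · have h : ∑ x : F, ∑ χ : Cfsg.IrrCharacter (GL (Fin 2) F),
        (χ : GL (Fin 2) F → ℂ) 1 * conj ((χ : GL (Fin 2) F → ℂ) (uT x)) =
        ((Fintype.card F : ℂ) ^ 2 - 1) * ((Fintype.card F : ℂ) ^ 2 - (Fintype.card F : ℂ)) := by
      rw [← Finset.add_sum_erase Finset.univ _ (Finset.mem_univ (0 : F)), uT_zero,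
        sum_irr_deg_sq, hG, Finset.sum_eq_zero, add_zero]
      intro x hx
      apply sum_irr_deg_mul_conj
      rw [Ne, uT_eq_one_iff]
      exact Finset.ne_of_mem_erase hx
    rw [Finset.sum_comm] at h
    have h2 : ∀ χ : Cfsg.IrrCharacter (GL (Fin 2) F),
        ∑ x : F, (χ : GL (Fin 2) F → ℂ) 1 * conj ((χ : GL (Fin 2) F → ℂ) (uT x)) =
        (Fintype.card F : ℂ) *
          ((((m χ + (Fintype.card F - 1) * a χ : ℕ) : ℤ) * (m χ : ℤ) : ℤ) : ℂ) := by
      intro χ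
      rw [← Finset.mul_sum, ← map_sum, hsum χ, hd χ, map_mul, Complex.conj_natCast,
        Complex.conj_natCast]
      push_cast
      ring
    rw [Finset.sum_congr rfl (fun χ _ => h2 χ), ← Finset.mul_sum, ← Int.cast_sum] at h
    have hq0 : (Fintype.card F : ℂ) ≠ 0 := by exact_mod_cast (by omega : Fintype.card F ≠ 0)
    have h3 : ((∑ χ, ((m χ + (Fintype.card F - 1) * a χ : ℕ) : ℤ) * (m χ : ℤ) : ℤ) : ℂ) =
        ((Fintype.card F : ℂ) ^ 2 - 1) * ((Fintype.card F : ℂ) - 1) := by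
      apply mul_left_cancel₀ hq0
      rw [h]; ring
    have h4 : ((∑ χ, ((m χ + (Fintype.card F - 1) * a χ : ℕ) : ℤ) * (m χ : ℤ) : ℤ) : ℂ) =
        ((((Fintype.card F : ℤ) ^ 2 - 1) * ((Fintype.card F : ℤ) - 1) : ℤ) : ℂ) := by
      rw [h3]; push_cast; ring
    exact_mod_cast h4

/-- **The irreducible characters of `GL₂(q)` by type** -/
theorem gl2_main :
    ∃ m a : Cfsg.IrrCharacter (GL (Fin 2) F) → ℕ,
      (∀ χ : Cfsg.IrrCharacter (GL (Fin 2) F), (χ : GL (Fin 2) F → ℂ) 1 =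
        ((m χ + (Fintype.card F - 1) * a χ : ℕ) : ℂ)) ∧
      (∀ χ, (m χ = 0 ∧ a χ = 1) ∨ (m χ = 1 ∧ a χ = 0) ∨ (m χ = 1 ∧ a χ = 1) ∨
        (m χ = 2 ∧ a χ = 1)) ∧
      (∑ χ, (if m χ = 1 ∧ a χ = 0 then (1 : ℤ) else 0)) = (Fintype.card F : ℤ) - 1 ∧
      (∑ χ, (if m χ = 1 ∧ a χ = 1 then (1 : ℤ) else 0)) = (Fintype.card F : ℤ) - 1 ∧
      2 * (∑ χ, (if m χ = 2 ∧ a χ = 1 then (1 : ℤ) else 0)) =
        ((Fintype.card F : ℤ) - 1) * ((Fintype.card F : ℤ) - 2) ∧
      2 * (∑ χ, (if m χ = 0 ∧ a χ = 1 then (1 : ℤ) else 0)) =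
        (Fintype.card F : ℤ) * ((Fintype.card F : ℤ) - 1) := by
  have hq : 2 ≤ Fintype.card F := Fintype.one_lt_card
  choose m a hd hval hsum ht hlin using exists_data_GL (F := F)
  obtain ⟨H2, H3⟩ := gl2_sums m a hd hsum
  have H4 : ∑ χ, ((m χ : ℤ) - (a χ : ℤ)) ^ 2 =
      ((Fintype.card F : ℤ) - 1) * (Fintype.card F : ℤ) := by
    have h := sum_irr_norm_sq (G := GL (Fin 2) F) (uT (1 : F))
    rw [card_centralizer_uT_one] at h
    have h2 : ∀ χ : Cfsg.IrrCharacter (GL (Fin 2) F),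
        (χ : GL (Fin 2) F → ℂ) (uT 1) * conj ((χ : GL (Fin 2) F → ℂ) (uT 1)) =
        ((((m χ : ℤ) - (a χ : ℤ)) ^ 2 : ℤ) : ℂ) := by
      intro χ
      rw [hval χ, map_sub, Complex.conj_natCast, Complex.conj_natCast]
      push_cast
      ring
    rw [Finset.sum_congr rfl (fun χ _ => h2 χ), ← Int.cast_sum] at h
    have h3 : ((∑ χ, ((m χ : ℤ) - (a χ : ℤ)) ^ 2 : ℤ) : ℂ) =
        ((((Fintype.card F : ℤ) - 1) * (Fintype.card F : ℤ) : ℤ) : ℂ) := by
      rw [h]; push_cast [Nat.cast_sub (by omega : 1 ≤ Fintype.card F)]; ring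
    exact_mod_cast h3
  have H1 : (Fintype.card (Cfsg.IrrCharacter (GL (Fin 2) F)) : ℤ) =
      (Fintype.card F : ℤ) ^ 2 - 1 := by
    have h := Cfsg.Agent.S0133.result (G := GL (Fin 2) F)
    rw [Cfsg.Agent.S2330.result, Nat.card_eq_fintype_card] at h
    rw [h]
    have h1 : 1 ≤ Fintype.card F ^ 2 := Nat.one_le_pow _ _ (by omega)
    push_cast [Nat.cast_sub h1]; ring
  have hcast : ∀ χ, (((m χ + (Fintype.card F - 1) * a χ : ℕ) : ℤ)) =
      (m χ : ℤ) + ((Fintype.card F : ℤ) - 1) * (a χ : ℤ) := by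
    intro χ
    push_cast [Nat.cast_sub (by omega : 1 ≤ Fintype.card F)]
    ring
  have htZ : ∀ χ, ((m χ : ℤ) = 0 ∧ 1 ≤ (a χ : ℤ)) ∨ ((m χ : ℤ) = 1 ∧ (a χ : ℤ) = 0) ∨
      ((m χ : ℤ) = 1 ∧ (a χ : ℤ) = 1) ∨ ((m χ : ℤ) = 2 ∧ (a χ : ℤ) = 1) := by
    intro χ
    rcases ht χ with ⟨h1, h2⟩ | ⟨h1, h2⟩ | ⟨h1, h2⟩ | ⟨h1, h2⟩
    · left; exact ⟨by exact_mod_cast h1, by exact_mod_cast h2⟩
    · right; left; exact ⟨by exact_mod_cast h1, by exact_mod_cast h2⟩
    · right; right; left; exact ⟨by exact_mod_cast h1, by exact_mod_cast h2⟩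
    · right; right; right; exact ⟨by exact_mod_cast h1, by exact_mod_cast h2⟩
  have hconv : ∀ (k l : ℕ), (∑ χ, if (m χ : ℤ) = (k : ℤ) ∧ (a χ : ℤ) = (l : ℤ) then (1 : ℤ) else 0) =
      ∑ χ, if m χ = k ∧ a χ = l then (1 : ℤ) else 0 := by
    intro k l
    apply Finset.sum_congr rfl
    intro χ _
    congr 1
    rw [eq_iff_iff]
    constructor
    · rintro ⟨h1, h2⟩; exact ⟨by exact_mod_cast h1, by exact_mod_cast h2⟩
    · rintro ⟨h1, h2⟩; exact ⟨by exact_mod_cast h1, by exact_mod_cast h2⟩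
  have c10 := hconv 1 0
  have c11 := hconv 1 1
  have c21 := hconv 2 1
  have c01 := hconv 0 1
  simp only [Nat.cast_one, Nat.cast_zero, Nat.cast_ofNat] at c10 c11 c21 c01
  have hle := sum_linear_le m a hlin
  rw [← c10] at hle
  obtain ⟨hcusp, hX'⟩ := irrCount_cusp_le (ι := Cfsg.IrrCharacter (GL (Fin 2) F))
    (Fintype.card F : ℤ) (by exact_mod_cast hq)
    (fun χ => ((m χ + (Fintype.card F - 1) * a χ : ℕ) : ℤ)) (fun χ => (m χ : ℤ))
    (fun χ => (a χ : ℤ)) hcast htZ ((Fintype.card F : ℤ) - 1) hle (by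
      rw [H1, H2, H3, H4]; ring)
  have hX : (∑ χ, (if m χ = 1 ∧ a χ = 0 then (1 : ℤ) else 0)) = (Fintype.card F : ℤ) - 1 := by
    rw [← c10]; exact hX'
  have ht' : ∀ χ, (m χ = 0 ∧ a χ = 1) ∨ (m χ = 1 ∧ a χ = 0) ∨ (m χ = 1 ∧ a χ = 1) ∨
      (m χ = 2 ∧ a χ = 1) := by
    intro χ
    rcases ht χ with ⟨h1, h2⟩ | h | h | h
    · left
      refine ⟨h1, ?_⟩
      have := hcusp χ (by exact_mod_cast h1)
      exact_mod_cast this
    · right; left; exact h
    · right; right; left; exact h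
    · right; right; right; exact h
  have htZ' : ∀ χ, ((m χ : ℤ) = 0 ∧ (a χ : ℤ) = 1) ∨ ((m χ : ℤ) = 1 ∧ (a χ : ℤ) = 0) ∨
      ((m χ : ℤ) = 1 ∧ (a χ : ℤ) = 1) ∨ ((m χ : ℤ) = 2 ∧ (a χ : ℤ) = 1) := by
    intro χ
    rcases ht' χ with ⟨h1, h2⟩ | ⟨h1, h2⟩ | ⟨h1, h2⟩ | ⟨h1, h2⟩
    · left; exact ⟨by exact_mod_cast h1, by exact_mod_cast h2⟩
    · right; left; exact ⟨by exact_mod_cast h1, by exact_mod_cast h2⟩
    · right; right; left; exact ⟨by exact_mod_cast h1, by exact_mod_cast h2⟩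
    · right; right; right; exact ⟨by exact_mod_cast h1, by exact_mod_cast h2⟩
  obtain ⟨C1, C3, C4⟩ := irrCount_counts
    (ι := Cfsg.IrrCharacter (GL (Fin 2) F)) (Fintype.card F : ℤ)
    (fun χ => ((m χ + (Fintype.card F - 1) * a χ : ℕ) : ℤ)) (fun χ => (m χ : ℤ))
    (fun χ => (a χ : ℤ)) hcast htZ'
  rw [c10, c11, c21, c01, H1] at C1
  rw [c10, c11, c21, H3] at C3
  rw [c10, c21, c01, H4] at C4
  rw [hX] at C1 C3 C4
  have hY : (∑ χ, (if m χ = 1 ∧ a χ = 1 then (1 : ℤ) else 0)) = (Fintype.card F : ℤ) - 1 := by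
    linear_combination C1 - C4
  rw [hY] at C3
  have hq1 : ((Fintype.card F : ℤ) + 1) ≠ 0 := by positivity
  have hZ : 2 * (∑ χ, (if m χ = 2 ∧ a χ = 1 then (1 : ℤ) else 0)) =
      ((Fintype.card F : ℤ) - 1) * ((Fintype.card F : ℤ) - 2) := by
    apply mul_left_cancel₀ hq1
    linear_combination C3
  refine ⟨m, a, hd, ht', hX, hY, hZ, ?_⟩
  linear_combination 2 * C4 - hZ

end gl2main

end Cfsg.Agent.Lib.Helper39
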