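import Cfsg.Agent.Lib.Helper39.GL2BorelParam
import Cfsg.Agent.Lib.Helper80.CharBasic
import Cfsg.Agent.Lib.Helper78.CharMore
import Cfsg.Agent.Lib.Helper75.Clifford
import Cfsg.Agent.S0148

set_option autoImplicit false
set_option linter.style.haveILetI false

/-!
# Irreducibility of the principal series of GL₂ (norm computation via Frobenius reciprocity)
-/

namespace Cfsg.Agent.Lib.Helper39

open Matrix
open scoped ComplexConjugate

variable {F : Type*} [Field F]

/-- the linear character `b ↦ α(b₁₁) β(b₂₂)` of the Borel subgroup of `GL₂`, as a homomorphism -/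
noncomputable def borelHomGL (α β : MulChar F ℂ) : Cfsg.upperTriangularGL 2 F →* ℂ where
  toFun b := α (((b : GL (Fin 2) F) : Matrix (Fin 2) (Fin 2) F) 0 0) *
    β (((b : GL (Fin 2) F) : Matrix (Fin 2) (Fin 2) F) 1 1)
  map_one' := by simp
  map_mul' b b' := by
    have h10 : ((b' : GL (Fin 2) F) : Matrix (Fin 2) (Fin 2) F) 1 0 = 0 :=
      (mem_upperTriangularGL_two _).mp b'.2
    have h10' : ((b : GL (Fin 2) F) : Matrix (Fin 2) (Fin 2) F) 1 0 = 0 :=
      (mem_upperTriangularGL_two _).mp b.2
    have e0 : (((b * b' : Cfsg.upperTriangularGL 2 F) : GL (Fin 2) F) : Matrix (Fin 2) (Fin 2) F) 0 0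
        = ((b : GL (Fin 2) F) : Matrix (Fin 2) (Fin 2) F) 0 0 *
          ((b' : GL (Fin 2) F) : Matrix (Fin 2) (Fin 2) F) 0 0 := by
      simp [Matrix.mul_apply, Fin.sum_univ_two, h10]
    have e1 : (((b * b' : Cfsg.upperTriangularGL 2 F) : GL (Fin 2) F) : Matrix (Fin 2) (Fin 2) F) 1 1
        = ((b : GL (Fin 2) F) : Matrix (Fin 2) (Fin 2) F) 1 1 *
          ((b' : GL (Fin 2) F) : Matrix (Fin 2) (Fin 2) F) 1 1 := by
      simp [Matrix.mul_apply, Fin.sum_univ_two, h10']
    rw [e0, e1, map_mul, map_mul]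
    ring

theorem isIrrCharacter_borelHomGL [Fintype F] [DecidableEq F] (α β : MulChar F ℂ) :
    Cfsg.IsIrrCharacter (Cfsg.upperTriangularGL 2 F)
      (fun b => α (((b : GL (Fin 2) F) : Matrix (Fin 2) (Fin 2) F) 0 0) *
        β (((b : GL (Fin 2) F) : Matrix (Fin 2) (Fin 2) F) 1 1)) := by
  have h := Cfsg.Agent.Lib.Helper80.isIrrCharacter_of_hom (borelHomGL α β).toHomUnits
  simpa [MonoidHom.coe_toHomUnits, borelHomGL] using h

theorem sum_indFun_borelParam [Fintype F] [DecidableEq F] (α β : MulChar F ℂ) (s t : Fˣ) :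
    ∑ x : F, Cfsg.indFun (Cfsg.upperTriangularGL 2 F)
      (fun b => α (((b : GL (Fin 2) F) : Matrix (Fin 2) (Fin 2) F) 0 0) *
        β (((b : GL (Fin 2) F) : Matrix (Fin 2) (Fin 2) F) 1 1)) (dT s t * uT x) =
    (Fintype.card F : ℂ) * (α s * β t + α t * β s) := by
  have h00 : ∀ x : F, ((dT s t * uT x : GL (Fin 2) F) : Matrix (Fin 2) (Fin 2) F) 0 0 = s := by
    intro x; simp [dT_val, uT_val, Matrix.mul_apply, Fin.sum_univ_two]
  have h01 : ∀ x : F, ((dT s t * uT x : GL (Fin 2) F) : Matrix (Fin 2) (Fin 2) F) 0 1 = s * x := by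
    intro x; simp [dT_val, uT_val, Matrix.mul_apply, Fin.sum_univ_two]
  have h10 : ∀ x : F, ((dT s t * uT x : GL (Fin 2) F) : Matrix (Fin 2) (Fin 2) F) 1 0 = 0 := by
    intro x; simp [dT_val, uT_val, Matrix.mul_apply, Fin.sum_univ_two]
  have h11 : ∀ x : F, ((dT s t * uT x : GL (Fin 2) F) : Matrix (Fin 2) (Fin 2) F) 1 1 = t := by
    intro x; simp [dT_val, uT_val, Matrix.mul_apply, Fin.sum_univ_two]
  simp only [indFun_borel (fun a b => α a * β b)]
  rw [Finset.sum_comm, Fintype.sum_option]
  simp only [borelEntry_none, borelEntry_some, borelDiag0_none, borelDiag0_some, borelDiag1_none,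
    borelDiag1_some, h00, h01, h10, h11]
  -- the point at infinity
  have hnone : ∑ x : F, (if (s : F) * x = 0 then α t * β s else 0) = α t * β s := by
    have : ∀ x : F, ((s : F) * x = 0) ↔ x = 0 := by
      intro x; simp [s.ne_zero]
    simp only [this]
    rw [Finset.sum_ite_eq' Finset.univ (0 : F)]
    simp
  -- the affine points
  have hsome : ∀ c : F, ∑ x : F, (if (0 : F) + ((t : F) - s) * c - s * x * c ^ 2 = 0 then
      α ((s : F) + s * x * c) * β ((t : F) - s * x * c) else 0) =
      if c = 0 then (Fintype.card F : ℂ) * (α s * β t) else α t * β s := by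
    intro c
    by_cases hc : c = 0
    · subst hc
      simp
    · rw [if_neg hc]
      have hiff : ∀ x : F, ((0 : F) + ((t : F) - s) * c - s * x * c ^ 2 = 0) ↔
          x = ((t : F) - s) / (s * c) := by
        intro x
        have hsc : (s : F) * c ≠ 0 := mul_ne_zero s.ne_zero hc
        rw [eq_div_iff hsc]
        constructor
        · intro h
          have : c * (x * (s * c)) = c * ((t : F) - s) := by linear_combination -h
          exact mul_left_cancel₀ hc this
        · intro h
          linear_combination (-c) * h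
      have hval : ∀ x : F, (if (0 : F) + ((t : F) - s) * c - s * x * c ^ 2 = 0 then
          α ((s : F) + s * x * c) * β ((t : F) - s * x * c) else 0) =
          if x = ((t : F) - s) / (s * c) then α t * β s else 0 := by
        intro x
        by_cases hx : x = ((t : F) - s) / (s * c)
        · rw [if_pos ((hiff x).mpr hx), if_pos hx]
          have hsc : (s : F) * c ≠ 0 := mul_ne_zero s.ne_zero hc
          have e : (s : F) * x * c = t - s := by
            rw [hx]; field_simp
          rw [e]
          congr 2 <;> ring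
        · rw [if_neg (fun h => hx ((hiff x).mp h)), if_neg hx]
      simp only [hval]
      rw [Finset.sum_ite_eq' Finset.univ]
      simp
  rw [hnone]
  simp only [hsome]
  rw [Finset.sum_ite, Finset.sum_const, Finset.sum_const]
  have hc1 : (Finset.univ.filter (fun c : F => c = 0)).card = 1 := by
    rw [Finset.filter_eq' Finset.univ (0 : F)]; simp
  have hc2 : (Finset.univ.filter (fun c : F => ¬ c = 0)).card = Fintype.card F - 1 := by
    rw [Finset.filter_ne' Finset.univ (0 : F)]; simp
  rw [hc1, hc2]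
  have hq : 1 ≤ Fintype.card F := Fintype.card_pos
  simp only [nsmul_eq_mul, Nat.cast_one, one_mul]
  rw [Nat.cast_sub hq]
  push_cast
  ring

/-- the norm of the principal series `Ind_B^G (α ⊗ β)` of `GL₂`. -/
theorem classInner_indFun_borelGL [Fintype F] [DecidableEq F] (α β : MulChar F ℂ)
    [Decidable (α = β)] :
    Cfsg.classInner
      (Cfsg.indFun (Cfsg.upperTriangularGL 2 F)
        (fun b => α (((b : GL (Fin 2) F) : Matrix (Fin 2) (Fin 2) F) 0 0) *
          β (((b : GL (Fin 2) F) : Matrix (Fin 2) (Fin 2) F) 1 1)))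
      (Cfsg.indFun (Cfsg.upperTriangularGL 2 F)
        (fun b => α (((b : GL (Fin 2) F) : Matrix (Fin 2) (Fin 2) F) 0 0) *
          β (((b : GL (Fin 2) F) : Matrix (Fin 2) (Fin 2) F) 1 1))) =
    if α = β then 2 else 1 := by
  classical
  rw [Cfsg.Agent.Lib.Helper75.frobenius_reciprocity _ _
    (Cfsg.Agent.Lib.Helper75.isClassFunction_indFun _ _)]
  unfold Cfsg.classInner
  rw [← (Equiv.ofBijective _ (borelParam_bijective (F := F))).sum_comp]
  rw [Fintype.sum_prod_type]
  simp only [Fintype.sum_prod_type, Equiv.ofBijective_apply, borelParam_val00, borelParam_val11]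
  have hcoe : ∀ (s t : Fˣ) (x : F), ((borelParam (s, t, x) : Cfsg.upperTriangularGL 2 F) :
      GL (Fin 2) F) = dT s t * uT x := fun _ _ _ => rfl
  simp only [hcoe]
  simp only [← Finset.mul_sum, ← map_sum, sum_indFun_borelParam]
  have key : ∀ s t : Fˣ, (α s * β t) * conj ((Fintype.card F : ℂ) * (α s * β t + α t * β s)) =
      (Fintype.card F : ℂ) * ((α s * conj (α s)) * (β t * conj (β t)) +
        (α s * conj (β s)) * (β t * conj (α t))) := by
    intro s t
    simp only [map_mul, map_add, Complex.conj_natCast]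
    ring
  simp only [key]
  have hsum : ∑ s : Fˣ, ∑ t : Fˣ, (Fintype.card F : ℂ) * ((α s * conj (α s)) * (β t * conj (β t)) +
        (α s * conj (β s)) * (β t * conj (α t))) =
      (Fintype.card F : ℂ) * ((∑ s : Fˣ, α s * conj (α s)) * (∑ t : Fˣ, β t * conj (β t)) +
        (∑ s : Fˣ, α s * conj (β s)) * (∑ t : Fˣ, β t * conj (α t))) := by
    rw [Finset.sum_mul_sum, Finset.sum_mul_sum, ← Finset.sum_add_distrib, Finset.mul_sum]
    refine Finset.sum_congr rfl (fun s _ => ?_)
    rw [← Finset.sum_add_distrib, Finset.mul_sum]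
  rw [hsum]
  rw [Cfsg.Agent.Lib.Helper41.sum_units_mul_conj α α, Cfsg.Agent.Lib.Helper41.sum_units_mul_conj β β,
    Cfsg.Agent.Lib.Helper41.sum_units_mul_conj α β, Cfsg.Agent.Lib.Helper41.sum_units_mul_conj β α,
    card_upperTriangularGL_two]
  simp only [if_true]
  have hq : 2 ≤ Fintype.card F := Fintype.one_lt_card
  have hq1 : ((Fintype.card F : ℂ) - 1) ≠ 0 := by
    have : (Fintype.card F : ℂ) ≠ 1 := by
      have : Fintype.card F ≠ 1 := by omega
      exact_mod_cast this
    exact sub_ne_zero.mpr this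
  have hq0 : (Fintype.card F : ℂ) ≠ 0 := by
    have : Fintype.card F ≠ 0 := by omega
    exact_mod_cast this
  have hcast : (((Fintype.card F - 1) * ((Fintype.card F - 1) * Fintype.card F) : ℕ) : ℂ) =
      ((Fintype.card F : ℂ) - 1) * (((Fintype.card F : ℂ) - 1) * (Fintype.card F : ℂ)) := by
    rw [Nat.cast_mul, Nat.cast_mul, Nat.cast_sub (by omega)]
    simp
  rw [hcast]
  by_cases h : α = β
  · have h' : β = α := h.symm
    rw [if_pos h, if_pos h', if_pos h]
    field_simp
    ring
  · have h' : ¬ β = α := fun h' => h h'.symm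
    rw [if_neg h, if_neg h', if_neg h]
    field_simp
    ring

end Cfsg.Agent.Lib.Helper39
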