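import Mathlib
import Cfsg.Agent.Lib.Helper76.GOut.QFDefs
import Cfsg.Agent.Lib.Helper76.GOut.PLDefs

/-!
# Project GOUT (S3066, helper76), block PL, module [PL-CLASS2] (helper39, hedge), in `_of` form:
the statements of [PL-COMM], [PL-NONAB], [PL-CENT] are hypotheses.
-/

set_option autoImplicit false
set_option linter.unusedSectionVars false

namespace Cfsg.Agent.Lib.Helper39.GOutPLClass2

open Cfsg.Agent.Lib.Helper76.GOut
open scoped commutatorElement

universe u v

variable {Q : Type u} {R : Type v} [Group Q] [Finite Q] [Group R] {α : R →* MulAut Q}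

/-- the centre is invariant under automorphisms -/
theorem aut_mem_center (φ : MulAut Q) {z : Q} (hz : z ∈ Subgroup.center Q) : φ z ∈ Subgroup.center Q := by
  rw [Subgroup.mem_center_iff] at hz ⊢
  intro g
  have h := hz (φ⁻¹ g)
  have h2 := congrArg φ h
  rw [map_mul, map_mul, MulAut.apply_inv_self] at h2
  exact h2

/-- the commutator subgroup is invariant under automorphisms -/
theorem aut_mem_commutator (φ : MulAut Q) {x : Q} (hx : x ∈ commutator Q) : φ x ∈ commutator Q := by
  rw [commutator_eq_closure] at hx ⊢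
  induction hx using Subgroup.closure_induction with
  | mem x hx =>
    obtain ⟨a, b, rfl⟩ := hx
    apply Subgroup.subset_closure
    exact ⟨φ a, φ b, (map_commutatorElement φ a b).symm⟩
  | one => rw [map_one]; exact Subgroup.one_mem _
  | mul x y _ _ hx hy => rw [map_mul]; exact Subgroup.mul_mem _ hx hy
  | inv x _ hx => rw [map_inv]; exact Subgroup.inv_mem _ hx

/-- a subgroup containing all commutators is normal -/
theorem normal_of_commutator_mem (M : Subgroup Q) (h : ∀ u v : Q, ⁅u, v⁆ ∈ M) : M.Normal := by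
  constructor
  intro m hm g
  have : g * m * g⁻¹ = ⁅g, m⁆ * m := by rw [commutatorElement_def]; group
  rw [this]
  exact M.mul_mem (h g m) hm

theorem center_ne_top (hnonab : ¬ ∀ u v : Q, u * v = v * u) : Subgroup.center Q ≠ ⊤ := by
  intro h
  apply hnonab
  intro u v
  have : v ∈ Subgroup.center Q := by rw [h]; trivial
  exact (Subgroup.mem_center_iff.mp this u)

theorem center_fixed_of (hnonab : ¬ ∀ u v : Q, u * v = v * u)
    (h : PLHyp α) (r : R) (z : Q) (hz : z ∈ Subgroup.center Q) :
    α r z = z :=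
  h.min (Subgroup.center Q) (center_ne_top hnonab) (fun r u hu => aut_mem_center (α r) hu) r z hz

theorem commutatorElement_mem_center_of (hnonab : ¬ ∀ u v : Q, u * v = v * u)
    (hcent : ∀ (M : Subgroup Q) [M.Normal], M ≠ ⊤ → (∀ r : R, ∀ u ∈ M, α r u ∈ M) → M ≤ Subgroup.center Q)
    (hQ : IsPGroup 2 Q) (h : PLHyp α) (u v : Q) :
    ⁅u, v⁆ ∈ Subgroup.center Q := by
  haveI : Fact (Nat.Prime 2) := ⟨Nat.prime_two⟩
  haveI : Group.IsNilpotent Q := hQ.isNilpotent
  haveI : Nontrivial Q := by
    by_contra hcon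
    rw [not_nontrivial_iff_subsingleton] at hcon
    exact hnonab (fun u v => Subsingleton.elim _ _)
  have hne : commutator Q ≠ ⊤ := (Group.IsSolvable.commutator_lt_top_of_nontrivial Q).ne
  have hle := hcent (commutator Q) hne (fun r u hu => aut_mem_commutator (α r) hu)
  apply hle
  rw [commutator_eq_closure]
  exact Subgroup.subset_closure ⟨u, v, rfl⟩

section sq

/-- in a finite group where commutators are central and the centre is proper, with `Q` a `2`-group,
`center ⊔ closure {squares}` is proper -/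
theorem center_sup_squares_ne_top (hnonab : ¬ ∀ u v : Q, u * v = v * u)
    (hcc : ∀ u v : Q, ⁅u, v⁆ ∈ Subgroup.center Q) (hQ : IsPGroup 2 Q) :
    Subgroup.center Q ⊔ Subgroup.closure {x : Q | ∃ u : Q, x = u ^ 2} ≠ ⊤ := by
  classical
  intro htop
  -- the quotient `Q / Z` is commutative
  have hcommq : ∀ a b : Q ⧸ Subgroup.center Q, a * b = b * a := by
    intro a b
    induction a using QuotientGroup.induction_on with
    | H x =>
      induction b using QuotientGroup.induction_on with
      | H y =>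
        rw [← QuotientGroup.mk_mul, ← QuotientGroup.mk_mul, QuotientGroup.eq]
        have : (x * y)⁻¹ * (y * x) = ⁅y⁻¹, x⁻¹⁆ := by rw [commutatorElement_def]; group
        rw [this]
        exact hcc _ _
  -- squaring is an endomorphism
  let sq : (Q ⧸ Subgroup.center Q) →* (Q ⧸ Subgroup.center Q) :=
    MonoidHom.mk' (fun x => x ^ 2) (by
      intro a b
      exact (Commute.mul_pow (hcommq a b) 2))
  have hsq : ∀ x, sq x = x ^ 2 := fun _ => rfl
  -- it is surjective
  have hsurj : Function.Surjective sq := by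
    rw [← MonoidHom.range_eq_top, eq_top_iff]
    have h1 : (Subgroup.center Q ⊔ Subgroup.closure {x : Q | ∃ u : Q, x = u ^ 2}).map
        (QuotientGroup.mk' (Subgroup.center Q)) ≤ sq.range := by
      rw [Subgroup.map_sup, sup_le_iff]
      constructor
      · rintro _ ⟨z, hz, rfl⟩
        have : QuotientGroup.mk' (Subgroup.center Q) z = 1 := (QuotientGroup.eq_one_iff z).mpr hz
        rw [this]
        exact Subgroup.one_mem _
      · rw [Subgroup.map_le_iff_le_comap, Subgroup.closure_le]
        rintro _ ⟨u, rfl⟩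
        exact ⟨QuotientGroup.mk' (Subgroup.center Q) u, by rw [hsq, ← map_pow]⟩
    rw [htop] at h1
    intro x _
    obtain ⟨y, rfl⟩ := QuotientGroup.mk'_surjective (Subgroup.center Q) x
    exact h1 ⟨y, trivial, rfl⟩
  have hinj : Function.Injective sq := Finite.injective_iff_surjective.mpr hsurj
  -- but `Q / Z` is a nontrivial 2-group
  haveI : Nontrivial (Q ⧸ Subgroup.center Q) := by
    by_contra hcon
    rw [not_nontrivial_iff_subsingleton] at hcon
    apply center_ne_top hnonab
    rw [eq_top_iff]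
    intro x _
    have : (QuotientGroup.mk' (Subgroup.center Q) x) = 1 := Subsingleton.elim _ _
    exact (QuotientGroup.eq_one_iff x).mp this
  have hQ' : IsPGroup 2 (Q ⧸ Subgroup.center Q) := hQ.to_quotient _
  obtain ⟨x, hx1⟩ := exists_ne (1 : Q ⧸ Subgroup.center Q)
  obtain ⟨k, hk⟩ := hQ' x
  -- minimal `k`
  have : ∀ k : ℕ, ∀ x : Q ⧸ Subgroup.center Q, x ^ 2 ^ k = 1 → x = 1 := by
    intro k
    induction k with
    | zero => intro x hx; simpa using hx
    | succ n ih =>
      intro x hx
      have h1 : (x ^ 2) ^ 2 ^ n = 1 := by rw [← pow_mul, ← pow_succ']; exact hx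
      have h2 := ih _ h1
      apply hinj
      rw [hsq, h2, map_one]
  exact hx1 (this k x hk)

end sq

theorem sq_mem_center_of (hnonab : ¬ ∀ u v : Q, u * v = v * u)
    (hcent : ∀ (M : Subgroup Q) [M.Normal], M ≠ ⊤ → (∀ r : R, ∀ u ∈ M, α r u ∈ M) → M ≤ Subgroup.center Q)
    (hQ : IsPGroup 2 Q) (h : PLHyp α) (u : Q) : u ^ 2 ∈ Subgroup.center Q := by
  have hcc := commutatorElement_mem_center_of hnonab hcent hQ h
  set M := Subgroup.center Q ⊔ Subgroup.closure {x : Q | ∃ u : Q, x = u ^ 2} with hM
  have hne : M ≠ ⊤ := center_sup_squares_ne_top hnonab hcc hQ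
  haveI : M.Normal := normal_of_commutator_mem M (fun u v => Subgroup.mem_sup_left (hcc u v))
  have hinv : ∀ r : R, ∀ u ∈ M, α r u ∈ M := by
    intro r x hx
    have : M.map (α r).toMonoidHom ≤ M := by
      rw [hM, Subgroup.map_sup, sup_le_iff]
      constructor
      · rintro _ ⟨z, hz, rfl⟩
        exact Subgroup.mem_sup_left (aut_mem_center (α r) hz)
      · rw [Subgroup.map_le_iff_le_comap, Subgroup.closure_le]
        rintro _ ⟨w, rfl⟩
        apply Subgroup.mem_sup_right
        apply Subgroup.subset_closure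
        exact ⟨α r w, by simp⟩
    exact this ⟨x, hx, rfl⟩
  apply hcent M hne hinv
  apply Subgroup.mem_sup_right
  exact Subgroup.subset_closure ⟨u, rfl⟩

theorem eq_center_or_top_of (hnonab : ¬ ∀ u v : Q, u * v = v * u)
    (hcent : ∀ (M : Subgroup Q) [M.Normal], M ≠ ⊤ → (∀ r : R, ∀ u ∈ M, α r u ∈ M) → M ≤ Subgroup.center Q)
    (hQ : IsPGroup 2 Q) (h : PLHyp α) (M : Subgroup Q)
    (hZM : Subgroup.center Q ≤ M) (hinv : ∀ r : R, ∀ u ∈ M, α r u ∈ M) :
    M = Subgroup.center Q ∨ M = ⊤ := by
  have hcc := commutatorElement_mem_center_of hnonab hcent hQ h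
  by_cases hM : M = ⊤
  · exact Or.inr hM
  · left
    haveI : M.Normal := normal_of_commutator_mem M (fun u v => hZM (hcc u v))
    exact le_antisymm (hcent M hM hinv) hZM

theorem exists_not_mem_center_of (hnonab : ¬ ∀ u v : Q, u * v = v * u)
    (hcomm : Subgroup.closure {x : Q | ∃ (r : R) (u : Q), x = u⁻¹ * α r u} = ⊤) :
    ∃ (r : R) (u : Q), u⁻¹ * α r u ∉ Subgroup.center Q := by
  by_contra hcon
  push_neg at hcon
  apply center_ne_top hnonab
  rw [eq_top_iff, ← hcomm, Subgroup.closure_le]
  rintro _ ⟨r, u, rfl⟩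
  exact hcon r u

/-- Anisotropy at the group level (immediate from `PLHyp.inv`). -/
theorem mem_center_of_sq_eq_sq (h : PLHyp α) (u z : Q) (hz : z ∈ Subgroup.center Q)
    (huz : u ^ 2 = z ^ 2) : u ∈ Subgroup.center Q := by
  have hzc : ∀ g : Q, g * z = z * g := Subgroup.mem_center_iff.mp hz
  have hzi : ∀ g : Q, g * z⁻¹ = z⁻¹ * g := Subgroup.mem_center_iff.mp (Subgroup.inv_mem _ hz)
  have h1 : (u * z⁻¹) ^ 2 = 1 := by
    rw [pow_two]
    calc u * z⁻¹ * (u * z⁻¹) = u * (z⁻¹ * u) * z⁻¹ := by group
      _ = u * (u * z⁻¹) * z⁻¹ := by rw [hzi u]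
      _ = (u * u) * (z * z)⁻¹ := by group
      _ = 1 := by rw [← pow_two, ← pow_two, huz, mul_inv_cancel]
  have h2 := (h.inv _ h1).1
  have : u = (u * z⁻¹) * z := by group
  rw [this]
  exact Subgroup.mul_mem _ h2 hz

end Cfsg.Agent.Lib.Helper39.GOutPLClass2
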