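import Mathlib
import Cfsg.Agent.Lib.Helper76.GOut.QFDefs
import Cfsg.Agent.Lib.Helper76.GOut.PLDefs
import Cfsg.Agent.Lib.Helper30.GOutPLComm
import Cfsg.Agent.Lib.Helper30.GOutPLNonab
import Cfsg.Agent.Lib.Helper39.GOutPLClass2

/-!
# Project GOUT (S3066, helper76), block PL: [PL-CENT] (own proof) and [PL-CLASS2], EXACT skeleton statements
(helper39, hedge; namespace `Cfsg.Agent.Lib.Helper76.GOut.H39`).
-/

set_option autoImplicit false
set_option linter.unusedSectionVars false

namespace Cfsg.Agent.Lib.Helper76.GOut.H39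

open Cfsg.Agent.Lib.Helper76.GOut Cfsg.Agent.Lib.Helper39.GOutPLClass2
open scoped commutatorElement

universe u v

variable {Q : Type u} {R : Type v} [Group Q] [Finite Q] [Group R] {α : R →* MulAut Q}

/-- **[PL-CENT]** proper invariant normal subgroups are central -/
theorem le_center_of_normal (h : PLHyp α) (M : Subgroup Q) [hMn : M.Normal] (hM : M ≠ ⊤)
    (hinv : ∀ r : R, ∀ u ∈ M, α r u ∈ M) : M ≤ Subgroup.center Q := by
  intro m hm
  have hfix := h.min M hM hinv
  -- the centralizer of `m` contains the generators `u⁻¹ α r u`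
  have hle : Subgroup.closure {x : Q | ∃ (r : R) (u : Q), x = u⁻¹ * α r u} ≤ Subgroup.centralizer {m} := by
    rw [Subgroup.closure_le]
    rintro _ ⟨r, u, rfl⟩
    rw [SetLike.mem_coe, Subgroup.mem_centralizer_iff]
    intro x hx
    rw [Set.mem_singleton_iff] at hx
    subst hx
    -- `α r (u x u⁻¹) = u x u⁻¹`
    have h1 : α r (u * x * u⁻¹) = u * x * u⁻¹ := hfix r _ (hMn.conj_mem x hm u)
    rw [map_mul, map_mul, hfix r x hm, map_inv] at h1
    -- `(α r u) x (α r u)⁻¹ = u x u⁻¹`
    calc x * (u⁻¹ * α r u) = u⁻¹ * (u * x * u⁻¹) * α r u := by group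
      _ = u⁻¹ * (α r u * x * (α r u)⁻¹) * α r u := by rw [h1]
      _ = u⁻¹ * α r u * x := by group
  rw [closure_comm_eq_top h] at hle
  rw [Subgroup.mem_center_iff]
  intro g
  have hg : g ∈ Subgroup.centralizer {m} := hle trivial
  exact (Subgroup.mem_centralizer_iff.mp hg m rfl).symm

/-! ## [PL-CLASS2] -/

theorem center_fixed (hQ : IsPGroup 2 Q) (h : PLHyp α) (r : R) (z : Q) (hz : z ∈ Subgroup.center Q) :
    α r z = z :=
  center_fixed_of (not_commutative hQ h) h r z hz

theorem commutatorElement_mem_center (hQ : IsPGroup 2 Q) (h : PLHyp α) (u v : Q) :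
    ⁅u, v⁆ ∈ Subgroup.center Q :=
  commutatorElement_mem_center_of (not_commutative hQ h)
    (fun M _ hM hinv => le_center_of_normal h M hM hinv) hQ h u v

theorem sq_mem_center (hQ : IsPGroup 2 Q) (h : PLHyp α) (u : Q) : u ^ 2 ∈ Subgroup.center Q :=
  sq_mem_center_of (not_commutative hQ h)
    (fun M _ hM hinv => le_center_of_normal h M hM hinv) hQ h u

theorem eq_center_or_top (hQ : IsPGroup 2 Q) (h : PLHyp α) (M : Subgroup Q)
    (hZM : Subgroup.center Q ≤ M) (hinv : ∀ r : R, ∀ u ∈ M, α r u ∈ M) :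
    M = Subgroup.center Q ∨ M = ⊤ :=
  eq_center_or_top_of (not_commutative hQ h)
    (fun M _ hM hinv => le_center_of_normal h M hM hinv) hQ h M hZM hinv

theorem exists_not_mem_center (hQ : IsPGroup 2 Q) (h : PLHyp α) :
    ∃ (r : R) (u : Q), u⁻¹ * α r u ∉ Subgroup.center Q :=
  exists_not_mem_center_of (not_commutative hQ h) (closure_comm_eq_top h)

/-- Anisotropy at the group level (immediate from `PLHyp.inv`). -/
theorem mem_center_of_sq_eq_sq (h : PLHyp α) (u z : Q) (hz : z ∈ Subgroup.center Q)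
    (huz : u ^ 2 = z ^ 2) : u ∈ Subgroup.center Q :=
  Cfsg.Agent.Lib.Helper39.GOutPLClass2.mem_center_of_sq_eq_sq h u z hz huz

end Cfsg.Agent.Lib.Helper76.GOut.H39
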