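/-
helper39 library: signed reversal matrix `Wmat` with `Wmat * Jmat = Lmat * Wmat` and determinant one.
-/
import Mathlib
import Cfsg.Agent.Lib.Helper39.JordanMat

set_option autoImplicit false
set_option linter.unusedSectionVars false

namespace Cfsg.Agent.Lib.Helper39.JordanMat

open Matrix

variable {R : Type*} [CommRing R] {n : ℕ}

/-- the signed reversal matrix -/
def Wmat (n : ℕ) (s : Fin n → R) : Matrix (Fin n) (Fin n) R :=
  Matrix.diagonal s * (Fin.revPerm : Equiv.Perm (Fin n)).permMatrix R

theorem Wmat_apply (s : Fin n → R) (i j : Fin n) :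
    Wmat n s i j = if i.rev = j then s i else 0 := by
  unfold Wmat
  rw [Matrix.diagonal_mul]
  show s i * (Fin.revPerm : Equiv.Perm (Fin n)).toPEquiv.toMatrix i j = _
  rw [PEquiv.toMatrix_apply]
  simp [Equiv.toPEquiv_apply, Fin.revPerm_apply, eq_comm]

theorem det_Wmat (s : Fin n → R) : (Wmat n s).det = (∏ i, s i) * ((Equiv.Perm.sign (Fin.revPerm : Equiv.Perm (Fin n)) : ℤ) : R) := by
  unfold Wmat
  rw [Matrix.det_mul, Matrix.det_diagonal, Matrix.det_permutation]

theorem Wmat_mul_Jmat (s μ : Fin n → R) (h : ∀ i j : Fin n, i.val = j.val + 1 → μ j * s j = s i) :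
    Wmat n s * Jmat n = Lmat n μ * Wmat n s := by
  ext i j
  rw [Matrix.mul_apply, Matrix.mul_apply]
  rw [Finset.sum_eq_single i.rev, Finset.sum_eq_single j.rev]
  · rw [Wmat_apply, if_pos rfl, Wmat_apply, if_pos (Fin.rev_rev j), Jmat_apply, Lmat_apply]
    by_cases h1 : i.rev = j
    · have : i = j.rev := by rw [← h1, Fin.rev_rev]
      rw [if_pos h1, if_pos this, this, mul_one, one_mul]
    · have h1' : ¬ i = j.rev := fun hh => h1 (by rw [hh, Fin.rev_rev])
      rw [if_neg h1, if_neg h1']
      by_cases h2 : j.val = i.rev.val + 1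
      · have h3 : i.val = j.rev.val + 1 := by
          rw [Fin.val_rev] at h2 ⊢
          have := i.isLt; have := j.isLt; omega
        rw [if_pos h2, if_pos h3, mul_one, h _ _ h3]
      · have h3 : ¬ i.val = j.rev.val + 1 := by
          rw [Fin.val_rev] at h2 ⊢
          have := i.isLt; have := j.isLt; omega
        rw [if_neg h2, if_neg h3, mul_zero, zero_mul]
  · intro b _ hb
    rw [Wmat_apply, if_neg, mul_zero]
    intro hh; apply hb; rw [← hh, Fin.rev_rev]
  · intro hh; exact absurd (Finset.mem_univ _) hh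
  · intro b _ hb
    rw [Wmat_apply, if_neg (fun hh => hb hh.symm), zero_mul]
  · intro hh; exact absurd (Finset.mem_univ _) hh

/-- the sign of the reversal, as an element of `R` -/
def revSign (R : Type*) [CommRing R] (n : ℕ) : R :=
  ((Equiv.Perm.sign (Fin.revPerm : Equiv.Perm (Fin n)) : ℤ) : R)

theorem revSign_mul_self (R : Type*) [CommRing R] (n : ℕ) : revSign R n * revSign R n = 1 := by
  unfold revSign
  rw [← Int.cast_mul, Int.units_coe_mul_self, Int.cast_one]

/-- the subdiagonal / sign vector: `revSign` in position `0`, ones elsewhere -/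
def sgnVec (R : Type*) [CommRing R] (n : ℕ) : Fin n → R := fun i => if i.val = 0 then revSign R n else 1

theorem sgnVec_ne_zero (R : Type*) [CommRing R] [Nontrivial R] (n : ℕ) (i : Fin n) : sgnVec R n i ≠ 0 := by
  unfold sgnVec
  split_ifs
  · intro h
    have := revSign_mul_self R n
    rw [h, zero_mul] at this
    exact zero_ne_one this
  · exact one_ne_zero

theorem sgnVec_rel (R : Type*) [CommRing R] (n : ℕ) (i j : Fin n) (h : i.val = j.val + 1) :
    sgnVec R n j * sgnVec R n j = sgnVec R n i := by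
  unfold sgnVec
  rw [if_neg (by omega : ¬ i.val = 0)]
  split_ifs
  · exact revSign_mul_self R n
  · exact one_mul 1

theorem det_Wmat_sgnVec (R : Type*) [CommRing R] (n : ℕ) (hn : 1 ≤ n) : (Wmat n (sgnVec R n)).det = 1 := by
  rw [det_Wmat]
  have : ∏ i, sgnVec R n i = revSign R n := by
    rw [Finset.prod_eq_single (⟨0, by omega⟩ : Fin n)]
    · simp [sgnVec]
    · intro b _ hb
      have : b.val ≠ 0 := fun h => hb (Fin.ext h)
      simp [sgnVec, this]
    · intro hh; exact absurd (Finset.mem_univ _) hh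
  rw [this]
  exact revSign_mul_self R n

theorem Wmat_sgnVec_mul_Jmat (R : Type*) [CommRing R] (n : ℕ) :
    Wmat n (sgnVec R n) * Jmat n = Lmat n (sgnVec R n) * Wmat n (sgnVec R n) :=
  Wmat_mul_Jmat _ _ (sgnVec_rel R n)

end Cfsg.Agent.Lib.Helper39.JordanMat
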