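import Cfsg.Agent.Lib.Helper99.KSL.Defs

/-!
# Project KSL (S2479, helper99), modules [NUM-2] [NUM-3] [NUM-4] [NUM-INEQ] (helper39)
-/

set_option autoImplicit false

namespace Cfsg.Agent.Lib.Helper99.KSL

open Polynomial Finset DirectSum
open Cfsg.Agent.Lib.Helper99.GLClass

theorem numH39_degSeq_two : degSeq 2 = {![2,0], ![0,1]} := by decide

theorem numH39_degSeq_three : degSeq 3 = {![3,0,0], ![1,1,0], ![0,0,1]} := by decide

set_option maxRecDepth 100000 in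
theorem numH39_degSeq_four :
    degSeq 4 = {![4,0,0,0], ![2,1,0,0], ![0,2,0,0], ![1,0,1,0], ![0,0,0,1]} := by decide +kernel

theorem numH39_Mq_succ (k d : ℕ) : Mq (k + 1) (d + 1) = k * (k + 1) ^ d := by
  rw [Mq_succ]
  apply Nat.sub_eq_of_eq_add
  ring

/-- [NUM-2] -/
theorem num_two (q : ℕ) (hq : 2 ≤ q) :
    ∑ d ∈ degSeq 2, w q d * gd q d ^ 2 = (q - 1) * (q + Nat.gcd (q - 1) 2 ^ 2) := by
  obtain ⟨k, rfl⟩ : ∃ k, q = k + 1 := ⟨q - 1, by omega⟩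
  rw [numH39_degSeq_two, sum_insert (by decide), sum_singleton]
  have h1 : dgcd ![2, 0] = 1 := by decide
  have h2 : dgcd ![0, 1] = 2 := by decide
  simp only [w, gd, h1, h2, Fin.prod_univ_succ, Fin.prod_univ_zero, Matrix.cons_val_zero,
    Matrix.cons_val_succ, Matrix.cons_val_fin_one, Mq_zero, numH39_Mq_succ, Nat.add_sub_cancel, Nat.gcd_one_right]
  ring

/-- [NUM-3] -/
theorem num_three (q : ℕ) (hq : 2 ≤ q) :
    ∑ d ∈ degSeq 3, w q d * gd q d ^ 2 = (q - 1) * (q ^ 2 + q - 1 + Nat.gcd (q - 1) 3 ^ 2) := by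
  obtain ⟨k, rfl⟩ : ∃ k, q = k + 1 := ⟨q - 1, by omega⟩
  rw [numH39_degSeq_three, sum_insert (by decide), sum_insert (by decide), sum_singleton]
  have h1 : dgcd ![3, 0, 0] = 1 := by decide
  have h2 : dgcd ![1, 1, 0] = 1 := by decide
  have h3 : dgcd ![0, 0, 1] = 3 := by decide
  have h4 : (k + 1) ^ 2 + (k + 1) - 1 = (k + 1) ^ 2 + k := by omega
  simp only [w, gd, h1, h2, h3, h4, Fin.prod_univ_succ, Fin.prod_univ_zero, Matrix.cons_val_zero,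
    Matrix.cons_val_succ, Matrix.cons_val_fin_one, Mq_zero, numH39_Mq_succ, Nat.add_sub_cancel, Nat.gcd_one_right]
  ring

/-- [NUM-4] -/
theorem num_four (q : ℕ) (hq : 2 ≤ q) :
    ∑ d ∈ degSeq 4, w q d * gd q d ^ 2 =
      (q - 1) * (q ^ 3 + q ^ 2 - 1 + q * Nat.gcd (q - 1) 2 ^ 2 + Nat.gcd (q - 1) 4 ^ 2) := by
  obtain ⟨k, rfl⟩ : ∃ k, q = k + 1 := ⟨q - 1, by omega⟩
  rw [numH39_degSeq_four, sum_insert (by decide), sum_insert (by decide), sum_insert (by decide),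
    sum_insert (by decide), sum_singleton]
  have h1 : dgcd ![4, 0, 0, 0] = 1 := by decide
  have h2 : dgcd ![2, 1, 0, 0] = 1 := by decide
  have h3 : dgcd ![0, 2, 0, 0] = 2 := by decide
  have h4 : dgcd ![1, 0, 1, 0] = 1 := by decide
  have h5 : dgcd ![0, 0, 0, 1] = 4 := by decide
  have h6 : (k + 1) ^ 3 + (k + 1) ^ 2 - 1 = (k + 1) ^ 3 + (k ^ 2 + 2 * k) := by
    have : (k + 1) ^ 2 = k ^ 2 + 2 * k + 1 := by ring
    omega
  simp only [w, gd, h1, h2, h3, h4, h5, h6, Fin.prod_univ_succ, Fin.prod_univ_zero, Matrix.cons_val_zero,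
    Matrix.cons_val_succ, Matrix.cons_val_fin_one, Mq_zero, numH39_Mq_succ, Nat.add_sub_cancel, Nat.gcd_one_right]
  ring

/-- [NUM-INEQ] -/
theorem num_ineq (q : ℕ) (hq : 2 ≤ q) :
    2 * (q + Nat.gcd (q - 1) 2 ^ 2) ≤ 5 * q ∧
    q ^ 2 + q - 1 + Nat.gcd (q - 1) 3 ^ 2 ≤ q ^ 2 + 3 * q ∧
    q ^ 3 + q ^ 2 - 1 + q * Nat.gcd (q - 1) 2 ^ 2 + Nat.gcd (q - 1) 4 ^ 2 ≤ q ^ 3 + 3 * q ^ 2 := by
  obtain ⟨k, rfl⟩ : ∃ k, q = k + 1 := ⟨q - 1, by omega⟩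
  rw [Nat.add_sub_cancel]
  have hk : 1 ≤ k := by omega
  -- the gcds
  have hg2 : Nat.gcd k 2 ∣ 2 := Nat.gcd_dvd_right _ _
  have hg3 : Nat.gcd k 3 ∣ 3 := Nat.gcd_dvd_right _ _
  have hg4 : Nat.gcd k 4 ∣ 4 := Nat.gcd_dvd_right _ _
  have hg2k : Nat.gcd k 2 ≤ k := Nat.le_of_dvd hk (Nat.gcd_dvd_left _ _)
  have hg3k : Nat.gcd k 3 ≤ k := Nat.le_of_dvd hk (Nat.gcd_dvd_left _ _)
  have hg4k : Nat.gcd k 4 ≤ k := Nat.le_of_dvd hk (Nat.gcd_dvd_left _ _)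
  have hg2le : Nat.gcd k 2 ≤ 2 := Nat.le_of_dvd (by norm_num) hg2
  have hg3le : Nat.gcd k 3 ≤ 3 := Nat.le_of_dvd (by norm_num) hg3
  have hg4le : Nat.gcd k 4 ≤ 4 := Nat.le_of_dvd (by norm_num) hg4
  generalize Nat.gcd k 2 = g2 at *
  generalize Nat.gcd k 3 = g3 at *
  generalize Nat.gcd k 4 = g4 at *
  have e1 : (k + 1) ^ 2 + (k + 1) - 1 = (k + 1) ^ 2 + k := by omega
  have e2 : (k + 1) ^ 3 + (k + 1) ^ 2 - 1 = (k + 1) ^ 3 + (k ^ 2 + 2 * k) := by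
    have : (k + 1) ^ 2 = k ^ 2 + 2 * k + 1 := by ring
    omega
  rw [e1, e2]
  refine ⟨?_, ?_, ?_⟩
  · interval_cases g2 <;> nlinarith
  · interval_cases g3
    · nlinarith
    · nlinarith
    · exfalso; revert hg3; decide
    · nlinarith
  · interval_cases g4
    · interval_cases g2 <;> nlinarith
    · interval_cases g2 <;> nlinarith
    · interval_cases g2 <;> nlinarith
    · exfalso; revert hg4; decide
    · interval_cases g2 <;> nlinarith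

end Cfsg.Agent.Lib.Helper99.KSL
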