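import Cfsg.Agent.Lib.Helper99.KSL.Defs
import Cfsg.Agent.Lib.Helper39.KslNum

/-!
# Project KSL (S2479, helper99), module [ASM] (helper39), `_of` form: hypotheses = the statements of
[K-LE] `card_SL_mul_le`, [NUM-LARGE] `num_large`, [LOWER] `card_SL_lower` (at the given `n`).
-/

set_option autoImplicit false

universe u

namespace Cfsg.Agent.Lib.Helper99.KSL

open Polynomial Finset DirectSum
open Cfsg.Agent.Lib.Helper99.GLClass

/-- the arithmetic of [ASM] -/
theorem asmH39_arith (q k n : ℕ) (hq : 2 ≤ q) (hn : 2 ≤ n)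
    (hK : (q - 1) * k ≤ ∑ d ∈ degSeq n, w q d * gd q d ^ 2)
    (hL : 5 ≤ n → ∑ d ∈ degSeq n, w q d * gd q d ^ 2 ≤ (q - 1) * (q ^ (n - 1) + 3 * q ^ (n - 2))) :
    2 * k ≤ 5 * q ^ (n - 1) ∧ (3 ≤ n → k ≤ q ^ (n - 1) + 3 * q ^ (n - 2)) := by
  have hq1 : 0 < q - 1 := by omega
  obtain ⟨i1, i2, i3⟩ := num_ineq q hq
  rcases Nat.lt_or_ge n 5 with hlt | hge
  · interval_cases n
    · -- n = 2
      rw [num_two q hq] at hK
      have hk := Nat.le_of_mul_le_mul_left hK hq1
      refine ⟨?_, fun h => absurd h (by norm_num)⟩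
      show 2 * k ≤ 5 * q ^ 1
      rw [pow_one]
      omega
    · -- n = 3
      rw [num_three q hq] at hK
      have hk := Nat.le_of_mul_le_mul_left hK hq1
      have hk2 : k ≤ q ^ 2 + 3 * q := le_trans hk i2
      refine ⟨?_, fun _ => ?_⟩
      · show 2 * k ≤ 5 * q ^ 2
        nlinarith
      · show k ≤ q ^ 2 + 3 * q ^ 1
        rw [pow_one]; exact hk2
    · -- n = 4
      rw [num_four q hq] at hK
      have hk := Nat.le_of_mul_le_mul_left hK hq1
      have hk2 : k ≤ q ^ 3 + 3 * q ^ 2 := le_trans hk i3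
      refine ⟨?_, fun _ => hk2⟩
      show 2 * k ≤ 5 * q ^ 3
      have : q ^ 3 = q * q ^ 2 := by ring
      nlinarith [Nat.zero_le (q ^ 2)]
  · have h1 := le_trans hK (hL hge)
    have hk := Nat.le_of_mul_le_mul_left h1 hq1
    refine ⟨?_, fun _ => hk⟩
    have hpow : q ^ (n - 1) = q * q ^ (n - 2) := by
      rw [← pow_succ']
      congr 1
      omega
    have hpos : 0 ≤ q ^ (n - 2) := Nat.zero_le _
    rw [hpow] at hk ⊢
    nlinarith

section field

variable {F : Type u} [Field F] [Fintype F]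

/-- [ASM], with [K-LE], [NUM-LARGE], [LOWER] as hypotheses. -/
theorem ksl_main_of (n : ℕ) (hn : 2 ≤ n)
    (hK : (Fintype.card F - 1) * Nat.card (ConjClasses (Matrix.SpecialLinearGroup (Fin n) F)) ≤
      ∑ d ∈ degSeq n, w (Fintype.card F) d * gd (Fintype.card F) d ^ 2)
    (hL : 5 ≤ n → ∑ d ∈ degSeq n, w (Fintype.card F) d * gd (Fintype.card F) d ^ 2 ≤
      (Fintype.card F - 1) * (Fintype.card F ^ (n - 1) + 3 * Fintype.card F ^ (n - 2)))
    (hLow : Fintype.card F ^ (n - 1) <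
      Nat.card (ConjClasses (Matrix.SpecialLinearGroup (Fin n) F))) :
    Fintype.card F ^ (n - 1) < Nat.card (ConjClasses (Matrix.SpecialLinearGroup (Fin n) F)) ∧
    2 * Nat.card (ConjClasses (Matrix.SpecialLinearGroup (Fin n) F)) ≤
      5 * Fintype.card F ^ (n - 1) ∧
    (3 ≤ n → Nat.card (ConjClasses (Matrix.SpecialLinearGroup (Fin n) F)) ≤
      Fintype.card F ^ (n - 1) + 3 * Fintype.card F ^ (n - 2)) := by
  have hq : 2 ≤ Fintype.card F := Fintype.one_lt_card
  obtain ⟨h1, h2⟩ := asmH39_arith (Fintype.card F) _ n hq hn hK hL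
  exact ⟨hLow, h1, h2⟩

end field

end Cfsg.Agent.Lib.Helper99.KSL
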