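import Cfsg.Agent.Lib.Helper99.KSL.Defs
import Cfsg.Agent.Lib.Helper99.GLClassCount

/-!
# Project KSL (S2479, helper99), module [LOWER] (helper39, hedge): `q^(n-1) < k(SL_n(q))`.
-/

set_option autoImplicit false

universe u

namespace Cfsg.Agent.Lib.Helper39.KslLower

open Polynomial Finset
open Cfsg.Agent.Lib.Helper99.GLClass Cfsg.Agent.Lib.Helper99.KSL

variable {F : Type u} [Field F]

/-- a non-identity matrix with prescribed monic characteristic polynomial of degree `≥ 2` -/
theorem exists_matrix_charpoly_ne_one (n : ℕ) (hn : 2 ≤ n) (f : F[X]) (hf : f.Monic) (hd : f.natDegree = n) :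
    ∃ A : Matrix (Fin n) (Fin n) F, A.charpoly = f ∧ A ≠ 1 := by
  classical
  let pb := AdjoinRoot.powerBasis' hf
  have hdim : pb.dim = n := by rw [AdjoinRoot.powerBasis'_dim, hd]
  refine ⟨Matrix.reindex (finCongr hdim) (finCongr hdim) (Algebra.leftMulMatrix pb.basis pb.gen), ?_, ?_⟩
  · rw [Matrix.charpoly_reindex, charpoly_leftMulMatrix, AdjoinRoot.powerBasis'_gen,
      AdjoinRoot.minpoly_root hf.ne_zero, hf.leadingCoeff]
    simp
  · intro h1
    have h2 : Algebra.leftMulMatrix pb.basis pb.gen = 1 := by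
      have := congrArg (Matrix.reindex (finCongr hdim) (finCongr hdim)).symm h1
      rw [Equiv.symm_apply_apply] at this
      rw [this]
      simp
    have h3 : pb.gen = 1 := by
      apply Algebra.leftMulMatrix_injective pb.basis
      rw [h2, map_one]
    rw [AdjoinRoot.powerBasis'_gen] at h3
    have h4 : AdjoinRoot.mk f (X - 1) = 0 := by
      rw [map_sub, AdjoinRoot.mk_X, h3, map_one, sub_self]
    rw [AdjoinRoot.mk_eq_zero] at h4
    have h5 : f.natDegree ≤ (X - 1 : F[X]).natDegree :=
      Polynomial.natDegree_le_of_dvd h4 (by rw [← Polynomial.C_1]; exact Polynomial.X_sub_C_ne_zero (1 : F))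
    have h6 : (X - 1 : F[X]).natDegree = 1 := by
      have := Polynomial.natDegree_X_sub_C (1 : F)
      simpa using this
    omega

variable [Fintype F]

/-- [LOWER] -/
theorem card_SL_lower (n : ℕ) (hn : 2 ≤ n) :
    Fintype.card F ^ (n - 1) <
      Nat.card (ConjClasses (Matrix.SpecialLinearGroup (Fin n) F)) := by
  classical
  obtain ⟨m, rfl⟩ : ∃ m, n = m + 1 := ⟨n - 1, by omega⟩
  rw [Nat.add_sub_cancel]
  -- the polynomials
  let fc : (Fin m → F) → F[X] := fun c => monicOf (m + 1) (Fin.cons ((-1) ^ (m + 1)) c)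
  have hfc_inj : Function.Injective fc := by
    intro c c' h
    have := monicOf_injective (m + 1) h
    exact (Fin.cons_injective2 this).2
  have hex : ∀ c : Fin m → F, ∃ g : Matrix.SpecialLinearGroup (Fin (m + 1)) F,
      (g : Matrix (Fin (m + 1)) (Fin (m + 1)) F).charpoly = fc c ∧ g ≠ 1 := by
    intro c
    obtain ⟨A, hA, hA1⟩ := exists_matrix_charpoly_ne_one (m + 1) hn (fc c) (monicOf_monic _ _)
      (monicOf_natDegree _ _)
    have hdet : A.det = 1 := by
      rw [Matrix.det_eq_sign_charpoly_coeff, hA]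
      have : (fc c).coeff 0 = (-1) ^ (m + 1) := by
        have := monicOf_coeff (m + 1) (Fin.cons ((-1 : F) ^ (m + 1)) c) 0
        simpa using this
      rw [this, Fintype.card_fin, ← mul_pow]
      simp
    refine ⟨⟨A, hdet⟩, hA, ?_⟩
    intro h
    exact hA1 (congrArg Subtype.val h)
  choose g hg hg1 using hex
  let φ : Option (Fin m → F) → ConjClasses (Matrix.SpecialLinearGroup (Fin (m + 1)) F) := fun o =>
    match o with
    | none => ConjClasses.mk 1
    | some c => ConjClasses.mk (g c)
  have hcp : ∀ a b : Matrix.SpecialLinearGroup (Fin (m + 1)) F, ConjClasses.mk a = ConjClasses.mk b →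
      (a : Matrix (Fin (m + 1)) (Fin (m + 1)) F).charpoly = (b : Matrix (Fin (m + 1)) (Fin (m + 1)) F).charpoly := by
    intro a b h
    rw [ConjClasses.mk_eq_mk_iff_isConj, isConj_iff] at h
    obtain ⟨x, hx⟩ := h
    rw [← hx]
    have h1 : ((x * a * x⁻¹ : Matrix.SpecialLinearGroup (Fin (m + 1)) F) : Matrix (Fin (m + 1)) (Fin (m + 1)) F)
        = (x : Matrix (Fin (m + 1)) (Fin (m + 1)) F) * a * ((x⁻¹ : Matrix.SpecialLinearGroup (Fin (m + 1)) F) :
          Matrix (Fin (m + 1)) (Fin (m + 1)) F) := by
      simp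
    rw [h1]
    have hxx' : ((x⁻¹ : Matrix.SpecialLinearGroup (Fin (m + 1)) F) :
          Matrix (Fin (m + 1)) (Fin (m + 1)) F) * (x : Matrix (Fin (m + 1)) (Fin (m + 1)) F) = 1 := by
      rw [← Matrix.SpecialLinearGroup.coe_mul, inv_mul_cancel, Matrix.SpecialLinearGroup.coe_one]
    rw [Matrix.charpoly_mul_comm, ← mul_assoc, hxx', one_mul]
  have hφ : Function.Injective φ := by
    intro o o' h
    cases o with
    | none =>
      cases o' with
      | none => rfl
      | some c' =>
        exfalso
        have h' : ConjClasses.mk (1 : Matrix.SpecialLinearGroup (Fin (m + 1)) F) = ConjClasses.mk (g c') := h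
        rw [ConjClasses.mk_eq_mk_iff_isConj, isConj_iff] at h'
        obtain ⟨x, hx⟩ := h'
        apply hg1 c'
        rw [← hx]
        simp
    | some c =>
      cases o' with
      | none =>
        exfalso
        have h' : ConjClasses.mk (g c) = ConjClasses.mk (1 : Matrix.SpecialLinearGroup (Fin (m + 1)) F) := h
        rw [eq_comm, ConjClasses.mk_eq_mk_iff_isConj, isConj_iff] at h'
        obtain ⟨x, hx⟩ := h'
        apply hg1 c
        rw [← hx]
        simp
      | some c' =>
        have h' : ConjClasses.mk (g c) = ConjClasses.mk (g c') := h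
        have := hcp _ _ h'
        rw [hg, hg] at this
        rw [hfc_inj this]
  have hcard := Nat.card_le_card_of_injective φ hφ
  rw [Nat.card_eq_fintype_card, Fintype.card_option, Fintype.card_fun, Fintype.card_fin] at hcard
  omega

end Cfsg.Agent.Lib.Helper39.KslLower
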