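import Mathlib

set_option autoImplicit false

/-!
S3806 MODULE [AVOID] (board #3414): fewer than `p` proper subgroups of a finite `p`-group do not
cover it.
-/

namespace Cfsg.Agent.Lib.Helper39.MaxClassReg

/-- [AVOID] -/
theorem exists_not_mem_of_few_proper {G : Type*} [Group G] [Finite G] {p : ℕ} [Fact p.Prime]
    (hG : IsPGroup p G) {ι : Type*} (s : Finset ι) (H : ι → Subgroup G) (hH : ∀ i ∈ s, H i ≠ ⊤)
    (hs : s.card < p) : ∃ g : G, ∀ i ∈ s, g ∉ H i := by
  classical
  have hp : p.Prime := Fact.out
  have := Fintype.ofFinite G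
  by_contra hcon
  push Not at hcon
  -- every element lies in some `H i`
  have hcover : (Finset.univ : Finset G) ⊆ s.biUnion (fun i => (Finset.univ.filter (fun g => g ∈ H i))) := by
    intro g _
    obtain ⟨i, hi, hgi⟩ := hcon g
    exact Finset.mem_biUnion.2 ⟨i, hi, by simp [hgi]⟩
  have hcard : ∀ i ∈ s, p * (Finset.univ.filter (fun g => g ∈ H i)).card ≤ Fintype.card G := by
    intro i hi
    have h1 : (Finset.univ.filter (fun g => g ∈ H i)).card = Nat.card (H i) := by
      rw [Nat.card_eq_fintype_card, Fintype.card_subtype]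
    rw [h1]
    have h2 := (H i).card_mul_index
    have hidx : p ≤ (H i).index := by
      obtain ⟨k, hk⟩ := hG.index (H i)
      rcases Nat.eq_zero_or_pos k with h0 | h0
      · exfalso
        rw [h0, pow_zero] at hk
        exact hH i hi (Subgroup.index_eq_one.1 hk)
      · rw [hk]
        calc p = p ^ 1 := (pow_one p).symm
          _ ≤ p ^ k := Nat.pow_le_pow_right hp.pos h0
    rw [← Nat.card_eq_fintype_card, ← h2, mul_comm]
    exact Nat.mul_le_mul_left _ hidx
  have h1 := Finset.card_le_card hcover
  have h2 := Finset.card_biUnion_le (s := s) (t := fun i => (Finset.univ.filter (fun g => g ∈ H i)))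
  rw [Finset.card_univ] at h1
  have h3 : p * ∑ i ∈ s, (Finset.univ.filter (fun g => g ∈ H i)).card ≤ s.card * Fintype.card G := by
    rw [Finset.mul_sum]
    calc ∑ i ∈ s, p * (Finset.univ.filter (fun g => g ∈ H i)).card
        ≤ ∑ i ∈ s, Fintype.card G := Finset.sum_le_sum hcard
      _ = s.card * Fintype.card G := by rw [Finset.sum_const, smul_eq_mul]
  have hpos : 0 < Fintype.card G := Fintype.card_pos
  have h4 : p * Fintype.card G ≤ s.card * Fintype.card G :=
    (Nat.mul_le_mul_left p (h1.trans h2)).trans h3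
  have h5 : p ≤ s.card := Nat.le_of_mul_le_mul_right h4 hpos
  omega

end Cfsg.Agent.Lib.Helper39.MaxClassReg
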