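import Mathlib
import Cfsg.Prelude.Def_PLocal
import Cfsg.Agent.Lib.Helper70.RegularP

set_option autoImplicit false

/-!
S3806 MODULES [REG-A], [REG-C] (board #3414): consequences of regularity.
-/

namespace Cfsg.Agent.Lib.Helper39.MaxClassReg

open Cfsg
open scoped commutatorElement

/-- [REG-A] first lemma -/
theorem reg_comm_pow {G : Type*} [Group G] [Finite G] {p : ℕ} [Fact p.Prime] (R : Subgroup G)
    (hR : IsRegularPGroup p ↥R) (y g : G) (hy : y ∈ R) (hgy : g * y * g⁻¹ ∈ R)
    (hc : g * y ^ p * g⁻¹ = y ^ p) : ⁅y, g⁆ ^ p = 1 := by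
  have h1 := (Cfsg.Agent.Lib.Helper70.regular_pow_eq_iff hR (⟨y, hy⟩ : R) ⟨g * y * g⁻¹, hgy⟩ 1).1
    (by
      apply Subtype.ext
      rw [pow_one]
      simp only [SubgroupClass.coe_pow]
      rw [conj_pow, hc])
  rw [pow_one] at h1
  have h2 := congrArg (Subtype.val : R → G) h1
  simp only [SubgroupClass.coe_pow, Subgroup.coe_mul, Subgroup.coe_inv, Subgroup.coe_one] at h2
  rw [commutatorElement_def]
  have e : y * g * y⁻¹ * g⁻¹ = y * (g * y * g⁻¹)⁻¹ := by group
  rw [e]
  exact h2

/-- [REG-A] second lemma -/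
theorem reg_closure_pow {G : Type*} [Group G] [Finite G] {p : ℕ} [Fact p.Prime] (R : Subgroup G)
    (hR : IsRegularPGroup p ↥R) (X : Set G) (hXR : X ⊆ R) (hX : ∀ x ∈ X, x ^ p = 1) :
    ∀ z ∈ Subgroup.closure X, z ^ p = 1 := by
  intro z hz
  have hle : Subgroup.closure X ≤ R := (Subgroup.closure_le R).2 hXR
  induction hz using Subgroup.closure_induction with
  | mem x hx => exact hX x hx
  | one => exact one_pow p
  | mul u v hu hv ihu ihv =>
    have huR : u ∈ R := hle hu
    have hvR : v ∈ R := hle hv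
    have h1 := (Cfsg.Agent.Lib.Helper70.regular_pow_eq_iff hR (⟨u, huR⟩ : R) (⟨v, hvR⟩⁻¹ : R) 1).1
      (by
        apply Subtype.ext
        rw [pow_one]
        simp only [SubgroupClass.coe_pow, Subgroup.coe_inv]
        rw [ihu, inv_pow, ihv, inv_one])
    rw [pow_one, inv_inv] at h1
    have h2 := congrArg (Subtype.val : R → G) h1
    simpa using h2
  | inv u hu ihu => rw [inv_pow, ihu, inv_one]

/-- [REG-C] -/
theorem reg_pow_mul {Q : Type*} [Group Q] [Finite Q] {p : ℕ} [Fact p.Prime]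
    (hQ : IsRegularPGroup p Q) (hc : ∀ y : Q, y ^ p ∈ Subgroup.center Q) (a b : Q) :
    (a * b) ^ p = a ^ p * b ^ p := by
  -- every commutator has `p`-th power one
  have hcomm : ∀ u v : Q, ⁅u, v⁆ ^ p = 1 := by
    intro u v
    have h1 := (Cfsg.Agent.Lib.Helper70.regular_pow_eq_iff hQ u (v * u * v⁻¹) 1).1
      (by
        rw [pow_one, conj_pow]
        have := Subgroup.mem_center_iff.1 (hc u) v
        rw [this, mul_inv_cancel_right])
    rw [pow_one] at h1
    rw [commutatorElement_def]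
    have e : u * v * u⁻¹ * v⁻¹ = u * (v * u * v⁻¹)⁻¹ := by group
    rw [e]; exact h1
  -- elements of `p`-th power one form a subgroup
  have hclos : ∀ z ∈ Subgroup.closure {z : Q | ∃ u v : Q, ⁅u, v⁆ = z}, z ^ p = 1 := by
    intro z hz
    induction hz using Subgroup.closure_induction with
    | mem x hx =>
      obtain ⟨u, v, rfl⟩ := hx
      exact hcomm u v
    | one => exact one_pow p
    | mul u v _ _ ihu ihv =>
      have h1 := (Cfsg.Agent.Lib.Helper70.regular_pow_eq_iff hQ u v⁻¹ 1).1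
        (by rw [pow_one, ihu, inv_pow, ihv, inv_one])
      rw [pow_one, inv_inv] at h1
      exact h1
    | inv u _ ihu => rw [inv_pow, ihu, inv_one]
  have hder : ∀ z ∈ commutator Q, z ^ p = 1 := by
    intro z hz
    rw [commutator_eq_closure] at hz
    apply hclos z
    convert hz using 2
    ext w
    simp [commutatorSet]
  have hbot : powerClosure p 1 ⁅Subgroup.closure ({a, b} : Set Q), Subgroup.closure ({a, b} : Set Q)⁆ = ⊥ := by
    apply Cfsg.Agent.Lib.Helper70.powerClosure_eq_bot
    intro x hx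
    rw [pow_one]
    apply hder
    exact Subgroup.commutator_mono le_top le_top hx
  obtain ⟨c, hcm, hcc⟩ := hQ.2 a b 1
  rw [hbot, Subgroup.mem_bot] at hcm
  rw [pow_one, hcm, mul_one] at hcc
  exact hcc

end Cfsg.Agent.Lib.Helper39.MaxClassReg
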