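import Mathlib
import Cfsg.Prelude.Def_PLocal
import Cfsg.Agent.S4209
import Cfsg.Agent.Lib.Helper70.HallPetrescu
import Cfsg.Agent.Lib.Helper73.MaxClassIndex

set_option autoImplicit false

/-!
S3806 MODULES [REG-B] (board #3414): two regularity criteria.
-/

namespace Cfsg.Agent.Lib.Helper39.MaxClassReg

open Cfsg
open scoped commutatorElement

/-- [REG-B] first lemma: a subgroup of order at most `p ^ p` of a `p`-group is regular. -/
theorem reg_of_card_le {G : Type*} [Group G] [Finite G] {p : ℕ} [Fact p.Prime]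
    (hG : IsPGroup p G) (R : Subgroup G) (hR : Nat.card R ≤ p ^ p) : IsRegularPGroup p ↥R := by
  have hp : p.Prime := Fact.out
  have hRp : IsPGroup p ↥R := hG.to_subgroup R
  obtain ⟨m, hm⟩ := hRp.exists_card_eq
  have hmp : m ≤ p := by
    rw [hm] at hR
    exact (Nat.pow_le_pow_iff_right hp.one_lt).mp hR
  have : Group.IsNilpotent ↥R := hRp.isNilpotent
  apply Cfsg.Agent.S4209.result hRp
  rw [Subgroup.lowerCentralSeries_eq_bot_iff_nilpotencyClass_le]
  have hp2 := hp.two_le
  rcases Nat.lt_or_ge m 2 with h2 | h2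
  · have h1 := Cfsg.Agent.Lib.Helper73.nilpotencyClass_le_one_of_comm
      (Cfsg.Agent.Lib.Helper73.comm_of_card_prime_pow_le_two (by omega : m ≤ 2) hm)
    omega
  · have h1 := Cfsg.Agent.Lib.Helper73.nilpotencyClass_le_of_card_prime_pow m ↥R hm h2
    omega

/-- the lower central series of `L_1` inside the lower central series of `G` -/
theorem lcs_one_lcs_le {G : Type*} [Group G] (j : ℕ) :
    ((⊤ : Subgroup G).lowerCentralSeries 1).lowerCentralSeries j ≤
      (⊤ : Subgroup G).lowerCentralSeries (2 * j + 1) := by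
  induction j with
  | zero => simp
  | succ j ih =>
    rw [Subgroup.lowerCentralSeries_succ]
    refine (Subgroup.commutator_mono ih le_rfl).trans ?_
    have := Cfsg.Agent.Lib.Helper70.lcs_comm_le (G := G) (2 * j + 1) 1
    have e : 2 * j + 1 + 1 + 1 = 2 * (j + 1) + 1 := by ring
    rw [e] at this
    exact this

/-- [REG-B] second lemma: if `L_(2p-1) = 1` then `L_1` is regular. -/
theorem reg_lcs_one {G : Type*} [Group G] [Finite G] {p : ℕ} [Fact p.Prime]
    (hG : IsPGroup p G) (h : (⊤ : Subgroup G).lowerCentralSeries (2 * p - 1) = ⊥) :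
    IsRegularPGroup p ↥((⊤ : Subgroup G).lowerCentralSeries 1) := by
  have hp : p.Prime := Fact.out
  have hp2 := hp.two_le
  set R := (⊤ : Subgroup G).lowerCentralSeries 1 with hRdef
  apply Cfsg.Agent.S4209.result (hG.to_subgroup R)
  have h1 : ((⊤ : Subgroup ↥R).lowerCentralSeries (p - 1)).map R.subtype ≤ ⊥ := by
    rw [Subgroup.top_subtype_lowerCentralSeries, ← h]
    have := lcs_one_lcs_le (G := G) (p - 1)
    have e : 2 * (p - 1) + 1 = 2 * p - 1 := by omega
    rw [e] at this
    exact this
  rw [le_bot_iff] at h1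
  exact (Subgroup.map_eq_bot_iff_of_injective _ R.subtype_injective).mp h1

end Cfsg.Agent.Lib.Helper39.MaxClassReg
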