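import Mathlib
import Cfsg.Prelude
import Cfsg.Agent.Lib.Helper77.BlockTransport
import Cfsg.Agent.Lib.Helper78.CharOrtho
import Cfsg.Agent.Lib.Helper78.CharMore
import Cfsg.Agent.Lib.Helper79.Integrality
import Cfsg.Agent.Lib.Helper75.Ito
import Cfsg.Agent.Lib.Helper77.Linear
import Cfsg.Agent.Lib.Helper41.InvertCount
import Cfsg.Agent.Lib.Helper39.DegType

set_option autoImplicit false

/-!
# Counting irreducible characters of `ℓ'`-degree: general lemmas (helper39)
-/

namespace Cfsg.Agent.Lib.Helper39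

open Cfsg

/-- the number of irreducible characters of `ℓ'`-degree is an isomorphism invariant -/
theorem mckay_count_congr {K H : Type*} [Group K] [Group H] (φ : K ≃* H) (ℓ : ℕ) :
    Nat.card {χ : IrrCharacter K // ¬ ℓ ∣ charDegree (χ : K → ℂ)} =
      Nat.card {χ : IrrCharacter H // ¬ ℓ ∣ charDegree (χ : H → ℂ)} := by
  apply Nat.card_congr
  refine Equiv.subtypeEquiv
    { toFun := Cfsg.Agent.Lib.Helper77.irrTransport φ.symm
      invFun := Cfsg.Agent.Lib.Helper77.irrTransport φ
      left_inv := Cfsg.Agent.Lib.Helper77.irrTransport_irrTransport_symm φ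
      right_inv := Cfsg.Agent.Lib.Helper77.irrTransport_symm_irrTransport φ } ?_
  intro χ
  have : charDegree (Cfsg.Agent.Lib.Helper77.irrTransport φ.symm χ : H → ℂ) =
      charDegree (χ : K → ℂ) := by
    unfold charDegree
    rw [Cfsg.Agent.Lib.Helper77.irrTransport_apply, map_one]
  show ¬ ℓ ∣ charDegree (χ : K → ℂ) ↔
    ¬ ℓ ∣ charDegree (Cfsg.Agent.Lib.Helper77.irrTransport φ.symm χ : H → ℂ)
  rw [this]

/-- if an abelian normal subgroup has `ℓ'`-index, all irreducible characters have `ℓ'`-degree -/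
theorem mckay_count_of_abelian_normal {N : Type*} [Group N] [Finite N] (A : Subgroup N)
    [A.Normal] (hA : ∀ a ∈ A, ∀ b ∈ A, a * b = b * a) (ℓ : ℕ) (hidx : ¬ ℓ ∣ A.index) :
    Nat.card {χ : IrrCharacter N // ¬ ℓ ∣ charDegree (χ : N → ℂ)} =
      Nat.card (ConjClasses N) := by
  have := Fintype.ofFinite N
  rw [← Cfsg.Agent.Lib.Helper78.card_irrCharacter]
  apply Nat.card_congr
  apply Equiv.subtypeUnivEquiv
  intro χ hdvd
  exact hidx (hdvd.trans (Cfsg.Agent.Lib.Helper75.ito A hA χ.1 χ.2))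

end Cfsg.Agent.Lib.Helper39
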