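import Cfsg.Agent.Lib.Helper39.McKayTwo
import Cfsg.Agent.Lib.Helper41.DicyclicSylow
import Cfsg.Agent.Lib.Helper41.DicyclicSylow2

set_option autoImplicit false

/-!
# The McKay count at the prime `2` for a group with a dicyclic torus normaliser (helper39)
-/

namespace Cfsg.Agent.Lib.Helper39

open Cfsg Cfsg.Agent.Lib.Helper41
open scoped Pointwise commutatorElement

variable {G : Type*} [Group G] [Finite G] {A : Subgroup G} {z : G}

/-- the good Sylow subgroup has four irreducible characters of odd degree -/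
theorem mckay_two_goodSylow (h : DicyclicTorus A z) {S₁ : Sylow 2 G} (hS : DicyclicTorus.GoodSylow A S₁) :
    Nat.card {χ : IrrCharacter (S₁ : Subgroup G) //
      ¬ 2 ∣ charDegree (χ : ↥(S₁ : Subgroup G) → ℂ)} = 4 := by
  obtain ⟨w, hwS, hwA⟩ := h.exists_mem_sylow_not_mem S₁
  have hzS : z ∈ (S₁ : Subgroup G) := hS.mem z h.z_mem ⟨1, by rw [pow_one, pow_two]; exact h.z_mul_self⟩
  apply mckay_two_of_inverting (A.subgroupOf (S₁ : Subgroup G))
  · rw [Subgroup.index_eq_two_iff]
    refine ⟨⟨w, hwS⟩, ?_⟩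
    rintro ⟨b, hb⟩
    simp only [Subgroup.mem_subgroupOf, Subgroup.coe_mul]
    have := h.mul_mem_iff (hS.le hb) (hS.le hwS)
    by_cases hbA : b ∈ A
    · right
      exact ⟨hbA, fun h' => hwA ((this.mp h').mp hbA)⟩
    · left
      exact ⟨this.mpr ⟨fun h' => absurd h' hbA, fun h' => absurd h' hwA⟩, hbA⟩
  · rintro ⟨a, ha⟩ haA ⟨b, hb⟩ hbA
    rw [Subgroup.mem_subgroupOf] at haA hbA
    apply Subtype.ext
    exact h.comm a haA b hbA
  · rintro ⟨g, hg⟩ hgA ⟨t, ht⟩ htA
    rw [Subgroup.mem_subgroupOf] at hgA htA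
    apply Subtype.ext
    simp only [Subgroup.coe_mul, Subgroup.coe_inv]
    exact h.inv g (hS.le hg) hgA t htA
  · rw [Nat.card_eq_two_iff]
    refine ⟨⟨1, Subgroup.one_mem _, mul_one 1⟩,
      ⟨⟨z, hzS⟩, by rw [Subgroup.mem_subgroupOf]; exact h.z_mem,
        Subtype.ext h.z_mul_self⟩, ?_, ?_⟩
    · intro h'
      have h1 := congrArg (fun t : {t : (S₁ : Subgroup G) //
        t ∈ A.subgroupOf (S₁ : Subgroup G) ∧ t * t = 1} => ((t : (S₁ : Subgroup G)) : G)) h'
      exact h.z_ne_one h1.symm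
    · rw [Set.eq_univ_iff_forall]
      rintro ⟨⟨t, ht⟩, htA, htt⟩
      have h1 : t * t = 1 := congrArg Subtype.val htt
      simp only [Set.mem_insert_iff, Set.mem_singleton_iff, Subtype.mk.injEq]
      rcases h.invol t h1 with rfl | rfl
      · left; rfl
      · right; trivial

/-- the normaliser of the good Sylow subgroup in the quaternion case -/
theorem mckay_two_normalizer_goodSylow (h : DicyclicTorus A z) {S₁ : Sylow 2 G}
    (hS : DicyclicTorus.GoodSylow A S₁) (h8 : ¬ 8 ∣ Nat.card A) :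
    Nat.card {χ : IrrCharacter (Subgroup.normalizer ((S₁ : Subgroup G) : Set G)) //
      ¬ 2 ∣ charDegree (χ : ↥(Subgroup.normalizer ((S₁ : Subgroup G) : Set G)) → ℂ)} = 4 := by
  set M := Subgroup.normalizer ((S₁ : Subgroup G) : Set G) with hM
  have hcardS := h.card_sylow_of_not_eight_dvd S₁ h8
  have hcardM : Nat.card M = 24 := by
    rw [h.card_normalizer_goodSylow hS h8, hcardS]
  have hSM : (S₁ : Subgroup G) ≤ M := Subgroup.le_normalizer
  obtain ⟨w, hwS, hwA⟩ := h.exists_mem_sylow_not_mem S₁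
  obtain ⟨i, hiA, hii, hiS, -, -⟩ := h.exists_sq_eq_mem hS
  have hzS : z ∈ (S₁ : Subgroup G) :=
    hS.mem z h.z_mem ⟨1, by rw [pow_one, pow_two]; exact h.z_mul_self⟩
  have hnorm : ((S₁ : Subgroup G).subgroupOf M).Normal := by
    rw [hM]
    exact Subgroup.normal_in_normalizer
  have hP : IsPGroup 2 ((S₁ : Subgroup G).subgroupOf M) := S₁.isPGroup'.comap_subtype
  apply mckay_two_of_card_24 hcardM ((S₁ : Subgroup G).subgroupOf M) hP ⟨z, hSM hzS⟩
  · intro h'
    exact h.z_ne_one (congrArg Subtype.val h')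
  · exact Subtype.ext h.z_mul_self
  · rintro ⟨g, hg⟩
    exact Subtype.ext (h.z_central g)
  · rintro ⟨x, hx⟩ hxx
    have h1 : x * x = 1 := congrArg Subtype.val hxx
    rcases h.invol x h1 with h2 | h2
    · left; exact Subtype.ext h2
    · right; exact Subtype.ext h2
  · have hw' : (⟨w, hSM hwS⟩ : M) ∈ (S₁ : Subgroup G).subgroupOf M := by
      rw [Subgroup.mem_subgroupOf]; exact hwS
    have hi' : (⟨i, hSM hiS⟩ : M) ∈ (S₁ : Subgroup G).subgroupOf M := by
      rw [Subgroup.mem_subgroupOf]; exact hiS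
    have hmem := Subgroup.commutator_mem_commutator hw' hi'
    have heq : ⁅(⟨w, hSM hwS⟩ : M), (⟨i, hSM hiS⟩ : M)⁆ = ⟨z, hSM hzS⟩ := by
      apply Subtype.ext
      rw [commutatorElement_def]
      simp only [Subgroup.coe_mul, Subgroup.coe_inv]
      rw [h.inv w (hS.le hwS) hwA i hiA, ← mul_inv_rev, hii]
      exact inv_eq_of_mul_eq_one_left h.z_mul_self
    rw [heq] at hmem
    exact hmem
  · rintro ⟨c, hc⟩ hcs
    have hcc : c ∈ Subgroup.centralizer ((S₁ : Subgroup G) : Set G) := by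
      rw [Subgroup.mem_centralizer_iff]
      intro s hs
      have := hcs ⟨s, hSM hs⟩ (by rw [Subgroup.mem_subgroupOf]; exact hs)
      exact (congrArg Subtype.val this).symm
    rcases (h.centralizer_goodSylow hS c).mp hcc with h2 | h2
    · left; exact Subtype.ext h2
    · right; exact Subtype.ext h2

/-- **McKay count at the prime 2**: the normaliser of a Sylow `2`-subgroup has exactly four
irreducible characters of odd degree -/
theorem mckay_two_dicyclic (h : DicyclicTorus A z) (S : Sylow 2 G) :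
    Nat.card {χ : IrrCharacter (Subgroup.normalizer ((S : Subgroup G) : Set G)) //
      ¬ 2 ∣ charDegree (χ : ↥(Subgroup.normalizer ((S : Subgroup G) : Set G)) → ℂ)} = 4 := by
  obtain ⟨S₁, hS⟩ := h.exists_goodSylow
  obtain ⟨g, hg⟩ := MulAction.exists_smul_eq G S₁ S
  have hSg : (S : Subgroup G) = MulAut.conj g • (S₁ : Subgroup G) := by
    rw [← hg, Sylow.coe_subgroup_smul]
  have hN : Subgroup.normalizer ((S : Subgroup G) : Set G) =
      MulAut.conj g • Subgroup.normalizer ((S₁ : Subgroup G) : Set G) := by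
    rw [hSg, normalizer_conj_smul]
  rw [mckay_count_congr (MulEquiv.subgroupCongr hN),
    ← mckay_count_congr (Subgroup.equivSMul (MulAut.conj g)
      (Subgroup.normalizer ((S₁ : Subgroup G) : Set G)))]
  by_cases h8 : 8 ∣ Nat.card A
  · rw [mckay_count_congr (MulEquiv.subgroupCongr (h.normalizer_goodSylow_of_eight_dvd hS h8))]
    exact mckay_two_goodSylow h hS
  · exact mckay_two_normalizer_goodSylow h hS h8

end Cfsg.Agent.Lib.Helper39
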