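import Cfsg.Agent.Lib.Helper39.McKayBasic
import Cfsg.Agent.Lib.Helper39.IrrSums
import Cfsg.Agent.Lib.Helper39.BlockArith
import Cfsg.Agent.S4762

set_option autoImplicit false

/-!
# Counting irreducible characters of odd degree of (generalised) quaternion-type groups (helper39)
-/

namespace Cfsg.Agent.Lib.Helper39

open Cfsg
open scoped ComplexConjugate commutatorElement

/-- a group with an abelian subgroup `T` of index `2` inverted by the elements outside it and with
exactly two elements of `T` of square `1` has exactly four irreducible characters of odd degree -/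
theorem mckay_two_of_inverting {S : Type*} [Group S] [Finite S] (T : Subgroup S)
    (hidx : T.index = 2) (hcomm : ∀ a ∈ T, ∀ b ∈ T, a * b = b * a)
    (hinv : ∀ g : S, g ∉ T → ∀ t ∈ T, g * t * g⁻¹ = t⁻¹)
    (hinvol : Nat.card {t : S // t ∈ T ∧ t * t = 1} = 2) :
    Nat.card {χ : IrrCharacter S // ¬ 2 ∣ charDegree (χ : S → ℂ)} = 4 := by
  classical
  have := Fintype.ofFinite S
  have : T.Normal := Subgroup.normal_of_index_eq_two hidx
  have hk := Cfsg.Agent.Lib.Helper41.two_mul_card_conjClasses_of_inverting T hidx hinv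
  rw [hinvol] at hk
  have hcard : Nat.card S = 2 * Nat.card T := by rw [← T.card_mul_index, hidx, mul_comm]
  have hdeg : ∀ χ : IrrCharacter S, charDegree (χ : S → ℂ) = 1 ∨ charDegree (χ : S → ℂ) = 2 := by
    intro χ
    have h := Cfsg.Agent.Lib.Helper75.ito T hcomm χ.1 χ.2
    rw [hidx] at h
    have hle := Nat.le_of_dvd (by norm_num) h
    have hpos := Cfsg.Agent.Lib.Helper79.irr_charDegree_pos χ
    omega
  have hsq := Cfsg.Agent.Lib.Helper78.sum_irr_charDegree_sq (G := S)
  have hcnt : Nat.card (IrrCharacter S) = Nat.card (ConjClasses S) :=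
    Cfsg.Agent.Lib.Helper78.card_irrCharacter
  have hind := natCard_subtype_eq_sum_indicator
    (fun χ : IrrCharacter S => ¬ 2 ∣ charDegree (χ : S → ℂ))
  have hper : ∀ χ : IrrCharacter S,
      ((charDegree (χ : S → ℂ)) ^ 2 : ℤ) +
        3 * (if ¬ 2 ∣ charDegree (χ : S → ℂ) then (1 : ℤ) else 0) = 4 := by
    intro χ
    rcases hdeg χ with h | h <;> rw [h] <;> norm_num
  have hsum : (∑ χ : IrrCharacter S, (((charDegree (χ : S → ℂ)) ^ 2 : ℤ) +
        3 * (if ¬ 2 ∣ charDegree (χ : S → ℂ) then (1 : ℤ) else 0))) =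
      ∑ _χ : IrrCharacter S, (4 : ℤ) := Finset.sum_congr rfl (fun χ _ => hper χ)
  rw [Finset.sum_add_distrib, ← Finset.mul_sum, ← hind, Finset.sum_const, Finset.card_univ,
    ← Nat.card_eq_fintype_card, hcnt] at hsum
  have hsq' : (∑ χ : IrrCharacter S, ((charDegree (χ : S → ℂ)) ^ 2 : ℤ)) = (Nat.card S : ℤ) := by
    exact_mod_cast congrArg (fun n : ℕ => (n : ℤ)) hsq
  rw [hsq', hcard] at hsum
  simp only [nsmul_eq_mul] at hsum
  have hk' : (2 : ℤ) * (Nat.card (ConjClasses S) : ℤ) = (Nat.card T : ℤ) + 3 * 2 := by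
    exact_mod_cast hk
  push_cast at hsum
  omega

/-- the commutator subgroup has at least four elements -/
theorem four_le_card_commutator {N : Type*} [Group N] [Finite N] (hN : Nat.card N = 24)
    (S : Subgroup N) (z : N) (hz1 : z ≠ 1) (hzz : z * z = 1)
    (hzc : ∀ g : N, g * z = z * g) (hinvol : ∀ x : N, x * x = 1 → x = 1 ∨ x = z)
    (hzS : z ∈ ⁅S, S⁆) (hcent : ∀ c : N, (∀ s ∈ S, c * s = s * c) → c = 1 ∨ c = z) :
    4 ≤ Nat.card (commutator N) := by
  have hzN : z ∈ commutator N := by
    rw [commutator_def]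
    exact Subgroup.commutator_mono le_top le_top hzS
  have hordz : orderOf z = 2 := by
    apply orderOf_eq_prime
    · rw [pow_two]; exact hzz
    · exact hz1
  -- an element of order 3
  obtain ⟨x, hx⟩ := exists_prime_orderOf_dvd_card' (G := N) 3 (by rw [hN]; norm_num)
  have hx3 : x ^ 3 = 1 := by rw [← hx]; exact pow_orderOf_eq_one x
  have hxc : ¬ ∀ s ∈ S, x * s = s * x := by
    intro h
    rcases hcent x h with h1 | h1
    · rw [h1, orderOf_one] at hx; omega
    · rw [h1, hordz] at hx; omega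
  push Not at hxc
  obtain ⟨s, hsS, hs⟩ := hxc
  set c : N := ⁅x, s⁆ with hc
  have hcN : c ∈ commutator N := by
    rw [commutator_def]
    exact Subgroup.commutator_mem_commutator (Subgroup.mem_top x) (Subgroup.mem_top s)
  have hc1 : c ≠ 1 := by
    intro h
    exact hs (commutatorElement_eq_one_iff_mul_comm.mp h)
  have hcz : c ≠ z := by
    intro h
    have h1 : x * s * x⁻¹ = z * s := by
      have : x * s * x⁻¹ = c * s := by rw [hc, commutatorElement_def]; group
      rw [this, h]
    have hxz : x * z * x⁻¹ = z := by rw [hzc x, mul_assoc, mul_inv_cancel, mul_one]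
    have h2 : x * (x * s * x⁻¹) * x⁻¹ = s := by
      rw [h1]
      calc x * (z * s) * x⁻¹ = (x * z * x⁻¹) * (x * s * x⁻¹) := by group
        _ = z * (z * s) := by rw [hxz, h1]
        _ = s := by rw [← mul_assoc, hzz, one_mul]
    have h3 : x * (x * (x * s * x⁻¹) * x⁻¹) * x⁻¹ = z * s := by rw [h2, h1]
    have hx3' : x * x * x = 1 := by rw [← hx3, pow_succ, pow_two]
    have h4 : x * (x * (x * s * x⁻¹) * x⁻¹) * x⁻¹ = (x * x * x) * s * (x * x * x)⁻¹ := by group
    rw [h4, hx3'] at h3
    apply hz1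
    have : s = z * s := by simpa using h3
    calc z = z * s * s⁻¹ := by group
      _ = s * s⁻¹ := by rw [← this]
      _ = 1 := mul_inv_cancel s
  have hordc : 3 ≤ orderOf c := by
    have h0 : 0 < orderOf c := orderOf_pos c
    have h1 : orderOf c ≠ 1 := by
      intro h
      exact hc1 (orderOf_eq_one_iff.mp h)
    have h2 : orderOf c ≠ 2 := by
      intro h
      have : c ^ 2 = 1 := by rw [← h]; exact pow_orderOf_eq_one c
      rw [pow_two] at this
      rcases hinvol c this with h' | h'
      · exact hc1 h'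
      · exact hcz h'
    omega
  have hd1 : orderOf c ∣ Nat.card (commutator N) := by
    have := orderOf_dvd_natCard (⟨c, hcN⟩ : commutator N)
    rwa [← Subgroup.orderOf_coe] at this
  have hd2 : 2 ∣ Nat.card (commutator N) := by
    have := orderOf_dvd_natCard (⟨z, hzN⟩ : commutator N)
    rwa [← Subgroup.orderOf_coe, Subgroup.coe_mk, hordz] at this
  have hle := Nat.le_of_dvd Nat.card_pos hd1
  omega

/-- a group of order `24` with a normal `2`-subgroup `S`, a unique involution `z` lying in `S'` and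
`C(S) = {1, z}` has exactly four irreducible characters of odd degree -/
theorem mckay_two_of_card_24 {N : Type*} [Group N] [Finite N] (hN : Nat.card N = 24)
    (S : Subgroup N) [S.Normal] (hS : IsPGroup 2 S) (z : N) (hz1 : z ≠ 1) (hzz : z * z = 1)
    (hzc : ∀ g : N, g * z = z * g) (hinvol : ∀ x : N, x * x = 1 → x = 1 ∨ x = z)
    (hzS : z ∈ ⁅S, S⁆) (hcent : ∀ c : N, (∀ s ∈ S, c * s = s * c) → c = 1 ∨ c = z) :
    Nat.card {χ : IrrCharacter N // ¬ 2 ∣ charDegree (χ : N → ℂ)} = 4 := by
  classical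
  have := Fintype.ofFinite N
  have h4 := four_le_card_commutator hN S z hz1 hzz hzc hinvol hzS hcent
  have hzcen : z ∈ Subgroup.center N := by
    rw [Subgroup.mem_center_iff]
    intro g
    exact hzc g
  -- the sign of `z` on each irreducible character
  have hsign : ∀ χ : IrrCharacter N, ∃ e : ℤ, (e = 1 ∨ e = -1) ∧
      (χ : N → ℂ) z = (e : ℂ) * (charDegree (χ : N → ℂ) : ℂ) := by
    intro χ
    obtain ⟨c, hc, hval⟩ := irr_central_sign χ z hzcen hzz
    have h1 := hval 1
    rw [mul_one, Cfsg.Agent.Lib.Helper79.irr_apply_one_eq_charDegree] at h1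
    rcases hc with rfl | rfl
    · exact ⟨1, Or.inl rfl, by rw [h1]; simp⟩
    · exact ⟨-1, Or.inr rfl, by rw [h1]; simp⟩
  choose e he hez using hsign
  -- odd degree: the sign is `1` and the degree is `1` or `3`
  have hodd : ∀ χ : IrrCharacter N, ¬ 2 ∣ charDegree (χ : N → ℂ) →
      e χ = 1 ∧ (charDegree (χ : N → ℂ) = 1 ∨ charDegree (χ : N → ℂ) = 3) := by
    intro χ hχ
    constructor
    · have h1 := Cfsg.Agent.S4762.apply_eq_of_mem_commutator_of_not_dvd 2 S hS χ hχ z hzS
      rw [hez χ, Cfsg.Agent.Lib.Helper79.irr_apply_one_eq_charDegree] at h1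
      have hpos := Cfsg.Agent.Lib.Helper79.irr_charDegree_pos χ
      have hne : ((charDegree (χ : N → ℂ) : ℕ) : ℂ) ≠ 0 := by
        exact_mod_cast hpos.ne'
      have h2 : ((e χ : ℤ) : ℂ) = 1 := by
        have : ((e χ : ℤ) : ℂ) * (charDegree (χ : N → ℂ) : ℂ) =
            1 * (charDegree (χ : N → ℂ) : ℂ) := by rw [h1, one_mul]
        exact mul_right_cancel₀ hne this
      exact_mod_cast h2
    · have hdvd := Cfsg.Agent.Lib.Helper79.irr_charDegree_dvd_card χ
      rw [hN] at hdvd
      have hle := Nat.le_of_dvd (by norm_num) hdvd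
      have hpos := Cfsg.Agent.Lib.Helper79.irr_charDegree_pos χ
      generalize charDegree (χ : N → ℂ) = d at *
      interval_cases d <;> omega
  -- the two orthogonality relations
  have hS1 : (∑ χ : IrrCharacter N, ((charDegree (χ : N → ℂ)) ^ 2 : ℤ)) = 24 := by
    have hsq := Cfsg.Agent.Lib.Helper78.sum_irr_charDegree_sq (G := N)
    rw [hN] at hsq
    exact_mod_cast congrArg (fun n : ℕ => (n : ℤ)) hsq
  have hS2 : (∑ χ : IrrCharacter N, e χ * ((charDegree (χ : N → ℂ)) ^ 2 : ℤ)) = 0 := by
    have h := sum_irr_deg_mul_conj (G := N) hz1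
    have h' : (∑ χ : IrrCharacter N, (χ : N → ℂ) 1 * conj ((χ : N → ℂ) z)) =
        ((∑ χ : IrrCharacter N, e χ * ((charDegree (χ : N → ℂ)) ^ 2 : ℤ) : ℤ) : ℂ) := by
      push_cast
      refine Finset.sum_congr rfl (fun χ _ => ?_)
      rw [hez χ, Cfsg.Agent.Lib.Helper79.irr_apply_one_eq_charDegree, map_mul, Complex.conj_natCast]
      have : conj ((e χ : ℤ) : ℂ) = ((e χ : ℤ) : ℂ) := map_intCast _ _
      rw [this]
      ring
    rw [h'] at h
    exact_mod_cast h
  -- per-character decomposition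
  set r : IrrCharacter N → ℤ := fun χ =>
    if 2 ∣ charDegree (χ : N → ℂ) then (1 + e χ) * ((charDegree (χ : N → ℂ)) ^ 2 : ℤ) else 0
    with hr
  have hper : ∀ χ : IrrCharacter N,
      (1 + e χ) * ((charDegree (χ : N → ℂ)) ^ 2 : ℤ) =
        2 * (if charDegree (χ : N → ℂ) = 1 then (1 : ℤ) else 0) +
        18 * (if charDegree (χ : N → ℂ) = 3 then (1 : ℤ) else 0) + r χ := by
    intro χ
    by_cases h2 : 2 ∣ charDegree (χ : N → ℂ)
    · have h1 : charDegree (χ : N → ℂ) ≠ 1 := by intro h; rw [h] at h2; omega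
      have h3 : charDegree (χ : N → ℂ) ≠ 3 := by intro h; rw [h] at h2; omega
      simp only [hr, if_pos h2, if_neg h1, if_neg h3]
      ring
    · obtain ⟨h1, h3⟩ := hodd χ h2
      simp only [hr, if_neg h2, h1]
      rcases h3 with h | h <;> rw [h] <;> norm_num
  have hper2 : ∀ χ : IrrCharacter N,
      (if ¬ 2 ∣ charDegree (χ : N → ℂ) then (1 : ℤ) else 0) =
        (if charDegree (χ : N → ℂ) = 1 then (1 : ℤ) else 0) +
        (if charDegree (χ : N → ℂ) = 3 then (1 : ℤ) else 0) := by
    intro χ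
    by_cases h2 : 2 ∣ charDegree (χ : N → ℂ)
    · have h1 : charDegree (χ : N → ℂ) ≠ 1 := by intro h; rw [h] at h2; omega
      have h3 : charDegree (χ : N → ℂ) ≠ 3 := by intro h; rw [h] at h2; omega
      rw [if_neg (not_not.mpr h2), if_neg h1, if_neg h3]; rfl
    · obtain ⟨-, h3⟩ := hodd χ h2
      rw [if_pos h2]
      rcases h3 with h | h <;> rw [h] <;> norm_num
  have hr8 : (8 : ℤ) ∣ ∑ χ : IrrCharacter N, r χ := by
    apply Finset.dvd_sum
    intro χ _
    simp only [hr]
    split_ifs with h2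
    · obtain ⟨k, hk⟩ := h2
      rw [hk]
      rcases he χ with h | h <;> rw [h]
      · exact ⟨(k : ℤ) ^ 2, by push_cast; ring⟩
      · exact ⟨0, by push_cast; ring⟩
    · exact dvd_zero _
  have hr0 : 0 ≤ ∑ χ : IrrCharacter N, r χ := by
    apply Finset.sum_nonneg
    intro χ _
    simp only [hr]
    split_ifs with h2
    · rcases he χ with h | h <;> rw [h] <;> positivity
    · exact le_refl _
  -- the number of linear characters
  have hlin : (∑ χ : IrrCharacter N, (if charDegree (χ : N → ℂ) = 1 then (1 : ℤ) else 0)) =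
      ((commutator N).index : ℤ) := by
    rw [← Cfsg.Agent.Lib.Helper77.card_linear_characters, ← natCard_subtype_eq_sum_indicator]
    congr 1
    apply Nat.card_congr
    apply Equiv.subtypeEquivRight
    intro χ
    rw [Cfsg.Agent.Lib.Helper79.irr_apply_one_eq_charDegree]
    constructor
    · intro h; rw [h]; simp
    · intro h; exact_mod_cast h
  have hidx := (commutator N).card_mul_index
  rw [hN] at hidx
  have hidx6 : (commutator N).index ≤ 6 := by
    by_contra hcon
    push Not at hcon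
    have : 4 * 7 ≤ Nat.card (commutator N) * (commutator N).index := Nat.mul_le_mul h4 hcon
    omega
  have hidx1 : 1 ≤ (commutator N).index := by
    rcases Nat.eq_zero_or_pos (commutator N).index with h | h
    · rw [h, mul_zero] at hidx; omega
    · exact h
  -- summing up
  have hsum : (∑ χ : IrrCharacter N, (1 + e χ) * ((charDegree (χ : N → ℂ)) ^ 2 : ℤ)) = 24 := by
    simp only [add_mul, one_mul]
    rw [Finset.sum_add_distrib, hS1, hS2, add_zero]
  rw [Finset.sum_congr rfl (fun χ _ => hper χ), Finset.sum_add_distrib, Finset.sum_add_distrib,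
    ← Finset.mul_sum, ← Finset.mul_sum, hlin] at hsum
  have hcount := natCard_subtype_eq_sum_indicator
    (fun χ : IrrCharacter N => ¬ 2 ∣ charDegree (χ : N → ℂ))
  rw [Finset.sum_congr rfl (fun χ _ => hper2 χ), Finset.sum_add_distrib, hlin] at hcount
  obtain ⟨R, hR⟩ := hr8
  rw [hR] at hsum hr0
  have h3nn : 0 ≤ ∑ χ : IrrCharacter N, (if charDegree (χ : N → ℂ) = 3 then (1 : ℤ) else 0) := by
    apply Finset.sum_nonneg
    intro χ _
    split_ifs <;> norm_num
  omega

end Cfsg.Agent.Lib.Helper39
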