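import Mathlib
import Cfsg.Prelude.Def_Characters
import Cfsg.Agent.Lib.Helper78.CharMore

set_option autoImplicit false
set_option linter.style.haveILetI false

/-!
# A norm inequality for class functions (helper39)

`norm_ineq`: if `S` is rigid w.r.t. a subgroup `B` then `|G| Σ_{s∈S} |χ(s)|² ≤ |B| Σ_{g ∉ Z} |χ(g)|²`.
`sum_norm_sq_of_irr`, `norm_char_center_mul`.
-/

namespace Cfsg.Agent.Lib.Helper39

open scoped ComplexConjugate

section normineq

variable {G : Type*} [Group G] [Fintype G] [DecidableEq G]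

/-- if `S` is rigid with respect to the subgroup `B` (conjugating an element of `S` into `S`
forces the conjugator into `B`), every element has at most `|B|` conjugators into `S`. -/
theorem card_conjugators_le (B : Subgroup G) (S : Finset G)
    (hS : ∀ s ∈ S, ∀ x : G, x⁻¹ * s * x ∈ S → x ∈ B) (g : G) :
    (Finset.univ.filter (fun x : G => x⁻¹ * g * x ∈ S)).card ≤ Nat.card B := by
  classical
  by_cases h : (Finset.univ.filter (fun x : G => x⁻¹ * g * x ∈ S)).Nonempty
  · obtain ⟨x₀, hx₀⟩ := h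
    rw [Finset.mem_filter] at hx₀
    have hB : Nat.card B = (Finset.univ.filter (fun x : G => x ∈ B)).card := by
      rw [Nat.card_eq_fintype_card, Fintype.card_subtype]
    rw [hB]
    apply Finset.card_le_card_of_injOn (fun x => x₀⁻¹ * x)
    · intro x hx
      simp only [Finset.coe_filter, Finset.mem_univ, true_and, Set.mem_ofPred_eq] at hx ⊢
      apply hS _ hx₀.2
      have : (x₀⁻¹ * x)⁻¹ * (x₀⁻¹ * g * x₀) * (x₀⁻¹ * x) = x⁻¹ * g * x := by group
      rw [this]
      exact hx
    · intro a _ b _ hab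
      exact mul_left_cancel hab
  · rw [Finset.not_nonempty_iff_eq_empty] at h
    rw [h]
    simp

/-- **Norm inequality**: for a class function `χ`, a subgroup `B`, a `B`-rigid set `S`
and a set `Z` none of whose conjugates meets `S`. -/
theorem norm_ineq (χ : G → ℂ) (hχ : Cfsg.IsClassFunction G χ) (B : Subgroup G)
    (S Z : Finset G) (hS : ∀ s ∈ S, ∀ x : G, x⁻¹ * s * x ∈ S → x ∈ B)
    (hZ : ∀ z ∈ Z, ∀ x : G, x⁻¹ * z * x ∉ S) :
    (Fintype.card G : ℝ) * ∑ s ∈ S, ‖χ s‖ ^ 2 ≤
      (Nat.card B : ℝ) * (∑ g : G, ‖χ g‖ ^ 2 - ∑ z ∈ Z, ‖χ z‖ ^ 2) := by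
  classical
  -- double counting
  have h1 : ∀ x : G, ∑ s ∈ S, ‖χ s‖ ^ 2 =
      ∑ g : G, if x⁻¹ * g * x ∈ S then ‖χ g‖ ^ 2 else 0 := by
    intro x
    rw [← Finset.sum_filter]
    symm
    apply Finset.sum_bij (fun g _ => x⁻¹ * g * x)
    · intro g hg
      exact (Finset.mem_filter.mp hg).2
    · intro a _ b _ hab
      simpa using hab
    · intro s hs
      refine ⟨x * s * x⁻¹, ?_, ?_⟩
      · rw [Finset.mem_filter]
        refine ⟨Finset.mem_univ _, ?_⟩
        have : x⁻¹ * (x * s * x⁻¹) * x = s := by group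
        rw [this]; exact hs
      · group
    · intro g _
      have := hχ g x⁻¹
      rw [inv_inv] at this
      rw [this]
  have h2 : (Fintype.card G : ℝ) * ∑ s ∈ S, ‖χ s‖ ^ 2 =
      ∑ g : G, ((Finset.univ.filter (fun x : G => x⁻¹ * g * x ∈ S)).card : ℝ) * ‖χ g‖ ^ 2 := by
    have : (Fintype.card G : ℝ) * ∑ s ∈ S, ‖χ s‖ ^ 2 = ∑ _x : G, ∑ s ∈ S, ‖χ s‖ ^ 2 := by
      rw [Finset.sum_const, Finset.card_univ, nsmul_eq_mul]
    rw [this, Finset.sum_congr rfl (fun x _ => h1 x), Finset.sum_comm]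
    refine Finset.sum_congr rfl (fun g _ => ?_)
    rw [← Finset.sum_filter, Finset.sum_const, nsmul_eq_mul]
  rw [h2]
  have h3 : ∑ g : G, ‖χ g‖ ^ 2 - ∑ z ∈ Z, ‖χ z‖ ^ 2 =
      ∑ g : G, if g ∈ Z then 0 else ‖χ g‖ ^ 2 := by
    have hz : ∑ z ∈ Z, ‖χ z‖ ^ 2 = ∑ g : G, if g ∈ Z then ‖χ g‖ ^ 2 else 0 := by
      rw [← Finset.sum_filter]
      have : Finset.univ.filter (fun g : G => g ∈ Z) = Z := by ext; simp
      rw [this]
    rw [hz, ← Finset.sum_sub_distrib]
    refine Finset.sum_congr rfl (fun g _ => ?_)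
    by_cases hg : g ∈ Z
    · rw [if_pos hg, if_pos hg, sub_self]
    · rw [if_neg hg, if_neg hg, sub_zero]
  rw [h3, Finset.mul_sum]
  refine Finset.sum_le_sum (fun g _ => ?_)
  by_cases hg : g ∈ Z
  · rw [if_pos hg, mul_zero]
    have : Finset.univ.filter (fun x : G => x⁻¹ * g * x ∈ S) = ∅ := by
      rw [Finset.filter_eq_empty_iff]
      intro x _
      exact hZ g hg x
    rw [this]
    simp
  · rw [if_neg hg]
    apply mul_le_mul_of_nonneg_right _ (by positivity)
    exact_mod_cast card_conjugators_le B S hS g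

omit [DecidableEq G] in
/-- the sum of the squared norms of an irreducible character -/
theorem sum_norm_sq_of_irr {χ : G → ℂ} (hχ : Cfsg.IsIrrCharacter G χ) :
    ∑ g : G, ‖χ g‖ ^ 2 = (Fintype.card G : ℝ) := by
  have h := Cfsg.Agent.Lib.Helper78.classInner_irr_self hχ
  unfold Cfsg.classInner at h
  have hG : (Nat.card G : ℂ) ≠ 0 := by
    have : Nat.card G ≠ 0 := Nat.card_pos.ne'
    exact_mod_cast this
  rw [inv_mul_eq_iff_eq_mul₀ hG, mul_one] at h
  have h2 : ∑ g : G, χ g * conj (χ g) = ((∑ g : G, ‖χ g‖ ^ 2 : ℝ) : ℂ) := by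
    push_cast
    refine Finset.sum_congr rfl (fun g _ => ?_)
    rw [Complex.mul_conj']
  rw [h2, Nat.card_eq_fintype_card] at h
  exact_mod_cast h

end normineq

section central

variable {G : Type*} [Group G] [Finite G] {V : Type*} [AddCommGroup V] [Module ℂ V]

/-- central elements act by scalars of norm one: the norm of an irreducible character is
invariant under multiplication by a central element -/
theorem norm_char_center_mul [FiniteDimensional ℂ V] (ρ : Representation ℂ G V)
    (hρ : ρ.IsIrreducible) (z : G) (hz : z ∈ Subgroup.center G) (g : G) :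
    ‖ρ.character (z * g)‖ = ‖ρ.character g‖ := by
  haveI := Cfsg.Agent.Lib.Helper78.nontrivial_of_isIrreducible ρ hρ
  obtain ⟨c, hc⟩ := Cfsg.Agent.Lib.Helper78.exists_eq_smul_one_of_commute ρ hρ (ρ z)
    (fun k => by rw [← map_mul, ← map_mul, Subgroup.mem_center_iff.mp hz k])
  have hfin : IsOfFinOrder z := isOfFinOrder_of_finite _
  have hpow : c ^ orderOf z = 1 := by
    have h1 : ρ z ^ orderOf z = 1 := by
      rw [← map_pow, pow_orderOf_eq_one, map_one]
    rw [hc, smul_pow, one_pow] at h1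
    obtain ⟨v, hv⟩ := exists_ne (0 : V)
    have h2 := LinearMap.congr_fun h1 v
    simp only [LinearMap.smul_apply, Module.End.one_apply] at h2
    have h3 : (c ^ orderOf z - 1) • v = 0 := by
      rw [sub_smul, h2, one_smul, sub_self]
    rcases smul_eq_zero.mp h3 with h4 | h4
    · exact sub_eq_zero.mp h4
    · exact absurd h4 hv
  have hnorm : ‖c‖ = 1 :=
    Complex.norm_eq_one_of_pow_eq_one hpow (orderOf_pos_iff.mpr hfin).ne'
  unfold Representation.character
  rw [map_mul, hc, smul_mul_assoc, one_mul, map_smul, smul_eq_mul, norm_mul, hnorm, one_mul]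

end central

end Cfsg.Agent.Lib.Helper39
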