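import Cfsg.Agent.Lib.Helper44.O7.Defs
import Cfsg.Agent.Lib.Helper44.OddQF
import Cfsg.Agent.Lib.Helper44.TwoRank

set_option autoImplicit false

/-!
S2647 MODULE [ISO] (board #3904): `Ω(x₀² + x₁y₁ + x₂y₂ + x₃y₃) ≅ Ω(c · Σ xᵢ²)` for a suitable `c ≠ 0`.
-/

namespace Cfsg.Agent.Lib.Helper39.O7

open Matrix Cfsg.Agent.Lib.Helper44 Cfsg.Agent.Lib.Helper44.O7

/-- `Ω(x₀² + x₁y₁ + x₂y₂ + x₃y₃) ≅ Ω(c · Σ xᵢ²)` for a suitable `c ≠ 0`. -/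
theorem exists_omegaIso {F : Type*} [Field F] [Fintype F] (h2 : (2 : F) ≠ 0) :
    ∃ c : F, c ≠ 0 ∧ Nonempty (↥(Cfsg.Omega F (Cfsg.quadFormOdd 3 F)) ≃* ↥(OmG c)) := by
  classical
  have hfr : Module.finrank F ((Unit ⊕ (Fin 3 ⊕ Fin 3)) → F) = 7 := by
    rw [Module.finrank_fintype_fun_eq_card]
    simp
  obtain ⟨D₀, hD₀, hT⟩ := exists_isometry_to_wss (oddQF 3 F) h2 (oddQF_nondeg 3 F h2)
  refine ⟨2 * D₀, mul_ne_zero h2 hD₀, ?_⟩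
  generalize hk : Module.finrank F ((Unit ⊕ (Fin 3 ⊕ Fin 3)) → F) = k at hT
  rw [hk] at hfr
  subst hfr
  obtain ⟨T, hTv⟩ := hT (cw (2 * D₀)) (fun _ => mul_ne_zero h2 hD₀) (by
    refine ⟨2 ^ 7 * D₀ ^ 4, ?_⟩
    have : ∀ i : Fin 7, 2 * cw (2 * D₀) i = 2 * (2 * D₀) := fun _ => rfl
    rw [Finset.prod_congr rfl (fun i _ => this i), Finset.prod_const, Finset.card_univ,
      Fintype.card_fin]
    ring)
  refine ⟨omegaIso T (Cfsg.quadFormOdd 3 F) (⇑(wssF (cw (2 * D₀)))) ?_⟩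
  intro v
  rw [hTv, oddQF_coe]

end Cfsg.Agent.Lib.Helper39.O7
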