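import Mathlib
import Cfsg.Prelude.Def_GeometricClasses
import Cfsg.Agent.Lib.Helper99.AschDefs
import Cfsg.Agent.Lib.Helper39.AschC3

/-!
# Project ASCHOE, kit for ASCHOE-[C-FIELD] (helper39)

* `exists_prime_field_subalgebra`: the construction of ASCH-[C3] with its output kept: inside a field `K` of
  matrices, normalised by `H` and not scalar, there is a field subalgebra `Kr ≤ K` of prime degree normalised
  by `H`.
* `finrank_le_two_of_quadratic`: a finite field extension all of whose elements satisfy a monic quadratic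
  equation has degree at most 2.
-/

set_option autoImplicit false

namespace Cfsg.Agent.Lib.Helper39.OeField

open Cfsg Cfsg.Geo Module
open scoped MatrixGroups Matrix

section Prime

variable {n : ℕ} {F : Type*} [Field F] [Fintype F]

theorem exists_prime_field_subalgebra (H : Subgroup (GL (Fin n) F))
    (K : Subalgebra F (Matrix (Fin n) (Fin n) F))
    (hcomm : ∀ x ∈ K, ∀ y ∈ K, x * y = y * x)
    (hinv : ∀ x ∈ K, x ≠ 0 → ∃ y ∈ K, x * y = 1)
    (hbig : ∃ x ∈ K, ∀ c : F, x ≠ c • (1 : Matrix (Fin n) (Fin n) F))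
    (hnorm : ∀ h ∈ H, ∀ k ∈ K,
      (h : Matrix (Fin n) (Fin n) F) * k * ((h⁻¹ : GL (Fin n) F) : Matrix (Fin n) (Fin n) F) ∈ K) :
    ∃ (r : ℕ) (Kr : Subalgebra F (Matrix (Fin n) (Fin n) F)), r.Prime ∧ IsFieldSubalgebra r Kr ∧
      Kr ≤ K ∧ H ≤ subalgebraNormalizer Kr := by
  classical
  have hnt : Nontrivial (Matrix (Fin n) (Fin n) F) := by
    by_contra hnt
    rw [not_nontrivial_iff_subsingleton] at hnt
    obtain ⟨x, -, hx⟩ := hbig
    exact hx 0 (Subsingleton.elim _ _)
  have hKfield : IsField K := by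
    refine ⟨⟨0, 1, ?_⟩, ?_, ?_⟩
    · intro h01
      have := congrArg (Subtype.val) h01
      exact zero_ne_one this
    · intro x y
      exact Subtype.ext (hcomm x x.2 y y.2)
    · intro a ha
      have ha' : (a : Matrix (Fin n) (Fin n) F) ≠ 0 := fun h0 => ha (Subtype.ext h0)
      obtain ⟨y, hyK, hy⟩ := hinv a a.2 ha'
      exact ⟨⟨y, hyK⟩, Subtype.ext hy⟩
  have hs1 : finrank F K ≠ 1 := by
    intro h1
    rw [Subalgebra.finrank_eq_one_iff] at h1
    obtain ⟨x, hxK, hx⟩ := hbig
    rw [h1, Algebra.mem_bot] at hxK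
    obtain ⟨c, rfl⟩ := hxK
    exact hx c (by rw [Algebra.algebraMap_eq_smul_one])
  obtain ⟨r, hrp, hrs⟩ := Nat.exists_prime_and_dvd hs1
  obtain ⟨E, hEmem, hEr⟩ :=
    Cfsg.Agent.Lib.Helper39.AschC3.exists_fixed_subalgebra_of_isField hKfield r hrs
  set N : ℕ := Fintype.card F ^ r with hN
  set Kr : Subalgebra F (Matrix (Fin n) (Fin n) F) := E.map K.val with hKr
  have hKrmem : ∀ y, y ∈ Kr ↔ y ∈ K ∧ y ^ N = y := by
    intro y
    rw [hKr, Subalgebra.mem_map]
    constructor
    · rintro ⟨x, hxE, rfl⟩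
      refine ⟨x.2, ?_⟩
      have := (hEmem x).mp hxE
      have h2 := congrArg (Subtype.val) this
      simpa using h2
    · rintro ⟨hyK, hy⟩
      refine ⟨⟨y, hyK⟩, ?_, rfl⟩
      rw [hEmem]
      exact Subtype.ext (by simpa using hy)
  have hfield : IsFieldSubalgebra r Kr := by
    refine ⟨?_, ?_, ?_⟩
    · intro x hx y hy
      exact hcomm x ((hKrmem x).mp hx).1 y ((hKrmem y).mp hy).1
    · intro x hx hx0
      obtain ⟨hxK, hxN⟩ := (hKrmem x).mp hx
      obtain ⟨y, hyK, hxy⟩ := hinv x hxK hx0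
      refine ⟨y, (hKrmem y).mpr ⟨hyK, ?_⟩, hxy⟩
      have hc : Commute x y := hcomm x hxK y hyK
      have h1 : x * y ^ N = 1 := by
        have := hc.mul_pow N
        rw [hxy, one_pow, hxN] at this
        exact this.symm
      have hyx : y * x = 1 := by rw [← hc.eq]; exact hxy
      calc y ^ N = (y * x) * y ^ N := by rw [hyx, one_mul]
        _ = y * (x * y ^ N) := by rw [mul_assoc]
        _ = y := by rw [h1, mul_one]
    · have e : E ≃ₐ[F] Kr := E.equivMapOfInjective K.val Subtype.val_injective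
      rw [← hEr]
      exact (e.toLinearEquiv.finrank_eq).symm
  refine ⟨r, Kr, hrp, hfield, fun y hy => ((hKrmem y).mp hy).1, ?_⟩
  intro h hh
  show ∀ k : Matrix (Fin n) (Fin n) F, k ∈ Kr ↔ _
  intro k
  constructor
  · intro hk
    obtain ⟨hkK, hkN⟩ := (hKrmem k).mp hk
    refine (hKrmem _).mpr ⟨hnorm h hh k hkK, ?_⟩
    rw [Cfsg.Agent.Lib.Helper39.AschC3.conj_pow_matrix, hkN]
  · intro hk
    obtain ⟨hkK, hkN⟩ := (hKrmem _).mp hk
    have hback : ∀ m : Matrix (Fin n) (Fin n) F,
        ((h⁻¹ : GL (Fin n) F) : Matrix (Fin n) (Fin n) F) *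
          ((h : Matrix (Fin n) (Fin n) F) * m * ((h⁻¹ : GL (Fin n) F) : Matrix (Fin n) (Fin n) F)) *
          (((h⁻¹)⁻¹ : GL (Fin n) F) : Matrix (Fin n) (Fin n) F) = m := by
      intro m
      rw [inv_inv]
      have h1 : ((h⁻¹ : GL (Fin n) F) : Matrix (Fin n) (Fin n) F) * (h : Matrix (Fin n) (Fin n) F) = 1 := by
        rw [← Units.val_mul, inv_mul_cancel, Units.val_one]
      calc _ = (((h⁻¹ : GL (Fin n) F) : Matrix (Fin n) (Fin n) F) * (h : Matrix (Fin n) (Fin n) F)) * m *
            (((h⁻¹ : GL (Fin n) F) : Matrix (Fin n) (Fin n) F) * (h : Matrix (Fin n) (Fin n) F)) := by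
            simp only [mul_assoc]
        _ = m := by rw [h1, one_mul, mul_one]
    have hkK' := hnorm h⁻¹ (H.inv_mem hh) _ hkK
    rw [hback] at hkK'
    refine (hKrmem k).mpr ⟨hkK', ?_⟩
    rw [Cfsg.Agent.Lib.Helper39.AschC3.conj_pow_matrix] at hkN
    have := congrArg (fun m => ((h⁻¹ : GL (Fin n) F) : Matrix (Fin n) (Fin n) F) * m *
          (((h⁻¹)⁻¹ : GL (Fin n) F) : Matrix (Fin n) (Fin n) F)) hkN
    simp only [hback] at this
    exact this

/-- A subalgebra normalised in one direction by a subgroup is normalised. -/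
theorem le_subalgebraNormalizer_of_conj_mem (H : Subgroup (GL (Fin n) F))
    (K : Subalgebra F (Matrix (Fin n) (Fin n) F))
    (hnorm : ∀ h ∈ H, ∀ k ∈ K,
      (h : Matrix (Fin n) (Fin n) F) * k * ((h⁻¹ : GL (Fin n) F) : Matrix (Fin n) (Fin n) F) ∈ K) :
    H ≤ subalgebraNormalizer K := by
  intro h hh
  show ∀ k : Matrix (Fin n) (Fin n) F, k ∈ K ↔ _
  intro k
  constructor
  · exact hnorm h hh k
  · intro hk
    have hback : ∀ m : Matrix (Fin n) (Fin n) F,
        ((h⁻¹ : GL (Fin n) F) : Matrix (Fin n) (Fin n) F) *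
          ((h : Matrix (Fin n) (Fin n) F) * m * ((h⁻¹ : GL (Fin n) F) : Matrix (Fin n) (Fin n) F)) *
          (((h⁻¹)⁻¹ : GL (Fin n) F) : Matrix (Fin n) (Fin n) F) = m := by
      intro m
      rw [inv_inv]
      have h1 : ((h⁻¹ : GL (Fin n) F) : Matrix (Fin n) (Fin n) F) * (h : Matrix (Fin n) (Fin n) F) = 1 := by
        rw [← Units.val_mul, inv_mul_cancel, Units.val_one]
      calc _ = (((h⁻¹ : GL (Fin n) F) : Matrix (Fin n) (Fin n) F) * (h : Matrix (Fin n) (Fin n) F)) * m *
            (((h⁻¹ : GL (Fin n) F) : Matrix (Fin n) (Fin n) F) * (h : Matrix (Fin n) (Fin n) F)) := by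
            simp only [mul_assoc]
        _ = m := by rw [h1, one_mul, mul_one]
    have := hnorm h⁻¹ (H.inv_mem hh) _ hk
    rw [hback] at this
    exact this

end Prime

section Quadratic

open Polynomial IntermediateField

/-- A finite field extension all of whose elements satisfy a monic quadratic equation has degree at most 2. -/
theorem finrank_le_two_of_quadratic {F L : Type*} [Field F] [Field L] [Algebra F L] [Finite L]
    (h : ∀ x : L, ∃ t d : F, x * x - t • x + d • (1 : L) = 0) : finrank F L ≤ 2 := by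
  classical
  obtain ⟨α, hα⟩ := Field.exists_primitive_element_of_finite_top F L
  obtain ⟨t, d, htd⟩ := h α
  have hint : IsIntegral F α := Algebra.IsIntegral.isIntegral α
  have h1 : finrank F F⟮α⟯ = (minpoly F α).natDegree := IntermediateField.adjoin.finrank hint
  have h2 : finrank F L = finrank F F⟮α⟯ := by
    rw [hα, IntermediateField.finrank_top']
  set p : F[X] := X ^ 2 - C t * X + C d with hp
  have hpα : Polynomial.aeval α p = 0 := by
    rw [hp]
    simp only [map_add, map_sub, map_mul, map_pow, aeval_X, aeval_C]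
    rw [← htd, pow_two, Algebra.smul_def, Algebra.smul_def, mul_one]
  have hpdeg : p.natDegree ≤ 2 := by
    rw [hp]
    compute_degree
  have hp0 : p ≠ 0 := by
    intro h0
    have hc : p.coeff 2 = 1 := by
      rw [hp]
      simp [coeff_X, coeff_C]
    rw [h0, coeff_zero] at hc
    exact zero_ne_one hc
  have hdvd : minpoly F α ∣ p := minpoly.dvd F α hpα
  have := Polynomial.natDegree_le_of_dvd hdvd hp0
  omega

/-- The same for a ring that is a field. -/
theorem finrank_le_two_of_quadratic_of_isField {F L : Type*} [Field F] [Ring L] [Algebra F L]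
    (hL : IsField L) [Finite L]
    (h : ∀ x : L, ∃ t d : F, x * x - t • x + d • (1 : L) = 0) : finrank F L ≤ 2 := by
  let _i : Field L := hL.toField
  exact finrank_le_two_of_quadratic h

end Quadratic

end Cfsg.Agent.Lib.Helper39.OeField
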