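import Mathlib
import Cfsg.Prelude.Def_GeometricClasses
import Cfsg.Agent.Lib.Helper99.AschDefs
import Cfsg.Agent.Lib.Helper99.AschUtil3
import Cfsg.Agent.Lib.Helper51.AschField
import Cfsg.Agent.Lib.Helper37.Asch.AdjointClosed
import Cfsg.Agent.Lib.Helper55.Oe.Defs
import Cfsg.Agent.Lib.Helper39.OeFieldKit

/-!
# Project ASCHOE, module ASCHOE-[C-FIELD] (helper39), in `_of` form

`H ≤ I = isometryGroup F Q` irreducible, `N ≤ I` normalised by `H`, `V|N` semisimple and isotypic, and the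
field `K = commutantCenter N` is not `F·1`.  Then `H` normalises a self-adjoint field of prime degree
(`OutFieldSA`) or a field of degree 2 of unitary type (`OutFieldU`).

The hypothesis `hsim` is the conclusion of ASCHOE-[C-FIELDSIM] (`quad_similarity_of_commutant`) for `N`.

Proof.  `K₀` := the self-adjoint elements of `K`, a subfield normalised by `H`.  If `K₀ ≠ F·1`:
ASCH-[C3] inside `K₀`.  If `K₀ = F·1`: for `k ∈ K` with adjoint `k'`, `k + k'` and `k k'` are self-adjoint,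
hence scalars `t`, `d`, so `k² - t k + d = 0`; a primitive element of the finite field `K` has degree ≤ 2,
so `[K : F] = 2`; `B(k u, k v) = d B(u, v)` and `hsim` give `Q(k v) = d Q(v)`.
-/

set_option autoImplicit false

namespace Cfsg.Agent.Lib.Helper55.Oe

open Cfsg Cfsg.Geo Cfsg.Agent.Lib.Helper99.Asch Module
open scoped MatrixGroups Matrix Kronecker

variable {n : ℕ} {F : Type*} [Field F] [Fintype F]

/-- ASCHOE-[C-FIELD] in `_of` form: `hsim` is the conclusion of ASCHOE-[C-FIELDSIM] for `N`. -/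
theorem out_of_isotypic_field_of {Q : (Fin n → F) → F} (hQ : IsNondegenerateQuadraticForm Q) (hn : 0 < n)
    {H : Subgroup (GL (Fin n) F)} (hH : H ≤ isometryGroup F Q)
    (N : Subgroup (GL (Fin n) F)) (hN : N ≤ isometryGroup F Q) (hnrm : Nrm H N)
    (hss : IsSemisimpleModule (endAlg N) (Fin n → F)) (hiso : IsIsotypic (endAlg N) (Fin n → F))
    (hbig : ∃ x ∈ commutantCenter N, ∀ c : F, x ≠ c • (1 : Matrix (Fin n) (Fin n) F))
    (hsim : ∀ k ∈ commutant N, ∀ c : F,
      (∀ u v : Fin n → F, QuadraticMap.polar Q (k *ᵥ u) (k *ᵥ v) = c * QuadraticMap.polar Q u v) →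
      ∀ v : Fin n → F, Q (k *ᵥ v) = c * Q v) :
    OutFieldSA Q H ∨ OutFieldU Q H := by
  classical
  set B : (Fin n → F) → (Fin n → F) → F := QuadraticMap.polar Q with hB
  have hBbil : IsBilinearForm B := hQ.polar_bilinear
  have hBnd : IsNondegenerateForm B := hQ.nondegenerate
  have hBsymm : ∀ u v, B u v = B v u := fun u v => QuadraticMap.polar_comm Q u v
  -- isometries preserve `B`
  have hiso_B : ∀ g ∈ isometryGroup F Q, ∀ u v : Fin n → F,
      B ((g : Matrix (Fin n) (Fin n) F) *ᵥ u) ((g : Matrix (Fin n) (Fin n) F) *ᵥ v) = B u v := by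
    intro g hg u v
    have hgQ : ∀ w : Fin n → F, Q ((g : Matrix (Fin n) (Fin n) F) *ᵥ w) = Q w := fun w => hg w w
    show Q (_ + _) - Q _ - Q _ = Q (u + v) - Q u - Q v
    rw [← Matrix.mulVec_add, hgQ, hgQ, hgQ]
  have hNsim : N ≤ similarityGroup B := by
    intro g hg
    refine ⟨1, fun u v => ?_⟩
    rw [hiso_B g (hN hg) u v, Units.val_one, one_mul]
  set K : Subalgebra F (Matrix (Fin n) (Fin n) F) := commutantCenter N with hK
  have hKcomm : ∀ x ∈ K, ∀ y ∈ K, x * y = y * x := by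
    intro x hx y hy
    rw [hK, Cfsg.Agent.Lib.Helper37.Asch.mem_commutantCenter_iff] at hx hy
    exact (hx.2 y hy.1).symm
  have hKinv : ∀ x ∈ K, x ≠ 0 → ∃ y ∈ K, x * y = 1 := commutantCenter_inv hn N hss hiso
  have hKnorm : ∀ h ∈ H, ∀ k ∈ K,
      (h : Matrix (Fin n) (Fin n) F) * k * ((h⁻¹ : GL (Fin n) F) : Matrix (Fin n) (Fin n) F) ∈ K :=
    Cfsg.Agent.Lib.Helper99.AschUtil.normalizes_commutantCenter H N hnrm
  have hKadj : IsAdjointClosedFor B K :=
    Cfsg.Agent.Lib.Helper37.Asch.isAdjointClosedFor_commutantCenter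
      (Cfsg.Agent.Lib.Helper37.Asch.isSesq_of_bilinear hBbil) hBnd N hNsim
  -- self-adjointness
  let SA : Matrix (Fin n) (Fin n) F → Prop := fun y => ∀ u v : Fin n → F, B (y *ᵥ u) v = B u (y *ᵥ v)
  have hSA_smul : ∀ c : F, SA (c • (1 : Matrix (Fin n) (Fin n) F)) := by
    intro c u v
    rw [Matrix.smul_mulVec, Matrix.one_mulVec, Matrix.smul_mulVec, Matrix.one_mulVec,
      hBbil.smul_left, hBbil.smul_right]
  by_cases hsa : ∃ x ∈ K, SA x ∧ ∀ c : F, x ≠ c • (1 : Matrix (Fin n) (Fin n) F)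
  · -- a non-scalar self-adjoint element: ASCH-[C3] inside the self-adjoint part
    left
    let K₀ : Subalgebra F (Matrix (Fin n) (Fin n) F) :=
      { carrier := {y | y ∈ K ∧ SA y}
        mul_mem' := by
          rintro a b ⟨ha, ha'⟩ ⟨hb, hb'⟩
          refine ⟨K.mul_mem ha hb, fun u v => ?_⟩
          rw [← Matrix.mulVec_mulVec, ha', hb', Matrix.mulVec_mulVec, hKcomm b hb a ha]
        add_mem' := by
          rintro a b ⟨ha, ha'⟩ ⟨hb, hb'⟩
          refine ⟨K.add_mem ha hb, fun u v => ?_⟩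
          rw [Matrix.add_mulVec, Matrix.add_mulVec, hBbil.add_left, hBbil.add_right, ha', hb']
        algebraMap_mem' := by
          intro c
          refine ⟨K.algebraMap_mem c, ?_⟩
          rw [Algebra.algebraMap_eq_smul_one]
          exact hSA_smul c }
    have hK₀mem : ∀ y, y ∈ K₀ ↔ y ∈ K ∧ SA y := fun y => Iff.rfl
    have hK₀comm : ∀ x ∈ K₀, ∀ y ∈ K₀, x * y = y * x :=
      fun x hx y hy => hKcomm x hx.1 y hy.1
    have hK₀inv : ∀ x ∈ K₀, x ≠ 0 → ∃ y ∈ K₀, x * y = 1 := by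
      intro x hx hx0
      obtain ⟨z, hzK, hxz⟩ := hKinv x hx.1 hx0
      have hzx : z * x = 1 := by rw [hKcomm z hzK x hx.1]; exact hxz
      refine ⟨z, ⟨hzK, fun u v => ?_⟩, hxz⟩
      have h1 : v = x *ᵥ (z *ᵥ v) := by rw [Matrix.mulVec_mulVec, hxz, Matrix.one_mulVec]
      have h2 : u = x *ᵥ (z *ᵥ u) := by rw [Matrix.mulVec_mulVec, hxz, Matrix.one_mulVec]
      calc B (z *ᵥ u) v = B (z *ᵥ u) (x *ᵥ (z *ᵥ v)) := by rw [← h1]
        _ = B (x *ᵥ (z *ᵥ u)) (z *ᵥ v) := (hx.2 _ _).symm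
        _ = B u (z *ᵥ v) := by rw [← h2]
    have hK₀big : ∃ x ∈ K₀, ∀ c : F, x ≠ c • (1 : Matrix (Fin n) (Fin n) F) := by
      obtain ⟨x, hxK, hxSA, hx⟩ := hsa
      exact ⟨x, ⟨hxK, hxSA⟩, hx⟩
    have hK₀norm : ∀ h ∈ H, ∀ k ∈ K₀,
        (h : Matrix (Fin n) (Fin n) F) * k * ((h⁻¹ : GL (Fin n) F) : Matrix (Fin n) (Fin n) F) ∈ K₀ := by
      intro h hh k hk
      refine ⟨hKnorm h hh k hk.1, fun u v => ?_⟩
      have hhI := hH hh
      have hinvI : h⁻¹ ∈ isometryGroup F Q := (isometryGroup F Q).inv_mem hhI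
      have e1 : ∀ w : Fin n → F, (h : Matrix (Fin n) (Fin n) F) *ᵥ
          (((h⁻¹ : GL (Fin n) F) : Matrix (Fin n) (Fin n) F) *ᵥ w) = w := by
        intro w
        rw [Matrix.mulVec_mulVec, ← Units.val_mul, mul_inv_cancel, Units.val_one, Matrix.one_mulVec]
      have e2 : ∀ w : Fin n → F, ((h : Matrix (Fin n) (Fin n) F) * k *
          ((h⁻¹ : GL (Fin n) F) : Matrix (Fin n) (Fin n) F)) *ᵥ w =
          (h : Matrix (Fin n) (Fin n) F) *ᵥ (k *ᵥ
            (((h⁻¹ : GL (Fin n) F) : Matrix (Fin n) (Fin n) F) *ᵥ w)) := by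
        intro w
        rw [Matrix.mulVec_mulVec, Matrix.mulVec_mulVec]
      rw [e2, e2]
      calc B ((h : Matrix (Fin n) (Fin n) F) *ᵥ (k *ᵥ
              (((h⁻¹ : GL (Fin n) F) : Matrix (Fin n) (Fin n) F) *ᵥ u))) v
          = B ((h : Matrix (Fin n) (Fin n) F) *ᵥ (k *ᵥ
              (((h⁻¹ : GL (Fin n) F) : Matrix (Fin n) (Fin n) F) *ᵥ u)))
              ((h : Matrix (Fin n) (Fin n) F) *ᵥ
                (((h⁻¹ : GL (Fin n) F) : Matrix (Fin n) (Fin n) F) *ᵥ v)) := by rw [e1 v]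
        _ = B (k *ᵥ (((h⁻¹ : GL (Fin n) F) : Matrix (Fin n) (Fin n) F) *ᵥ u))
              (((h⁻¹ : GL (Fin n) F) : Matrix (Fin n) (Fin n) F) *ᵥ v) := hiso_B h hhI _ _
        _ = B (((h⁻¹ : GL (Fin n) F) : Matrix (Fin n) (Fin n) F) *ᵥ u)
              (k *ᵥ (((h⁻¹ : GL (Fin n) F) : Matrix (Fin n) (Fin n) F) *ᵥ v)) := hk.2 _ _
        _ = B ((h : Matrix (Fin n) (Fin n) F) *ᵥ
                (((h⁻¹ : GL (Fin n) F) : Matrix (Fin n) (Fin n) F) *ᵥ u))
              ((h : Matrix (Fin n) (Fin n) F) *ᵥ (k *ᵥ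
                (((h⁻¹ : GL (Fin n) F) : Matrix (Fin n) (Fin n) F) *ᵥ v))) :=
            (hiso_B h hhI _ _).symm
        _ = B u ((h : Matrix (Fin n) (Fin n) F) *ᵥ (k *ᵥ
                (((h⁻¹ : GL (Fin n) F) : Matrix (Fin n) (Fin n) F) *ᵥ v))) := by rw [e1 u]
    obtain ⟨r, Kr, hrp, hfield, hKrle, hHKr⟩ :=
      Cfsg.Agent.Lib.Helper39.OeField.exists_prime_field_subalgebra H K₀ hK₀comm hK₀inv hK₀big hK₀norm
    exact ⟨r, Kr, hrp, hfield, fun k hk u v => (hKrle hk).2 u v, hHKr⟩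
  · -- every self-adjoint element of `K` is scalar: `K` is quadratic of unitary type
    right
    push Not at hsa
    have hnt : Nontrivial (Matrix (Fin n) (Fin n) F) := by
      by_contra hnt
      rw [not_nontrivial_iff_subsingleton] at hnt
      obtain ⟨x, -, hx⟩ := hbig
      exact hx 0 (Subsingleton.elim _ _)
    -- trace and norm of an element of `K`
    have hquad : ∀ k ∈ K, ∃ k' ∈ K, (∀ u v : Fin n → F, B (k *ᵥ u) v = B u (k' *ᵥ v)) ∧
        ∃ t d : F, k + k' = t • (1 : Matrix (Fin n) (Fin n) F) ∧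
          k * k' = d • (1 : Matrix (Fin n) (Fin n) F) := by
      intro k hk
      obtain ⟨k', hk'K, hk'⟩ := hKadj k hk
      have hk'2 : ∀ u v : Fin n → F, B (k' *ᵥ u) v = B u (k *ᵥ v) := by
        intro u v
        rw [hBsymm (k' *ᵥ u) v, ← hk' v u, hBsymm]
      have hsum : SA (k + k') := by
        intro u v
        rw [Matrix.add_mulVec, Matrix.add_mulVec, hBbil.add_left, hBbil.add_right, hk', hk'2, add_comm]
      have hprod : SA (k * k') := by
        intro u v
        rw [← Matrix.mulVec_mulVec, ← Matrix.mulVec_mulVec, hk', ← hk'2]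
      obtain ⟨t, ht⟩ := hsa (k + k') (K.add_mem hk hk'K) hsum
      obtain ⟨d, hd⟩ := hsa (k * k') (K.mul_mem hk hk'K) hprod
      exact ⟨k', hk'K, hk', t, d, ht, hd⟩
    have hKfield : IsField K := by
      refine ⟨⟨0, 1, ?_⟩, ?_, ?_⟩
      · intro h01
        have := congrArg (Subtype.val) h01
        exact zero_ne_one this
      · intro x y
        exact Subtype.ext (hKcomm x x.2 y y.2)
      · intro a ha
        have ha' : (a : Matrix (Fin n) (Fin n) F) ≠ 0 := fun h0 => ha (Subtype.ext h0)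
        obtain ⟨y, hyK, hy⟩ := hKinv a a.2 ha'
        exact ⟨⟨y, hyK⟩, Subtype.ext hy⟩
    have hle2 : finrank F K ≤ 2 := by
      apply Cfsg.Agent.Lib.Helper39.OeField.finrank_le_two_of_quadratic_of_isField hKfield
      intro x
      obtain ⟨k', hk'K, -, t, d, ht, hd⟩ := hquad x x.2
      refine ⟨t, d, ?_⟩
      apply Subtype.ext
      have h1 : k' = t • (1 : Matrix (Fin n) (Fin n) F) - (x : Matrix (Fin n) (Fin n) F) := by
        rw [← ht]; abel
      have h2 : (x : Matrix (Fin n) (Fin n) F) * (x : Matrix (Fin n) (Fin n) F) -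
          t • (x : Matrix (Fin n) (Fin n) F) + d • (1 : Matrix (Fin n) (Fin n) F) = 0 := by
        rw [← hd, h1, mul_sub, mul_smul_comm, mul_one]
        abel
      simpa using h2
    have hs1 : finrank F K ≠ 1 := by
      intro h1
      rw [Subalgebra.finrank_eq_one_iff] at h1
      obtain ⟨x, hxK, hx⟩ := hbig
      rw [h1, Algebra.mem_bot] at hxK
      obtain ⟨c, rfl⟩ := hxK
      exact hx c (by rw [Algebra.algebraMap_eq_smul_one])
    have hs0 : finrank F K ≠ 0 := by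
      have : 0 < finrank F K := by
        have : Nontrivial K := ⟨⟨0, 1, fun h01 => zero_ne_one (congrArg Subtype.val h01)⟩⟩
        exact Module.finrank_pos
      omega
    have h2 : finrank F K = 2 := by omega
    refine ⟨K, ⟨hKcomm, hKinv, h2⟩, hKadj, ?_, ?_, ?_⟩
    · intro hself
      obtain ⟨x, hxK, hx⟩ := hbig
      obtain ⟨c, hc⟩ := hsa x hxK (hself x hxK)
      exact hx c hc
    · intro k hk
      obtain ⟨k', hk'K, hk', t, d, ht, hd⟩ := hquad k hk
      refine ⟨d, ?_⟩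
      have hkc : k ∈ commutant N := by
        rw [hK, Cfsg.Agent.Lib.Helper37.Asch.mem_commutantCenter_iff] at hk
        exact hk.1
      apply hsim k hkc d
      intro u v
      rw [hk', Matrix.mulVec_mulVec, hKcomm k' hk'K k hk, hd, Matrix.smul_mulVec, Matrix.one_mulVec,
        hBbil.smul_right]
    · exact Cfsg.Agent.Lib.Helper39.OeField.le_subalgebraNormalizer_of_conj_mem H K hKnorm

end Cfsg.Agent.Lib.Helper55.Oe
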