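import Mathlib
import Cfsg.Agent.Lib.Helper39.OeCField
import Cfsg.Agent.Lib.Helper36.OeCFieldSim

/-!
# Project ASCHOE, module ASCHOE-[C-FIELD] (helper39): the exact sheet statement

`out_of_isotypic_field` from `out_of_isotypic_field_of` and helper36's ASCHOE-[C-FIELDSIM].
-/

set_option autoImplicit false

namespace Cfsg.Agent.Lib.Helper55.Oe

open Cfsg Cfsg.Geo Cfsg.Agent.Lib.Helper99.Asch Module
open scoped MatrixGroups Matrix Kronecker

variable {n : ℕ} {F : Type*} [Field F] [Fintype F]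

omit [Fintype F] in
/-- The commutant centre of a group of scalar matrices consists of scalar matrices. -/
theorem scalar_of_mem_commutantCenter_of_le_scalars (N : Subgroup (GL (Fin n) F))
    (hN : N ≤ scalars (Fin n) F) {x : Matrix (Fin n) (Fin n) F} (hx : x ∈ commutantCenter N) :
    ∃ c : F, x = c • (1 : Matrix (Fin n) (Fin n) F) := by
  classical
  rw [Cfsg.Agent.Lib.Helper37.Asch.mem_commutantCenter_iff] at hx
  have hall : ∀ m : Matrix (Fin n) (Fin n) F, m ∈ commutant N := by
    intro m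
    rw [Cfsg.Agent.Lib.Helper37.Asch.mem_commutant_iff]
    intro g hg
    obtain ⟨c, hc⟩ := (mem_scalars_iff g).mp (hN hg)
    rw [hc, Matrix.mul_smul, Matrix.smul_mul, Matrix.mul_one, Matrix.one_mul]
  have hsc : x ∈ Set.range (Matrix.scalar (Fin n)) := by
    rw [Matrix.mem_range_scalar_iff_commute_single']
    intro i j
    exact hx.2 _ (hall _)
  obtain ⟨c, hc⟩ := hsc
  refine ⟨c, ?_⟩
  rw [← hc, Matrix.smul_one_eq_diagonal]
  rfl

/-- ASCHOE-[C-FIELD] -/
theorem out_of_isotypic_field {Q : (Fin n → F) → F} (hQ : IsNondegenerateQuadraticForm Q) (hn : 0 < n)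
    {H : Subgroup (GL (Fin n) F)} (hH : H ≤ isometryGroup F Q)
    (N : Subgroup (GL (Fin n) F)) (hN : N ≤ isometryGroup F Q) (hnrm : Nrm H N)
    (hss : IsSemisimpleModule (endAlg N) (Fin n → F)) (hiso : IsIsotypic (endAlg N) (Fin n → F))
    (hbig : ∃ x ∈ commutantCenter N, ∀ c : F, x ≠ c • (1 : Matrix (Fin n) (Fin n) F)) :
    OutFieldSA Q H ∨ OutFieldU Q H := by
  have hns : ¬ N ≤ scalars (Fin n) F := by
    intro hle
    obtain ⟨x, hxK, hx⟩ := hbig
    obtain ⟨c, hc⟩ := scalar_of_mem_commutantCenter_of_le_scalars N hle hxK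
    exact hx c hc
  exact out_of_isotypic_field_of hQ hn hH N hN hnrm hss hiso hbig
    (fun k hk c hkc => quad_similarity_of_commutant hQ N hN hss hiso hns k hk c hkc)

end Cfsg.Agent.Lib.Helper55.Oe
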