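import Mathlib
import Cfsg.Prelude.Def_LieClassical
import Cfsg.Agent.Lib.Helper13.SpinNeg
import Cfsg.Agent.Lib.Helper44.OddQF

set_option autoImplicit false

/-!
S2474 MODULE [SQ] (board #3489): the square of an isometry lies in `Ω`.
-/

namespace Cfsg.Agent.Lib.Helper39.OrthSq

open Cfsg.Agent.Lib.Helper13

/-- General form: over a finite field of odd characteristic, in dimension at least two
(and different from four, or more generally whenever the Dickson/spinor characters exist),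
the square of every isometry lies in the commutator subgroup `Ω(Q)`. -/
theorem sq_mem_Omega {ι : Type} [Fintype ι] [DecidableEq ι] {F : Type*} [Field F] [Fintype F]
    (Q : QuadraticForm F (ι → F)) (hQ : (QuadraticMap.polarBilin Q).Nondegenerate)
    (h2 : (2 : F) ≠ 0) (hdim : 2 ≤ Fintype.card ι)
    (g : ↥(Cfsg.isometryGroup F ⇑Q)) : g ^ 2 ∈ Cfsg.Omega F ⇑Q := by
  classical
  have hfr : Module.finrank F (ι → F) = Fintype.card ι := Module.finrank_fintype_fun_eq_card F
  have hF : (∀ a b : F, ∃ x : F, x ≠ a ∧ x ≠ b) ∨ Module.finrank F (ι → F) ≠ 4 :=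
    Or.inl (exists_ne_ne_of_two_ne_zero h2)
  obtain ⟨-, hker, -⟩ := commutator_isoGroup_eq_ker Q hQ h2 (by rw [hfr]; exact hdim) hF
  let e : ↥(Cfsg.isometryGroup F ⇑Q) ≃* ↥(isoGroup Q) :=
    ((glEquivι ι F).subgroupMap (Cfsg.isometryGroup F ⇑Q)).trans
      (MulEquiv.subgroupCongr (map_glEquivι_isometryGroup Q))
  change g ^ 2 ∈ commutator ↥(Cfsg.isometryGroup F ⇑Q)
  rw [mem_commutator_congr e, hker, MonoidHom.mem_ker, map_pow, map_pow]
  apply Prod.ext
  · change ((parHom Q hQ hF) (e g)) ^ 2 = 1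
    generalize (parHom Q hQ hF) (e g) = x
    apply Multiplicative.toAdd.injective
    rw [toAdd_pow, toAdd_one]
    generalize Multiplicative.toAdd x = y
    revert y
    decide
  · change ((spinHom Q hQ hF) (e g)) ^ 2 = 1
    generalize (spinHom Q hQ hF) (e g) = x
    rw [sq]
    exact Int.units_mul_self x

/-- [SQ] squares of isometries of the standard odd-dimensional form lie in `Ω`. -/
theorem sq_mem_Omega_quadFormOdd {F : Type*} [Field F] [Fintype F] (h2 : (2 : F) ≠ 0) (n : ℕ)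
    (hn : 1 ≤ n) (g : ↥(Cfsg.isometryGroup F (Cfsg.quadFormOdd n F))) :
    g ^ 2 ∈ Cfsg.Omega F (Cfsg.quadFormOdd n F) := by
  have key : ∀ (Q' : (Unit ⊕ (Fin n ⊕ Fin n) → F) → F),
      ⇑(Cfsg.Agent.Lib.Helper44.oddQF n F) = Q' →
      ∀ g : ↥(Cfsg.isometryGroup F Q'), g ^ 2 ∈ Cfsg.Omega F Q' := by
    rintro _ rfl g
    apply sq_mem_Omega _ (Cfsg.Agent.Lib.Helper44.oddQF_nondeg n F h2) h2
    simp only [Fintype.card_sum, Fintype.card_unit, Fintype.card_fin]
    omega
  exact key _ (Cfsg.Agent.Lib.Helper44.oddQF_coe n F) g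

end Cfsg.Agent.Lib.Helper39.OrthSq
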