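import Mathlib
import Cfsg.Prelude.Def_Local
import Cfsg.Prelude.Def_Transfer
import Cfsg.Agent.Lib.Helper26.PGV.End2Defs
import Cfsg.Agent.Lib.Helper21.Quasisimple
import Cfsg.Agent.Lib.Helper25.PgvPQRep
import Cfsg.Agent.Lib.Helper39.PgvRegBeta

/-!
# Project PGV (S3086), END2 sheet (helper26), leaves [REG-PT] and [REG-EV] (helper39, hedge): steps (1)-(4) of the
regular model: `exists_pt`, `conj_smul_pt`, `conj_commute`, `ev_bijective`.
-/

set_option autoImplicit false

namespace Cfsg.Agent.Lib.Helper39.PgvRegEv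

open Cfsg Cfsg.Agent.Lib.Helper26.PGV Cfsg.Agent.Lib.Helper39.PgvRegBeta
open scoped commutatorElement

universe u

variable {H : Type*} {W : Type u} [Group H] [AddCommGroup W] [Module (ZMod 2) W]
variable (r : Representation (ZMod 2) H W) (K B : Subgroup H) (a : H)

/-- in characteristic 2 -/
theorem neg_eq_self (w : W) : -w = w := by
  have h : (2 : ZMod 2) = 0 := by decide
  have : w + w = 0 := by
    have := congrArg (fun c : ZMod 2 => c • w) h
    simpa [two_smul] using this
  exact neg_eq_of_add_eq_zero_left this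

theorem sub_eq_add' (v w : W) : v - w = v + w := by
  rw [sub_eq_add_neg, neg_eq_self]

/-- a hom from a perfect group with commuting values is trivial -/
theorem eq_one_of_perfect_of_commute {L M : Type*} [Group L] [Monoid M] (hperf : Group.IsPerfect L)
    (f : L →* M) (hc : ∀ x y : L, f x * f y = f y * f x) (x : L) : f x = 1 := by
  have hker : commutator L ≤ f.ker := by
    rw [commutator_eq_closure, Subgroup.closure_le]
    rintro g ⟨a, b, rfl⟩
    show f ⁅a, b⁆ = 1
    calc f ⁅a, b⁆ = f a * f b * f a⁻¹ * f b⁻¹ := by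
          rw [commutatorElement_def, map_mul, map_mul, map_mul]
      _ = f b * (f a * f a⁻¹) * f b⁻¹ := by rw [hc a b, mul_assoc (f b)]
      _ = 1 := by
          rw [← map_mul f a, mul_inv_cancel, map_one, mul_one, ← map_mul f b, mul_inv_cancel, map_one]
  have hperf' : commutator L = ⊤ := Group.IsPerfect.commutator_eq_top
  have : x ∈ f.ker := hker (by rw [hperf']; trivial)
  exact this

section
variable {r K B a}

theorem r_a_sq (c : Cfg r K B a) : r a * r a = 1 := by rw [← map_mul, c.ha2, map_one]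

theorem a_inv (c : Cfg r K B a) : a⁻¹ = a := inv_eq_of_mul_eq_one_left c.ha2

/-- `r a ≠ 1` -/
theorem r_a_ne_one (c : Cfg r K B a) : r a ≠ 1 := by
  intro h1
  have hconj : ∀ y, r (a * y * a⁻¹) = r y := by
    intro y
    rw [map_mul, map_mul, h1, one_mul, a_inv c, h1, mul_one]
  have hperf : Group.IsPerfect K := c.hKqs.1
  have htriv := eq_one_of_perfect_of_commute hperf (r.comp K.subtype) (by
    intro x y
    show r (x : H) * r (y : H) = r (y : H) * r (x : H)
    have := congrArg r (c.hcomm x x.2 y y.2)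
    rw [map_mul, map_mul (f := r) (a * (y : H) * a⁻¹), hconj] at this
    exact this)
  obtain ⟨x, hx, w, hw⟩ := c.hKnt
  have : r x = 1 := htriv ⟨x, hx⟩
  exact hw (by rw [this]; rfl)

/-- `r a` fixes `[W, a]` pointwise -/
theorem r_a_fix (c : Cfg r K B a) (w : W) : r a (r a w - w) = r a w - w := by
  have h := congrArg (fun f : Module.End (ZMod 2) W => f w) (r_a_sq c)
  simp only [Module.End.mul_apply, Module.End.one_apply] at h
  rw [map_sub, h, sub_eq_add', sub_eq_add', add_comm]

end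

/-- **[REG-PT]** step (1). -/
theorem exists_pt [Finite H] [Finite W] (c : Cfg r K B a) : ∃ m : W, Pt r B a m := by
  haveI : Fact (Nat.Prime 2) := ⟨Nat.prime_two⟩
  have hB : IsPGroup 2 B := by
    rintro ⟨b, hb⟩
    refine ⟨1, ?_⟩
    apply Subtype.ext
    show b ^ 2 ^ 1 = 1
    rw [pow_one, pow_two]
    exact c.hB2 b hb
  have hR : LinearMap.range (r a - 1) ≠ ⊥ := by
    intro h
    apply r_a_ne_one c
    rw [LinearMap.range_eq_bot] at h
    exact sub_eq_zero.mp h
  have hinv : ∀ b ∈ B, ∀ w ∈ LinearMap.range (r a - 1), r b w ∈ LinearMap.range (r a - 1) := by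
    rintro b hb _ ⟨v, rfl⟩
    refine ⟨r b v, ?_⟩
    have h1 : r b * r a = r a * r b := by rw [← map_mul, c.hBa b hb, map_mul]
    have h2 := congrArg (fun f : Module.End (ZMod 2) W => f v) h1
    simp only [Module.End.mul_apply] at h2
    simp only [LinearMap.sub_apply, Module.End.one_apply, map_sub]
    rw [h2]
  obtain ⟨m, hmR, hm0, hmfix⟩ := Cfsg.Agent.Lib.Helper41.PGV.H25.exists_fixed_ne_zero r B hB _ hR hinv
  obtain ⟨w, hw⟩ := hmR
  exact ⟨m, hm0, ⟨w, by rw [← hw]; rfl⟩, hmfix⟩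

/-- step (2) -/
theorem conj_smul_pt (c : Cfg r K B a) {m : W} (hm : Pt r B a m) {x : H} (hx : x ∈ K) :
    r (a * x * a⁻¹) m = r x⁻¹ m := by
  obtain ⟨w, rfl⟩ := hm.mem
  have h := c.hHD x hx w
  rw [map_mul, Module.End.mul_apply] at h
  have h2 := congrArg (r x⁻¹) h
  rw [← Module.End.mul_apply, ← map_mul, inv_mul_cancel, map_one, Module.End.one_apply] at h2
  exact h2

theorem conj_commute (c : Cfg r K B a) {y : H} (hy : y ∈ K) {ξ : Module.End (ZMod 2) W} (hξ : ξ ∈ AA r K) :
    r (a * y * a⁻¹) * ξ = ξ * r (a * y * a⁻¹) := by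
  unfold AA at hξ
  induction hξ using Algebra.adjoin_induction with
  | mem ξ hξ =>
    obtain ⟨x, hx, rfl⟩ := hξ
    rw [← map_mul, ← map_mul, c.hcomm x hx y hy]
  | algebraMap c' => exact (Algebra.commutes c' _).symm
  | add x y _ _ hx hy => rw [mul_add, add_mul, hx, hy]
  | mul x y _ _ hx hy =>
    calc r (a * _ * a⁻¹) * (x * y) = (r (a * _ * a⁻¹) * x) * y := (mul_assoc _ _ _).symm
      _ = x * (r (a * _ * a⁻¹) * y) := by rw [hx]; exact mul_assoc _ _ _
      _ = x * y * r (a * _ * a⁻¹) := by rw [hy]; exact (mul_assoc _ _ _).symm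

/-- `AA r K` is the additive span of `r K` -/
theorem AA_toSubmodule : Subalgebra.toSubmodule (AA r K) = Submodule.span (ZMod 2) {f | ∃ x ∈ K, f = r x} := by
  unfold AA
  rw [Algebra.adjoin_eq_span]
  congr 1
  have : {f | ∃ x ∈ K, f = r x} = ((K.toSubmonoid.map (r : H →* Module.End (ZMod 2) W) :
      Submonoid (Module.End (ZMod 2) W)) : Set (Module.End (ZMod 2) W)) := by
    ext f
    constructor
    · rintro ⟨x, hx, rfl⟩
      exact ⟨x, hx, rfl⟩
    · rintro ⟨x, hx, rfl⟩
      exact ⟨x, hx, rfl⟩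
  rw [this, Submonoid.closure_eq]

/-- induction on `AA r K` along the additive span -/
theorem AA_induction {P : Module.End (ZMod 2) W → Prop} (h0 : P 0) (hgen : ∀ x ∈ K, P (r x))
    (hadd : ∀ ξ η, P ξ → P η → P (ξ + η)) {ξ : Module.End (ZMod 2) W} (hξ : ξ ∈ AA r K) : P ξ := by
  have hξ' : ξ ∈ Submodule.span (ZMod 2) {f | ∃ x ∈ K, f = r x} := by
    rw [← AA_toSubmodule]; exact hξ
  clear hξ
  induction hξ' using Submodule.span_induction with
  | mem ξ hξ =>
    obtain ⟨x, hx, rfl⟩ := hξ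
    exact hgen x hx
  | zero => exact h0
  | add x y _ _ hx hy => exact hadd x y hx hy
  | smul c' x _ hx =>
    have hall : ∀ c'' : ZMod 2, c'' = 0 ∨ c'' = 1 := by decide
    rcases hall c' with rfl | rfl
    · rw [zero_smul]; exact h0
    · rw [one_smul]; exact hx

/-- the subspace `AA m` -/
def orbitSub (m : W) : Submodule (ZMod 2) W :=
  (Subalgebra.toSubmodule (AA r K)).map (LinearMap.applyₗ (R := ZMod 2) m)

theorem mem_orbitSub {m w : W} : w ∈ orbitSub r K m ↔ ∃ ξ ∈ AA r K, ξ m = w := by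
  unfold orbitSub
  rw [Submodule.mem_map]
  rfl

/-- step (3): `AA m = W` -/
theorem orbitSub_eq_top (c : Cfg r K B a) {m : W} (hm : Pt r B a m) : orbitSub r K m = ⊤ := by
  have ham : r a m = m := by
    obtain ⟨w, rfl⟩ := hm.mem
    exact r_a_fix c w
  have hinv : ∀ g, (g ∈ K ∨ g ∈ B ∨ g = a) → ∀ w ∈ orbitSub r K m, r g w ∈ orbitSub r K m := by
    rintro g (hg | hg | rfl) w hw
    · obtain ⟨ξ, hξ, rfl⟩ := (mem_orbitSub r K).mp hw
      exact (mem_orbitSub r K).mpr ⟨r g * ξ, Subalgebra.mul_mem _ (Algebra.subset_adjoin ⟨g, hg, rfl⟩) hξ, rfl⟩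
    · obtain ⟨ξ, hξ, rfl⟩ := (mem_orbitSub r K).mp hw
      refine (mem_orbitSub r K).mpr ⟨r g * ξ * r g⁻¹, conj_mem_AA r K (c.hBK g hg) hξ, ?_⟩
      show r g (ξ (r g⁻¹ m)) = _
      rw [hm.fixed _ (B.inv_mem hg)]
    · obtain ⟨ξ, hξ, rfl⟩ := (mem_orbitSub r K).mp hw
      refine AA_induction r K (P := fun ξ => r g (ξ m) ∈ orbitSub r K m) ?_ ?_ ?_ hξ
      · show r g ((0 : Module.End (ZMod 2) W) m) ∈ _
        rw [LinearMap.zero_apply, map_zero]
        exact Submodule.zero_mem _
      · intro x hx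
        -- `r a (r x m) = r x' (r a m) = r x⁻¹ m`
        have h1 : r g * r x = r (g * x * g⁻¹) * r g := by
          rw [← map_mul, ← map_mul, inv_mul_cancel_right]
        have h2 : r g (r x m) = r (g * x * g⁻¹) (r g m) := by
          have := congrArg (fun f : Module.End (ZMod 2) W => f m) h1
          simpa only [Module.End.mul_apply] using this
        show r g (r x m) ∈ _
        rw [h2, ham, conj_smul_pt r K B g c hm hx]
        exact (mem_orbitSub r K).mpr ⟨r x⁻¹, Algebra.subset_adjoin ⟨x⁻¹, K.inv_mem hx, rfl⟩, rfl⟩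
      · intro ξ η hξ hη
        show r g ((ξ + η) m) ∈ _
        rw [LinearMap.add_apply, map_add]
        exact Submodule.add_mem _ hξ hη
  rcases c.hirr _ hinv with h | h
  · exfalso
    apply hm.ne
    have : m ∈ orbitSub r K m := (mem_orbitSub r K).mpr ⟨1, Subalgebra.one_mem _, rfl⟩
    rw [h] at this
    exact (Submodule.mem_bot _).mp this
  · exact h

/-- step (4): `Ann(m) = 0` -/
theorem eq_zero_of_apply_pt (c : Cfg r K B a) {m : W} (hm : Pt r B a m) {ξ : Module.End (ZMod 2) W}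
    (hξ : ξ ∈ AA r K) (h0 : ξ m = 0) : ξ = 0 := by
  -- `ξ` kills `r x m`
  have h1 : ∀ x ∈ K, ξ (r x m) = 0 := by
    intro x hx
    have h2 := conj_smul_pt r K B a c hm (K.inv_mem hx)
    rw [inv_inv] at h2
    rw [← h2]
    have h3 := conj_commute r K B a c (K.inv_mem hx) hξ
    have h4 := congrArg (fun f : Module.End (ZMod 2) W => f m) h3
    simp only [Module.End.mul_apply] at h4
    rw [← h4, h0, map_zero]
  ext w
  have hw : w ∈ orbitSub r K m := by rw [orbitSub_eq_top r K B a c hm]; trivial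
  obtain ⟨η, hη, rfl⟩ := (mem_orbitSub r K).mp hw
  rw [LinearMap.zero_apply]
  refine AA_induction r K (P := fun η => ξ (η m) = 0) ?_ ?_ ?_ hη
  · show ξ ((0 : Module.End (ZMod 2) W) m) = 0
    rw [LinearMap.zero_apply, map_zero]
  · intro x hx
    exact h1 x hx
  · intro η₁ η₂ h₁ h₂
    show ξ ((η₁ + η₂) m) = 0
    rw [LinearMap.add_apply, map_add, h₁, h₂, add_zero]

/-- **[REG-EV]** steps (2)-(4). -/
theorem ev_bijective [Finite H] [Finite W] (c : Cfg r K B a) {m : W} (hm : Pt r B a m) :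
    Function.Bijective (fun ξ : AA r K => (ξ : Module.End (ZMod 2) W) m) := by
  constructor
  · intro ξ η h
    apply Subtype.ext
    have h1 : ((ξ : Module.End (ZMod 2) W) - η) m = 0 := by
      rw [LinearMap.sub_apply]
      exact sub_eq_zero.mpr h
    have := eq_zero_of_apply_pt r K B a c hm (Subalgebra.sub_mem _ ξ.2 η.2) h1
    exact sub_eq_zero.mp this
  · intro w
    have hw : w ∈ orbitSub r K m := by rw [orbitSub_eq_top r K B a c hm]; trivial
    obtain ⟨ξ, hξ, rfl⟩ := (mem_orbitSub r K).mp hw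
    exact ⟨⟨ξ, hξ⟩, rfl⟩

end Cfsg.Agent.Lib.Helper39.PgvRegEv
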