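import Mathlib
import Cfsg.Agent.Lib.Helper39.PlusFieldR2
import Cfsg.Agent.Lib.Helper11.PlusFieldCent
import Cfsg.Agent.Lib.Helper54.PlusFieldEvenBC

set_option autoImplicit false
set_option linter.unusedVariables false
set_option linter.unusedSectionVars false

/-!
# PF15 MODULE [R2] (helper37's sheet, board #4519), exact statement

`splitClassCount_phiP_two_of` with helper11's description of the centraliser ([CENT]) and
helper54's base change of the class character ([EVENBC]).
-/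

namespace Cfsg.Agent.Lib.Helper39.PlusField

open scoped MatrixGroups Matrix
open Module Matrix Cfsg.Agent.Lib.Helper45.PSLField Cfsg.Agent.Lib.Helper36 Cfsg.Agent.S2168
  Cfsg.Agent.Lib.Helper43 Cfsg.Agent.Lib.Helper13 Cfsg.Agent.Lib.Helper37.PlusField

variable {m : ℕ} {F : Type*} [Field F] [Fintype F] {F₀ : Type*} [Field F₀] [Fintype F₀]

/-- **PF15-[R2]** -/
theorem splitClassCount_phiP_two (hm : 4 ≤ m) (h2 : (2 : F) ≠ 0) (σ : RingAut F)
    (hσ : orderOf σ = 2) (j : F₀ →+* F) (hj : ∀ a : F, σ a = a ↔ ∃ b, j b = a)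
    (hcard : Fintype.card F = Fintype.card F₀ ^ 2) :
    ((Odd m ∧ Fintype.card F₀ % 4 = 1) →
      Cfsg.splitClassCount (inndiagPlusQ m F) (Cfsg.Inn (Cfsg.POmega F (⇑(plusQF m F)))) (phiP m σ) = 2) ∧
    (¬ (Odd m ∧ Fintype.card F₀ % 4 = 1) →
      Cfsg.splitClassCount (inndiagPlusQ m F) (Cfsg.Inn (Cfsg.POmega F (⇑(plusQF m F)))) (phiP m σ) = 4) :=
  splitClassCount_phiP_two_of hm h2 σ j hcard
    (Cfsg.Agent.Lib.Helper54.PlusField.plusEven_map_iff j)
    (Cfsg.Agent.Lib.Helper11.PlusField.mem_inndiag_centralizer_iff_of hm j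
      (Cfsg.Agent.Lib.Helper54.PlusField.plusEven_map_iff j) σ two_pos hσ hj)

end Cfsg.Agent.Lib.Helper39.PlusField
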