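import Mathlib
import Cfsg.Prelude.Def_Characters
import Cfsg.Agent.Lib.Helper39.NormIneq

set_option autoImplicit false

/-!
# Covering a finite group by conjugates of rigid sets (helper39)

If finitely many sets `S i`, rigid with respect to subgroups `H i`, have pairwise disjoint
conjugacy closures and `∑ |S i| / |H i| = 1`, then every element of `G` is conjugate into exactly
one `S i` (with exactly `|H i|` conjugators), and sums of class functions over `G` split.
-/

namespace Cfsg.Agent.Lib.Helper39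

section rigidcover

variable {G : Type*} [Group G] [Fintype G] [DecidableEq G]

/-- the number of conjugators of `g` into `S` -/
def conjCount (S : Finset G) (g : G) : ℕ :=
  (Finset.univ.filter (fun x : G => x⁻¹ * g * x ∈ S)).card

theorem conjCount_le (B : Subgroup G) (S : Finset G)
    (hS : ∀ s ∈ S, ∀ x : G, x⁻¹ * s * x ∈ S → x ∈ B) (g : G) :
    conjCount S g ≤ Nat.card B := card_conjugators_le B S hS g

theorem conjCount_ne_zero_iff (S : Finset G) (g : G) :
    conjCount S g ≠ 0 ↔ ∃ x : G, x⁻¹ * g * x ∈ S := by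
  unfold conjCount
  rw [Finset.card_ne_zero]
  constructor
  · rintro ⟨x, hx⟩
    exact ⟨x, (Finset.mem_filter.mp hx).2⟩
  · rintro ⟨x, hx⟩
    exact ⟨x, Finset.mem_filter.mpr ⟨Finset.mem_univ _, hx⟩⟩

/-- double counting for class functions -/
theorem sum_conjCount_mul (S : Finset G) (f : G → ℂ) (hf : Cfsg.IsClassFunction G f) :
    ∑ g : G, (conjCount S g : ℂ) * f g = (Fintype.card G : ℂ) * ∑ s ∈ S, f s := by
  classical
  have h1 : ∀ x : G, ∑ s ∈ S, f s = ∑ g : G, if x⁻¹ * g * x ∈ S then f g else 0 := by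
    intro x
    rw [← Finset.sum_filter]
    symm
    apply Finset.sum_bij (fun g _ => x⁻¹ * g * x)
    · intro g hg
      exact (Finset.mem_filter.mp hg).2
    · intro a _ b _ hab
      simpa using hab
    · intro s hs
      refine ⟨x * s * x⁻¹, ?_, ?_⟩
      · rw [Finset.mem_filter]
        refine ⟨Finset.mem_univ _, ?_⟩
        have : x⁻¹ * (x * s * x⁻¹) * x = s := by group
        rw [this]; exact hs
      · group
    · intro g _
      have := hf g x⁻¹
      rw [inv_inv] at this
      rw [this]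
  have : (Fintype.card G : ℂ) * ∑ s ∈ S, f s = ∑ _x : G, ∑ s ∈ S, f s := by
    rw [Finset.sum_const, Finset.card_univ, nsmul_eq_mul]
  rw [this, Finset.sum_congr rfl (fun x _ => h1 x), Finset.sum_comm]
  refine Finset.sum_congr rfl (fun g _ => ?_)
  unfold conjCount
  rw [← Finset.sum_filter, Finset.sum_const, nsmul_eq_mul]

theorem sum_conjCount (S : Finset G) :
    ∑ g : G, conjCount S g = Fintype.card G * S.card := by
  have h := sum_conjCount_mul S (fun _ => (1 : ℂ)) (fun _ _ => rfl)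
  simp only [mul_one, Finset.sum_const, nsmul_eq_mul] at h
  exact_mod_cast h

variable {ι : Type*} [Fintype ι]

/-- the covering weight of `g` -/
noncomputable def coverWeight (H : ι → Subgroup G) (S : ι → Finset G) (g : G) : ℚ :=
  ∑ i, (conjCount (S i) g : ℚ) / (Nat.card (H i) : ℚ)

theorem coverWeight_le_one (H : ι → Subgroup G) (S : ι → Finset G)
    (hrig : ∀ i, ∀ s ∈ S i, ∀ x : G, x⁻¹ * s * x ∈ S i → x ∈ H i)
    (hdisj : ∀ i j, i ≠ j → ∀ g x y : G, x⁻¹ * g * x ∈ S i → y⁻¹ * g * y ∉ S j) (g : G) :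
    coverWeight H S g ≤ 1 := by
  unfold coverWeight
  by_cases h : ∃ i, conjCount (S i) g ≠ 0
  · obtain ⟨i₀, hi₀⟩ := h
    obtain ⟨x, hx⟩ := (conjCount_ne_zero_iff _ _).mp hi₀
    have hz : ∀ j, j ≠ i₀ → (conjCount (S j) g : ℚ) / (Nat.card (H j) : ℚ) = 0 := by
      intro j hj
      have : conjCount (S j) g = 0 := by
        by_contra hne
        obtain ⟨y, hy⟩ := (conjCount_ne_zero_iff _ _).mp hne
        exact hdisj i₀ j (Ne.symm hj) g x y hx hy
      rw [this]; simp
    rw [Finset.sum_eq_single i₀ (fun j _ hj => hz j hj) (fun h => absurd (Finset.mem_univ _) h)]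
    have hpos : (0 : ℚ) < (Nat.card (H i₀) : ℚ) := by exact_mod_cast Nat.card_pos
    rw [div_le_one hpos]
    exact_mod_cast conjCount_le (H i₀) (S i₀) (hrig i₀) g
  · have h' : ∀ i, conjCount (S i) g = 0 := fun i => by_contra (fun hne => h ⟨i, hne⟩)
    simp [h']

theorem sum_coverWeight (H : ι → Subgroup G) (S : ι → Finset G) :
    ∑ g : G, coverWeight H S g =
      (Fintype.card G : ℚ) * ∑ i, ((S i).card : ℚ) / (Nat.card (H i) : ℚ) := by
  unfold coverWeight
  rw [Finset.sum_comm, Finset.mul_sum]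
  refine Finset.sum_congr rfl (fun i _ => ?_)
  rw [← Finset.sum_div, ← Nat.cast_sum, sum_conjCount]
  push_cast
  ring

/-- **Rigid covering**: every element has covering weight one. -/
theorem coverWeight_eq_one (H : ι → Subgroup G) (S : ι → Finset G)
    (hrig : ∀ i, ∀ s ∈ S i, ∀ x : G, x⁻¹ * s * x ∈ S i → x ∈ H i)
    (hdisj : ∀ i j, i ≠ j → ∀ g x y : G, x⁻¹ * g * x ∈ S i → y⁻¹ * g * y ∉ S j)
    (hsize : ∑ i, ((S i).card : ℚ) / (Nat.card (H i) : ℚ) = 1) (g : G) :
    coverWeight H S g = 1 := by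
  have hsum := sum_coverWeight H S
  rw [hsize, mul_one] at hsum
  have hle := coverWeight_le_one H S hrig hdisj
  have h0 : ∑ g : G, (1 - coverWeight H S g) = 0 := by
    rw [Finset.sum_sub_distrib, hsum]
    simp
  have h1 := (Finset.sum_eq_zero_iff_of_nonneg (fun g _ => sub_nonneg.mpr (hle g))).mp h0 g
    (Finset.mem_univ _)
  linarith

/-- every element is conjugate into one of the rigid sets, with the full number of conjugators -/
theorem exists_conjCount_eq (H : ι → Subgroup G) (S : ι → Finset G)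
    (hrig : ∀ i, ∀ s ∈ S i, ∀ x : G, x⁻¹ * s * x ∈ S i → x ∈ H i)
    (hdisj : ∀ i j, i ≠ j → ∀ g x y : G, x⁻¹ * g * x ∈ S i → y⁻¹ * g * y ∉ S j)
    (hsize : ∑ i, ((S i).card : ℚ) / (Nat.card (H i) : ℚ) = 1) (g : G) :
    ∃ i, conjCount (S i) g = Nat.card (H i) ∧ ∃ x : G, x⁻¹ * g * x ∈ S i := by
  have hw := coverWeight_eq_one H S hrig hdisj hsize g
  by_cases h : ∃ i, conjCount (S i) g ≠ 0
  · obtain ⟨i₀, hi₀⟩ := h
    obtain ⟨x, hx⟩ := (conjCount_ne_zero_iff _ _).mp hi₀
    have hz : ∀ j, j ≠ i₀ → (conjCount (S j) g : ℚ) / (Nat.card (H j) : ℚ) = 0 := by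
      intro j hj
      have : conjCount (S j) g = 0 := by
        by_contra hne
        obtain ⟨y, hy⟩ := (conjCount_ne_zero_iff _ _).mp hne
        exact hdisj i₀ j (Ne.symm hj) g x y hx hy
      rw [this]; simp
    unfold coverWeight at hw
    rw [Finset.sum_eq_single i₀ (fun j _ hj => hz j hj)
      (fun h => absurd (Finset.mem_univ _) h)] at hw
    have hpos : (0 : ℚ) < (Nat.card (H i₀) : ℚ) := by exact_mod_cast Nat.card_pos
    rw [div_eq_one_iff_eq hpos.ne'] at hw
    exact ⟨i₀, by exact_mod_cast hw, x, hx⟩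
  · have h' : ∀ i, conjCount (S i) g = 0 := fun i => by_contra (fun hne => h ⟨i, hne⟩)
    unfold coverWeight at hw
    simp [h'] at hw

/-- sums of class functions split along a rigid covering -/
theorem sum_eq_sum_rigid (H : ι → Subgroup G) (S : ι → Finset G)
    (hrig : ∀ i, ∀ s ∈ S i, ∀ x : G, x⁻¹ * s * x ∈ S i → x ∈ H i)
    (hdisj : ∀ i j, i ≠ j → ∀ g x y : G, x⁻¹ * g * x ∈ S i → y⁻¹ * g * y ∉ S j)
    (hsize : ∑ i, ((S i).card : ℚ) / (Nat.card (H i) : ℚ) = 1)
    (f : G → ℂ) (hf : Cfsg.IsClassFunction G f) :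
    ∑ g : G, f g =
      ∑ i, (Fintype.card G : ℂ) / (Nat.card (H i) : ℂ) * ∑ s ∈ S i, f s := by
  have hw := coverWeight_eq_one H S hrig hdisj hsize
  have h1 : ∑ g : G, f g = ∑ g : G, ((coverWeight H S g : ℚ) : ℂ) * f g := by
    refine Finset.sum_congr rfl (fun g _ => ?_)
    rw [hw g]; simp
  rw [h1]
  unfold coverWeight
  simp only [Rat.cast_sum, Rat.cast_div, Rat.cast_natCast, Finset.sum_mul]
  rw [Finset.sum_comm]
  refine Finset.sum_congr rfl (fun i _ => ?_)
  have := sum_conjCount_mul (S i) f hf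
  calc ∑ g : G, (conjCount (S i) g : ℂ) / (Nat.card (H i) : ℂ) * f g
      = (∑ g : G, (conjCount (S i) g : ℂ) * f g) / (Nat.card (H i) : ℂ) := by
        rw [Finset.sum_div]
        refine Finset.sum_congr rfl (fun g _ => ?_)
        ring
    _ = _ := by rw [this]; ring

end rigidcover

end Cfsg.Agent.Lib.Helper39
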