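import Mathlib
import Cfsg.Prelude.Def_LieClassical
import Cfsg.Agent.Lib.Helper44.SpinorCrit

set_option autoImplicit false
set_option linter.unusedSectionVars false

/-!
S2362 MODULE [SPINOR] (board #3111): the involution `1_U ⊕ (-1_W)` lies in `Ω` only if the
discriminant of `W` is a square.
-/

namespace Cfsg.Agent.Lib.Helper39.S2362Spinor

open Matrix Module Cfsg.Agent.Lib.Helper44

section prod
variable {F : Type*} [Field F] {ι : Type} [Fintype ι] [DecidableEq ι]

/-- polar form against a list sum -/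
theorem polar_list_sum (Q : QuadraticForm F (ι → F)) (v : ι → F) (l : List (ι → F)) :
    QuadraticMap.polar (⇑Q) v l.sum = (l.map (fun y => QuadraticMap.polar (⇑Q) v y)).sum := by
  induction l with
  | nil => simp
  | cons a l ih =>
    rw [List.sum_cons, QuadraticMap.polar_add_right, ih, List.map_cons, List.sum_cons]

/-- The product of the reflections in pairwise orthogonal non-singular vectors. -/
theorem prod_refl_mulVec {κ : Type*} (Q : QuadraticForm F (ι → F)) (w : κ → ι → F)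
    (hw : ∀ i, Q (w i) ≠ 0)
    (horth : ∀ i j, i ≠ j → QuadraticMap.polar (⇑Q) (w i) (w j) = 0)
    (l : List κ) (hl : l.Nodup) (x : ι → F) :
    ((((l.map (fun i => reflElt Q (w i))).prod : ↥(Cfsg.isometryGroup F (⇑Q))) : GL ι F) :
        Matrix ι ι F) *ᵥ x =
      x - (l.map (fun i => ((Q (w i))⁻¹ * QuadraticMap.polar (⇑Q) (w i) x) • w i)).sum := by
  induction l with
  | nil => simp
  | cons i l ih =>
    have hi : i ∉ l := (List.nodup_cons.1 hl).1
    rw [List.map_cons, List.prod_cons, Subgroup.coe_mul, Units.val_mul, ← Matrix.mulVec_mulVec,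
      ih (List.nodup_cons.1 hl).2, reflElt_mulVec _ _ (hw i), List.map_cons, List.sum_cons,
      QuadraticMap.polar_sub_right, polar_list_sum, List.map_map]
    have h0 : (l.map ((fun y => QuadraticMap.polar (⇑Q) (w i) y) ∘
        fun k => ((Q (w k))⁻¹ * QuadraticMap.polar (⇑Q) (w k) x) • w k)).sum = 0 := by
      apply List.sum_eq_zero
      intro y hy
      obtain ⟨k, hk, rfl⟩ := List.mem_map.1 hy
      have hik : i ≠ k := fun h => hi (h ▸ hk)
      simp only [Function.comp_apply]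
      rw [QuadraticMap.polar_smul_right, horth i k hik, smul_zero]
    rw [h0, sub_zero]
    abel

end prod

section main
variable {F : Type*} [Field F] [Fintype F] {ι : Type} [Fintype ι] [DecidableEq ι]

/-- Gram determinants in two bases differ by a nonzero square. -/
theorem gram_change {F V ι κ : Type*} [Field F] [AddCommGroup V] [Module F V]
    [Fintype ι] [DecidableEq ι] [Fintype κ] [DecidableEq κ]
    (B : LinearMap.BilinForm F V) (b : Basis ι F V) (c : Basis κ F V) :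
    ∃ s : F, s ≠ 0 ∧ (LinearMap.BilinForm.toMatrix c B).det =
      s * s * (LinearMap.BilinForm.toMatrix b B).det := by
  let e : κ ≃ ι := c.indexEquiv b
  let c' : Basis ι F V := c.reindex e
  have h1 : LinearMap.BilinForm.toMatrix c B =
      (LinearMap.BilinForm.toMatrix c' B).submatrix e e := by
    ext i j
    simp [LinearMap.BilinForm.toMatrix_apply, c']
  have h2 := LinearMap.BilinForm.toMatrix_mul_basis_toMatrix (b := b) c' B
  refine ⟨(b.toMatrix c').det, ?_, ?_⟩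
  · have : IsUnit (b.toMatrix c').det := by
      rw [← Matrix.isUnit_iff_isUnit_det]
      have := Module.Basis.invertibleToMatrix b c'
      exact isUnit_of_invertible _
    exact this.ne_zero
  · rw [h1, Matrix.det_submatrix_equiv_self, ← h2, Matrix.det_mul, Matrix.det_mul,
      Matrix.det_transpose]
    ring

theorem mulVec_dotProduct' {m n : Type*} [Fintype m] [Fintype n] (A : Matrix m n F) (y : n → F)
    (v : m → F) : (A *ᵥ y) ⬝ᵥ v = y ⬝ᵥ (Aᵀ *ᵥ v) := by
  rw [Matrix.dotProduct_mulVec, Matrix.vecMul_transpose]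

/-- **S2362 MODULE [SPINOR]** (board #3111). -/
theorem isSquare_det_of_neg_block_mem_Omega (h2 : (2 : F) ≠ 0) (Q : QuadraticForm F (ι → F))
    (hQ : (QuadraticMap.polarBilin Q).Nondegenerate) (hcard : 2 ≤ Fintype.card ι)
    {k₁ k₂ : ℕ} (hk₂ : Even k₂)
    (T : Matrix (Fin k₁ ⊕ Fin k₂) ι F) (T' : Matrix ι (Fin k₁ ⊕ Fin k₂) F)
    (hTT' : T * T' = 1) (hT'T : T' * T = 1)
    (G₁ : Matrix (Fin k₁) (Fin k₁) F) (G₂ : Matrix (Fin k₂) (Fin k₂) F)
    (hG : T'ᵀ * LinearMap.BilinForm.toMatrix' (QuadraticMap.polarBilin Q) * T' =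
      fromBlocks G₁ 0 0 G₂)
    (z : ↥(Cfsg.isometryGroup F ⇑Q)) (hz : z ∈ Cfsg.Omega F ⇑Q)
    (hzm : ((z : Matrix.GeneralLinearGroup ι F) : Matrix ι ι F) =
      T' * (fromBlocks 1 0 0 (-1) : Matrix (Fin k₁ ⊕ Fin k₂) (Fin k₁ ⊕ Fin k₂) F) * T) :
    IsSquare G₂.det := by
  classical
  let _ : Invertible (2 : F) := invertibleOfNonzero h2
  set M := LinearMap.BilinForm.toMatrix' (QuadraticMap.polarBilin Q) with hM
  have hpol : ∀ x y, QuadraticMap.polar (⇑Q) x y = x ⬝ᵥ M *ᵥ y := by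
    intro x y
    rw [← QuadraticMap.polarBilin_apply_apply, ← Matrix.toBilin'_apply', hM,
      Matrix.toBilin'_toMatrix']
  have hMsymm : Mᵀ = M := by
    ext i j
    rw [Matrix.transpose_apply, hM, LinearMap.BilinForm.toMatrix'_apply,
      LinearMap.BilinForm.toMatrix'_apply, QuadraticMap.polarBilin_apply_apply,
      QuadraticMap.polarBilin_apply_apply, QuadraticMap.polar_comm]
  -- block decomposition
  obtain ⟨A₁, A₂, rfl⟩ : ∃ A₁ A₂, T' = fromCols A₁ A₂ := ⟨_, _, (fromCols_toCols T').symm⟩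
  obtain ⟨R₁, R₂, rfl⟩ : ∃ R₁ R₂, T = fromRows R₁ R₂ := ⟨_, _, (fromRows_toRows T).symm⟩
  rw [fromCols_mul_fromRows] at hT'T
  rw [fromRows_mul_fromCols, ← fromBlocks_one, fromBlocks_inj] at hTT'
  obtain ⟨-, -, hR₂A₁, hR₂A₂⟩ := hTT'
  rw [transpose_fromCols, fromRows_mul, fromRows_mul_fromCols, fromBlocks_inj] at hG
  obtain ⟨-, -, hA₂MA₁, hA₂MA₂⟩ := hG
  rw [fromCols_mul_fromBlocks, fromCols_mul_fromRows] at hzm
  simp only [Matrix.mul_one, Matrix.mul_zero, add_zero, zero_add, Matrix.mul_neg] at hzm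
  -- z acts as x ↦ x - 2 A₂ R₂ x
  have hzx : ∀ x : ι → F, ((z : GL ι F) : Matrix ι ι F) *ᵥ x = x - (2 : F) • A₂ *ᵥ (R₂ *ᵥ x) := by
    intro x
    have h1 : A₁ * R₁ = 1 - A₂ * R₂ := eq_sub_of_add_eq hT'T
    rw [hzm, h1, Matrix.neg_mul, ← sub_eq_add_neg, Matrix.sub_mulVec, Matrix.sub_mulVec,
      Matrix.one_mulVec, ← Matrix.mulVec_mulVec, two_smul]
    abel
  -- polar form against W
  have hpolW : ∀ (y : Fin k₂ → F) (x : ι → F),
      QuadraticMap.polar (⇑Q) (A₂ *ᵥ y) x = y ⬝ᵥ G₂ *ᵥ (R₂ *ᵥ x) := by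
    intro y x
    have hx : x = A₁ *ᵥ (R₁ *ᵥ x) + A₂ *ᵥ (R₂ *ᵥ x) := by
      rw [Matrix.mulVec_mulVec, Matrix.mulVec_mulVec, ← Matrix.add_mulVec, hT'T,
        Matrix.one_mulVec]
    have e1 : ∀ u, A₂ᵀ *ᵥ (M *ᵥ (A₁ *ᵥ u)) = 0 := by
      intro u
      rw [Matrix.mulVec_mulVec, Matrix.mulVec_mulVec, hA₂MA₁, Matrix.zero_mulVec]
    have e2 : ∀ u, A₂ᵀ *ᵥ (M *ᵥ (A₂ *ᵥ u)) = G₂ *ᵥ u := by
      intro u
      rw [Matrix.mulVec_mulVec, Matrix.mulVec_mulVec, hA₂MA₂]
    rw [hpol, mulVec_dotProduct']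
    conv_lhs => rw [hx]
    rw [Matrix.mulVec_add, Matrix.mulVec_add, e1, e2, zero_add]
  -- nondegeneracy of G₂
  have hG₂det : G₂.det ≠ 0 := by
    intro h0
    obtain ⟨y, hy0, hy⟩ := Matrix.exists_vecMul_eq_zero_iff.2 h0
    apply hy0
    have h1 : A₂ *ᵥ y = 0 := by
      apply hQ.1 (A₂ *ᵥ y)
      intro x
      rw [QuadraticMap.polarBilin_apply_apply, hpolW, Matrix.dotProduct_mulVec, hy,
        zero_dotProduct]
    have h3 : R₂ *ᵥ (A₂ *ᵥ y) = y := by
      rw [Matrix.mulVec_mulVec, hR₂A₂, Matrix.one_mulVec]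
    rw [← h3, h1, Matrix.mulVec_zero]
  have hG₂symm : G₂ᵀ = G₂ := by
    rw [← hA₂MA₂, Matrix.transpose_mul, Matrix.transpose_mul, Matrix.transpose_transpose, hMsymm,
      Matrix.mul_assoc]
  set B₂ : LinearMap.BilinForm F (Fin k₂ → F) := Matrix.toBilin' G₂ with hB₂
  have hB₂app : ∀ u v, B₂ u v = u ⬝ᵥ G₂ *ᵥ v := fun u v => Matrix.toBilin'_apply' G₂ u v
  have hB₂symm : LinearMap.IsSymm B₂ := by
    refine ⟨fun u v => ?_⟩
    rw [RingHom.id_apply, hB₂app, hB₂app]
    conv_lhs => rw [← hG₂symm]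
    rw [Matrix.dotProduct_transpose_mulVec]
  have hB₂nd : B₂.Nondegenerate :=
    Matrix.Nondegenerate.toBilin' (Matrix.nondegenerate_iff_det_ne_zero.2 hG₂det)
  obtain ⟨b, hb⟩ := LinearMap.BilinForm.exists_orthogonal_basis hB₂symm
  have hbb : ∀ i, B₂ (b i) (b i) ≠ 0 := hb.not_isOrtho_basis_self_of_separatingLeft hB₂nd.1
  set w : Fin (finrank F (Fin k₂ → F)) → ι → F := fun i => A₂ *ᵥ b i with hwdef
  have hpolww : ∀ i j, QuadraticMap.polar (⇑Q) (w i) (w j) = B₂ (b i) (b j) := by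
    intro i j
    show QuadraticMap.polar (⇑Q) (A₂ *ᵥ b i) (A₂ *ᵥ b j) = _
    rw [hpolW, hB₂app, Matrix.mulVec_mulVec (b j) R₂ A₂, hR₂A₂, Matrix.one_mulVec]
  have hQw : ∀ i, Q (w i) = B₂ (b i) (b i) / 2 := by
    intro i
    have h1 := QuadraticMap.polar_self Q (w i)
    rw [hpolww, two_nsmul] at h1
    rw [h1]
    field_simp
    ring
  have hw : ∀ i, Q (w i) ≠ 0 := by
    intro i
    rw [hQw]
    exact div_ne_zero (hbb i) h2
  have horth : ∀ i j, i ≠ j → QuadraticMap.polar (⇑Q) (w i) (w j) = 0 := by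
    intro i j hij
    rw [hpolww]
    exact hb hij
  set l : List (Fin (finrank F (Fin k₂ → F))) := (Finset.univ : Finset _).toList with hldef
  have hl : l.Nodup := Finset.nodup_toList _
  have hP := prod_refl_mulVec Q w hw horth l hl
  have hzP : z = (l.map (fun i => reflElt Q (w i))).prod := by
    apply Subtype.ext
    apply Units.ext
    apply matrix_ext_mulVec
    intro x
    rw [hzx, hP]
    congr 1
    have hc : ∀ i, QuadraticMap.polar (⇑Q) (w i) x =
        b.repr (R₂ *ᵥ x) i * B₂ (b i) (b i) := by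
      intro i
      show QuadraticMap.polar (⇑Q) (A₂ *ᵥ b i) x = _
      rw [hpolW, ← hB₂app]
      conv_lhs => rw [← b.sum_repr (R₂ *ᵥ x)]
      rw [map_sum, Finset.sum_eq_single i]
      · rw [map_smul, smul_eq_mul]
      · intro j _ hji
        rw [map_smul, hb (Ne.symm hji), smul_zero]
      · intro h
        exact absurd (Finset.mem_univ i) h
    have hfun : (fun i => ((Q (w i))⁻¹ * QuadraticMap.polar (⇑Q) (w i) x) • w i) =
        fun i => (2 * b.repr (R₂ *ᵥ x) i) • A₂ *ᵥ b i := by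
      funext i
      rw [hc, hQw]
      congr 1
      have := hbb i
      field_simp
    have hA : A₂ *ᵥ (R₂ *ᵥ x) = ∑ i, b.repr (R₂ *ᵥ x) i • A₂ *ᵥ b i := by
      conv_lhs => rw [← b.sum_repr (R₂ *ᵥ x)]
      rw [← Matrix.mulVecLin_apply, map_sum]
      apply Finset.sum_congr rfl
      intro i _
      rw [map_smul, Matrix.mulVecLin_apply]
    rw [hfun, hldef, Finset.sum_map_toList, hA, Finset.smul_sum]
    apply Finset.sum_congr rfl
    intro i _
    rw [smul_smul]
  rw [hzP] at hz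
  have hvs : ∀ v ∈ l.map w, Q v ≠ 0 := by
    intro v hv
    obtain ⟨i, -, rfl⟩ := List.mem_map.1 hv
    exact hw i
  have hcrit := (reflElt_list_prod_mem_Omega_iff Q h2 hcard hQ (l.map w) hvs).1
    (by rw [List.map_map]; exact hz)
  obtain ⟨-, hsq⟩ := hcrit
  rw [List.map_map, hldef, Finset.prod_map_toList] at hsq
  -- ∏ Q (w i) vs det G₂
  obtain ⟨s, hs0, hs⟩ := gram_change B₂ (Pi.basisFun F (Fin k₂)) b
  have hGb : LinearMap.BilinForm.toMatrix b B₂ = Matrix.diagonal (fun i => B₂ (b i) (b i)) := by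
    ext i j
    rw [LinearMap.BilinForm.toMatrix_apply, Matrix.diagonal_apply]
    by_cases hij : i = j
    · subst hij; simp
    · rw [if_neg hij]; exact hb hij
  have hGf : LinearMap.BilinForm.toMatrix (Pi.basisFun F (Fin k₂)) B₂ = G₂ := by
    rw [LinearMap.BilinForm.toMatrix_basisFun, hB₂, LinearMap.BilinForm.toMatrix'_toBilin']
  rw [hGb, hGf, Matrix.det_diagonal] at hs
  have hcardκ : Fintype.card (Fin (finrank F (Fin k₂ → F))) = k₂ := by
    rw [Fintype.card_fin, Module.finrank_fin_fun]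
  have hprod : ∏ i, Q (w i) = (∏ i, B₂ (b i) (b i)) / 2 ^ k₂ := by
    rw [Finset.prod_congr rfl (fun i _ => hQw i), Finset.prod_div_distrib, Finset.prod_const,
      Finset.card_univ, hcardκ]
  have hsq' : IsSquare (∏ i, Q (w i)) := hsq
  rw [hprod, hs] at hsq'
  obtain ⟨m, hm⟩ := hk₂
  obtain ⟨r, hr⟩ := hsq'
  have h2m : (2 : F) ^ m ≠ 0 := pow_ne_zero _ h2
  refine ⟨2 ^ m * r / s, ?_⟩
  have h2k : (2 : F) ^ k₂ = 2 ^ m * 2 ^ m := by rw [hm, pow_add]
  rw [h2k] at hr
  field_simp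
  field_simp at hr
  linear_combination hr

end main

end Cfsg.Agent.Lib.Helper39.S2362Spinor
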