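import Cfsg.Agent.Lib.Helper39.SL2OddCount
import Cfsg.Agent.Lib.Helper39.DegType

set_option autoImplicit false

/-!
# Values of the half-degree characters of `SL₂(q)` at the transvection (helper39)
-/

namespace Cfsg.Agent.Lib.Helper39

open Matrix Cfsg.Agent.Lib.Helper41
open scoped ComplexConjugate

section gauss

variable {F : Type*} [Field F] [Fintype F] [DecidableEq F]

/-- the sum of `ψ` over the non-zero squares -/
noncomputable def sumSq (ψ : AddChar F ℂ) : ℂ :=
  ∑ c : F, if quadraticChar F c = 1 then ψ c else 0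

/-- the sum of `ψ` over the non-squares -/
noncomputable def sumNsq (ψ : AddChar F ℂ) : ℂ :=
  ∑ c : F, if quadraticChar F c = -1 then ψ c else 0

theorem sumSq_add_sumNsq {ψ : AddChar F ℂ} (hψ : ψ.IsPrimitive) :
    sumSq ψ + sumNsq ψ = -1 := by
  have hs := AddChar.sum_mulShift (1 : F) hψ
  rw [if_neg one_ne_zero] at hs
  simp only [mul_one] at hs
  have hpt : ∀ c : F, ψ c = (if c = 0 then 1 else 0) +
      ((if quadraticChar F c = 1 then ψ c else 0) +
        (if quadraticChar F c = -1 then ψ c else 0)) := by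
    intro c
    by_cases hc : c = 0
    · subst hc; simp
    · rcases quadraticChar_dichotomy hc with h | h <;> rw [h] <;> simp [hc]
  rw [Finset.sum_congr rfl (fun c _ => hpt c), Finset.sum_add_distrib, Finset.sum_add_distrib,
    Finset.sum_ite_eq' Finset.univ (0 : F)] at hs
  simp only [Finset.mem_univ, if_true] at hs
  unfold sumSq sumNsq
  linear_combination hs

theorem sumSq_sub_sumNsq_sq (hF : ringChar F ≠ 2) {ψ : AddChar F ℂ} (hψ : ψ.IsPrimitive) :
    (sumSq ψ - sumNsq ψ) ^ 2 =
      (-1 : ℂ) ^ ((Fintype.card F - 1) / 2) * (Fintype.card F : ℂ) := by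
  have hg : sumSq ψ - sumNsq ψ =
      gaussSum ((quadraticChar F).ringHomComp (Int.castRingHom ℂ)) ψ := by
    unfold sumSq sumNsq gaussSum
    rw [← Finset.sum_sub_distrib]
    refine Finset.sum_congr rfl (fun c _ => ?_)
    rw [MulChar.ringHomComp_apply]
    by_cases hc : c = 0
    · subst hc; simp
    · rcases quadraticChar_dichotomy hc with h | h <;> rw [h] <;> simp
  rw [hg, gaussSum_sq ((MulChar.ringHomComp_ne_one_iff (RingHom.injective_int _)).mpr
    (quadraticChar_ne_one hF)) ((quadraticChar_isQuadratic F).comp _) hψ,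
    MulChar.ringHomComp_apply, quadraticChar_neg_one hF]
  have hodd : Fintype.card F % 2 = 1 := FiniteField.odd_card_of_char_ne_two hF
  rw [ZMod.χ₄_eq_neg_one_pow hodd]
  have : Fintype.card F / 2 = (Fintype.card F - 1) / 2 := by omega
  rw [this]
  simp

/-- the value at the transvection in terms of the data `(m, a, b)` -/
theorem sum_nOdd_psi (ψ : AddChar F ℂ) (m a b : ℕ) :
    ∑ c : F, (nOdd m a b c : ℂ) * ψ (c * 1) =
      (m : ℂ) + (a : ℂ) * sumSq ψ + (b : ℂ) * sumNsq ψ := by
  have hpt : ∀ c : F, (nOdd m a b c : ℂ) * ψ (c * 1) = (if c = 0 then (m : ℂ) else 0) +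
      ((a : ℂ) * (if quadraticChar F c = 1 then ψ c else 0) +
        (b : ℂ) * (if quadraticChar F c = -1 then ψ c else 0)) := by
    intro c
    rw [mul_one]
    unfold nOdd
    by_cases hc : c = 0
    · subst hc; simp
    · rcases quadraticChar_dichotomy hc with h | h <;> rw [h] <;> simp [hc]
  rw [Finset.sum_congr rfl (fun c _ => hpt c), Finset.sum_add_distrib, Finset.sum_add_distrib,
    Finset.sum_ite_eq' Finset.univ (0 : F), ← Finset.mul_sum, ← Finset.mul_sum]
  simp only [Finset.mem_univ, if_true]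
  unfold sumSq sumNsq
  ring

end gauss

/-- if the indicator sum of `P` is one, `P` has at most one solution -/
theorem eq_of_sum_indicator_eq_one {ι : Type*} [Fintype ι] (P : ι → Prop) [DecidablePred P]
    (h : (∑ i, (if P i then (1 : ℤ) else 0)) = 1) {i j : ι} (hi : P i) (hj : P j) : i = j := by
  rw [← natCard_subtype_eq_sum_indicator] at h
  have h1 : Nat.card {i : ι // P i} = 1 := by exact_mod_cast h
  have := (Nat.card_eq_one_iff_unique.mp h1).1
  have h2 : (⟨i, hi⟩ : {i : ι // P i}) = ⟨j, hj⟩ := Subsingleton.elim _ _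
  exact congrArg Subtype.val h2

end Cfsg.Agent.Lib.Helper39
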