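import Mathlib
import Cfsg.Prelude.Def_Characters
import Cfsg.Agent.Lib.Helper39.SL2Char
import Cfsg.Agent.Lib.Helper41.SL2BorelMackey2
import Cfsg.Agent.Lib.Helper81.IrrTwist
import Cfsg.Agent.Lib.Helper75.Clifford2
import Cfsg.Agent.S2306

/-!
# Principal series of `SL₂(q)` and diagonal automorphisms (helper39)

* `exists_two_irr_of_classInner_eq_two`: a character of norm 2 is a sum of two distinct
  irreducible characters; `eq_or_eq_of_classInner_add_ne_zero`.
* `indFun_comp_mulEquiv`: induction commutes with automorphisms preserving the data.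
* `conjGL x`: conjugation by `x ∈ GL₂` as an automorphism of `SL₂`.
* `psSL α`: the principal series function of `SL₂`; values, norm, invariance under `conjGL (dT t 1)`.
* `fixUS_ne_zero_of_constituent`, `eq_one_of_linear_constituent`,
  `char_one_add_SL_of_inv`, `exists_int_char_upperU_of_inv`.
-/

set_option autoImplicit false
set_option linter.style.haveILetI false

namespace Cfsg.Agent.Lib.Helper39

open Matrix Cfsg.Agent.Lib.Helper41
open scoped ComplexConjugate

section chartwo

universe u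
variable {G : Type u} [Group G] [Fintype G]

/-- a character of norm two is the sum of two distinct irreducible characters -/
theorem exists_two_irr_of_classInner_eq_two {P : G → ℂ} (hP : Cfsg.IsCharacter G P)
    (h2 : Cfsg.classInner P P = 2) :
    ∃ χ₁ χ₂ : G → ℂ, Cfsg.IsIrrCharacter G χ₁ ∧ Cfsg.IsIrrCharacter G χ₂ ∧ χ₁ ≠ χ₂ ∧
      P = χ₁ + χ₂ := by
  classical
  -- pick a constituent
  have hne : ∃ ψ : Cfsg.IrrCharacter G, Cfsg.classInner P (ψ : G → ℂ) ≠ 0 := by
    by_contra hall
    push Not at hall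
    have h0 := Cfsg.Agent.Lib.Helper78.eq_zero_of_forall_classInner_irr_eq_zero
      (Cfsg.Agent.Lib.Helper78.IsCharacter.isClassFunction hP) hall
    rw [h0, Cfsg.Agent.Lib.Helper78.classInner_zero_left] at h2
    norm_num at h2
  obtain ⟨ψ, hψ⟩ := hne
  obtain ⟨m, R, hm, hR, hdec, hRψ⟩ := exists_isCharacter_remainder hP ψ.2
  obtain ⟨r, hr⟩ := Cfsg.Agent.S0148.exists_nat_classInner_of_isCharacter hR hR
  have hψR : Cfsg.classInner (ψ : G → ℂ) R = 0 := by
    rw [← Cfsg.Agent.Lib.Helper78.classInner_conj_symm, hRψ, map_zero]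
  have hexp : Cfsg.classInner P P = (m : ℂ) ^ 2 + (r : ℂ) := by
    conv_lhs => rw [hdec]
    rw [Cfsg.Agent.Lib.Helper78.classInner_add_left, Cfsg.Agent.Lib.Helper78.classInner_add_right,
      Cfsg.Agent.Lib.Helper78.classInner_add_right, Cfsg.Agent.Lib.Helper78.classInner_smul_left,
      Cfsg.Agent.Lib.Helper78.classInner_smul_left, Cfsg.Agent.Lib.Helper78.classInner_smul_right,
      Cfsg.Agent.Lib.Helper78.classInner_smul_right,
      Cfsg.Agent.Lib.Helper78.classInner_irr_self ψ.2, hψR, hRψ, hr]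
    simp
    ring
  rw [hexp] at h2
  have h2' : m ^ 2 + r = 2 := by exact_mod_cast h2
  have hm0 : m ≠ 0 := by
    intro h0
    apply hψ
    rw [hm, h0]; simp
  have hm1 : m = 1 := by
    rcases Nat.lt_or_ge m 2 with h | h
    · omega
    · exfalso
      have : 4 ≤ m ^ 2 := by nlinarith
      omega
  subst hm1
  have hr1 : r = 1 := by omega
  subst hr1
  have hRirr : Cfsg.IsIrrCharacter G R :=
    Cfsg.Agent.Lib.Helper78.isIrrCharacter_of_classInner_self_eq_one hR (by rw [hr]; simp)
  refine ⟨ψ, R, ψ.2, hRirr, ?_, ?_⟩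
  · intro heq
    have := Cfsg.Agent.Lib.Helper78.classInner_irr_self ψ.2
    rw [heq] at this hRψ
    rw [hRψ] at this
    exact zero_ne_one this
  · rw [hdec]; simp

/-- the irreducible constituents of a sum of two irreducible characters -/
theorem eq_or_eq_of_classInner_add_ne_zero {χ₁ χ₂ ψ : G → ℂ} (h₁ : Cfsg.IsIrrCharacter G χ₁)
    (h₂ : Cfsg.IsIrrCharacter G χ₂) (hψ : Cfsg.IsIrrCharacter G ψ)
    (h : Cfsg.classInner (χ₁ + χ₂) ψ ≠ 0) : ψ = χ₁ ∨ ψ = χ₂ := by
  rw [Cfsg.Agent.Lib.Helper78.classInner_add_left, Cfsg.Agent.Lib.Helper78.classInner_irr h₁ hψ,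
    Cfsg.Agent.Lib.Helper78.classInner_irr h₂ hψ] at h
  by_cases h1 : χ₁ = ψ
  · left; exact h1.symm
  · by_cases h2 : χ₂ = ψ
    · right; exact h2.symm
    · rw [if_neg h1, if_neg h2] at h
      simp at h

/-- induction commutes with automorphisms stabilising the subgroup and the function -/
theorem indFun_comp_mulEquiv (H : Subgroup G) (θ : H → ℂ) (σ : G ≃* G)
    (hH : ∀ g, σ g ∈ H ↔ g ∈ H) (hθ : ∀ (h : H) (h' : σ h ∈ H), θ ⟨σ h, h'⟩ = θ h) (g : G) :
    Cfsg.indFun H θ (σ g) = Cfsg.indFun H θ g := by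
  unfold Cfsg.indFun
  congr 1
  rw [← Equiv.sum_comp σ.toEquiv]
  refine Finset.sum_congr rfl (fun y _ => ?_)
  have h1 : (σ.toEquiv y)⁻¹ * σ g * σ.toEquiv y = σ (y⁻¹ * g * y) := by
    simp [map_mul, map_inv]
  rw [h1]
  by_cases hm : y⁻¹ * g * y ∈ H
  · have hm' : σ (y⁻¹ * g * y) ∈ H := (hH _).mpr hm
    rw [extendByZero_of_mem H θ hm, extendByZero_of_mem H θ hm']
    exact hθ ⟨_, hm⟩ hm'
  · have hm' : σ (y⁻¹ * g * y) ∉ H := fun h => hm ((hH _).mp h)
    rw [extendByZero_of_not_mem H θ hm, extendByZero_of_not_mem H θ hm']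

end chartwo

variable {F : Type*} [Field F]

/-- conjugation by an element of `GL₂` on `SL₂` -/
noncomputable def conjGLfun (x : GL (Fin 2) F) (g : Matrix.SpecialLinearGroup (Fin 2) F) :
    Matrix.SpecialLinearGroup (Fin 2) F :=
  ⟨((x * Matrix.SpecialLinearGroup.toGL g * x⁻¹ : GL (Fin 2) F) : Matrix (Fin 2) (Fin 2) F), by
    rw [← Matrix.GeneralLinearGroup.val_det_apply]; simp⟩

theorem toGL_conjGLfun (x : GL (Fin 2) F) (g : Matrix.SpecialLinearGroup (Fin 2) F) :
    Matrix.SpecialLinearGroup.toGL (conjGLfun x g) = x * Matrix.SpecialLinearGroup.toGL g * x⁻¹ := by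
  apply Units.ext
  rfl

/-- conjugation by an element of `GL₂` as an automorphism of `SL₂` -/
noncomputable def conjGL (x : GL (Fin 2) F) :
    Matrix.SpecialLinearGroup (Fin 2) F ≃* Matrix.SpecialLinearGroup (Fin 2) F where
  toFun := conjGLfun x
  invFun := conjGLfun x⁻¹
  left_inv g := toGL_injective (by simp [toGL_conjGLfun, mul_assoc])
  right_inv g := toGL_injective (by simp [toGL_conjGLfun, mul_assoc])
  map_mul' g h := toGL_injective (by simp [toGL_conjGLfun, mul_assoc])

theorem toGL_conjGL (x : GL (Fin 2) F) (g : Matrix.SpecialLinearGroup (Fin 2) F) :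
    Matrix.SpecialLinearGroup.toGL (conjGL x g) = x * Matrix.SpecialLinearGroup.toGL g * x⁻¹ :=
  toGL_conjGLfun x g

theorem dT_inv (s t : Fˣ) : (dT s t)⁻¹ = dT s⁻¹ t⁻¹ := by
  apply inv_eq_of_mul_eq_one_right
  rw [dT_mul_dT]
  simp [dT_one]

theorem conjGL_dT_val (t : Fˣ) (g : Matrix.SpecialLinearGroup (Fin 2) F) :
    ((conjGL (dT t 1) g : Matrix.SpecialLinearGroup (Fin 2) F) : Matrix (Fin 2) (Fin 2) F) =
      !![(g : Matrix (Fin 2) (Fin 2) F) 0 0, (t : F) * (g : Matrix (Fin 2) (Fin 2) F) 0 1;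
        ((t⁻¹ : Fˣ) : F) * (g : Matrix (Fin 2) (Fin 2) F) 1 0, (g : Matrix (Fin 2) (Fin 2) F) 1 1] := by
  have h := congrArg (fun y : GL (Fin 2) F => (y : Matrix (Fin 2) (Fin 2) F)) (toGL_conjGL (dT t 1) g)
  simp only [Matrix.SpecialLinearGroup.coe_GL_coe_matrix, Units.val_mul, dT_inv, dT_val] at h
  rw [h]
  have ht := t.ne_zero
  ext i j
  fin_cases i <;> fin_cases j <;>
    simp [Matrix.mul_apply, Fin.sum_univ_two, Matrix.vecMul, dotProduct] <;> field_simp

theorem conjGL_dT_upperU (y : F) (hy : y ≠ 0) :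
    conjGL (dT (Units.mk0 y hy) 1) (upperU 1) = upperU y := by
  apply toGL_injective
  rw [toGL_conjGL, toGL_upperU, toGL_upperU, uT_conj]


/-- the character `b ↦ α(b₁₁)` of the Borel subgroup of `SL₂` as a homomorphism to `ℂˣ` -/
noncomputable def lamOf (α : MulChar F ℂ) : borelSub F →* ℂˣ :=
  (Cfsg.Agent.S2306.borelHom α).toHomUnits

theorem lamOf_apply (α : MulChar F ℂ) (b : borelSub F) :
    ((lamOf α b : ℂˣ) : ℂ) =
      α (((b : Matrix.SpecialLinearGroup (Fin 2) F) : Matrix (Fin 2) (Fin 2) F) 0 0) := by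
  simp [lamOf, MonoidHom.coe_toHomUnits, Cfsg.Agent.S2306.borelHom]

/-- the principal series function of `SL₂` -/
noncomputable def psSL [Fintype F] [DecidableEq F] (α : MulChar F ℂ) :
    Matrix.SpecialLinearGroup (Fin 2) F → ℂ :=
  Cfsg.indFun (borelSub F) (fun b => α
    (((b : Matrix.SpecialLinearGroup (Fin 2) F) : Matrix (Fin 2) (Fin 2) F) 0 0))

theorem psSL_eq [Fintype F] [DecidableEq F] (α : MulChar F ℂ) :
    psSL α = Cfsg.indFun (borelSub F) (fun b => ((lamOf α b : ℂˣ) : ℂ)) := by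
  unfold psSL
  congr 1

theorem psSL_one [Fintype F] [DecidableEq F] (α : MulChar F ℂ) :
    psSL α 1 = (Fintype.card F : ℂ) + 1 := by
  rw [psSL_eq, Cfsg.Agent.Lib.Helper75.indFun_one, index_borelSub]
  simp

theorem psSL_upperU [Fintype F] [DecidableEq F] (α : MulChar F ℂ) (x : F) (hx : x ≠ 0) :
    psSL α (upperU x) = 1 := by
  unfold psSL
  rw [indFun_borel_unipotent (fun a => α a) (upperU x) (by simp [coe_upperU])
    (by simp [coe_upperU]) (by simpa [coe_upperU] using hx)]
  simp [coe_upperU]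

theorem isCharacter_psSL [Fintype F] [DecidableEq F] (α : MulChar F ℂ) :
    Cfsg.IsCharacter (Matrix.SpecialLinearGroup (Fin 2) F) (psSL α) := by
  have hθ := Cfsg.Agent.Lib.Helper78.IsIrrCharacter.isCharacter
    (Cfsg.Agent.S2306.isIrrCharacter_borelHom α)
  exact Cfsg.Agent.S0148.result (borelSub F) _ hθ

theorem classInner_psSL_self [Fintype F] [DecidableEq F] (α : MulChar F ℂ) (hα : α ^ 2 = 1) :
    Cfsg.classInner (psSL α) (psSL α) = 2 := by
  classical
  unfold psSL
  rw [classInner_indFun_borel α α]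
  have h : α = α⁻¹ := by rw [eq_inv_iff_mul_eq_one, ← sq]; exact hα
  rw [if_pos rfl, if_pos h]
  norm_num

/-- a constituent of the principal series has `U`-fixed vectors -/
theorem fixUS_ne_zero_of_constituent [Fintype F] [DecidableEq F] {V : Type*} [AddCommGroup V]
    [Module ℂ V] [FiniteDimensional ℂ V] (α : MulChar F ℂ)
    (ρ : Representation ℂ (Matrix.SpecialLinearGroup (Fin 2) F) V) (hρ : ρ.IsIrreducible)
    (h : Cfsg.classInner (psSL α) ρ.character ≠ 0) : fixUS ρ ≠ 0 := by
  haveI : Fintype (borelSub F) := Fintype.ofFinite _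
  have hχ := Cfsg.Agent.Lib.Helper78.isIrrCharacter_of_isIrreducible ρ hρ
  have hfr := Cfsg.Agent.Lib.Helper75.frobenius_reciprocity (borelSub F)
    (fun b => ((lamOf α b : ℂˣ) : ℂ))
    (Cfsg.Agent.Lib.Helper78.IsCharacter.isClassFunction
      (Cfsg.Agent.Lib.Helper78.IsIrrCharacter.isCharacter hχ))
  rw [← psSL_eq, classInner_hom_res ρ _ (lamOf α)] at hfr
  rw [hfr] at h
  have hpos : Module.finrank ℂ (eigenSub ρ (borelSub F).subtype (lamOf α)) ≠ 0 := by
    intro h0; apply h; rw [h0]; simp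
  have hne : eigenSub ρ (borelSub F).subtype (lamOf α) ≠ ⊥ := by
    intro h0; apply hpos; rw [h0]; simp
  obtain ⟨v, hv, hv0⟩ := Submodule.exists_mem_ne_zero_of_ne_bot hne
  have hvU : v ∈ fixUSSub ρ := by
    rw [mem_fixUSSub]
    intro x
    have := (mem_eigenSub ρ _ (lamOf α) v).mp hv ⟨upperU x, upperU_mem_borelSub x⟩
    rw [lamOf_apply] at this
    simpa [coe_upperU] using this
  intro h0
  have hbot : fixUSSub ρ = ⊥ := Submodule.finrank_eq_zero.mp h0
  rw [hbot] at hvU
  exact hv0 ((Submodule.mem_bot ℂ).mp hvU)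

/-- a linear constituent of the principal series forces `α = 1` -/
theorem eq_one_of_linear_constituent [Fintype F] [DecidableEq F] (α : MulChar F ℂ)
    (μ : Matrix.SpecialLinearGroup (Fin 2) F →* ℂˣ)
    (h : Cfsg.classInner (psSL α) (fun g => ((μ g : ℂˣ) : ℂ)) ≠ 0) : α = 1 := by
  haveI : Fintype (borelSub F) := Fintype.ofFinite _
  rw [psSL_eq] at h
  have hres := hom_res_eq_of_classInner_ne_zero (borelSub F) (lamOf α) μ h
  have hμ1 : μ = 1 := by
    apply hom_eq_one_of_upperU
    intro x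
    have := hres ⟨upperU x, upperU_mem_borelSub x⟩
    rw [← this]
    apply Units.ext
    rw [lamOf_apply]
    simp [coe_upperU]
  ext t
  have := hres ⟨borelEl t 0, borelEl_mem t 0⟩
  rw [hμ1] at this
  have h2 := congrArg (fun z : ℂˣ => (z : ℂ)) this
  simp only [lamOf_apply, MonoidHom.one_apply, Units.val_one] at h2
  rw [MulChar.one_apply_coe]
  simpa [coe_borelEl] using h2

theorem psSL_conj [Fintype F] [DecidableEq F] (α : MulChar F ℂ) (t : Fˣ)
    (g : Matrix.SpecialLinearGroup (Fin 2) F) : psSL α (conjGL (dT t 1) g) = psSL α g := by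
  unfold psSL
  apply indFun_comp_mulEquiv
  · intro g
    rw [mem_borelSub, mem_borelSub, conjGL_dT_val]
    simp
  · intro h h'
    simp only [conjGL_dT_val]
    simp

/-- for a representation whose character is invariant under the diagonal automorphisms,
`dim V + (q - 1) χ(u) = q dim V^U` -/
theorem char_one_add_SL_of_inv [Fintype F] {V : Type*} [AddCommGroup V]
    [Module ℂ V] [FiniteDimensional ℂ V]
    (ρ : Representation ℂ (Matrix.SpecialLinearGroup (Fin 2) F) V)
    (hinv : ∀ (t : Fˣ) (g : Matrix.SpecialLinearGroup (Fin 2) F),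
      ρ.character (conjGL (dT t 1) g) = ρ.character g) :
    (Module.finrank ℂ V : ℂ) + ((Fintype.card F : ℂ) - 1) * ρ.character (upperU 1) =
      (Fintype.card F : ℂ) * (fixUS ρ : ℂ) := by
  classical
  have hconj : ∀ x : F, x ≠ 0 → ρ.character (upperU x) = ρ.character (upperU 1) := by
    intro x hx
    rw [← conjGL_dT_upperU x hx, hinv]
  rw [← sum_char_upperU, ← Finset.add_sum_erase Finset.univ _ (Finset.mem_univ (0 : F)),
    upperU_zero, Representation.char_one]
  congr 1
  rw [Finset.sum_congr rfl (fun x hx => hconj x (Finset.ne_of_mem_erase hx)),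
    Finset.sum_const, Finset.card_erase_of_mem (Finset.mem_univ _), Finset.card_univ, nsmul_eq_mul,
    Nat.cast_sub Fintype.card_pos, Nat.cast_one]

/-- integrality of the value at `u` under the same invariance hypothesis -/
theorem exists_int_char_upperU_of_inv [Fintype F] {V : Type*} [AddCommGroup V]
    [Module ℂ V] [FiniteDimensional ℂ V]
    (ρ : Representation ℂ (Matrix.SpecialLinearGroup (Fin 2) F) V)
    (hinv : ∀ (t : Fˣ) (g : Matrix.SpecialLinearGroup (Fin 2) F),
      ρ.character (conjGL (dT t 1) g) = ρ.character g) :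
    ∃ m : ℤ, ρ.character (upperU 1) = (m : ℂ) ∧
      (Module.finrank ℂ V : ℤ) + ((Fintype.card F : ℤ) - 1) * m =
        (Fintype.card F : ℤ) * (fixUS ρ : ℤ) := by
  have hq : 2 ≤ Fintype.card F := Fintype.one_lt_card
  have h1 := char_one_add_SL_of_inv ρ hinv
  have hq1 : ((Fintype.card F : ℂ) - 1) ≠ 0 := by
    have : (Fintype.card F : ℂ) ≠ 1 := by
      have : Fintype.card F ≠ 1 := by omega
      exact_mod_cast this
    exact sub_ne_zero.mpr this
  have hc : ρ.character (upperU 1) =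
      ((((Fintype.card F : ℚ) * (fixUS ρ : ℚ) - (Module.finrank ℂ V : ℚ)) /
        ((Fintype.card F : ℚ) - 1) : ℚ) : ℂ) := by
    push_cast
    rw [eq_div_iff hq1]
    linear_combination h1
  haveI : Finite (Matrix.SpecialLinearGroup (Fin 2) F) := by
    classical
    infer_instance
  have hint : IsIntegral ℤ (ρ.character (upperU (1 : F))) :=
    Cfsg.Agent.Lib.Helper78.character_isIntegral ρ _
  rw [hc] at hint
  obtain ⟨m, hm⟩ := Cfsg.Agent.Lib.Helper3.exists_int_of_isIntegral_ratCast _ hint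
  have hcm : ρ.character (upperU 1) = (m : ℂ) := by
    rw [hc, ← hm]; push_cast; rfl
  refine ⟨m, hcm, ?_⟩
  rw [hcm] at h1
  exact_mod_cast h1

end Cfsg.Agent.Lib.Helper39
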