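import Mathlib
import Cfsg.Agent.Lib.Helper39.SL2Char2

set_option autoImplicit false
set_option linter.style.haveILetI false

/-!
# Fourier analysis on the unipotent subgroup of `SL₂(q)` (helper39)

* `uMult ρ ψ c`: multiplicity of the additive character `ψ(c ·)` in `ρ|_U`;
  `char_upperU_eq_sum` (inversion), `finrank_eq_sum_uMult`, `sum_norm_sq_char_upperU` (Parseval),
  `uMult_sq_mul` (invariance under the torus), `uMult_zero`.
* `eq_of_sq_invariant`, `card_quadraticChar_eq`, `sum_of_sq_invariant`: functions on a finite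
  field of odd characteristic invariant under the non-zero squares.
-/

namespace Cfsg.Agent.Lib.Helper39


section squares

variable {F : Type*} [Field F] [Fintype F] [DecidableEq F]

/-- a function on a finite field of odd characteristic invariant under multiplication by non-zero
squares is determined on non-zero elements by its values at `1` and at a non-square `ε` -/
theorem eq_of_sq_invariant {α : Type*} (ε : F) (hε : quadraticChar F ε = -1) (g : F → α)
    (hg : ∀ (t : Fˣ) (c : F), g ((t : F) ^ 2 * c) = g c) (c : F) (hc : c ≠ 0) :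
    g c = if quadraticChar F c = 1 then g 1 else g ε := by
  by_cases h1 : quadraticChar F c = 1
  · rw [if_pos h1]
    obtain ⟨r, hr⟩ := (quadraticChar_one_iff_isSquare hc).mp h1
    have hr0 : r ≠ 0 := by
      rintro rfl
      simp at hr
      exact hc hr
    have := hg (Units.mk0 r hr0) 1
    rw [← this]
    congr 1
    simp [hr, sq]
  · rw [if_neg h1]
    have h2 : quadraticChar F c = -1 := (quadraticChar_eq_neg_one_iff_not_one hc).mpr h1
    have hε0 : ε ≠ 0 := by
      rintro rfl
      simp at hε
    have h3 : quadraticChar F (c * ε) = 1 := by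
      rw [map_mul, h2, hε]; norm_num
    obtain ⟨r, hr⟩ := (quadraticChar_one_iff_isSquare (mul_ne_zero hc hε0)).mp h3
    have hr0 : r ≠ 0 := by
      rintro rfl
      simp at hr
      rcases hr with h | h
      · exact hc h
      · exact hε0 h
    have := hg (Units.mk0 (r / ε) (div_ne_zero hr0 hε0)) ε
    rw [← this]
    congr 1
    simp only [Units.val_mk0]
    field_simp
    rw [hr]; ring

/-- the numbers of non-zero squares and of non-squares -/
theorem card_quadraticChar_eq (hF : ringChar F ≠ 2) :
    (Finset.univ.filter (fun c : F => quadraticChar F c = 1)).card = (Fintype.card F - 1) / 2 ∧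
    (Finset.univ.filter (fun c : F => quadraticChar F c = -1)).card = (Fintype.card F - 1) / 2 := by
  have h0 := quadraticChar_sum_zero hF
  have hpt : ∀ c : F, quadraticChar F c =
      (if quadraticChar F c = 1 then 1 else 0) - (if quadraticChar F c = -1 then 1 else 0) := by
    intro c
    by_cases hc : c = 0
    · subst hc; simp
    · rcases quadraticChar_dichotomy hc with h | h <;> rw [h] <;> norm_num
  rw [Finset.sum_congr rfl (fun c _ => hpt c), Finset.sum_sub_distrib, Finset.sum_boole,
    Finset.sum_boole] at h0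
  have hpt2 : ∀ c : F, (1 : ℕ) = (if c = 0 then 1 else 0) +
      ((if quadraticChar F c = 1 then 1 else 0) + (if quadraticChar F c = -1 then 1 else 0)) := by
    intro c
    by_cases hc : c = 0
    · subst hc; simp
    · rcases quadraticChar_dichotomy hc with h | h <;> rw [h] <;> simp [hc]
  have hcard : Fintype.card F = ∑ _c : F, 1 := by simp
  rw [Finset.sum_congr rfl (fun c _ => hpt2 c), Finset.sum_add_distrib, Finset.sum_add_distrib,
    Finset.sum_boole, Finset.sum_boole, Finset.sum_boole] at hcard
  have h00 : (Finset.univ.filter (fun c : F => c = 0)).card = 1 := by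
    rw [Finset.filter_eq' Finset.univ (0 : F)]; simp
  rw [h00] at hcard
  simp only [Nat.cast_id] at hcard
  constructor <;> omega

/-- summing a function invariant under the non-zero squares -/
theorem sum_of_sq_invariant {α : Type*} [AddCommMonoid α] (hF : ringChar F ≠ 2) (ε : F)
    (hε : quadraticChar F ε = -1) (g : F → α)
    (hg : ∀ (t : Fˣ) (c : F), g ((t : F) ^ 2 * c) = g c) :
    ∑ c : F, g c = g 0 + (((Fintype.card F - 1) / 2) • g 1 + ((Fintype.card F - 1) / 2) • g ε) := by
  have hpt : ∀ c : F, g c = (if c = 0 then g 0 else 0) +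
      ((if quadraticChar F c = 1 then g 1 else 0) + (if quadraticChar F c = -1 then g ε else 0)) := by
    intro c
    by_cases hc : c = 0
    · subst hc; simp
    · rw [eq_of_sq_invariant ε hε g hg c hc]
      rcases quadraticChar_dichotomy hc with h | h <;> rw [h] <;> simp [hc]
  rw [Finset.sum_congr rfl (fun c _ => hpt c), Finset.sum_add_distrib, Finset.sum_add_distrib,
    Finset.sum_ite_eq' Finset.univ (0 : F), ← Finset.sum_filter, ← Finset.sum_filter,
    Finset.sum_const, Finset.sum_const, (card_quadraticChar_eq hF).1, (card_quadraticChar_eq hF).2]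
  simp

end squares



open Matrix Cfsg.Agent.Lib.Helper41
open scoped ComplexConjugate

variable {F : Type*} [Field F]
variable {V : Type*} [AddCommGroup V] [Module ℂ V]

/-- the homomorphism `x ↦ ψ(c x)` of `(F,+)` into `ℂˣ` -/
noncomputable def addLam (ψ : AddChar F ℂ) (c : F) : Multiplicative F →* ℂˣ :=
  (ψ.mulShift c).toMonoidHom.toHomUnits

theorem addLam_apply (ψ : AddChar F ℂ) (c : F) (x : Multiplicative F) :
    ((addLam ψ c x : ℂˣ) : ℂ) = ψ (c * x.toAdd) := by
  simp [addLam, MonoidHom.coe_toHomUnits, AddChar.mulShift_apply]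

theorem addLam_zero (ψ : AddChar F ℂ) : addLam ψ (0 : F) = 1 := by
  refine MonoidHom.ext (fun x => Units.ext ?_)
  rw [addLam_apply]
  simp

/-- multiplicity of the additive character `ψ(c ·)` in the restriction of `ρ` to `U` -/
noncomputable def uMult (ρ : Representation ℂ (Matrix.SpecialLinearGroup (Fin 2) F) V)
    (ψ : AddChar F ℂ) (c : F) : ℕ :=
  Module.finrank ℂ (eigenSub ρ (uSHom (F := F)) (addLam ψ c))

theorem uMult_zero (ρ : Representation ℂ (Matrix.SpecialLinearGroup (Fin 2) F) V)
    (ψ : AddChar F ℂ) : uMult ρ ψ 0 = fixUS ρ := by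
  unfold uMult fixUS fixUSSub
  rw [addLam_zero]

theorem sum_addChar_char_upperU [Fintype F] [FiniteDimensional ℂ V]
    (ρ : Representation ℂ (Matrix.SpecialLinearGroup (Fin 2) F) V) (ψ : AddChar F ℂ) (c : F) :
    ∑ x : F, ψ (-(c * x)) * ρ.character (upperU x) =
      (Fintype.card F : ℂ) * (uMult ρ ψ c : ℂ) := by
  have h := sum_twist_character ρ (uSHom (F := F)) (addLam ψ c)
  have hc : Fintype.card (Multiplicative F) = Fintype.card F := Fintype.card_multiplicative F
  rw [hc] at h
  rw [uMult, ← h]
  refine Fintype.sum_equiv Multiplicative.ofAdd _ _ (fun x => ?_)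
  rw [uSHom_apply, Units.val_inv_eq_inv_val, addLam_apply, AddChar.map_neg_eq_inv]
  rfl

/-- Fourier inversion on `U`: the character of `ρ` on `U` in terms of the multiplicities -/
theorem char_upperU_eq_sum [Fintype F] [DecidableEq F] [FiniteDimensional ℂ V]
    (ρ : Representation ℂ (Matrix.SpecialLinearGroup (Fin 2) F) V) {ψ : AddChar F ℂ}
    (hψ : ψ.IsPrimitive) (x : F) :
    ρ.character (upperU x) = ∑ c : F, (uMult ρ ψ c : ℂ) * ψ (c * x) := by
  have hq0 : (Fintype.card F : ℂ) ≠ 0 := by
    exact_mod_cast (Fintype.card_pos (α := F)).ne'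
  apply mul_left_cancel₀ hq0
  rw [Finset.mul_sum]
  have h1 : ∀ c : F, (Fintype.card F : ℂ) * ((uMult ρ ψ c : ℂ) * ψ (c * x)) =
      ∑ y : F, ψ (c * (x - y)) * ρ.character (upperU y) := by
    intro c
    rw [← mul_assoc, ← sum_addChar_char_upperU, Finset.sum_mul]
    refine Finset.sum_congr rfl (fun y _ => ?_)
    have : ψ (c * (x - y)) = ψ (-(c * y)) * ψ (c * x) := by
      rw [← AddChar.map_add_eq_mul]; congr 1; ring
    rw [this]; ring
  rw [Finset.sum_congr rfl (fun c _ => h1 c), Finset.sum_comm]
  have h2 : ∀ y : F, ∑ c : F, ψ (c * (x - y)) * ρ.character (upperU y) =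
      (if x - y = 0 then (Fintype.card F : ℂ) else 0) * ρ.character (upperU y) := by
    intro y
    rw [← Finset.sum_mul, AddChar.sum_mulShift (x - y) hψ]
    split_ifs <;> simp
  rw [Finset.sum_congr rfl (fun y _ => h2 y)]
  simp only [sub_eq_zero, ite_mul, zero_mul]
  rw [Finset.sum_ite_eq Finset.univ x]
  simp

/-- the degree in terms of the multiplicities -/
theorem finrank_eq_sum_uMult [Fintype F] [DecidableEq F] [FiniteDimensional ℂ V]
    (ρ : Representation ℂ (Matrix.SpecialLinearGroup (Fin 2) F) V) {ψ : AddChar F ℂ}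
    (hψ : ψ.IsPrimitive) : Module.finrank ℂ V = ∑ c : F, uMult ρ ψ c := by
  have h := char_upperU_eq_sum ρ hψ 0
  rw [upperU_zero, Representation.char_one] at h
  simp only [mul_zero, AddChar.map_zero_eq_one, mul_one] at h
  exact_mod_cast h

/-- Parseval on `U` -/
theorem sum_norm_sq_char_upperU [Fintype F] [DecidableEq F] [FiniteDimensional ℂ V]
    (ρ : Representation ℂ (Matrix.SpecialLinearGroup (Fin 2) F) V) {ψ : AddChar F ℂ}
    (hψ : ψ.IsPrimitive) :
    ∑ x : F, ‖ρ.character (upperU x)‖ ^ 2 =
      (Fintype.card F : ℝ) * ∑ c : F, ((uMult ρ ψ c : ℕ) : ℝ) ^ 2 := by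
  have hC : ((∑ x : F, ‖ρ.character (upperU x)‖ ^ 2 : ℝ) : ℂ) =
      (((Fintype.card F : ℝ) * ∑ c : F, ((uMult ρ ψ c : ℕ) : ℝ) ^ 2 : ℝ) : ℂ) := by
    push_cast
    have h1 : ∀ x : F, (‖ρ.character (upperU x)‖ : ℂ) ^ 2 =
        ∑ c : F, ∑ c' : F, ((uMult ρ ψ c : ℂ) * (uMult ρ ψ c' : ℂ)) * ψ (x * (c - c')) := by
      intro x
      rw [← Complex.mul_conj', char_upperU_eq_sum ρ hψ x, map_sum, Finset.sum_mul_sum]
      refine Finset.sum_congr rfl (fun c _ => Finset.sum_congr rfl (fun c' _ => ?_))
      rw [map_mul (starRingEnd ℂ), Complex.conj_natCast, ← AddChar.map_neg_eq_conj]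
      have : ψ (x * (c - c')) = ψ (c * x) * ψ (-(c' * x)) := by
        rw [← AddChar.map_add_eq_mul]; congr 1; ring
      rw [this]; ring
    rw [Finset.sum_congr rfl (fun x _ => h1 x), Finset.sum_comm]
    rw [Finset.mul_sum]
    refine Finset.sum_congr rfl (fun c _ => ?_)
    rw [Finset.sum_comm]
    have h2 : ∀ c' : F, ∑ x : F, ((uMult ρ ψ c : ℂ) * (uMult ρ ψ c' : ℂ)) * ψ (x * (c - c')) =
        ((uMult ρ ψ c : ℂ) * (uMult ρ ψ c' : ℂ)) *
          (if c - c' = 0 then (Fintype.card F : ℂ) else 0) := by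
      intro c'
      rw [← Finset.mul_sum, AddChar.sum_mulShift (c - c') hψ]
      split_ifs <;> simp
    rw [Finset.sum_congr rfl (fun c' _ => h2 c')]
    simp only [sub_eq_zero, mul_ite, mul_zero]
    rw [Finset.sum_ite_eq Finset.univ c]
    simp
    ring
  exact_mod_cast hC

/-- the multiplicities are invariant under the action of the squares -/
theorem uMult_sq_mul [Fintype F] [FiniteDimensional ℂ V]
    (ρ : Representation ℂ (Matrix.SpecialLinearGroup (Fin 2) F) V) (ψ : AddChar F ℂ)
    (t : Fˣ) (c : F) : uMult ρ ψ ((t : F) ^ 2 * c) = uMult ρ ψ c := by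
  have hq0 : (Fintype.card F : ℂ) ≠ 0 := by
    exact_mod_cast (Fintype.card_pos (α := F)).ne'
  have h : ((uMult ρ ψ ((t : F) ^ 2 * c) : ℕ) : ℂ) = (uMult ρ ψ c : ℂ) := by
    apply mul_left_cancel₀ hq0
    rw [← sum_addChar_char_upperU, ← sum_addChar_char_upperU]
    -- substitute `x = t⁻² y`
    have ht := t.ne_zero
    let e : F ≃ F := Equiv.mulLeft₀ ((t : F) ^ 2) (pow_ne_zero 2 ht)
    refine Fintype.sum_equiv e _ _ (fun x => ?_)
    have hconj : ρ.character (upperU (e x)) = ρ.character (upperU x) := by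
      have h1 : upperU (e x) = (borelEl t⁻¹ 0)⁻¹ * upperU x * ((borelEl t⁻¹ 0)⁻¹)⁻¹ := by
        rw [inv_inv, mul_assoc, eq_inv_mul_iff_mul_eq, upperU_mul_borelEl]
        congr 2
      rw [h1, Representation.char_conj]
    rw [hconj]
    congr 2
    simp [e]
    ring
  exact_mod_cast h

end Cfsg.Agent.Lib.Helper39
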