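import Mathlib
import Cfsg.Agent.Lib.Helper39.NormIneq
import Cfsg.Agent.Lib.Helper39.SL2Fourier
import Cfsg.Agent.S2307

set_option autoImplicit false
set_option linter.style.haveILetI false

/-!
# Cuspidal versus principal series representations of `SL₂(q)` (helper39)

* `unip_norm_le`: the norm inequality over the unipotent conjugates.
* `fixUS_cases_SL`: classification of the irreducible representations with `U`-fixed vectors.
-/

namespace Cfsg.Agent.Lib.Helper39


open Matrix Cfsg.Agent.Lib.Helper41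
open scoped ComplexConjugate

variable {F : Type*} [Field F]

theorem upperU_injective : Function.Injective (upperU (F := F)) := by
  intro x y h
  have := congrArg (fun g : Matrix.SpecialLinearGroup (Fin 2) F =>
    (g : Matrix (Fin 2) (Fin 2) F) 0 1) h
  simpa [coe_upperU] using this

/-- rigidity: conjugating a non-trivial upper unitriangular element into the Borel subgroup
forces the conjugator into the Borel subgroup -/
theorem mem_borelSub_of_conj_upperU (k : Matrix.SpecialLinearGroup (Fin 2) F) (y : F) (hy : y ≠ 0)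
    (h : ((k⁻¹ * upperU y * k : Matrix.SpecialLinearGroup (Fin 2) F) :
      Matrix (Fin 2) (Fin 2) F) 1 0 = 0) : k ∈ borelSub F := by
  rw [mem_borelSub]
  simp only [Matrix.SpecialLinearGroup.coe_mul, coe_inv_eq, coe_upperU, Matrix.mul_apply,
    Fin.sum_univ_two] at h
  simp at h
  have h2 : y * ((k : Matrix (Fin 2) (Fin 2) F) 1 0) ^ 2 = 0 := by linear_combination -h
  rcases mul_eq_zero.mp h2 with h3 | h3
  · exact absurd h3 hy
  · exact pow_eq_zero_iff (two_ne_zero) |>.mp h3

/-- the norm inequality for `SL₂(q)`: the values of an irreducible character on the non-trivial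
upper unitriangular elements are bounded in mean square -/
theorem unip_norm_le [Fintype F] [DecidableEq F] {χ : Matrix.SpecialLinearGroup (Fin 2) F → ℂ}
    (hχ : Cfsg.IsIrrCharacter (Matrix.SpecialLinearGroup (Fin 2) F) χ)
    (Z : Finset (Matrix.SpecialLinearGroup (Fin 2) F))
    (hZ : ∀ z ∈ Z, z ∈ Subgroup.center (Matrix.SpecialLinearGroup (Fin 2) F)) :
    ((Fintype.card F : ℝ) + 1) * ∑ y ∈ Finset.univ.erase (0 : F), ‖χ (upperU y)‖ ^ 2 ≤
      (Fintype.card F : ℝ) * ((Fintype.card F : ℝ) ^ 2 - 1) - ∑ z ∈ Z, ‖χ z‖ ^ 2 := by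
  classical
  have hcf := Cfsg.Agent.Lib.Helper78.IsCharacter.isClassFunction
    (Cfsg.Agent.Lib.Helper78.IsIrrCharacter.isCharacter hχ)
  have hq : 2 ≤ Fintype.card F := Fintype.one_lt_card
  have hG : Nat.card (Matrix.SpecialLinearGroup (Fin 2) F)
      = Fintype.card F * (Fintype.card F ^ 2 - 1) := Cfsg.Agent.Lib.Helper5.card_SL2
  have hB : Nat.card (borelSub F) = (Fintype.card F - 1) * Fintype.card F := card_borelSub
  have key := norm_ineq χ hcf (borelSub F) ((Finset.univ.erase (0 : F)).image upperU) Z ?_ ?_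
  · rw [Finset.sum_image (fun a _ b _ h => upperU_injective h), sum_norm_sq_of_irr hχ,
      ← Nat.card_eq_fintype_card, hG, hB] at key
    have h1 : (1 : ℕ) ≤ Fintype.card F := by omega
    have h2 : (1 : ℕ) ≤ Fintype.card F ^ 2 := Nat.one_le_pow _ _ (by omega)
    push_cast [Nat.cast_sub h1, Nat.cast_sub h2] at key
    have hq' : (2 : ℝ) ≤ (Fintype.card F : ℝ) := by exact_mod_cast hq
    have hpos : (0 : ℝ) < ((Fintype.card F : ℝ) - 1) * (Fintype.card F : ℝ) := by
      apply mul_pos <;> linarith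
    have hfac : (Fintype.card F : ℝ) * ((Fintype.card F : ℝ) ^ 2 - 1) =
        (((Fintype.card F : ℝ) - 1) * (Fintype.card F : ℝ)) * ((Fintype.card F : ℝ) + 1) := by ring
    rw [hfac, mul_assoc] at key
    have key2 := le_of_mul_le_mul_left key hpos
    rw [hfac]
    linarith
  · intro s hs x hx
    obtain ⟨y, hy, rfl⟩ := Finset.mem_image.mp hs
    obtain ⟨y', -, hy'⟩ := Finset.mem_image.mp hx
    apply mem_borelSub_of_conj_upperU x y (Finset.ne_of_mem_erase hy)
    rw [← hy', coe_upperU]
    simp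
  · intro z hz x hx
    obtain ⟨y, hy, hy'⟩ := Finset.mem_image.mp hx
    have hzc := hZ z hz
    have hcomm : x⁻¹ * z * x = z := by
      rw [mul_assoc, ← Subgroup.mem_center_iff.mp hzc x, ← mul_assoc, inv_mul_cancel, one_mul]
    rw [hcomm] at hy'
    have h01 : (z : Matrix (Fin 2) (Fin 2) F) 0 1 = y := by
      rw [← hy', coe_upperU]; simp
    rcases (mem_center_iff_pm z).mp hzc with h | h
    · rw [h] at h01
      simp at h01
      exact Finset.ne_of_mem_erase hy h01.symm
    · rw [h] at h01
      simp at h01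
      exact Finset.ne_of_mem_erase hy h01.symm



variable {V : Type*} [AddCommGroup V] [Module ℂ V]

/-- the torus as a subgroup of the Borel subgroup -/
noncomputable def tBHom : Fˣ →* borelSub F where
  toFun t := ⟨borelEl t 0, borelEl_mem t 0⟩
  map_one' := Subtype.ext borelEl_one
  map_mul' s t := Subtype.ext (borelEl_mul_borelEl s t).symm

/-- a linear character of the Borel subgroup trivial on `U` comes from a multiplicative
character of the field -/
theorem exists_mulChar_of_borel_hom (lam : borelSub F →* ℂˣ)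
    (hU : ∀ x : F, lam ⟨upperU x, upperU_mem_borelSub x⟩ = 1) :
    ∃ α : MulChar F ℂ, lam = lamOf α := by
  classical
  refine ⟨MulChar.ofUnitHom (lam.comp tBHom), ?_⟩
  refine MonoidHom.ext (fun b => Units.ext ?_)
  rw [lamOf_apply]
  obtain ⟨s, x, hs, hb⟩ := borelSub_decomp b.1 b.2
  have hb' : b = tBHom s * ⟨upperU x, upperU_mem_borelSub x⟩ := Subtype.ext hb
  rw [← hs, MulChar.ofUnitHom_coe]
  conv_lhs => rw [hb', map_mul, hU, mul_one]
  rfl

/-- in characteristic two a multiplicative character of a finite field of order dividing two is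
trivial -/
theorem mulChar_eq_one_of_sq_of_even [Fintype F] (α : MulChar F ℂ) (hα : α ^ 2 = 1)
    (heven : Even (Fintype.card F)) : α = 1 := by
  classical
  ext a
  rw [MulChar.one_apply_coe]
  have h2 : α a ^ 2 = 1 := by
    have := congrArg (fun β : MulChar F ℂ => β a) hα
    simpa [MulChar.pow_apply_coe] using this
  have hq : α a ^ (Fintype.card F - 1) = 1 := by
    rw [← map_pow, ← Units.val_pow_eq_pow_val]
    have : a ^ (Fintype.card F - 1) = 1 := by
      rw [← Fintype.card_units]; exact pow_card_eq_one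
    rw [this]; simp
  obtain ⟨k, hk⟩ := heven
  have hq2 : 1 ≤ Fintype.card F := Fintype.card_pos
  have hk1 : 1 ≤ k := by omega
  have hexp : Fintype.card F - 1 = 2 * (k - 1) + 1 := by omega
  rw [hexp, pow_succ, pow_mul, h2, one_pow, one_mul] at hq
  exact hq

/-- the trivial character occurs in `Ind_B^G 1` -/
theorem classInner_psSL_one_one [Fintype F] [DecidableEq F] :
    Cfsg.classInner (psSL (1 : MulChar F ℂ)) (fun _ => (1 : ℂ)) = 1 := by
  haveI : Fintype (borelSub F) := Fintype.ofFinite _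
  have h1 : Cfsg.IsIrrCharacter (Matrix.SpecialLinearGroup (Fin 2) F) (fun _ => (1 : ℂ)) :=
    Cfsg.Agent.Lib.Helper80.isIrrCharacter_one
  unfold psSL
  rw [Cfsg.Agent.Lib.Helper75.frobenius_reciprocity _ _
    (Cfsg.Agent.Lib.Helper78.IsCharacter.isClassFunction
      (Cfsg.Agent.Lib.Helper78.IsIrrCharacter.isCharacter h1))]
  have h2 : (fun b : borelSub F => (1 : MulChar F ℂ)
      (((b : Matrix.SpecialLinearGroup (Fin 2) F) : Matrix (Fin 2) (Fin 2) F) 0 0)) =
      fun _ => (1 : ℂ) := by
    funext b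
    have h00 := borel_apply_00_ne_zero b.2
    rw [← Units.val_mk0 h00, MulChar.one_apply_coe]
  rw [h2]
  exact Cfsg.Agent.Lib.Helper78.classInner_irr_self
    (Cfsg.Agent.Lib.Helper80.isIrrCharacter_one (G := borelSub F))

/-- **Classification of the irreducible representations of `SL₂(q)` with `U`-fixed vectors**:
a full principal series, the trivial representation, the Steinberg representation, or (for odd
`q`) a half of the principal series of the quadratic character. -/
theorem fixUS_cases_SL [Fintype F] [DecidableEq F] [FiniteDimensional ℂ V]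
    (ρ : Representation ℂ (Matrix.SpecialLinearGroup (Fin 2) F) V) (hρ : ρ.IsIrreducible)
    (h : fixUS ρ ≠ 0) :
    (∃ α : MulChar F ℂ, ρ.character = psSL α) ∨
    (Module.finrank ℂ V = 1) ∨ (Module.finrank ℂ V = Fintype.card F) ∨
    (Odd (Fintype.card F) ∧ 2 * Module.finrank ℂ V = Fintype.card F + 1 ∧
      ∃ (α : MulChar F ℂ) (χ' : Matrix.SpecialLinearGroup (Fin 2) F → ℂ), α ^ 2 = 1 ∧ α ≠ 1 ∧
        Cfsg.IsIrrCharacter (Matrix.SpecialLinearGroup (Fin 2) F) χ' ∧ χ' ≠ ρ.character ∧
        psSL α = ρ.character + χ') := by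
  classical
  have hχ := Cfsg.Agent.Lib.Helper78.isIrrCharacter_of_isIrreducible ρ hρ
  obtain ⟨lam, hU, hne⟩ := exists_borel_character_SL ρ h
  obtain ⟨α, rfl⟩ := exists_mulChar_of_borel_hom lam hU
  obtain ⟨m, R, hm, hR, hdec, hRχ⟩ := exists_decomp_of_eigenSub ρ hρ (borelSub F) (lamOf α) hne
  rw [← psSL_eq] at hdec
  have hinner : Cfsg.classInner (psSL α) ρ.character = (m : ℂ) := by
    rw [hdec, Cfsg.Agent.Lib.Helper78.classInner_add_left,
      Cfsg.Agent.Lib.Helper78.classInner_smul_left,
      Cfsg.Agent.Lib.Helper78.classInner_irr_self hχ, hRχ]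
    simp
  have hinner0 : Cfsg.classInner (psSL α) ρ.character ≠ 0 := by
    rw [hinner]
    exact_mod_cast (by omega : m ≠ 0)
  by_cases hα : α ^ 2 = 1
  · obtain ⟨χ₁, χ₂, h₁, h₂, hne12, hsum⟩ :=
      exists_two_irr_of_classInner_eq_two (isCharacter_psSL α) (classInner_psSL_self α hα)
    have hc : ρ.character = χ₁ ∨ ρ.character = χ₂ :=
      eq_or_eq_of_classInner_add_ne_zero h₁ h₂ hχ (by rw [← hsum]; exact hinner0)
    obtain ⟨χ', hχ', hneq, hsum'⟩ : ∃ χ' : Matrix.SpecialLinearGroup (Fin 2) F → ℂ,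
        Cfsg.IsIrrCharacter (Matrix.SpecialLinearGroup (Fin 2) F) χ' ∧ χ' ≠ ρ.character ∧
        psSL α = ρ.character + χ' := by
      rcases hc with hc | hc
      · exact ⟨χ₂, h₂, by rw [hc]; exact hne12.symm, by rw [hc]; exact hsum⟩
      · exact ⟨χ₁, h₁, by rw [hc]; exact hne12, by rw [hc, add_comm]; exact hsum⟩
    have hdeg : (Fintype.card F : ℂ) + 1 = (Module.finrank ℂ V : ℂ) + χ' 1 := by
      have := congrFun hsum' 1
      rw [psSL_one, Pi.add_apply, Representation.char_one] at this
      exact this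
    by_cases hα1 : α = 1
    · subst hα1
      have h1 : Cfsg.IsIrrCharacter (Matrix.SpecialLinearGroup (Fin 2) F) (fun _ => (1 : ℂ)) :=
        Cfsg.Agent.Lib.Helper80.isIrrCharacter_one
      have hone : (fun _ => (1 : ℂ)) = ρ.character ∨ (fun _ => (1 : ℂ)) = χ' :=
        eq_or_eq_of_classInner_add_ne_zero hχ hχ' h1 (by
          rw [← hsum', classInner_psSL_one_one]; exact one_ne_zero)
      rcases hone with hone | hone
      · right; left
        have := congrFun hone 1
        rw [Representation.char_one] at this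
        exact_mod_cast this.symm
      · right; right; left
        rw [← hone] at hdeg
        have : (Fintype.card F : ℂ) = (Module.finrank ℂ V : ℂ) := by linear_combination hdeg
        exact_mod_cast this.symm
    · right; right; right
      have hodd : Odd (Fintype.card F) := by
        rw [← Nat.not_even_iff_odd]
        intro heven
        exact hα1 (mulChar_eq_one_of_sq_of_even α hα heven)
      obtain ⟨ψ₁, ψ₂, hψ₁, hψ₂, -, hψsum, hd₁, hd₂, -⟩ :=
        Cfsg.Agent.S2307.result hodd α hα hα1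
      rw [comap_upperTriangularGL_eq] at hψsum
      have hc' : ρ.character = ψ₁ ∨ ρ.character = ψ₂ :=
        eq_or_eq_of_classInner_add_ne_zero hψ₁ hψ₂ hχ (by
          rw [← hψsum]; exact hinner0)
      have hdeg' : (Module.finrank ℂ V : ℂ) = (((Fintype.card F + 1) / 2 : ℕ) : ℂ) := by
        rw [← Representation.char_one ρ]
        rcases hc' with hc' | hc'
        · rw [hc', hd₁]
        · rw [hc', hd₂]
      have hdeg'' : Module.finrank ℂ V = (Fintype.card F + 1) / 2 := by exact_mod_cast hdeg'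
      refine ⟨hodd, ?_, α, χ', hα, hα1, hχ', hneq, hsum'⟩
      obtain ⟨k, hk⟩ := hodd
      rw [hdeg'']; omega
  · left
    have hirr := (Cfsg.Agent.S2306.result α).mpr hα
    rw [comap_upperTriangularGL_eq] at hirr
    refine ⟨α, ?_⟩
    have := Cfsg.Agent.Lib.Helper78.classInner_irr hirr hχ
    change Cfsg.classInner (psSL α) ρ.character = _ at this
    by_contra hne'
    rw [if_neg (fun h => hne' h.symm)] at this
    exact hinner0 this




/-- a primitive complex additive character of a finite field -/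
theorem exists_primitive_addChar [Finite F] : ∃ ψ : AddChar F ℂ, ψ.IsPrimitive := by
  obtain ⟨ψ, hψ⟩ := (AddChar.exists_apply_ne_zero (α := F) (a := 1)).mpr one_ne_zero
  refine ⟨ψ, AddChar.IsPrimitive.of_ne_one ?_⟩
  intro h
  apply hψ
  rw [h]; simp

theorem fixUS_le_finrank [FiniteDimensional ℂ V]
    (ρ : Representation ℂ (Matrix.SpecialLinearGroup (Fin 2) F) V) :
    fixUS ρ ≤ Module.finrank ℂ V := Submodule.finrank_le _

/-- the sum over `U` of the principal series -/
theorem fixUS_of_psSL [Fintype F] [DecidableEq F] [FiniteDimensional ℂ V]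
    (ρ : Representation ℂ (Matrix.SpecialLinearGroup (Fin 2) F) V) (α : MulChar F ℂ)
    (h : ρ.character = psSL α) : fixUS ρ = 2 := by
  have hsum := sum_char_upperU ρ
  rw [h, ← Finset.add_sum_erase Finset.univ _ (Finset.mem_univ (0 : F)), upperU_zero, psSL_one,
    Finset.sum_congr rfl (fun x hx => psSL_upperU α x (Finset.ne_of_mem_erase hx)),
    Finset.sum_const, Finset.card_erase_of_mem (Finset.mem_univ _), Finset.card_univ,
    nsmul_eq_mul, Nat.cast_sub Fintype.card_pos] at hsum
  have hq0 : (Fintype.card F : ℂ) ≠ 0 := by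
    exact_mod_cast (Fintype.card_pos (α := F)).ne'
  have : (fixUS ρ : ℂ) = 2 := by
    apply mul_left_cancel₀ hq0
    rw [← hsum]; push_cast; ring
  exact_mod_cast this

/-- if all non-trivial additive characters have the same multiplicity `a` in `ρ|_U`, then
the character is constant `= m₀ - a` on `U ∖ 1` -/
theorem char_upperU_of_uniform [Fintype F] [DecidableEq F] [FiniteDimensional ℂ V]
    (ρ : Representation ℂ (Matrix.SpecialLinearGroup (Fin 2) F) V) {ψ : AddChar F ℂ}
    (hψ : ψ.IsPrimitive) (a : ℕ) (ha : ∀ c : F, c ≠ 0 → uMult ρ ψ c = a) (x : F) (hx : x ≠ 0) :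
    ρ.character (upperU x) = (fixUS ρ : ℂ) - (a : ℂ) := by
  rw [char_upperU_eq_sum ρ hψ x, ← Finset.add_sum_erase Finset.univ _ (Finset.mem_univ (0 : F)),
    uMult_zero]
  simp only [zero_mul, AddChar.map_zero_eq_one, mul_one]
  rw [Finset.sum_congr rfl (fun c hc => by rw [ha c (Finset.ne_of_mem_erase hc)]),
    ← Finset.mul_sum]
  have hs := AddChar.sum_mulShift x hψ
  rw [if_neg hx, ← Finset.add_sum_erase Finset.univ _ (Finset.mem_univ (0 : F))] at hs
  simp only [zero_mul, AddChar.map_zero_eq_one] at hs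
  have : ∑ c ∈ Finset.univ.erase (0 : F), ψ (c * x) = -1 := by linear_combination hs
  rw [this]; ring

/-- the central element `-1` of `SL₂` -/
noncomputable def negOneSL : Matrix.SpecialLinearGroup (Fin 2) F := borelEl (-1 : Fˣ) 0

theorem negOneSL_mem_center :
    (negOneSL : Matrix.SpecialLinearGroup (Fin 2) F) ∈
      Subgroup.center (Matrix.SpecialLinearGroup (Fin 2) F) := by
  rw [mem_center_iff_pm]
  right
  unfold negOneSL
  rw [coe_borelEl]
  ext i j
  fin_cases i <;> fin_cases j <;> simp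

theorem negOneSL_ne_one (hF : ringChar F ≠ 2) :
    (negOneSL : Matrix.SpecialLinearGroup (Fin 2) F) ≠ 1 := by
  intro h
  have := congrArg (fun g : Matrix.SpecialLinearGroup (Fin 2) F =>
    (g : Matrix (Fin 2) (Fin 2) F) 0 0) h
  simp [negOneSL, coe_borelEl] at this
  exact Ring.neg_one_ne_one_of_char_ne_two hF this

/-- **The numerical data of an irreducible representation of `SL₂(q)`, `q` odd**, restricted
to `U`: multiplicities `m₀ = dim V^U`, `a` (on the square classes) and `b` (on the non-squares) -/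
theorem cusp_data_odd [Fintype F] [DecidableEq F] [FiniteDimensional ℂ V]
    (hodd : Odd (Fintype.card F))
    (ρ : Representation ℂ (Matrix.SpecialLinearGroup (Fin 2) F) V) (hρ : ρ.IsIrreducible) :
    ∃ (ψ : AddChar F ℂ) (ε : F), ψ.IsPrimitive ∧ quadraticChar F ε = -1 ∧
      Module.finrank ℂ V = fixUS ρ +
        (Fintype.card F - 1) / 2 * (uMult ρ ψ 1 + uMult ρ ψ ε) ∧
      ((Fintype.card F : ℝ) + 1) * ((Fintype.card F : ℝ) * ((fixUS ρ : ℝ) ^ 2 +
          (((Fintype.card F - 1) / 2 : ℕ) : ℝ) * ((uMult ρ ψ 1 : ℝ) ^ 2 + (uMult ρ ψ ε : ℝ) ^ 2)) -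
          (Module.finrank ℂ V : ℝ) ^ 2) ≤
        (Fintype.card F : ℝ) * ((Fintype.card F : ℝ) ^ 2 - 1) -
          2 * (Module.finrank ℂ V : ℝ) ^ 2 ∧
      (∀ c : F, c ≠ 0 → uMult ρ ψ c =
        if quadraticChar F c = 1 then uMult ρ ψ 1 else uMult ρ ψ ε) := by
  classical
  have hF : ringChar F ≠ 2 := by
    intro h2
    have := FiniteField.even_card_iff_char_two.mp h2
    obtain ⟨k, hk⟩ := hodd
    omega
  obtain ⟨ε, hε'⟩ := FiniteField.exists_nonsquare hF
  have hε : quadraticChar F ε = -1 := quadraticChar_neg_one_iff_not_isSquare.mpr hε'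
  obtain ⟨ψ, hψ⟩ := exists_primitive_addChar (F := F)
  have hχ := Cfsg.Agent.Lib.Helper78.isIrrCharacter_of_isIrreducible ρ hρ
  refine ⟨ψ, ε, hψ, hε, ?_, ?_, ?_⟩
  · rw [finrank_eq_sum_uMult ρ hψ,
      sum_of_sq_invariant hF ε hε (uMult ρ ψ) (uMult_sq_mul ρ ψ), uMult_zero]
    simp only [smul_eq_mul]
    ring
  · have hP := sum_norm_sq_char_upperU ρ hψ
    rw [sum_of_sq_invariant hF ε hε (fun c => ((uMult ρ ψ c : ℕ) : ℝ) ^ 2)
      (fun t c => by simp only [uMult_sq_mul ρ ψ t c]), uMult_zero] at hP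
    simp only [nsmul_eq_mul] at hP
    have hN := unip_norm_le hχ {1, negOneSL} (by
      intro z hz
      rcases Finset.mem_insert.mp hz with rfl | hz
      · exact Subgroup.one_mem _
      · rw [Finset.mem_singleton.mp hz]; exact negOneSL_mem_center)
    rw [Finset.sum_pair (negOneSL_ne_one hF).symm] at hN
    have hz : ‖ρ.character negOneSL‖ = ‖ρ.character 1‖ := by
      have := norm_char_center_mul ρ hρ negOneSL negOneSL_mem_center 1
      rwa [mul_one] at this
    have h1 : ‖ρ.character (1 : Matrix.SpecialLinearGroup (Fin 2) F)‖ =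
        (Module.finrank ℂ V : ℝ) := by
      rw [Representation.char_one]; simp
    rw [hz, h1] at hN
    have hsplit : ∑ y ∈ Finset.univ.erase (0 : F), ‖ρ.character (upperU y)‖ ^ 2 =
        ∑ x : F, ‖ρ.character (upperU x)‖ ^ 2 - (Module.finrank ℂ V : ℝ) ^ 2 := by
      rw [← Finset.add_sum_erase Finset.univ _ (Finset.mem_univ (0 : F)), upperU_zero, h1]
      ring
    rw [hsplit, hP] at hN
    linarith
  · intro c hc
    exact eq_of_sq_invariant ε hε (uMult ρ ψ) (uMult_sq_mul ρ ψ) c hc

/-- a constituent of a reducible principal series has a one-dimensional space of `U`-fixed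
vectors -/
theorem fixUS_eq_one_of_half [Fintype F] [DecidableEq F] [FiniteDimensional ℂ V]
    (ρ : Representation ℂ (Matrix.SpecialLinearGroup (Fin 2) F) V) (hρ : ρ.IsIrreducible)
    (h0 : fixUS ρ ≠ 0) (α : MulChar F ℂ) (χ' : Matrix.SpecialLinearGroup (Fin 2) F → ℂ)
    (hχ' : Cfsg.IsIrrCharacter (Matrix.SpecialLinearGroup (Fin 2) F) χ') (hne : χ' ≠ ρ.character)
    (hsum : psSL α = ρ.character + χ') : fixUS ρ = 1 := by
  have hχ := Cfsg.Agent.Lib.Helper78.isIrrCharacter_of_isIrreducible ρ hρ
  have hinner : Cfsg.classInner (psSL α) χ' = 1 := by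
    rw [hsum, Cfsg.Agent.Lib.Helper78.classInner_add_left,
      Cfsg.Agent.Lib.Helper78.classInner_irr_self hχ',
      Cfsg.Agent.Lib.Helper78.classInner_irr_ne hχ hχ' (Ne.symm hne)]
    norm_num
  obtain ⟨n', ρ', hirr', rfl⟩ := hχ'
  have h0' := fixUS_ne_zero_of_constituent α ρ' hirr' (by rw [hinner]; exact one_ne_zero)
  have hs := sum_char_upperU ρ
  have hs' := sum_char_upperU ρ'
  have hsP : ∑ x : F, psSL α (upperU x) = 2 * (Fintype.card F : ℂ) := by
    rw [← Finset.add_sum_erase Finset.univ _ (Finset.mem_univ (0 : F)), upperU_zero, psSL_one,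
      Finset.sum_congr rfl (fun x hx => psSL_upperU α x (Finset.ne_of_mem_erase hx)),
      Finset.sum_const, Finset.card_erase_of_mem (Finset.mem_univ _), Finset.card_univ,
      nsmul_eq_mul, Nat.cast_sub Fintype.card_pos]
    push_cast; ring
  rw [hsum] at hsP
  simp only [Pi.add_apply, Finset.sum_add_distrib] at hsP
  rw [hs, hs'] at hsP
  have hq0 : (Fintype.card F : ℂ) ≠ 0 := by
    exact_mod_cast (Fintype.card_pos (α := F)).ne'
  have h2 : (fixUS ρ : ℂ) + (fixUS ρ' : ℂ) = 2 := by
    apply mul_left_cancel₀ hq0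
    linear_combination hsP
  have h2' : fixUS ρ + fixUS ρ' = 2 := by exact_mod_cast h2
  omega

/-- **The dimension of the space of `U`-fixed vectors in terms of the degree**, `q` odd, `q ≥ 5` -/
theorem fixUS_of_degree_odd [Fintype F] [DecidableEq F] [FiniteDimensional ℂ V]
    (hodd : Odd (Fintype.card F)) (hq : 5 ≤ Fintype.card F)
    (ρ : Representation ℂ (Matrix.SpecialLinearGroup (Fin 2) F) V) (hρ : ρ.IsIrreducible) :
    (Module.finrank ℂ V = Fintype.card F + 1 → fixUS ρ = 2) ∧
    (Module.finrank ℂ V = Fintype.card F → fixUS ρ = 1) ∧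
    (Module.finrank ℂ V + 1 = Fintype.card F → fixUS ρ = 0) ∧
    (2 * Module.finrank ℂ V = Fintype.card F + 1 → fixUS ρ = 1) ∧
    (2 * Module.finrank ℂ V + 1 = Fintype.card F → fixUS ρ = 0) := by
  classical
  by_cases h0 : fixUS ρ = 0
  · obtain ⟨ψ, ε, hψ, hε, hD, hN, -⟩ := cusp_data_odd hodd ρ hρ
    obtain ⟨N, hNq⟩ := hodd
    have hN2 : 2 ≤ N := by omega
    have hNN : (Fintype.card F - 1) / 2 = N := by omega
    rw [h0, hNN] at hD
    rw [h0, hNN] at hN
    set a := uMult ρ ψ 1 with ha
    set b := uMult ρ ψ ε with hb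
    set d := Module.finrank ℂ V with hd
    rw [zero_add] at hD
    refine ⟨?_, ?_, ?_, ?_, ?_⟩
    · intro hdeg
      exfalso
      -- `N (a + b) = 2 N + 2` forces `N = 2`, `a + b = 3`
      have h1 : N * (a + b) = 2 * N + 2 := by omega
      have hs : a + b = 3 := by
        rcases Nat.lt_or_ge (a + b) 3 with h | h
        · have : N * (a + b) ≤ N * 2 := Nat.mul_le_mul_left _ (by omega)
          omega
        · rcases Nat.lt_or_ge 3 (a + b) with h' | h'
          · have : N * 4 ≤ N * (a + b) := Nat.mul_le_mul_left _ (by omega)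
            omega
          · omega
      rw [hs] at h1
      have hN' : N = 2 := by omega
      subst hN'
      have hq5 : Fintype.card F = 5 := by omega
      rw [hdeg, hq5] at hN
      have hab : (a = 0 ∧ b = 3) ∨ (a = 1 ∧ b = 2) ∨ (a = 2 ∧ b = 1) ∨ (a = 3 ∧ b = 0) := by omega
      rcases hab with ⟨h1, h2⟩ | ⟨h1, h2⟩ | ⟨h1, h2⟩ | ⟨h1, h2⟩ <;> rw [h1, h2] at hN <;>
        norm_num at hN
    · intro hdeg
      exfalso
      have h1 : N * (a + b) = 2 * N + 1 := by omega
      rcases Nat.lt_or_ge (a + b) 3 with h | h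
      · have : N * (a + b) ≤ N * 2 := Nat.mul_le_mul_left _ (by omega)
        omega
      · have : N * 3 ≤ N * (a + b) := Nat.mul_le_mul_left _ h
        omega
    · intro _; exact h0
    · intro hdeg
      exfalso
      have h1 : N * (a + b) = N + 1 := by omega
      rcases Nat.lt_or_ge (a + b) 2 with h | h
      · have : N * (a + b) ≤ N * 1 := Nat.mul_le_mul_left _ (by omega)
        omega
      · have : N * 2 ≤ N * (a + b) := Nat.mul_le_mul_left _ h
        omega
    · intro _; exact h0
  · have hle := fixUS_le_finrank ρ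
    rcases fixUS_cases_SL ρ hρ h0 with ⟨α, hα⟩ | h1 | hq' | ⟨-, h2, α, χ', -, -, hχ', hne, hsum⟩
    · have hf := fixUS_of_psSL ρ α hα
      have hdeg : Module.finrank ℂ V = Fintype.card F + 1 := by
        have := congrFun hα 1
        rw [Representation.char_one, psSL_one] at this
        exact_mod_cast this
      refine ⟨fun _ => hf, ?_, ?_, ?_, ?_⟩ <;> intro h <;> omega
    · have hf : fixUS ρ = 1 := by omega
      refine ⟨?_, ?_, ?_, ?_, ?_⟩ <;> intro h <;> omega
    · have hf := fixUS_eq_one_of_finrank ρ hρ hq'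
      refine ⟨?_, fun _ => hf, ?_, ?_, ?_⟩ <;> intro h <;> omega
    · have hf := fixUS_eq_one_of_half ρ hρ h0 α χ' hχ' hne hsum
      refine ⟨?_, ?_, ?_, fun _ => hf, ?_⟩ <;> intro h <;> omega

/-- summing a function over the upper unitriangular matrices of `SL₂` -/
theorem sum_unitriangular [Fintype F] [DecidableEq F]
    (χ : Matrix.SpecialLinearGroup (Fin 2) F → ℂ) :
    (∑ g : Matrix.SpecialLinearGroup (Fin 2) F,
      if (g : Matrix (Fin 2) (Fin 2) F) 1 0 = 0 ∧ (g : Matrix (Fin 2) (Fin 2) F) 0 0 = 1 ∧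
        (g : Matrix (Fin 2) (Fin 2) F) 1 1 = 1 then χ g else 0) = ∑ x : F, χ (upperU x) := by
  rw [← Finset.sum_filter]
  have : Finset.univ.filter (fun g : Matrix.SpecialLinearGroup (Fin 2) F =>
      (g : Matrix (Fin 2) (Fin 2) F) 1 0 = 0 ∧ (g : Matrix (Fin 2) (Fin 2) F) 0 0 = 1 ∧
        (g : Matrix (Fin 2) (Fin 2) F) 1 1 = 1) = Finset.univ.image upperU := by
    ext g
    simp only [Finset.mem_filter, Finset.mem_univ, true_and, Finset.mem_image]
    constructor
    · rintro ⟨h10, h00, h11⟩
      refine ⟨(g : Matrix (Fin 2) (Fin 2) F) 0 1, ?_⟩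
      apply Cfsg.Agent.Lib.Helper5.sl2_ext <;> simp [coe_upperU, h10, h00, h11]
    · rintro ⟨x, rfl⟩
      simp [coe_upperU]
  rw [this, Finset.sum_image (fun a _ b _ h => upperU_injective h)]

end Cfsg.Agent.Lib.Helper39
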