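import Mathlib
import Cfsg.Agent.Lib.Helper39.SL2Cusp

set_option autoImplicit false
set_option linter.style.haveILetI false

/-!
# Values of the characters of degree `q ± 1` of `SL₂(q)` at transvections (helper39)
-/

namespace Cfsg.Agent.Lib.Helper39

open Matrix Cfsg.Agent.Lib.Helper41
open scoped ComplexConjugate

variable {F : Type*} [Field F]
variable {V : Type*} [AddCommGroup V] [Module ℂ V]

/-- the numerical data of a representation of `SL₂(q)`, `q` even, restricted to `U` -/
theorem cusp_data_even [Fintype F] [DecidableEq F] [FiniteDimensional ℂ V]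
    (heven : Even (Fintype.card F))
    (ρ : Representation ℂ (Matrix.SpecialLinearGroup (Fin 2) F) V) :
    ∃ a : ℕ, Module.finrank ℂ V = fixUS ρ + (Fintype.card F - 1) * a ∧
      ∀ x : F, x ≠ 0 → ρ.character (upperU x) = (fixUS ρ : ℂ) - (a : ℂ) := by
  classical
  have hF : ringChar F = 2 := by
    rw [FiniteField.even_card_iff_char_two]
    exact Nat.even_iff.mp heven
  obtain ⟨ψ, hψ⟩ := exists_primitive_addChar (F := F)
  have hall : ∀ c : F, c ≠ 0 → uMult ρ ψ c = uMult ρ ψ 1 := by
    intro c hc
    obtain ⟨r, hr⟩ := FiniteField.isSquare_of_char_two hF c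
    have hr0 : r ≠ 0 := by
      rintro rfl
      simp at hr
      exact hc hr
    have := uMult_sq_mul ρ ψ (Units.mk0 r hr0) 1
    rw [← this]
    congr 1
    simp [hr, sq]
  refine ⟨uMult ρ ψ 1, ?_, fun x hx => char_upperU_of_uniform ρ hψ _ hall x hx⟩
  rw [finrank_eq_sum_uMult ρ hψ, ← Finset.add_sum_erase Finset.univ _ (Finset.mem_univ (0 : F)),
    uMult_zero, Finset.sum_congr rfl (fun c hc => hall c (Finset.ne_of_mem_erase hc)),
    Finset.sum_const, Finset.card_erase_of_mem (Finset.mem_univ _), Finset.card_univ, smul_eq_mul]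

/-- an irreducible character of `SL₂(q)`, `q ≥ 4`, of degree `q + 1` takes the value `1` on the
non-trivial upper unitriangular elements -/
theorem char_upperU_of_degree_add_one [Fintype F] [DecidableEq F] [FiniteDimensional ℂ V]
    (hq : 4 ≤ Fintype.card F)
    (ρ : Representation ℂ (Matrix.SpecialLinearGroup (Fin 2) F) V) (hρ : ρ.IsIrreducible)
    (hd : Module.finrank ℂ V = Fintype.card F + 1) (x : F) (hx : x ≠ 0) :
    ρ.character (upperU x) = 1 := by
  classical
  have h0 : fixUS ρ ≠ 0 := by
    rcases Nat.even_or_odd (Fintype.card F) with heven | hodd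
    · intro h0
      obtain ⟨a, ha, -⟩ := cusp_data_even heven ρ
      rw [h0, hd, zero_add] at ha
      rcases Nat.lt_or_ge a 2 with h | h
      · have : (Fintype.card F - 1) * a ≤ (Fintype.card F - 1) * 1 :=
          Nat.mul_le_mul_left _ (by omega)
        omega
      · have : (Fintype.card F - 1) * 2 ≤ (Fintype.card F - 1) * a := Nat.mul_le_mul_left _ h
        omega
    · have hq5 : 5 ≤ Fintype.card F := by
        obtain ⟨k, hk⟩ := hodd; omega
      rw [(fixUS_of_degree_odd hodd hq5 ρ hρ).1 hd]
      norm_num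
  rcases fixUS_cases_SL ρ hρ h0 with ⟨α, hα⟩ | h1 | hq' | ⟨-, h2, -⟩
  · rw [hα, psSL_upperU α x hx]
  · omega
  · omega
  · omega

/-- an irreducible character of `SL₂(q)`, `q ≥ 4`, of degree `q - 1` takes the value `-1` on the
non-trivial upper unitriangular elements -/
theorem char_upperU_of_degree_sub_one [Fintype F] [DecidableEq F] [FiniteDimensional ℂ V]
    (hq : 4 ≤ Fintype.card F)
    (ρ : Representation ℂ (Matrix.SpecialLinearGroup (Fin 2) F) V) (hρ : ρ.IsIrreducible)
    (hd : Module.finrank ℂ V + 1 = Fintype.card F) (x : F) (hx : x ≠ 0) :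
    ρ.character (upperU x) = -1 := by
  classical
  have h0 : fixUS ρ = 0 := by
    by_contra h0
    rcases fixUS_cases_SL ρ hρ h0 with ⟨α, hα⟩ | h1 | hq' | ⟨-, h2, -⟩
    · have hdeg : Module.finrank ℂ V = Fintype.card F + 1 := by
        have := congrFun hα 1
        rw [Representation.char_one, psSL_one] at this
        exact_mod_cast this
      omega
    · omega
    · omega
    · omega
  rcases Nat.even_or_odd (Fintype.card F) with heven | hodd
  · obtain ⟨a, ha, hval⟩ := cusp_data_even heven ρ
    rw [h0, zero_add] at ha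
    have ha1 : a = 1 := by
      rcases Nat.lt_or_ge a 1 with h | h
      · have : a = 0 := by omega
        rw [this] at ha; omega
      · rcases Nat.lt_or_ge a 2 with h' | h'
        · omega
        · have : (Fintype.card F - 1) * 2 ≤ (Fintype.card F - 1) * a := Nat.mul_le_mul_left _ h'
          omega
    rw [hval x hx, h0, ha1]
    norm_num
  · obtain ⟨ψ, ε, hψ, hε, hD, hN, hcl⟩ := cusp_data_odd hodd ρ hρ
    obtain ⟨N, hNq⟩ := hodd
    have hN2 : 2 ≤ N := by omega
    have hNN : (Fintype.card F - 1) / 2 = N := by omega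
    rw [h0, hNN, zero_add] at hD
    rw [h0, hNN] at hN
    have hdN : Module.finrank ℂ V = 2 * N := by omega
    have hs : uMult ρ ψ 1 + uMult ρ ψ ε = 2 := by
      have h1 : N * (uMult ρ ψ 1 + uMult ρ ψ ε) = N * 2 := by rw [← hD, hdN]; ring
      exact Nat.eq_of_mul_eq_mul_left (by omega) h1
    have hab : uMult ρ ψ 1 = 1 ∧ uMult ρ ψ ε = 1 := by
      have hcases : (uMult ρ ψ 1 = 0 ∧ uMult ρ ψ ε = 2) ∨ (uMult ρ ψ 1 = 1 ∧ uMult ρ ψ ε = 1) ∨
          (uMult ρ ψ 1 = 2 ∧ uMult ρ ψ ε = 0) := by omega
      have hNr : (2 : ℝ) ≤ (N : ℝ) := by exact_mod_cast hN2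
      rcases hcases with ⟨h1, h2⟩ | h | ⟨h1, h2⟩
      · exfalso
        rw [h1, h2, hdN, hNq] at hN
        push_cast at hN
        nlinarith
      · exact h
      · exfalso
        rw [h1, h2, hdN, hNq] at hN
        push_cast at hN
        nlinarith
    have hall : ∀ c : F, c ≠ 0 → uMult ρ ψ c = 1 := by
      intro c hc
      rw [hcl c hc, hab.1, hab.2]
      split_ifs <;> rfl
    rw [char_upperU_of_uniform ρ hψ 1 hall x hx, h0]
    norm_num

end Cfsg.Agent.Lib.Helper39
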