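import Mathlib
import Cfsg.Agent.Lib.Helper39.SL2Cusp2

set_option autoImplicit false
set_option linter.style.haveILetI false

/-!
# Regular semisimple elements of `SL₂(q)` and character zeros (helper39)

* `char_regular_diag_eq_zero_SL`: cuspidal characters vanish on regular split elements.
* `exists_conj_eq_conjGL_of_elliptic`: an elliptic element is `SL₂`-conjugate to its `GL₂`-conjugates
  (`q` odd); `disc_ne_zero_of_elliptic`, `exists_norm_form_eq`.
* `unip_norm_le_pm`: the norm inequality over the conjugates of `±U`.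
* `psSL_elliptic`, `conj_apply_10_ne_zero_of_elliptic`, `char_upperU_of_cusp_sub_one_odd`,
  `fixUS_ne_zero_of_degree_add_one_odd`.
-/

namespace Cfsg.Agent.Lib.Helper39


open Matrix Cfsg.Agent.Lib.Helper41
open scoped ComplexConjugate

variable {F : Type*} [Field F]
variable {V : Type*} [AddCommGroup V] [Module ℂ V]

/-- representations of `SL₂` without `U`-fixed vectors have characters vanishing on regular
diagonal elements -/
theorem char_regular_diag_eq_zero_SL [Fintype F] [FiniteDimensional ℂ V]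
    (ρ : Representation ℂ (Matrix.SpecialLinearGroup (Fin 2) F) V) (h : fixUS ρ = 0)
    (g : Matrix.SpecialLinearGroup (Fin 2) F)
    (h01 : (g : Matrix (Fin 2) (Fin 2) F) 0 1 = 0) (h10 : (g : Matrix (Fin 2) (Fin 2) F) 1 0 = 0)
    (hne : (g : Matrix (Fin 2) (Fin 2) F) 0 0 ^ 2 ≠ 1) :
    ρ.character g = 0 := by
  have hbot : eigenSub ρ (uSHom (F := F)) 1 = ⊥ := Submodule.finrank_eq_zero.mp h
  have hsum := (twistSum_eq_zero_iff ρ (uSHom (F := F)) 1).mpr hbot
  unfold twistSum at hsum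
  simp only [MonoidHom.one_apply, inv_one, Units.val_one, one_smul, uSHom_apply] at hsum
  have h2 : ∑ x : Multiplicative F, ρ.character (g * upperU x.toAdd) = 0 := by
    have := congrArg (fun T => LinearMap.trace ℂ V (ρ g * T)) hsum
    simp only [Finset.mul_sum, map_sum, mul_zero, map_zero] at this
    rw [← this]
    refine Finset.sum_congr rfl (fun x _ => ?_)
    rw [Representation.character, map_mul]
  have hdet := sl2_det g
  rw [h01, h10, mul_zero, sub_zero] at hdet
  have h00 : (g : Matrix (Fin 2) (Fin 2) F) 0 0 ≠ 0 := by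
    intro h0; rw [h0, zero_mul] at hdet; exact zero_ne_one hdet
  have hd : (g : Matrix (Fin 2) (Fin 2) F) 1 1 - (g : Matrix (Fin 2) (Fin 2) F) 0 0 ≠ 0 := by
    intro h0
    apply hne
    have : (g : Matrix (Fin 2) (Fin 2) F) 1 1 = (g : Matrix (Fin 2) (Fin 2) F) 0 0 :=
      sub_eq_zero.mp h0
    rw [this] at hdet
    rw [sq]; exact hdet
  have h3 : ∀ x : Multiplicative F, ρ.character (g * upperU x.toAdd) = ρ.character g := by
    intro x
    have : g * upperU x.toAdd = upperU ((g : Matrix (Fin 2) (Fin 2) F) 0 0 * x.toAdd /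
        ((g : Matrix (Fin 2) (Fin 2) F) 1 1 - (g : Matrix (Fin 2) (Fin 2) F) 0 0)) * g *
        (upperU ((g : Matrix (Fin 2) (Fin 2) F) 0 0 * x.toAdd /
        ((g : Matrix (Fin 2) (Fin 2) F) 1 1 - (g : Matrix (Fin 2) (Fin 2) F) 0 0)))⁻¹ := by
      rw [eq_mul_inv_iff_mul_eq]
      apply Cfsg.Agent.Lib.Helper5.sl2_ext
      · simp [coe_upperU, Matrix.mul_apply, Fin.sum_univ_two, h10]
      · simp [coe_upperU, Matrix.mul_apply, Fin.sum_univ_two, h01]
        field_simp
        ring
      · simp [coe_upperU, Matrix.mul_apply, Fin.sum_univ_two, h10]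
      · simp [coe_upperU, Matrix.mul_apply, Fin.sum_univ_two, h10]
    rw [this, Representation.char_conj]
  rw [Finset.sum_congr rfl (fun x _ => h3 x), Finset.sum_const, Finset.card_univ,
    nsmul_eq_mul] at h2
  have hq : (Fintype.card (Multiplicative F) : ℂ) ≠ 0 := by
    exact_mod_cast Fintype.card_ne_zero
  exact (mul_eq_zero.mp h2).resolve_left hq




/-- an element of `SL₂` without eigenvectors has non-zero discriminant (odd characteristic) -/
theorem disc_ne_zero_of_elliptic (h2 : (2 : F) ≠ 0) (g : Matrix.SpecialLinearGroup (Fin 2) F)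
    (hg : ∀ (c : F) (v : Fin 2 → F), v ≠ 0 → (g : Matrix (Fin 2) (Fin 2) F).mulVec v ≠ c • v) :
    ((g : Matrix (Fin 2) (Fin 2) F) 0 0 + (g : Matrix (Fin 2) (Fin 2) F) 1 1) ^ 2 - 4 ≠ 0 := by
  intro hD
  set τ := (g : Matrix (Fin 2) (Fin 2) F) 0 0 + (g : Matrix (Fin 2) (Fin 2) F) 1 1 with hτ
  have hdet := sl2_det g
  have h4 : (4 : F) ≠ 0 := by
    have : (4 : F) = 2 * 2 := by norm_num
    rw [this]; exact mul_ne_zero h2 h2
  have hM : ((g : Matrix (Fin 2) (Fin 2) F) - (τ / 2) • (1 : Matrix (Fin 2) (Fin 2) F)).det = 0 := by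
    rw [Matrix.det_fin_two]
    simp only [Matrix.sub_apply, Matrix.smul_apply, Matrix.one_apply_eq, smul_eq_mul, mul_one,
      Matrix.one_apply_ne (show (0 : Fin 2) ≠ 1 by decide),
      Matrix.one_apply_ne (show (1 : Fin 2) ≠ 0 by decide), mul_zero, sub_zero]
    have : ((g : Matrix (Fin 2) (Fin 2) F) 0 0 - τ / 2) * ((g : Matrix (Fin 2) (Fin 2) F) 1 1 - τ / 2) -
        (g : Matrix (Fin 2) (Fin 2) F) 0 1 * (g : Matrix (Fin 2) (Fin 2) F) 1 0 =
        -(τ ^ 2 - 4) / 4 := by
      field_simp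
      rw [hτ]
      linear_combination 16 * hdet
    rw [this, hD]; simp
  obtain ⟨v, hv, hMv⟩ := Matrix.exists_mulVec_eq_zero_iff.mpr hM
  apply hg (τ / 2) v hv
  rw [Matrix.sub_mulVec, Matrix.smul_mulVec, Matrix.one_mulVec, sub_eq_zero] at hMv
  exact hMv

/-- the norm form `a² + τ a b + b²` of non-zero discriminant represents every element of a finite
field of odd order -/
theorem exists_norm_form_eq [Fintype F] (hodd : Odd (Fintype.card F)) (h2 : (2 : F) ≠ 0)
    (τ : F) (hD : τ ^ 2 - 4 ≠ 0) (t : F) : ∃ a b : F, a ^ 2 + τ * a * b + b ^ 2 = t := by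
  have h4 : (4 : F) ≠ 0 := by
    have : (4 : F) = 2 * 2 := by norm_num
    rw [this]; exact mul_ne_zero h2 h2
  have hc : -(τ ^ 2 - 4) / 4 ≠ 0 := by
    apply div_ne_zero _ h4
    exact neg_ne_zero.mpr hD
  have hf : (Polynomial.X ^ 2 - Polynomial.C t : Polynomial F).degree = 2 :=
    Polynomial.degree_X_pow_sub_C (by norm_num) t
  have hg : (Polynomial.C (-(τ ^ 2 - 4) / 4) * Polynomial.X ^ 2 : Polynomial F).degree = 2 :=
    Polynomial.degree_C_mul_X_pow 2 hc
  obtain ⟨X, Y, hXY⟩ := FiniteField.exists_root_sum_quadratic hf hg (Nat.odd_iff.mp hodd)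
  simp only [Polynomial.eval_sub, Polynomial.eval_pow, Polynomial.eval_X, Polynomial.eval_C,
    Polynomial.eval_mul] at hXY
  refine ⟨X - Y * τ / 2, Y, ?_⟩
  field_simp
  field_simp at hXY
  linear_combination hXY

/-- an element of `SL₂(q)`, `q` odd, without eigenvectors is `SL₂`-conjugate to each of its
`GL₂`-conjugates -/
theorem exists_conj_eq_conjGL_of_elliptic [Fintype F] (hodd : Odd (Fintype.card F))
    (g : Matrix.SpecialLinearGroup (Fin 2) F)
    (hg : ∀ (c : F) (v : Fin 2 → F), v ≠ 0 → (g : Matrix (Fin 2) (Fin 2) F).mulVec v ≠ c • v)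
    (x : GL (Fin 2) F) :
    ∃ h : Matrix.SpecialLinearGroup (Fin 2) F, conjGL x g = h * g * h⁻¹ := by
  classical
  have h2 : (2 : F) ≠ 0 := by
    have hF : ringChar F ≠ 2 := by
      intro h2
      have := FiniteField.even_card_iff_char_two.mp h2
      obtain ⟨k, hk⟩ := hodd
      omega
    exact Ring.two_ne_zero hF
  have hD := disc_ne_zero_of_elliptic h2 g hg
  set τ := (g : Matrix (Fin 2) (Fin 2) F) 0 0 + (g : Matrix (Fin 2) (Fin 2) F) 1 1 with hτ
  have hxdet : (x : Matrix (Fin 2) (Fin 2) F).det ≠ 0 := Matrix.GeneralLinearGroup.det_ne_zero x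
  obtain ⟨a, b, hab⟩ := exists_norm_form_eq hodd h2 τ hD (x : Matrix (Fin 2) (Fin 2) F).det
  have hdetg := sl2_det g
  set c : Matrix (Fin 2) (Fin 2) F := a • (1 : Matrix (Fin 2) (Fin 2) F) +
    b • (g : Matrix (Fin 2) (Fin 2) F) with hc
  have hcdet : c.det = (x : Matrix (Fin 2) (Fin 2) F).det := by
    rw [← hab, Matrix.det_fin_two]
    simp only [hc, Matrix.add_apply, Matrix.smul_apply, Matrix.one_apply_eq, smul_eq_mul, mul_one,
      Matrix.one_apply_ne (show (0 : Fin 2) ≠ 1 by decide),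
      Matrix.one_apply_ne (show (1 : Fin 2) ≠ 0 by decide), mul_zero, zero_add]
    rw [hτ]
    linear_combination b ^ 2 * hdetg
  have hcne : c.det ≠ 0 := by rw [hcdet]; exact hxdet
  let c' : GL (Fin 2) F := Matrix.GeneralLinearGroup.mkOfDetNeZero c hcne
  have hcomm : c' * Matrix.SpecialLinearGroup.toGL g = Matrix.SpecialLinearGroup.toGL g * c' := by
    apply Units.ext
    simp only [Units.val_mul, Matrix.SpecialLinearGroup.coe_GL_coe_matrix]
    change c * (g : Matrix (Fin 2) (Fin 2) F) = (g : Matrix (Fin 2) (Fin 2) F) * c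
    rw [hc]
    simp [add_mul, mul_add]
  have hdet1 : ((x * c'⁻¹ : GL (Fin 2) F) : Matrix (Fin 2) (Fin 2) F).det = 1 := by
    rw [← Matrix.GeneralLinearGroup.val_det_apply, map_mul, map_inv, Units.val_mul,
      Matrix.GeneralLinearGroup.val_det_apply, Units.val_inv_eq_inv_val,
      Matrix.GeneralLinearGroup.val_det_apply]
    change (x : Matrix (Fin 2) (Fin 2) F).det * (c.det)⁻¹ = 1
    rw [hcdet]
    exact mul_inv_cancel₀ hxdet
  let h : Matrix.SpecialLinearGroup (Fin 2) F :=
    ⟨((x * c'⁻¹ : GL (Fin 2) F) : Matrix (Fin 2) (Fin 2) F), hdet1⟩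
  have hh : Matrix.SpecialLinearGroup.toGL h = x * c'⁻¹ := by
    apply Units.ext
    rfl
  refine ⟨h, ?_⟩
  apply toGL_injective
  rw [toGL_conjGL, map_mul, map_mul, map_inv, hh]
  have : x * c'⁻¹ * Matrix.SpecialLinearGroup.toGL g * (x * c'⁻¹)⁻¹ =
      x * (c'⁻¹ * (Matrix.SpecialLinearGroup.toGL g * c')) * x⁻¹ := by
    group
  rw [this, ← hcomm, inv_mul_cancel_left]




theorem coe_negOneSL : ((negOneSL : Matrix.SpecialLinearGroup (Fin 2) F) :
    Matrix (Fin 2) (Fin 2) F) = !![-1, 0; 0, -1] := by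
  unfold negOneSL
  rw [coe_borelEl]
  ext i j
  fin_cases i <;> fin_cases j <;> simp

theorem coe_negOneSL_mul (M : Matrix.SpecialLinearGroup (Fin 2) F) :
    ((negOneSL * M : Matrix.SpecialLinearGroup (Fin 2) F) : Matrix (Fin 2) (Fin 2) F) =
      -(M : Matrix (Fin 2) (Fin 2) F) := by
  rw [Matrix.SpecialLinearGroup.coe_mul, coe_negOneSL]
  ext i j
  fin_cases i <;> fin_cases j <;> simp [Matrix.mul_apply, Fin.sum_univ_two]

/-- the norm inequality for `SL₂(q)`, `q` odd, over the conjugates of `±U` -/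
theorem unip_norm_le_pm [Fintype F] [DecidableEq F] [FiniteDimensional ℂ V]
    (hF : ringChar F ≠ 2)
    (ρ : Representation ℂ (Matrix.SpecialLinearGroup (Fin 2) F) V) (hρ : ρ.IsIrreducible)
    (Z : Finset (Matrix.SpecialLinearGroup (Fin 2) F))
    (hZ : ∀ z ∈ Z, ∀ x : Matrix.SpecialLinearGroup (Fin 2) F,
      ((x⁻¹ * z * x : Matrix.SpecialLinearGroup (Fin 2) F) : Matrix (Fin 2) (Fin 2) F) 1 0 = 0 →
      ((x⁻¹ * z * x : Matrix.SpecialLinearGroup (Fin 2) F) : Matrix (Fin 2) (Fin 2) F) 0 1 = 0) :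
    ((Fintype.card F : ℝ) + 1) *
        (2 * ∑ y ∈ Finset.univ.erase (0 : F), ‖ρ.character (upperU y)‖ ^ 2) ≤
      (Fintype.card F : ℝ) * ((Fintype.card F : ℝ) ^ 2 - 1) - ∑ z ∈ Z, ‖ρ.character z‖ ^ 2 := by
  classical
  have hχ := Cfsg.Agent.Lib.Helper78.isIrrCharacter_of_isIrreducible ρ hρ
  have hcf := Cfsg.Agent.Lib.Helper78.IsCharacter.isClassFunction
    (Cfsg.Agent.Lib.Helper78.IsIrrCharacter.isCharacter hχ)
  have hq : 2 ≤ Fintype.card F := Fintype.one_lt_card
  have hG : Nat.card (Matrix.SpecialLinearGroup (Fin 2) F)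
      = Fintype.card F * (Fintype.card F ^ 2 - 1) := Cfsg.Agent.Lib.Helper5.card_SL2
  have hB : Nat.card (borelSub F) = (Fintype.card F - 1) * Fintype.card F := card_borelSub
  have hneg1 : (-1 : F) ≠ 1 := Ring.neg_one_ne_one_of_char_ne_two hF
  set Sp := (Finset.univ.erase (0 : F)).image upperU with hSp
  set Sm := (Finset.univ.erase (0 : F)).image (fun y => negOneSL * upperU y) with hSm
  have hS10 : ∀ s ∈ Sp ∪ Sm, (s : Matrix (Fin 2) (Fin 2) F) 1 0 = 0 ∧
      (s : Matrix (Fin 2) (Fin 2) F) 0 1 ≠ 0 := by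
    intro s hs
    rcases Finset.mem_union.mp hs with hs | hs
    · obtain ⟨y, hy, rfl⟩ := Finset.mem_image.mp hs
      have hy0 := Finset.ne_of_mem_erase hy
      simp [coe_upperU, hy0]
    · obtain ⟨y, hy, rfl⟩ := Finset.mem_image.mp hs
      have hy0 := Finset.ne_of_mem_erase hy
      simp [coe_upperU, coe_negOneSL, Matrix.mul_apply, Fin.sum_univ_two, hy0]
  have hdisj : Disjoint Sp Sm := by
    rw [Finset.disjoint_left]
    intro s hs hs'
    obtain ⟨y, -, rfl⟩ := Finset.mem_image.mp hs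
    obtain ⟨y', -, hy'⟩ := Finset.mem_image.mp hs'
    have := congrArg (fun g : Matrix.SpecialLinearGroup (Fin 2) F =>
      (g : Matrix (Fin 2) (Fin 2) F) 0 0) hy'
    simp [coe_upperU, coe_negOneSL, Matrix.mul_apply, Fin.sum_univ_two] at this
    exact hneg1 this
  have key := norm_ineq ρ.character hcf (borelSub F) (Sp ∪ Sm) Z ?_ ?_
  · have hneg : ∑ y ∈ Finset.univ.erase (0 : F), ‖ρ.character (negOneSL * upperU y)‖ ^ 2 =
        ∑ y ∈ Finset.univ.erase (0 : F), ‖ρ.character (upperU y)‖ ^ 2 := by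
      refine Finset.sum_congr rfl (fun y _ => ?_)
      rw [norm_char_center_mul ρ hρ negOneSL negOneSL_mem_center (upperU y)]
    rw [Finset.sum_union hdisj, hSp, hSm,
      Finset.sum_image (fun a _ b _ h => upperU_injective h),
      Finset.sum_image (fun a _ b _ h => upperU_injective (mul_left_cancel h)), hneg,
      sum_norm_sq_of_irr hχ, ← Nat.card_eq_fintype_card, hG, hB] at key
    have h1 : (1 : ℕ) ≤ Fintype.card F := by omega
    have h2 : (1 : ℕ) ≤ Fintype.card F ^ 2 := Nat.one_le_pow _ _ (by omega)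
    push_cast [Nat.cast_sub h1, Nat.cast_sub h2] at key
    have hq' : (2 : ℝ) ≤ (Fintype.card F : ℝ) := by exact_mod_cast hq
    have hpos : (0 : ℝ) < ((Fintype.card F : ℝ) - 1) * (Fintype.card F : ℝ) := by
      apply mul_pos <;> linarith
    have hfac : (Fintype.card F : ℝ) * ((Fintype.card F : ℝ) ^ 2 - 1) =
        (((Fintype.card F : ℝ) - 1) * (Fintype.card F : ℝ)) * ((Fintype.card F : ℝ) + 1) := by ring
    rw [hfac, mul_assoc] at key
    have key2 := le_of_mul_le_mul_left key hpos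
    rw [hfac]
    linarith
  · intro s hs x hx
    have hx10 := (hS10 _ hx).1
    rcases Finset.mem_union.mp hs with hs | hs
    · obtain ⟨y, hy, rfl⟩ := Finset.mem_image.mp hs
      exact mem_borelSub_of_conj_upperU x y (Finset.ne_of_mem_erase hy) hx10
    · obtain ⟨y, hy, rfl⟩ := Finset.mem_image.mp hs
      apply mem_borelSub_of_conj_upperU x y (Finset.ne_of_mem_erase hy)
      have hc : x⁻¹ * (negOneSL * upperU y) * x = negOneSL * (x⁻¹ * upperU y * x) := by
        have := Subgroup.mem_center_iff.mp (negOneSL_mem_center (F := F)) x⁻¹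
        calc x⁻¹ * (negOneSL * upperU y) * x = (x⁻¹ * negOneSL) * upperU y * x := by group
          _ = (negOneSL * x⁻¹) * upperU y * x := by rw [this]
          _ = negOneSL * (x⁻¹ * upperU y * x) := by group
      rw [hc, coe_negOneSL_mul, Matrix.neg_apply, neg_eq_zero] at hx10
      exact hx10
  · intro z hz x hx
    have h := hS10 _ hx
    exact h.2 (hZ z hz x h.1)

/-- no conjugate of an element without eigenvectors is upper triangular -/
theorem conj_apply_10_ne_zero_of_elliptic (g : Matrix.SpecialLinearGroup (Fin 2) F)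
    (hg : ∀ (c : F) (v : Fin 2 → F), v ≠ 0 → (g : Matrix (Fin 2) (Fin 2) F).mulVec v ≠ c • v)
    (x : Matrix.SpecialLinearGroup (Fin 2) F) :
    ((x⁻¹ * g * x : Matrix.SpecialLinearGroup (Fin 2) F) : Matrix (Fin 2) (Fin 2) F) 1 0 ≠ 0 := by
  intro h10
  set y := x⁻¹ * g * x with hy
  have hxy : g * x = x * y := by rw [hy]; group
  have e00 := congrArg (fun A : Matrix.SpecialLinearGroup (Fin 2) F =>
    (A : Matrix (Fin 2) (Fin 2) F) 0 0) hxy
  have e10 := congrArg (fun A : Matrix.SpecialLinearGroup (Fin 2) F =>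
    (A : Matrix (Fin 2) (Fin 2) F) 1 0) hxy
  simp only [mul_apply_00, mul_apply_10, h10, mul_zero, add_zero] at e00 e10
  have hx := sl2_det x
  apply hg ((y : Matrix (Fin 2) (Fin 2) F) 0 0)
    ![(x : Matrix (Fin 2) (Fin 2) F) 0 0, (x : Matrix (Fin 2) (Fin 2) F) 1 0]
  · intro hv
    have h0 := congrFun hv 0
    have h1 := congrFun hv 1
    simp only [Matrix.cons_val_zero, Matrix.cons_val_one, Pi.zero_apply] at h0 h1
    rw [h0, h1] at hx
    simp at hx
  · funext i
    fin_cases i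
    · simp [Matrix.mulVec, dotProduct, Fin.sum_univ_two]
      linear_combination e00
    · simp [Matrix.mulVec, dotProduct, Fin.sum_univ_two]
      linear_combination e10

/-- the principal series vanishes on the elements without eigenvectors -/
theorem psSL_elliptic [Fintype F] [DecidableEq F] (α : MulChar F ℂ)
    (g : Matrix.SpecialLinearGroup (Fin 2) F)
    (hg : ∀ (c : F) (v : Fin 2 → F), v ≠ 0 → (g : Matrix (Fin 2) (Fin 2) F).mulVec v ≠ c • v) :
    psSL α g = 0 := by
  unfold psSL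
  exact indFun_borel_no_eigenvector (fun a => α a) g hg

/-- a cuspidal representation of degree `q - 1`, `q` odd: the character is `-1` on `U ∖ 1` -/
theorem char_upperU_of_cusp_sub_one_odd [Fintype F] [DecidableEq F] [FiniteDimensional ℂ V]
    (hodd : Odd (Fintype.card F))
    (ρ : Representation ℂ (Matrix.SpecialLinearGroup (Fin 2) F) V) (hρ : ρ.IsIrreducible)
    (h0 : fixUS ρ = 0)
    (hd : Module.finrank ℂ V + 1 = Fintype.card F) (x : F) (hx : x ≠ 0) :
    ρ.character (upperU x) = -1 := by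
  classical
  have hq : 2 ≤ Fintype.card F := Fintype.one_lt_card
  obtain ⟨ψ, ε, hψ, hε, hD, hN, hcl⟩ := cusp_data_odd hodd ρ hρ
  obtain ⟨N, hNq⟩ := hodd
  have hN1 : 1 ≤ N := by omega
  have hNN : (Fintype.card F - 1) / 2 = N := by omega
  rw [h0, hNN, zero_add] at hD
  rw [h0, hNN] at hN
  have hdN : Module.finrank ℂ V = 2 * N := by omega
  have hs : uMult ρ ψ 1 + uMult ρ ψ ε = 2 := by
    have h1 : N * (uMult ρ ψ 1 + uMult ρ ψ ε) = N * 2 := by rw [← hD, hdN]; ring
    exact Nat.eq_of_mul_eq_mul_left (by omega) h1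
  have hab : uMult ρ ψ 1 = 1 ∧ uMult ρ ψ ε = 1 := by
    have hcases : (uMult ρ ψ 1 = 0 ∧ uMult ρ ψ ε = 2) ∨ (uMult ρ ψ 1 = 1 ∧ uMult ρ ψ ε = 1) ∨
        (uMult ρ ψ 1 = 2 ∧ uMult ρ ψ ε = 0) := by omega
    have hNr : (1 : ℝ) ≤ (N : ℝ) := by exact_mod_cast hN1
    rcases hcases with ⟨h1, h2⟩ | h | ⟨h1, h2⟩
    · exfalso
      rw [h1, h2, hdN, hNq] at hN
      push_cast at hN
      nlinarith
    · exact h
    · exfalso
      rw [h1, h2, hdN, hNq] at hN
      push_cast at hN
      nlinarith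
  have hall : ∀ c : F, c ≠ 0 → uMult ρ ψ c = 1 := by
    intro c hc
    rw [hcl c hc, hab.1, hab.2]
    split_ifs <;> rfl
  rw [char_upperU_of_uniform ρ hψ 1 hall x hx, h0]
  norm_num

/-- an irreducible representation of `SL₂(q)`, `q` odd, of degree `q + 1` has `U`-fixed vectors -/
theorem fixUS_ne_zero_of_degree_add_one_odd [Fintype F] [DecidableEq F] [FiniteDimensional ℂ V]
    (hodd : Odd (Fintype.card F))
    (ρ : Representation ℂ (Matrix.SpecialLinearGroup (Fin 2) F) V) (hρ : ρ.IsIrreducible)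
    (hd : Module.finrank ℂ V = Fintype.card F + 1) : fixUS ρ ≠ 0 := by
  classical
  have hq : 2 ≤ Fintype.card F := Fintype.one_lt_card
  by_cases hq5 : 5 ≤ Fintype.card F
  · rw [(fixUS_of_degree_odd hodd hq5 ρ hρ).1 hd]; norm_num
  · intro h0
    obtain ⟨ψ, ε, hψ, hε, hD, hN, -⟩ := cusp_data_odd hodd ρ hρ
    obtain ⟨N, hNq⟩ := hodd
    have hq3 : Fintype.card F = 3 := by omega
    have hNN : (Fintype.card F - 1) / 2 = 1 := by omega
    rw [h0, hNN, hd, hq3] at hD
    rw [h0, hNN, hd, hq3] at hN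
    have hs : uMult ρ ψ 1 + uMult ρ ψ ε = 4 := by omega
    have hab : (uMult ρ ψ 1 = 0 ∧ uMult ρ ψ ε = 4) ∨ (uMult ρ ψ 1 = 1 ∧ uMult ρ ψ ε = 3) ∨
        (uMult ρ ψ 1 = 2 ∧ uMult ρ ψ ε = 2) ∨ (uMult ρ ψ 1 = 3 ∧ uMult ρ ψ ε = 1) ∨
        (uMult ρ ψ 1 = 4 ∧ uMult ρ ψ ε = 0) := by omega
    rcases hab with ⟨h1, h2⟩ | ⟨h1, h2⟩ | ⟨h1, h2⟩ | ⟨h1, h2⟩ | ⟨h1, h2⟩ <;>
      rw [h1, h2] at hN <;> norm_num at hN




/-- the halves of the principal series of the quadratic character vanish on the elements without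
eigenvectors -/
theorem char_elliptic_of_half [Fintype F] [DecidableEq F] [FiniteDimensional ℂ V]
    (ρ : Representation ℂ (Matrix.SpecialLinearGroup (Fin 2) F) V) (hρ : ρ.IsIrreducible)
    (h0 : fixUS ρ ≠ 0) (hd : 2 * Module.finrank ℂ V = Fintype.card F + 1)
    (g : Matrix.SpecialLinearGroup (Fin 2) F)
    (hg : ∀ (c : F) (v : Fin 2 → F), v ≠ 0 → (g : Matrix (Fin 2) (Fin 2) F).mulVec v ≠ c • v) :
    ρ.character g = 0 := by
  classical
  have hq : 2 ≤ Fintype.card F := Fintype.one_lt_card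
  have hχ := Cfsg.Agent.Lib.Helper78.isIrrCharacter_of_isIrreducible ρ hρ
  rcases fixUS_cases_SL ρ hρ h0 with ⟨α, hα⟩ | h1 | hq' | ⟨hodd, -, α, χ', hα2, hα1, hχ', hne, hsum⟩
  · have hdeg : Module.finrank ℂ V = Fintype.card F + 1 := by
      have := congrFun hα 1
      rw [Representation.char_one, psSL_one] at this
      exact_mod_cast this
    omega
  · omega
  · omega
  · obtain ⟨ψ₁, ψ₂, hψ₁, hψ₂, hψne, hψsum, -, -, x, hx⟩ :=
      Cfsg.Agent.S2307.result hodd α hα2 hα1
    rw [comap_upperTriangularGL_eq] at hψsum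
    have hinner : Cfsg.classInner (psSL α) ρ.character ≠ 0 := by
      rw [hsum, Cfsg.Agent.Lib.Helper78.classInner_add_left,
        Cfsg.Agent.Lib.Helper78.classInner_irr_self hχ,
        Cfsg.Agent.Lib.Helper78.classInner_irr_ne hχ' hχ hne]
      norm_num
    have hc : ρ.character = ψ₁ ∨ ρ.character = ψ₂ :=
      eq_or_eq_of_classInner_add_ne_zero hψ₁ hψ₂ hχ (by
        rw [← hψsum]; exact hinner)
    obtain ⟨h, hh⟩ := exists_conj_eq_conjGL_of_elliptic hodd g hg x
    have h21 : ψ₂ (conjGL x g) = ψ₁ g := hx g (conjGL x g) (toGL_conjGL x g)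
    have hcf₂ := Cfsg.Agent.Lib.Helper78.IsCharacter.isClassFunction
      (Cfsg.Agent.Lib.Helper78.IsIrrCharacter.isCharacter hψ₂)
    rw [hh, hcf₂ g h] at h21
    have hzero : ψ₁ g + ψ₂ g = 0 := by
      have := congrFun hψsum g
      change psSL α g = _ at this
      rw [psSL_elliptic α g hg] at this
      exact this.symm
    have h1 : ψ₁ g = 0 := by
      have : 2 * ψ₁ g = 0 := by linear_combination hzero - h21
      exact (mul_eq_zero.mp this).resolve_left two_ne_zero
    rcases hc with hc | hc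
    · rw [hc]; exact h1
    · rw [hc, h21]; exact h1

/-- the cuspidal character of degree `2` of `SL₂(3)` vanishes on the elements without
eigenvectors -/
theorem char_elliptic_of_cusp_three [Fintype F] [DecidableEq F] [FiniteDimensional ℂ V]
    (hq3 : Fintype.card F = 3)
    (ρ : Representation ℂ (Matrix.SpecialLinearGroup (Fin 2) F) V) (hρ : ρ.IsIrreducible)
    (h0 : fixUS ρ = 0) (hd : Module.finrank ℂ V = 2)
    (g : Matrix.SpecialLinearGroup (Fin 2) F)
    (hg : ∀ (c : F) (v : Fin 2 → F), v ≠ 0 → (g : Matrix (Fin 2) (Fin 2) F).mulVec v ≠ c • v) :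
    ρ.character g = 0 := by
  classical
  have hodd : Odd (Fintype.card F) := by rw [hq3]; decide
  have hF : ringChar F ≠ 2 := by
    intro h2
    have := FiniteField.even_card_iff_char_two.mp h2
    omega
  have hval : ∀ y : F, y ≠ 0 → ρ.character (upperU y) = -1 := fun y hy =>
    char_upperU_of_cusp_sub_one_odd hodd ρ hρ h0 (by omega) y hy
  -- `g` is not central
  have hg1 : g ≠ 1 := by
    rintro rfl
    apply hg 1 ![1, 0]
    · intro h; simpa using congrFun h 0
    · simp
  have hgm : g ≠ negOneSL := by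
    rintro rfl
    apply hg (-1) ![1, 0]
    · intro h; simpa using congrFun h 0
    · rw [coe_negOneSL]
      funext i
      fin_cases i <;> simp [Matrix.mulVec, dotProduct, Fin.sum_univ_two]
  have hN := unip_norm_le_pm hF ρ hρ {1, negOneSL, g} (by
    intro z hz x h10
    simp only [Finset.mem_insert, Finset.mem_singleton] at hz
    rcases hz with rfl | rfl | rfl
    · simp
    · have hc := Subgroup.mem_center_iff.mp (negOneSL_mem_center (F := F)) x⁻¹
      have : x⁻¹ * negOneSL * x = negOneSL := by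
        rw [hc, mul_assoc, inv_mul_cancel, mul_one]
      rw [this, coe_negOneSL]; simp
    · exact absurd h10 (conj_apply_10_ne_zero_of_elliptic z hg x))
  rw [Finset.sum_insert (by
      simp only [Finset.mem_insert, Finset.mem_singleton, not_or]
      exact ⟨(negOneSL_ne_one hF).symm, hg1.symm⟩),
    Finset.sum_pair hgm.symm] at hN
  have hz : ‖ρ.character negOneSL‖ = ‖ρ.character 1‖ := by
    have := norm_char_center_mul ρ hρ negOneSL negOneSL_mem_center 1
    rwa [mul_one] at this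
  have h1 : ‖ρ.character (1 : Matrix.SpecialLinearGroup (Fin 2) F)‖ = 2 := by
    rw [Representation.char_one, hd]; simp
  rw [hz, h1, Finset.sum_congr rfl (fun y hy => by
    rw [hval y (Finset.ne_of_mem_erase hy)]), Finset.sum_const,
    Finset.card_erase_of_mem (Finset.mem_univ _), Finset.card_univ, hq3] at hN
  norm_num at hN
  have : ‖ρ.character g‖ ^ 2 ≤ 0 := by linarith
  have h2 : ‖ρ.character g‖ = 0 := by
    have := sq_nonneg ‖ρ.character g‖
    exact pow_eq_zero_iff (two_ne_zero) |>.mp (le_antisymm ‹_› this)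
  exact norm_eq_zero.mp h2

end Cfsg.Agent.Lib.Helper39
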