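import Mathlib
import Cfsg.Agent.Lib.Helper39.SL2Ell
import Cfsg.Agent.Lib.Helper39.RigidCover
import Cfsg.Agent.Lib.Helper41.SL2TorusCount
import Cfsg.Agent.Lib.Helper41.SL2NsTorusClass
import Cfsg.Agent.Lib.Helper41.SL2NsTorusMain

set_option autoImplicit false
set_option linter.style.haveILetI false

/-!
# The conjugacy classes of `SL₂(q)`, `q` odd, as a rigid covering (helper39)

Four families: the centre; the conjugates of `±U \ {±1}` (rigid w.r.t. the Borel subgroup);
the regular split elements (rigid w.r.t. the monomial subgroup); the non-central elements of a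
non-split torus (rigid w.r.t. its normaliser).
-/

namespace Cfsg.Agent.Lib.Helper39

open Matrix Cfsg.Agent.Lib.Helper41

section general

variable {G : Type*} [Group G]

/-- if `s` and `s'` have the same centraliser `A` and `x` conjugates `s` to `s'`, then `x`
normalises `A` -/
theorem mem_normalizer_of_centralizer_eq (A : Subgroup G) (s s' x : G)
    (hs : Subgroup.centralizer ({s} : Set G) = A) (hs' : Subgroup.centralizer ({s'} : Set G) = A)
    (h : x⁻¹ * s * x = s') : x ∈ Subgroup.normalizer (A : Set G) := by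
  rw [Subgroup.mem_normalizer_iff]
  intro n
  constructor
  · intro hn
    rw [← hs'] at hn
    rw [← hs, Subgroup.mem_centralizer_iff]
    intro y hy
    rw [Set.mem_singleton_iff] at hy
    subst hy
    have hc := (Subgroup.mem_centralizer_iff.mp hn) s' (Set.mem_singleton _)
    rw [← h] at hc
    have e1 : y * (x * n * x⁻¹) = x * ((x⁻¹ * y * x) * n) * x⁻¹ := by group
    have e2 : x * n * x⁻¹ * y = x * (n * (x⁻¹ * y * x)) * x⁻¹ := by group
    rw [e1, e2, hc]
  · intro hn
    rw [← hs] at hn
    rw [← hs', Subgroup.mem_centralizer_iff]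
    intro y hy
    rw [Set.mem_singleton_iff] at hy
    subst hy
    have hc := (Subgroup.mem_centralizer_iff.mp hn) s (Set.mem_singleton _)
    rw [← h]
    have e1 : x⁻¹ * s * x * n = x⁻¹ * (s * (x * n * x⁻¹)) * x := by group
    have e2 : n * (x⁻¹ * s * x) = x⁻¹ * ((x * n * x⁻¹) * s) * x := by group
    rw [e1, e2, hc]

end general

variable {F : Type*} [Field F]

/-- the discriminant `tr² - 4` -/
def disc (g : Matrix.SpecialLinearGroup (Fin 2) F) : F := tr2 g ^ 2 - 4

theorem disc_conj (x g : Matrix.SpecialLinearGroup (Fin 2) F) : disc (x⁻¹ * g * x) = disc g := by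
  unfold disc
  have := tr2_conj x⁻¹ g
  rw [inv_inv] at this
  rw [this]

theorem disc_of_center (g : Matrix.SpecialLinearGroup (Fin 2) F)
    (hg : g ∈ Subgroup.center (Matrix.SpecialLinearGroup (Fin 2) F)) : disc g = 0 := by
  unfold disc tr2
  rcases (mem_center_iff_pm g).mp hg with h | h <;> rw [h] <;> simp <;> ring

theorem disc_upperU (y : F) : disc (upperU y) = 0 := by
  unfold disc tr2
  simp [coe_upperU]; ring

theorem disc_negOneSL_mul (g : Matrix.SpecialLinearGroup (Fin 2) F) :
    disc (negOneSL * g) = disc g := by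
  unfold disc tr2
  rw [coe_negOneSL_mul]
  simp only [Matrix.neg_apply]
  ring

theorem disc_diagHom (u : Fˣ) : disc (diagHom u) = ((u : F) - ((u⁻¹ : Fˣ) : F)) ^ 2 := by
  unfold disc
  rw [tr2_diagHom]
  have : (u : F) * ((u⁻¹ : Fˣ) : F) = 1 := by simp
  linear_combination (4 : F) * this

theorem disc_of_isQuad {t : F} {g : Matrix.SpecialLinearGroup (Fin 2) F} (hg : IsQuad t g) :
    disc g = (t ^ 2 - 4) * ((g : Matrix (Fin 2) (Fin 2) F) 1 0) ^ 2 := by
  unfold disc tr2
  have hdet := sl2_det g
  rw [hg.1, hg.2] at hdet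
  rw [hg.2]
  linear_combination (4 : F) * hdet

end Cfsg.Agent.Lib.Helper39
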