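import Mathlib
import Cfsg.Agent.Lib.Helper39.SL2Classes
import Cfsg.Agent.Lib.Helper39.SL2OddCount
import Cfsg.Agent.Lib.Helper41.SL2OddSylow
import Cfsg.Agent.Lib.Helper41.SL2OddMat

set_option autoImplicit false
set_option linter.style.haveILetI false

/-!
# The elements of `SL₂(q)`, `q` odd: central, regular semisimple, or `±` unipotent (helper39)

* `exists_conj_upperU_of_tr2`: a non-trivial element of trace `2` is conjugate to `upperU y`, `y ≠ 0`
* `sl2_trichotomy`
* `dvd_index_centralizer_of_disc_ne_zero`: the class of an element with `tr² ≠ 4` has size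
  divisible by `p`
* `index_centralizer_upperU_mul_two`
-/

namespace Cfsg.Agent.Lib.Helper39

open Matrix Cfsg.Agent.Lib.Helper41

variable {F : Type*} [Field F]

/-- a non-trivial element of trace `2` is conjugate to a non-trivial upper unitriangular matrix -/
theorem exists_conj_upperU_of_tr2 (g : Matrix.SpecialLinearGroup (Fin 2) F) (ht : tr2 g = 2)
    (hg : g ≠ 1) :
    ∃ (x : Matrix.SpecialLinearGroup (Fin 2) F) (y : F), y ≠ 0 ∧ x⁻¹ * g * x = upperU y := by
  set a := (g : Matrix (Fin 2) (Fin 2) F) 0 0 with ha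
  set b := (g : Matrix (Fin 2) (Fin 2) F) 0 1 with hb
  set c := (g : Matrix (Fin 2) (Fin 2) F) 1 0 with hc
  set d := (g : Matrix (Fin 2) (Fin 2) F) 1 1 with hd
  have hdet : a * d - b * c = 1 := sl2_det g
  have htr : a + d = 2 := ht
  have hgm : (g : Matrix (Fin 2) (Fin 2) F) = !![a, b; c, d] := by
    ext i j; fin_cases i <;> fin_cases j <;> rfl
  by_cases hc0 : c = 0
  · -- upper triangular
    have ha1 : (a - 1) ^ 2 = 0 := by
      have : d = 2 - a := by linear_combination htr
      rw [this, hc0] at hdet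
      linear_combination -hdet
    have ha1' : a = 1 := by
      have := pow_eq_zero_iff (two_ne_zero) |>.mp ha1
      linear_combination this
    have hd1 : d = 1 := by linear_combination htr - ha1'
    refine ⟨1, b, ?_, ?_⟩
    · intro hb0
      apply hg
      apply Subtype.ext
      rw [hgm, ha1', hb0, hc0, hd1]
      simp [Matrix.one_fin_two]
    · apply Subtype.ext
      rw [inv_one, one_mul, mul_one, hgm, ha1', hc0, hd1, coe_upperU]
  · -- conjugate by `[[ (1-a)/c, 1], [-1, 0]]`
    have hPdet : (!![(1 - a) / c, 1; -1, 0] : Matrix (Fin 2) (Fin 2) F).det = 1 := by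
      rw [Matrix.det_fin_two]
      simp
    obtain ⟨P, hP⟩ : ∃ P : Matrix.SpecialLinearGroup (Fin 2) F,
        (P : Matrix (Fin 2) (Fin 2) F) = !![(1 - a) / c, 1; -1, 0] := ⟨⟨_, hPdet⟩, rfl⟩
    refine ⟨P, -c, neg_ne_zero.mpr hc0, ?_⟩
    have key : g * P = P * upperU (-c) := by
      apply Subtype.ext
      rw [Matrix.SpecialLinearGroup.coe_mul, Matrix.SpecialLinearGroup.coe_mul, hgm, coe_upperU, hP]
      ext i j
      fin_cases i <;> fin_cases j <;> simp [Matrix.mul_apply, Fin.sum_univ_two]
      · field_simp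
        linear_combination hdet - a * htr
      · field_simp
        ring
      · field_simp
        linear_combination -htr
    rw [mul_assoc, key, ← mul_assoc, inv_mul_cancel, one_mul]

theorem negOneSL_mul_self : (negOneSL : Matrix.SpecialLinearGroup (Fin 2) F) * negOneSL = 1 := by
  apply Subtype.ext
  rw [coe_negOneSL_mul, coe_negOneSL]
  simp [Matrix.one_fin_two]

theorem tr2_negOneSL_mul (g : Matrix.SpecialLinearGroup (Fin 2) F) :
    tr2 (negOneSL * g) = -tr2 g := by
  unfold tr2
  rw [coe_negOneSL_mul]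
  simp only [Matrix.neg_apply]
  ring

/-- every element of `SL₂(F)` is `±1`, or has `tr² ≠ 4`, or is conjugate to `± upperU y`, `y ≠ 0` -/
theorem sl2_trichotomy (g : Matrix.SpecialLinearGroup (Fin 2) F) :
    g = 1 ∨ g = negOneSL ∨ disc g ≠ 0 ∨
      (∃ (x : Matrix.SpecialLinearGroup (Fin 2) F) (y : F), y ≠ 0 ∧ x⁻¹ * g * x = upperU y) ∨
      (∃ (x : Matrix.SpecialLinearGroup (Fin 2) F) (y : F), y ≠ 0 ∧
        x⁻¹ * g * x = negOneSL * upperU y) := by
  by_cases hd : disc g = 0
  · have h4 : (tr2 g - 2) * (tr2 g + 2) = 0 := by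
      unfold disc at hd
      linear_combination hd
    rcases mul_eq_zero.mp h4 with h | h
    · have ht : tr2 g = 2 := by linear_combination h
      by_cases h1 : g = 1
      · exact Or.inl h1
      · exact Or.inr (Or.inr (Or.inr (Or.inl (exists_conj_upperU_of_tr2 g ht h1))))
    · have ht : tr2 (negOneSL * g) = 2 := by
        rw [tr2_negOneSL_mul]; linear_combination -h
      by_cases h1 : negOneSL * g = 1
      · right; left
        have : negOneSL * (negOneSL * g) = negOneSL := by rw [h1, mul_one]
        rwa [← mul_assoc, negOneSL_mul_self, one_mul] at this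
      · obtain ⟨x, y, hy, hxy⟩ := exists_conj_upperU_of_tr2 _ ht h1
        refine Or.inr (Or.inr (Or.inr (Or.inr ⟨x, y, hy, ?_⟩)))
        have hz : ∀ k : Matrix.SpecialLinearGroup (Fin 2) F, k * negOneSL = negOneSL * k :=
          fun k => Subgroup.mem_center_iff.mp negOneSL_mem_center k
        have : x⁻¹ * g * x = negOneSL * (x⁻¹ * (negOneSL * g) * x) := by
          have e1 : x⁻¹ * (negOneSL * g) * x = negOneSL * (x⁻¹ * g * x) := by
            rw [← mul_assoc, hz x⁻¹]
            group
          rw [e1, ← mul_assoc, negOneSL_mul_self, one_mul]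
        rw [this, hxy]
  · exact Or.inr (Or.inr (Or.inl hd))

section finite

variable [Fintype F]

/-- the centraliser of an element with `tr² ≠ 4` has order prime to `p` -/
theorem not_dvd_card_centralizer_of_disc_ne_zero (p : ℕ) [Fact p.Prime] [CharP F p]
    (g : Matrix.SpecialLinearGroup (Fin 2) F) (hg : disc g ≠ 0) :
    ¬ p ∣ Nat.card (Subgroup.centralizer ({g} : Set (Matrix.SpecialLinearGroup (Fin 2) F))) := by
  intro hdvd
  obtain ⟨h, hh⟩ := exists_prime_orderOf_dvd_card' p hdvd
  have hpow : (h : Matrix.SpecialLinearGroup (Fin 2) F) ^ (p ^ 1) = 1 := by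
    rw [pow_one, ← hh]
    have := pow_orderOf_eq_one h
    exact_mod_cast congrArg Subtype.val this
  have htr := tr2_eq_two_of_pow p (h : Matrix.SpecialLinearGroup (Fin 2) F) 1 hpow
  have hne : (h : Matrix.SpecialLinearGroup (Fin 2) F) ≠ 1 := by
    intro h1
    have : h = 1 := Subtype.ext h1
    rw [this, orderOf_one] at hh
    exact (Fact.out : p.Prime).one_lt.ne hh
  have hns : ¬ IsScalarMat ((h : Matrix.SpecialLinearGroup (Fin 2) F) :
      Matrix (Fin 2) (Fin 2) F) := by
    rintro ⟨h01, h10, h00⟩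
    apply hne
    have hdet := sl2_det (h : Matrix.SpecialLinearGroup (Fin 2) F)
    unfold tr2 at htr
    rw [h01, h10] at hdet
    have hsq : (((h : Matrix.SpecialLinearGroup (Fin 2) F) : Matrix (Fin 2) (Fin 2) F) 0 0 - 1) ^ 2
        = 0 := by
      linear_combination hdet - htr +
        (((h : Matrix.SpecialLinearGroup (Fin 2) F) : Matrix (Fin 2) (Fin 2) F) 0 0 - 1) * h00
    have h00' : ((h : Matrix.SpecialLinearGroup (Fin 2) F) : Matrix (Fin 2) (Fin 2) F) 0 0 = 1 := by
      have := pow_eq_zero_iff (two_ne_zero) |>.mp hsq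
      linear_combination this
    have h11' : ((h : Matrix.SpecialLinearGroup (Fin 2) F) : Matrix (Fin 2) (Fin 2) F) 1 1 = 1 := by
      rw [← h00, h00']
    apply Subtype.ext
    ext i j
    fin_cases i <;> fin_cases j <;> simp [h01, h10, h00', h11']
  have hc : g * (h : Matrix.SpecialLinearGroup (Fin 2) F) =
      (h : Matrix.SpecialLinearGroup (Fin 2) F) * g := by
    have := (Subgroup.mem_centralizer_iff.mp h.2) g (Set.mem_singleton _)
    exact this
  rcases tr2_of_commute_unipotent _ g htr hns hc with h2 | h2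
  · apply hg; unfold disc; rw [h2]; ring
  · apply hg; unfold disc; rw [h2]; ring

theorem char_dvd_card (p : ℕ) [Fact p.Prime] [CharP F p] : p ∣ Fintype.card F := by
  obtain ⟨n, _, hn⟩ := FiniteField.card F p
  rw [hn]
  exact dvd_pow_self p n.ne_zero

/-- the class of an element with `tr² ≠ 4` has size divisible by `p` -/
theorem dvd_index_centralizer_of_disc_ne_zero (p : ℕ) [Fact p.Prime] [CharP F p]
    (g : Matrix.SpecialLinearGroup (Fin 2) F) (hg : disc g ≠ 0) :
    p ∣ (Subgroup.centralizer ({g} : Set (Matrix.SpecialLinearGroup (Fin 2) F))).index := by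
  have hpp : p.Prime := Fact.out
  have h1 := not_dvd_card_centralizer_of_disc_ne_zero p g hg
  have h2 := (Subgroup.centralizer ({g} : Set (Matrix.SpecialLinearGroup (Fin 2) F))).card_mul_index
  have h3 : p ∣ Nat.card (Matrix.SpecialLinearGroup (Fin 2) F) := by
    rw [Cfsg.Agent.Lib.Helper5.card_SL2]
    exact Dvd.dvd.mul_right (char_dvd_card p) _
  rw [← h2] at h3
  rcases hpp.dvd_mul.mp h3 with h | h
  · exact absurd h h1
  · exact h

/-- the class of a non-trivial unipotent element of `SL₂(q)`, `q` odd, has size `(q² - 1)/2` -/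
theorem index_centralizer_upperU_mul_two [DecidableEq F] (hF : ringChar F ≠ 2) (x : F)
    (hx : x ≠ 0) :
    (Subgroup.centralizer ({upperU x} : Set (Matrix.SpecialLinearGroup (Fin 2) F))).index * 2 =
      Fintype.card F ^ 2 - 1 := by
  have h1 := card_centralizer_upperU_odd hF x hx
  have h2 := (Subgroup.centralizer
    ({upperU x} : Set (Matrix.SpecialLinearGroup (Fin 2) F))).card_mul_index
  rw [h1, Cfsg.Agent.Lib.Helper5.card_SL2] at h2
  have hq : 0 < Fintype.card F := Fintype.card_pos
  have h3 : Fintype.card F * ((Subgroup.centralizer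
      ({upperU x} : Set (Matrix.SpecialLinearGroup (Fin 2) F))).index * 2) =
      Fintype.card F * (Fintype.card F ^ 2 - 1) := by
    rw [← h2]; ring
  exact Nat.eq_of_mul_eq_mul_left hq h3

theorem not_dvd_index_centralizer_upperU [DecidableEq F] (p : ℕ) [Fact p.Prime] [CharP F p]
    (hF : ringChar F ≠ 2) (x : F) (hx : x ≠ 0) :
    ¬ p ∣ (Subgroup.centralizer
      ({upperU x} : Set (Matrix.SpecialLinearGroup (Fin 2) F))).index := by
  intro h
  have hpp : p.Prime := Fact.out
  have h1 := index_centralizer_upperU_mul_two hF x hx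
  have h2 : p ∣ Fintype.card F ^ 2 - 1 := by
    rw [← h1]; exact Dvd.dvd.mul_right h _
  have h3 : p ∣ Fintype.card F ^ 2 := Dvd.dvd.pow (char_dvd_card p) two_ne_zero
  have h4 : 1 ≤ Fintype.card F ^ 2 := Nat.one_le_pow _ _ Fintype.card_pos
  have h5 : p ∣ Fintype.card F ^ 2 - (Fintype.card F ^ 2 - 1) := Nat.dvd_sub h3 h2
  have h6 : Fintype.card F ^ 2 - (Fintype.card F ^ 2 - 1) = 1 := by omega
  rw [h6] at h5
  exact hpp.one_lt.ne' (Nat.dvd_one.mp h5)

end finite

end Cfsg.Agent.Lib.Helper39
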