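import Mathlib
import Cfsg.Prelude.Def_Blocks
import Cfsg.Agent.Lib.Helper39.SL2Trichotomy
import Cfsg.Agent.Lib.Helper39.BlockArith
import Cfsg.Agent.Lib.Helper39.SL2OddValues
import Cfsg.Agent.Lib.Helper16.BlockBasic

set_option autoImplicit false
set_option linter.style.haveILetI false
set_option linter.unusedSectionVars false

/-!
# The `p`-blocks of `SL₂(q)`, `q` a power of the odd prime `p` (helper39)

`sl2_block_core`: the sign `sgn χ = χ(-1)/χ(1)`; the Steinberg character (degree `q`) is unique,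
even, and alone in its block; two other irreducible characters lie in the same block iff they have
the same sign.
-/

namespace Cfsg.Agent.Lib.Helper39

open Cfsg Cfsg.Agent.Lib.Helper16 Cfsg.Agent.Lib.Helper41 Matrix
open scoped ComplexConjugate

section generic

variable {G : Type*} [Group G]

theorem centralChar_eq_mul (χ : G → ℂ) (g : G) :
    centralChar χ g = ((Subgroup.centralizer ({g} : Set G)).index : ℂ) * (χ g / χ 1) := by
  unfold centralChar
  rw [mul_div_assoc]

theorem centralizer_eq_top_of_mem_center (z : G) (hz : z ∈ Subgroup.center G) :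
    Subgroup.centralizer ({z} : Set G) = ⊤ := by
  rw [Subgroup.centralizer_eq_top_iff_subset]
  intro x hx
  rw [Set.mem_singleton_iff] at hx
  rw [hx]
  exact hz

theorem centralChar_of_mem_center (χ : G → ℂ) (z : G) (hz : z ∈ Subgroup.center G) :
    centralChar χ z = χ z / χ 1 := by
  rw [centralChar_eq_mul, centralizer_eq_top_of_mem_center z hz, Subgroup.index_top]
  simp

/-- the value of an induced function at a central element of the subgroup -/
theorem indFun_of_mem_center [Fintype G] (H : Subgroup G) (θ : H → ℂ) (z : G)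
    (hz : z ∈ Subgroup.center G) (hzH : z ∈ H) :
    indFun H θ z = (H.index : ℂ) * θ ⟨z, hzH⟩ := by
  unfold indFun
  have h1 : ∀ x : G, extendByZero H θ (x⁻¹ * z * x) = θ ⟨z, hzH⟩ := by
    intro x
    have : x⁻¹ * z * x = z := by
      rw [mul_assoc, ← Subgroup.mem_center_iff.mp hz x, ← mul_assoc, inv_mul_cancel, one_mul]
    rw [this]
    exact Cfsg.Agent.Lib.Helper75.extendByZero_of_mem H θ hzH
  simp only [h1, Finset.sum_const, Finset.card_univ, nsmul_eq_mul]
  have hH : (Nat.card H : ℂ) ≠ 0 := by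
    have : Nat.card H ≠ 0 := Nat.card_pos.ne'
    exact_mod_cast this
  have hidx : (Nat.card H : ℂ) * (H.index : ℂ) = (Fintype.card G : ℂ) := by
    rw [← Nat.card_eq_fintype_card, ← H.card_mul_index]; push_cast; ring
  rw [← hidx]
  field_simp

end generic

/-- degrees of the non-Steinberg types are prime to `p` -/
theorem not_dvd_degree_of_type {p q N d : ℕ} (hp : 2 ≤ p) (hq : q = 2 * N + 1) (hpq : p ∣ q)
    (hd : d = 1 ∨ d = 2 * N + 2 ∨ d = N + 1 ∨ d = 2 * N ∨ d = N) : ¬ p ∣ d := by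
  intro h
  have h1 : ¬ p ∣ 1 := fun h1 => by
    have := Nat.dvd_one.mp h1
    omega
  rw [hq] at hpq
  rcases hd with hd | hd | hd | hd | hd <;> rw [hd] at h
  · exact h1 h
  · apply h1
    have := Nat.dvd_sub h hpq
    rwa [show 2 * N + 2 - (2 * N + 1) = 1 by omega] at this
  · apply h1
    have h2 : p ∣ 2 * (N + 1) := Dvd.dvd.mul_left h 2
    have := Nat.dvd_sub h2 hpq
    rwa [show 2 * (N + 1) - (2 * N + 1) = 1 by omega] at this
  · apply h1
    have := Nat.dvd_sub hpq h
    rwa [show 2 * N + 1 - 2 * N = 1 by omega] at this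
  · apply h1
    have h2 : p ∣ 2 * N := Dvd.dvd.mul_left h 2
    have := Nat.dvd_sub hpq h2
    rwa [show 2 * N + 1 - 2 * N = 1 by omega] at this

section main

variable {F : Type*} [Field F] [Fintype F] [DecidableEq F]

/-- the structure of the `p`-blocks of `SL₂(q)` -/
theorem sl2_block_core (p : ℕ) [Fact p.Prime] [CharP F p] (hp : p ≠ 2)
    (M : Ideal AlgInt) (hM : IsPModular p M) :
    ∃ sgn : IrrCharacter (Matrix.SpecialLinearGroup (Fin 2) F) → ℂ,
      (∀ χ, sgn χ = 1 ∨ sgn χ = -1) ∧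
      (∀ χ : IrrCharacter (Matrix.SpecialLinearGroup (Fin 2) F),
        (χ : Matrix.SpecialLinearGroup (Fin 2) F → ℂ) negOneSL =
          sgn χ * (χ : Matrix.SpecialLinearGroup (Fin 2) F → ℂ) 1) ∧
      (∀ χ : IrrCharacter (Matrix.SpecialLinearGroup (Fin 2) F),
        (χ : Matrix.SpecialLinearGroup (Fin 2) F → ℂ) 1 = (Fintype.card F : ℂ) → sgn χ = 1) ∧
      (∀ χ ψ : IrrCharacter (Matrix.SpecialLinearGroup (Fin 2) F),
        (χ : Matrix.SpecialLinearGroup (Fin 2) F → ℂ) 1 = (Fintype.card F : ℂ) →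
        (ψ : Matrix.SpecialLinearGroup (Fin 2) F → ℂ) 1 = (Fintype.card F : ℂ) → χ = ψ) ∧
      (∃ χ : IrrCharacter (Matrix.SpecialLinearGroup (Fin 2) F),
        (χ : Matrix.SpecialLinearGroup (Fin 2) F → ℂ) 1 = (Fintype.card F : ℂ)) ∧
      (∀ χ ψ : IrrCharacter (Matrix.SpecialLinearGroup (Fin 2) F),
        (χ : Matrix.SpecialLinearGroup (Fin 2) F → ℂ) 1 ≠ (Fintype.card F : ℂ) →
        (ψ : Matrix.SpecialLinearGroup (Fin 2) F → ℂ) 1 ≠ (Fintype.card F : ℂ) →
        sgn χ = sgn ψ → SameBlock M (χ : Matrix.SpecialLinearGroup (Fin 2) F → ℂ)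
          (ψ : Matrix.SpecialLinearGroup (Fin 2) F → ℂ)) ∧
      (∀ χ ψ : IrrCharacter (Matrix.SpecialLinearGroup (Fin 2) F),
        sgn χ ≠ sgn ψ → ¬ SameBlock M (χ : Matrix.SpecialLinearGroup (Fin 2) F → ℂ)
          (ψ : Matrix.SpecialLinearGroup (Fin 2) F → ℂ)) ∧
      (∀ χ ψ : IrrCharacter (Matrix.SpecialLinearGroup (Fin 2) F),
        (χ : Matrix.SpecialLinearGroup (Fin 2) F → ℂ) 1 = (Fintype.card F : ℂ) →
        (ψ : Matrix.SpecialLinearGroup (Fin 2) F → ℂ) 1 ≠ (Fintype.card F : ℂ) →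
        ¬ SameBlock M (χ : Matrix.SpecialLinearGroup (Fin 2) F → ℂ)
          (ψ : Matrix.SpecialLinearGroup (Fin 2) F → ℂ)) := by
  have hpp : p.Prime := Fact.out
  haveI hMp : M.IsPrime := hM.2.1.isPrime
  have hMtop : M ≠ ⊤ := hMp.ne_top
  have hF : ringChar F ≠ 2 := by
    rw [ringChar.eq F p]; exact hp
  have hodd : Odd (Fintype.card F) := by
    rw [← Nat.not_even_iff_odd, Nat.even_iff]
    intro h
    exact hF (FiniteField.even_card_iff_char_two.mpr h)
  obtain ⟨N, hN⟩ := hodd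
  have hq2 : 2 ≤ Fintype.card F := Fintype.one_lt_card
  have hN1 : 1 ≤ N := by omega
  have hpq : p ∣ Fintype.card F := char_dvd_card p
  obtain ⟨ψ₀, hψ₀⟩ := exists_primitive_addChar (F := F)
  obtain ⟨ε, hε'⟩ := FiniteField.exists_nonsquare hF
  have hε : quadraticChar F ε = -1 := quadraticChar_neg_one_iff_not_isSquare.mpr hε'
  obtain ⟨m, a, b, hd, hval, ht, -, hS, -, -, -, -, -, -⟩ := sl2_odd_main N hN hψ₀ ε hε
  -- the sign
  have hzc : (negOneSL : Matrix.SpecialLinearGroup (Fin 2) F) ∈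
      Subgroup.center (Matrix.SpecialLinearGroup (Fin 2) F) := negOneSL_mem_center
  have hsign := fun χ : IrrCharacter (Matrix.SpecialLinearGroup (Fin 2) F) =>
    irr_central_sign χ negOneSL hzc negOneSL_mul_self
  choose sgn hsgn hsgnval using hsign
  have hz1 : ∀ χ : IrrCharacter (Matrix.SpecialLinearGroup (Fin 2) F),
      (χ : Matrix.SpecialLinearGroup (Fin 2) F → ℂ) negOneSL =
        sgn χ * (χ : Matrix.SpecialLinearGroup (Fin 2) F → ℂ) 1 := by
    intro χ
    have := hsgnval χ 1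
    rwa [mul_one] at this
  -- degrees
  have hdeg0 : ∀ χ : IrrCharacter (Matrix.SpecialLinearGroup (Fin 2) F),
      (χ : Matrix.SpecialLinearGroup (Fin 2) F → ℂ) 1 ≠ 0 :=
    fun χ => Cfsg.Agent.Lib.Helper79.irr_apply_one_ne_zero χ
  have hqN : (Fintype.card F : ℂ) = ((2 * N + 1 : ℕ) : ℂ) := by rw [hN]
  have hSt_iff : ∀ χ : IrrCharacter (Matrix.SpecialLinearGroup (Fin 2) F),
      (χ : Matrix.SpecialLinearGroup (Fin 2) F → ℂ) 1 = (Fintype.card F : ℂ) ↔
        (m χ = 1 ∧ a χ = 1 ∧ b χ = 1) := by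
    intro χ
    rw [hd χ, hqN, Nat.cast_inj]
    rcases ht χ with ⟨h1, h2, h3⟩ | ⟨h1, h2, h3⟩ | ⟨h1, h2, h3⟩ | ⟨h1, h2, h3⟩ | ⟨h1, h2, h3⟩ |
      ⟨h1, h2, h3⟩ | ⟨h1, h2, h3⟩ | ⟨h1, h2, h3⟩ <;> rw [h1, h2, h3] <;> constructor <;> intro h <;>
      omega
  have hnotdvd : ∀ χ : IrrCharacter (Matrix.SpecialLinearGroup (Fin 2) F),
      (χ : Matrix.SpecialLinearGroup (Fin 2) F → ℂ) 1 ≠ (Fintype.card F : ℂ) →
      ¬ p ∣ (m χ + N * (a χ + b χ)) := by
    intro χ hχ
    have hne : ¬ (m χ = 1 ∧ a χ = 1 ∧ b χ = 1) := fun h => hχ ((hSt_iff χ).mpr h)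
    apply not_dvd_degree_of_type hpp.two_le hN hpq
    rcases ht χ with ⟨h1, h2, h3⟩ | ⟨h1, h2, h3⟩ | ⟨h1, h2, h3⟩ | ⟨h1, h2, h3⟩ | ⟨h1, h2, h3⟩ |
      ⟨h1, h2, h3⟩ | ⟨h1, h2, h3⟩ | ⟨h1, h2, h3⟩
    · left; rw [h1, h2, h3]; omega
    · exact absurd ⟨h1, h2, h3⟩ hne
    · right; left; rw [h1, h2, h3]; omega
    · right; right; left; rw [h1, h2, h3]; omega
    · right; right; left; rw [h1, h2, h3]; omega
    · right; right; right; left; rw [h1, h2, h3]; omega
    · right; right; right; right; rw [h1, h2, h3]; omega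
    · right; right; right; right; rw [h1, h2, h3]; omega
  -- values on unipotent elements are congruent to the degree
  have hroot : ∀ x : F, MemLocalIdeal M (ψ₀ x - 1) := by
    intro x
    apply memLocalIdeal_sub_one_of_pow_eq_one hM
    rw [← AddChar.map_nsmul_eq_pow, nsmul_eq_mul, CharP.cast_eq_zero F p, zero_mul,
      AddChar.map_zero_eq_one]
  have hV1 : ∀ (χ : IrrCharacter (Matrix.SpecialLinearGroup (Fin 2) F)) (y : F),
      MemLocalIdeal M ((χ : Matrix.SpecialLinearGroup (Fin 2) F → ℂ) (upperU y) -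
        (χ : Matrix.SpecialLinearGroup (Fin 2) F → ℂ) 1) := by
    intro χ y
    have h1 : (χ : Matrix.SpecialLinearGroup (Fin 2) F → ℂ) 1 =
        ∑ c : F, (nOdd (m χ) (a χ) (b χ) c : ℂ) := by
      have := hval χ 0
      rw [upperU_zero] at this
      rw [this]
      refine Finset.sum_congr rfl (fun c _ => ?_)
      rw [mul_zero, AddChar.map_zero_eq_one, mul_one]
    rw [h1, hval χ y, ← Finset.sum_sub_distrib]
    apply memLocalIdeal_sum
    intro c _
    have : (nOdd (m χ) (a χ) (b χ) c : ℂ) * ψ₀ (c * y) - (nOdd (m χ) (a χ) (b χ) c : ℂ) =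
        (nOdd (m χ) (a χ) (b χ) c : ℂ) * (ψ₀ (c * y) - 1) := by ring
    rw [this]
    exact memLocalIdeal_mul_left (memLocalRing_natCast hMtop _) (hroot _)
  -- the inverse of a non-Steinberg degree is a local integer
  have hinv : ∀ χ : IrrCharacter (Matrix.SpecialLinearGroup (Fin 2) F),
      (χ : Matrix.SpecialLinearGroup (Fin 2) F → ℂ) 1 ≠ (Fintype.card F : ℂ) →
      MemLocalRing M ((χ : Matrix.SpecialLinearGroup (Fin 2) F → ℂ) 1)⁻¹ := by
    intro χ hχ
    rw [hd χ]
    exact memLocalRing_inv_natCast hM (hnotdvd χ hχ)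
  have hratio : ∀ (χ : IrrCharacter (Matrix.SpecialLinearGroup (Fin 2) F))
      (g : Matrix.SpecialLinearGroup (Fin 2) F),
      (χ : Matrix.SpecialLinearGroup (Fin 2) F → ℂ) 1 ≠ (Fintype.card F : ℂ) →
      MemLocalRing M ((χ : Matrix.SpecialLinearGroup (Fin 2) F → ℂ) g /
        (χ : Matrix.SpecialLinearGroup (Fin 2) F → ℂ) 1) := by
    intro χ g hχ
    rw [div_eq_mul_inv]
    exact memLocalRing_mul (memLocalRing_irr hMtop χ g) (hinv χ hχ)
  have hratioU : ∀ (χ : IrrCharacter (Matrix.SpecialLinearGroup (Fin 2) F)) (y : F),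
      (χ : Matrix.SpecialLinearGroup (Fin 2) F → ℂ) 1 ≠ (Fintype.card F : ℂ) →
      MemLocalIdeal M ((χ : Matrix.SpecialLinearGroup (Fin 2) F → ℂ) (upperU y) /
        (χ : Matrix.SpecialLinearGroup (Fin 2) F → ℂ) 1 - 1) := by
    intro χ y hχ
    have : (χ : Matrix.SpecialLinearGroup (Fin 2) F → ℂ) (upperU y) /
        (χ : Matrix.SpecialLinearGroup (Fin 2) F → ℂ) 1 - 1 =
        ((χ : Matrix.SpecialLinearGroup (Fin 2) F → ℂ) (upperU y) -
          (χ : Matrix.SpecialLinearGroup (Fin 2) F → ℂ) 1) *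
          ((χ : Matrix.SpecialLinearGroup (Fin 2) F → ℂ) 1)⁻¹ := by
      field_simp [hdeg0 χ]
    rw [this]
    exact memLocalIdeal_mul_right (hV1 χ y) (hinv χ hχ)
  have hsgnring : ∀ χ, MemLocalRing M (sgn χ) := by
    intro χ
    rcases hsgn χ with h | h <;> rw [h]
    · exact memLocalRing_one hMtop
    · exact memLocalRing_neg (memLocalRing_one hMtop)
  have hcls : ∀ (χ : IrrCharacter (Matrix.SpecialLinearGroup (Fin 2) F))
      (g x u : Matrix.SpecialLinearGroup (Fin 2) F), x⁻¹ * g * x = u →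
      (χ : Matrix.SpecialLinearGroup (Fin 2) F → ℂ) g =
        (χ : Matrix.SpecialLinearGroup (Fin 2) F → ℂ) u := by
    intro χ g x u hxu
    have hg : g = x * u * x⁻¹ := by rw [← hxu]; group
    rw [hg, Cfsg.Agent.Lib.Helper78.isClassFunction_irr χ u x]
  -- two is a unit
  have htwo : ¬ MemLocalIdeal M (2 : ℂ) := by
    intro h
    have h2 : MemLocalIdeal M ((2 : ℕ) : ℂ) := by simpa using h
    rw [memLocalIdeal_natCast_iff hM] at h2
    exact hp ((Nat.prime_dvd_prime_iff_eq hpp Nat.prime_two).mp h2)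
  refine ⟨sgn, hsgn, hz1, ?_, ?_, ?_, ?_, ?_, ?_⟩
  · -- the Steinberg character is even
    intro χ hχ
    obtain ⟨n, ρ, hρ, hρχ⟩ := χ.2
    have hfin : Module.finrank ℂ (Fin n → ℂ) = Fintype.card F := by
      have h1 : ρ.character 1 = (Fintype.card F : ℂ) := by rw [hρχ]; exact hχ
      rw [Representation.char_one] at h1
      exact_mod_cast h1
    have hst := steinberg_SL ρ hρ hfin negOneSL
    rw [hρχ, indFun_of_mem_center (borelSub F) _ negOneSL hzc (borelEl_mem _ _), index_borelSub,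
      hz1 χ, hχ] at hst
    have hq0 : (Fintype.card F : ℂ) ≠ 0 := by
      have : Fintype.card F ≠ 0 := by omega
      exact_mod_cast this
    have : (sgn χ - 1) * (Fintype.card F : ℂ) = 0 := by
      push_cast at hst
      linear_combination hst
    rcases mul_eq_zero.mp this with h | h
    · linear_combination h
    · exact absurd h hq0
  · -- uniqueness
    intro χ ψ hχ hψ
    exact eq_of_sum_indicator_eq_one _ hS ((hSt_iff χ).mp hχ) ((hSt_iff ψ).mp hψ)
  · -- existence
    by_contra hne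
    push Not at hne
    have : (∑ χ : IrrCharacter (Matrix.SpecialLinearGroup (Fin 2) F),
        (if m χ = 1 ∧ a χ = 1 ∧ b χ = 1 then (1 : ℤ) else 0)) = 0 := by
      apply Finset.sum_eq_zero
      intro χ _
      rw [if_neg (fun h => hne χ ((hSt_iff χ).mpr h))]
    rw [this] at hS
    exact zero_ne_one hS
  · -- same sign, non-Steinberg: same block
    intro χ ψ hχ hψ hs g
    rw [centralChar_eq_mul, centralChar_eq_mul, ← mul_sub]
    have hidx : MemLocalRing M
        ((Subgroup.centralizer ({g} : Set (Matrix.SpecialLinearGroup (Fin 2) F))).index : ℂ) :=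
      memLocalRing_natCast hMtop _
    rcases sl2_trichotomy g with rfl | rfl | hdisc | ⟨x, y, hy, hxy⟩ | ⟨x, y, hy, hxy⟩
    · rw [div_self (hdeg0 χ), div_self (hdeg0 ψ), sub_self, mul_zero]
      exact memLocalIdeal_zero hMtop
    · rw [hz1 χ, hz1 ψ, mul_div_assoc, mul_div_assoc, div_self (hdeg0 χ), div_self (hdeg0 ψ), hs,
        sub_self, mul_zero]
      exact memLocalIdeal_zero hMtop
    · apply memLocalIdeal_mul_right
      · rw [memLocalIdeal_natCast_iff hM]
        exact dvd_index_centralizer_of_disc_ne_zero p g hdisc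
      · exact memLocalRing_sub (hratio χ g hχ) (hratio ψ g hψ)
    · apply memLocalIdeal_mul_left hidx
      rw [hcls χ g x _ hxy, hcls ψ g x _ hxy]
      have := memLocalIdeal_sub (hratioU χ y hχ) (hratioU ψ y hψ)
      rwa [sub_sub_sub_cancel_right] at this
    · apply memLocalIdeal_mul_left hidx
      rw [hcls χ g x _ hxy, hcls ψ g x _ hxy, hsgnval χ, hsgnval ψ, hs, mul_div_assoc,
        mul_div_assoc, ← mul_sub]
      apply memLocalIdeal_mul_left (hsgnring ψ)
      have := memLocalIdeal_sub (hratioU χ y hχ) (hratioU ψ y hψ)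
      rwa [sub_sub_sub_cancel_right] at this
  · -- different signs: different blocks
    intro χ ψ hs hsame
    have h := hsame negOneSL
    rw [centralChar_of_mem_center _ _ hzc, centralChar_of_mem_center _ _ hzc, hz1 χ, hz1 ψ,
      mul_div_assoc, mul_div_assoc, div_self (hdeg0 χ), div_self (hdeg0 ψ), mul_one, mul_one] at h
    rcases hsgn χ with h1 | h1 <;> rcases hsgn ψ with h2 | h2
    · exact hs (h1.trans h2.symm)
    · rw [h1, h2] at h
      apply htwo
      have e : (1 : ℂ) - -1 = 2 := by norm_num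
      rwa [e] at h
    · rw [h1, h2] at h
      apply htwo
      have e : (-1 : ℂ) - 1 = -2 := by norm_num
      rw [e, memLocalIdeal_neg_iff] at h
      exact h
    · exact hs (h1.trans h2.symm)
  · -- the Steinberg character is alone
    intro χ ψ hχ hψ hsame
    have h := hsame (upperU 1)
    have hχu : (χ : Matrix.SpecialLinearGroup (Fin 2) F → ℂ) (upperU 1) = 0 := by
      obtain ⟨h1, h2, h3⟩ := (hSt_iff χ).mp hχ
      rw [hval χ 1, sum_nOdd_psi, h1, h2, h3]
      have := sumSq_add_sumNsq hψ₀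
      push_cast
      linear_combination this
    rw [centralChar_eq_mul, centralChar_eq_mul, hχu, zero_div, mul_zero, zero_sub,
      memLocalIdeal_neg_iff,
      memLocalIdeal_mul_iff (memLocalRing_natCast hMtop _) (hratio ψ _ hψ)] at h
    rcases h with h | h
    · rw [memLocalIdeal_natCast_iff hM] at h
      exact not_dvd_index_centralizer_upperU p hF 1 one_ne_zero h
    · have h1 := hratioU ψ 1 hψ
      have h2 := memLocalIdeal_sub h h1
      rw [sub_sub_cancel] at h2
      exact one_not_memLocalIdeal h2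

/-- the sums of the squares of the degrees of the even, resp. odd, characters -/
theorem sl2_sign_sums (hF : ringChar F ≠ 2)
    (sgn : IrrCharacter (Matrix.SpecialLinearGroup (Fin 2) F) → ℂ)
    (hsgn : ∀ χ, sgn χ = 1 ∨ sgn χ = -1)
    (hz1 : ∀ χ : IrrCharacter (Matrix.SpecialLinearGroup (Fin 2) F),
      (χ : Matrix.SpecialLinearGroup (Fin 2) F → ℂ) negOneSL =
        sgn χ * (χ : Matrix.SpecialLinearGroup (Fin 2) F → ℂ) 1)
    (s : Finset (IrrCharacter (Matrix.SpecialLinearGroup (Fin 2) F))) (c : ℂ)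
    (hc : c = 1 ∨ c = -1) (hs : ∀ χ, χ ∈ s ↔ sgn χ = c) :
    ∑ χ ∈ s, (χ : Matrix.SpecialLinearGroup (Fin 2) F → ℂ) 1 *
      conj ((χ : Matrix.SpecialLinearGroup (Fin 2) F → ℂ) 1) =
      (Nat.card (Matrix.SpecialLinearGroup (Fin 2) F) : ℂ) / 2 := by
  have hT := Cfsg.Agent.Lib.Helper78.second_orthogonality_of_isConj
    (IsConj.refl (1 : Matrix.SpecialLinearGroup (Fin 2) F))
  have hcard : Nat.card (Subgroup.centralizer
      ({1} : Set (Matrix.SpecialLinearGroup (Fin 2) F))) =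
      Nat.card (Matrix.SpecialLinearGroup (Fin 2) F) := by
    rw [centralizer_eq_top_of_mem_center 1 (Subgroup.one_mem _), Subgroup.card_top]
  rw [hcard] at hT
  have hD := Cfsg.Agent.Lib.Helper78.second_orthogonality_of_not_isConj
    (g := (1 : Matrix.SpecialLinearGroup (Fin 2) F)) (h := negOneSL) (by
      intro h
      rw [isConj_one_right] at h
      exact negOneSL_ne_one hF h)
  have hconj : ∀ χ : IrrCharacter (Matrix.SpecialLinearGroup (Fin 2) F),
      conj ((χ : Matrix.SpecialLinearGroup (Fin 2) F → ℂ) negOneSL) =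
        sgn χ * conj ((χ : Matrix.SpecialLinearGroup (Fin 2) F → ℂ) 1) := by
    intro χ
    rw [hz1 χ, map_mul]
    rcases hsgn χ with h | h <;> rw [h] <;> simp
  have hD' : ∑ χ : IrrCharacter (Matrix.SpecialLinearGroup (Fin 2) F),
      sgn χ * ((χ : Matrix.SpecialLinearGroup (Fin 2) F → ℂ) 1 *
        conj ((χ : Matrix.SpecialLinearGroup (Fin 2) F → ℂ) 1)) = 0 := by
    rw [← hD]
    refine Finset.sum_congr rfl (fun χ _ => ?_)
    rw [hconj χ]; ring
  have hc2 : c * c = 1 := by rcases hc with h | h <;> rw [h] <;> norm_num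
  have key : ∑ χ ∈ s, (1 + c * sgn χ) * ((χ : Matrix.SpecialLinearGroup (Fin 2) F → ℂ) 1 *
      conj ((χ : Matrix.SpecialLinearGroup (Fin 2) F → ℂ) 1)) =
      ∑ χ : IrrCharacter (Matrix.SpecialLinearGroup (Fin 2) F),
        (1 + c * sgn χ) * ((χ : Matrix.SpecialLinearGroup (Fin 2) F → ℂ) 1 *
          conj ((χ : Matrix.SpecialLinearGroup (Fin 2) F → ℂ) 1)) := by
    apply Finset.sum_subset (Finset.subset_univ s)
    intro χ _ hχ
    have hne : sgn χ ≠ c := fun h => hχ ((hs χ).mpr h)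
    have : 1 + c * sgn χ = 0 := by
      rcases hsgn χ with h | h <;> rcases hc with h' | h'
      · exact absurd (h.trans h'.symm) hne
      · rw [h, h']; norm_num
      · rw [h, h']; norm_num
      · exact absurd (h.trans h'.symm) hne
    rw [this, zero_mul]
  have key2 : ∑ χ ∈ s, (1 + c * sgn χ) * ((χ : Matrix.SpecialLinearGroup (Fin 2) F → ℂ) 1 *
      conj ((χ : Matrix.SpecialLinearGroup (Fin 2) F → ℂ) 1)) =
      2 * ∑ χ ∈ s, (χ : Matrix.SpecialLinearGroup (Fin 2) F → ℂ) 1 *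
        conj ((χ : Matrix.SpecialLinearGroup (Fin 2) F → ℂ) 1) := by
    rw [Finset.mul_sum]
    refine Finset.sum_congr rfl (fun χ hχ => ?_)
    rw [(hs χ).mp hχ, hc2]
    ring
  have key3 : ∑ χ : IrrCharacter (Matrix.SpecialLinearGroup (Fin 2) F),
      (1 + c * sgn χ) * ((χ : Matrix.SpecialLinearGroup (Fin 2) F → ℂ) 1 *
        conj ((χ : Matrix.SpecialLinearGroup (Fin 2) F → ℂ) 1)) =
      (Nat.card (Matrix.SpecialLinearGroup (Fin 2) F) : ℂ) := by
    have : ∀ χ : IrrCharacter (Matrix.SpecialLinearGroup (Fin 2) F),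
        (1 + c * sgn χ) * ((χ : Matrix.SpecialLinearGroup (Fin 2) F → ℂ) 1 *
          conj ((χ : Matrix.SpecialLinearGroup (Fin 2) F → ℂ) 1)) =
        (χ : Matrix.SpecialLinearGroup (Fin 2) F → ℂ) 1 *
          conj ((χ : Matrix.SpecialLinearGroup (Fin 2) F → ℂ) 1) +
        c * (sgn χ * ((χ : Matrix.SpecialLinearGroup (Fin 2) F → ℂ) 1 *
          conj ((χ : Matrix.SpecialLinearGroup (Fin 2) F → ℂ) 1))) := fun χ => by ring
    rw [Finset.sum_congr rfl (fun χ _ => this χ), Finset.sum_add_distrib, ← Finset.mul_sum, hD',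
      mul_zero, add_zero, hT]
  rw [key, key3] at key2
  rw [key2]
  ring

end main

end Cfsg.Agent.Lib.Helper39
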