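import Mathlib
import Cfsg.Agent.Lib.Helper39.SL2Classes

set_option autoImplicit false
set_option linter.style.haveILetI false
set_option linter.unusedSectionVars false

/-!
# The rigid covering of `SL₂(q)`, `q` odd, by four families (helper39)

`famS t i`, `famH t i` (`i : Fin 4`): the centre; `±U \ {±1}` w.r.t. the Borel subgroup; the regular
diagonal elements w.r.t. the monomial subgroup; the non-central elements of the non-split torus
`nsTorus t` w.r.t. its normaliser.  `sl2_sum_classes`, `sl2_exists_conj`.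
-/

namespace Cfsg.Agent.Lib.Helper39

open Matrix Cfsg.Agent.Lib.Helper41

variable {F : Type*} [Field F]

section families

variable [Fintype F] [DecidableEq F]

open Classical in
/-- the conjugation-invariant type of an element: `0` central, `1` unipotent up to sign,
`2` split regular, `3` non-split -/
noncomputable def clsType (g : Matrix.SpecialLinearGroup (Fin 2) F) : Fin 4 :=
  if g ∈ Subgroup.center (Matrix.SpecialLinearGroup (Fin 2) F) then 0
  else if disc g = 0 then 1 else if IsSquare (disc g) then 2 else 3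

theorem clsType_conj (x g : Matrix.SpecialLinearGroup (Fin 2) F) :
    clsType (x⁻¹ * g * x) = clsType g := by
  have hc : x⁻¹ * g * x ∈ Subgroup.center (Matrix.SpecialLinearGroup (Fin 2) F) ↔
      g ∈ Subgroup.center (Matrix.SpecialLinearGroup (Fin 2) F) := by
    constructor
    · intro h
      have := (inferInstance : (Subgroup.center (Matrix.SpecialLinearGroup (Fin 2) F)).Normal).conj_mem
        _ h x
      have e : x * (x⁻¹ * g * x) * x⁻¹ = g := by group
      rwa [e] at this
    · intro h
      have := (inferInstance : (Subgroup.center (Matrix.SpecialLinearGroup (Fin 2) F)).Normal).conj_mem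
        _ h x⁻¹
      rwa [inv_inv] at this
  unfold clsType
  simp only [hc, disc_conj]

/-- the subgroups of the four families -/
noncomputable def famH (t : F) : Fin 4 → Subgroup (Matrix.SpecialLinearGroup (Fin 2) F)
  | 0 => ⊤
  | 1 => borelSub F
  | 2 => monoSub F
  | 3 => Subgroup.normalizer (nsTorus t : Set (Matrix.SpecialLinearGroup (Fin 2) F))

open Classical in
/-- the rigid sets of the four families -/
noncomputable def famS (t : F) : Fin 4 → Finset (Matrix.SpecialLinearGroup (Fin 2) F)
  | 0 => {1, negOneSL}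
  | 1 => (Finset.univ.erase (0 : F)).image upperU ∪
      (Finset.univ.erase (0 : F)).image (fun y => negOneSL * upperU y)
  | 2 => (Finset.univ.filter (fun u : Fˣ => (u : F) ^ 2 ≠ 1)).image diagHom
  | 3 => Finset.univ.filter (fun g => g ∈ nsTorus t ∧
      g ∉ Subgroup.center (Matrix.SpecialLinearGroup (Fin 2) F))

theorem not_mem_center_of_apply_01 (g : Matrix.SpecialLinearGroup (Fin 2) F)
    (h : (g : Matrix (Fin 2) (Fin 2) F) 0 1 ≠ 0) :
    g ∉ Subgroup.center (Matrix.SpecialLinearGroup (Fin 2) F) := by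
  intro hc
  rcases (mem_center_iff_pm g).mp hc with h' | h' <;> rw [h'] at h <;> simp at h

theorem not_mem_center_of_apply_10 (g : Matrix.SpecialLinearGroup (Fin 2) F)
    (h : (g : Matrix (Fin 2) (Fin 2) F) 1 0 ≠ 0) :
    g ∉ Subgroup.center (Matrix.SpecialLinearGroup (Fin 2) F) := by
  intro hc
  rcases (mem_center_iff_pm g).mp hc with h' | h' <;> rw [h'] at h <;> simp at h

theorem unit_sub_inv_ne_zero (u : Fˣ) (hu : (u : F) ^ 2 ≠ 1) :
    (u : F) - ((u⁻¹ : Fˣ) : F) ≠ 0 := by
  intro h
  apply hu
  have h1 : (u : F) * ((u⁻¹ : Fˣ) : F) = 1 := by simp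
  have h2 : (u : F) = ((u⁻¹ : Fˣ) : F) := sub_eq_zero.mp h
  rw [pow_two]
  nth_rewrite 2 [h2]
  exact h1

theorem diagHom_not_mem_center (u : Fˣ) (hu : (u : F) ^ 2 ≠ 1) :
    (diagHom u : Matrix.SpecialLinearGroup (Fin 2) F) ∉
      Subgroup.center (Matrix.SpecialLinearGroup (Fin 2) F) := by
  intro hc
  apply hu
  rcases (mem_center_iff_pm _).mp hc with h' | h'
  · have := congrFun (congrFun h' 0) 0
    simp [coe_diagHom] at this
    rw [this]; simp
  · have := congrFun (congrFun h' 0) 0
    simp [coe_diagHom] at this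
    rw [this]; simp

theorem apply_10_ne_zero_of_isQuad {t : F} {g : Matrix.SpecialLinearGroup (Fin 2) F}
    (hg : IsQuad t g) (hc : g ∉ Subgroup.center (Matrix.SpecialLinearGroup (Fin 2) F)) :
    (g : Matrix (Fin 2) (Fin 2) F) 1 0 ≠ 0 := by
  intro h
  exact hc ((mem_center_iff_pm g).mpr (hg.eq_one_or_neg_one h))

open Classical in
/-- the type of the members of the rigid sets -/
theorem clsType_of_mem_famS (h2 : (2 : F) ≠ 0) {t : F} (ht : ∀ r : F, r ^ 2 ≠ -1 + t * r)
    (i : Fin 4) (s : Matrix.SpecialLinearGroup (Fin 2) F) (hs : s ∈ famS t i) :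
    clsType s = i := by
  have hF : ringChar F ≠ 2 := by
    intro h
    apply h2
    have := CharP.cast_eq_zero F (ringChar F)
    rw [h] at this
    exact_mod_cast this
  fin_cases i
  · -- central
    have hc : s ∈ Subgroup.center (Matrix.SpecialLinearGroup (Fin 2) F) := by
      change s ∈ ({1, negOneSL} : Finset _) at hs
      rcases Finset.mem_insert.mp hs with rfl | hs
      · exact Subgroup.one_mem _
      · rw [Finset.mem_singleton.mp hs]; exact negOneSL_mem_center
    unfold clsType
    rw [if_pos hc]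
    rfl
  · change s ∈ (Finset.univ.erase (0 : F)).image upperU ∪
      (Finset.univ.erase (0 : F)).image (fun y => negOneSL * upperU y) at hs
    have hnc : s ∉ Subgroup.center (Matrix.SpecialLinearGroup (Fin 2) F) ∧ disc s = 0 := by
      rcases Finset.mem_union.mp hs with hs | hs
      · obtain ⟨y, hy, rfl⟩ := Finset.mem_image.mp hs
        refine ⟨not_mem_center_of_apply_01 _ ?_, disc_upperU y⟩
        simp [coe_upperU, Finset.ne_of_mem_erase hy]
      · obtain ⟨y, hy, rfl⟩ := Finset.mem_image.mp hs
        refine ⟨not_mem_center_of_apply_01 _ ?_, by rw [disc_negOneSL_mul, disc_upperU]⟩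
        rw [coe_negOneSL_mul]
        simp [coe_upperU, Finset.ne_of_mem_erase hy]
    unfold clsType
    rw [if_neg hnc.1, if_pos hnc.2]
    rfl
  · change s ∈ (Finset.univ.filter (fun u : Fˣ => (u : F) ^ 2 ≠ 1)).image diagHom at hs
    obtain ⟨u, hu, rfl⟩ := Finset.mem_image.mp hs
    have hu' := (Finset.mem_filter.mp hu).2
    unfold clsType
    rw [if_neg (diagHom_not_mem_center u hu'), disc_diagHom,
      if_neg (pow_ne_zero 2 (unit_sub_inv_ne_zero u hu')), if_pos ⟨_, pow_two _⟩]
    rfl
  · change s ∈ Finset.univ.filter (fun g => g ∈ nsTorus t ∧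
      g ∉ Subgroup.center (Matrix.SpecialLinearGroup (Fin 2) F)) at hs
    obtain ⟨hq, hc⟩ := (Finset.mem_filter.mp hs).2
    rw [mem_nsTorus_iff] at hq
    have h10 := apply_10_ne_zero_of_isQuad hq hc
    have hns := not_isSquare_of_nonsplit h2 ht
    have hd : ¬ IsSquare (disc s) := by
      rw [disc_of_isQuad hq]
      rintro ⟨d, hd⟩
      apply hns
      refine ⟨d / (s : Matrix (Fin 2) (Fin 2) F) 1 0, ?_⟩
      field_simp
      linear_combination hd
    unfold clsType
    have hd0 : disc s ≠ 0 := by
      intro h0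
      apply hd
      rw [h0]
      exact IsSquare.zero
    rw [if_neg hc, if_neg hd0, if_neg hd]
    rfl

theorem famS_disjoint (h2 : (2 : F) ≠ 0) {t : F} (ht : ∀ r : F, r ^ 2 ≠ -1 + t * r)
    (i j : Fin 4) (hij : i ≠ j) (g x y : Matrix.SpecialLinearGroup (Fin 2) F)
    (hx : x⁻¹ * g * x ∈ famS t i) : y⁻¹ * g * y ∉ famS t j := by
  intro hy
  apply hij
  rw [← clsType_of_mem_famS h2 ht i _ hx, ← clsType_of_mem_famS h2 ht j _ hy, clsType_conj,
    clsType_conj]

theorem conj_negOneSL_mul (x g : Matrix.SpecialLinearGroup (Fin 2) F) :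
    x⁻¹ * (negOneSL * g) * x = negOneSL * (x⁻¹ * g * x) := by
  have := Subgroup.mem_center_iff.mp (negOneSL_mem_center (F := F)) x⁻¹
  calc x⁻¹ * (negOneSL * g) * x = (x⁻¹ * negOneSL) * g * x := by group
    _ = (negOneSL * x⁻¹) * g * x := by rw [this]
    _ = negOneSL * (x⁻¹ * g * x) := by group

open Classical in
/-- rigidity of the four families -/
theorem famS_rigid {t : F}
    (i : Fin 4) (s : Matrix.SpecialLinearGroup (Fin 2) F) (hs : s ∈ famS t i)
    (x : Matrix.SpecialLinearGroup (Fin 2) F) (hx : x⁻¹ * s * x ∈ famS t i) : x ∈ famH t i := by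
  fin_cases i
  · exact Subgroup.mem_top x
  · -- unipotent up to sign
    change s ∈ (Finset.univ.erase (0 : F)).image upperU ∪
      (Finset.univ.erase (0 : F)).image (fun y => negOneSL * upperU y) at hs
    change x⁻¹ * s * x ∈ (Finset.univ.erase (0 : F)).image upperU ∪
      (Finset.univ.erase (0 : F)).image (fun y => negOneSL * upperU y) at hx
    change x ∈ borelSub F
    have h10 : ((x⁻¹ * s * x : Matrix.SpecialLinearGroup (Fin 2) F) :
        Matrix (Fin 2) (Fin 2) F) 1 0 = 0 := by
      rcases Finset.mem_union.mp hx with hx | hx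
      · obtain ⟨y, -, hy⟩ := Finset.mem_image.mp hx
        rw [← hy]; simp [coe_upperU]
      · obtain ⟨y, -, hy⟩ := Finset.mem_image.mp hx
        rw [← hy, coe_negOneSL_mul]; simp [coe_upperU]
    rcases Finset.mem_union.mp hs with hs | hs
    · obtain ⟨y, hy, rfl⟩ := Finset.mem_image.mp hs
      exact mem_borelSub_of_conj_upperU x y (Finset.ne_of_mem_erase hy) h10
    · obtain ⟨y, hy, rfl⟩ := Finset.mem_image.mp hs
      apply mem_borelSub_of_conj_upperU x y (Finset.ne_of_mem_erase hy)
      rw [conj_negOneSL_mul, coe_negOneSL_mul, Matrix.neg_apply, neg_eq_zero] at h10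
      exact h10
  · -- split regular
    change s ∈ (Finset.univ.filter (fun u : Fˣ => (u : F) ^ 2 ≠ 1)).image diagHom at hs
    change x⁻¹ * s * x ∈ (Finset.univ.filter (fun u : Fˣ => (u : F) ^ 2 ≠ 1)).image diagHom at hx
    change x ∈ monoSub F
    obtain ⟨u, hu, rfl⟩ := Finset.mem_image.mp hs
    obtain ⟨u', hu', hxu⟩ := Finset.mem_image.mp hx
    have hu2 := (Finset.mem_filter.mp hu).2
    have hu2' := (Finset.mem_filter.mp hu').2
    have hd : IsDiag (diagHom u : Matrix.SpecialLinearGroup (Fin 2) F) := by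
      constructor <;> simp [coe_diagHom]
    have hd' : IsDiag (diagHom u' : Matrix.SpecialLinearGroup (Fin 2) F) := by
      constructor <;> simp [coe_diagHom]
    have h00 : ((diagHom u : Matrix.SpecialLinearGroup (Fin 2) F) :
        Matrix (Fin 2) (Fin 2) F) 0 0 = (u : F) := by simp [coe_diagHom]
    have h00' : ((diagHom u' : Matrix.SpecialLinearGroup (Fin 2) F) :
        Matrix (Fin 2) (Fin 2) F) 0 0 = (u' : F) := by simp [coe_diagHom]
    have hc := centralizer_eq_diagSub _ hd (by rw [h00]; exact hu2)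
    have hc' := centralizer_eq_diagSub _ hd' (by rw [h00']; exact hu2')
    have := mem_normalizer_of_centralizer_eq (diagSub F) _ _ x hc hc' hxu.symm
    rwa [normalizer_diagSub _ hd (by rw [h00]; exact hu2)] at this
  · -- non-split
    change s ∈ Finset.univ.filter (fun g => g ∈ nsTorus t ∧
      g ∉ Subgroup.center (Matrix.SpecialLinearGroup (Fin 2) F)) at hs
    change x⁻¹ * s * x ∈ Finset.univ.filter (fun g => g ∈ nsTorus t ∧
      g ∉ Subgroup.center (Matrix.SpecialLinearGroup (Fin 2) F)) at hx
    change x ∈ Subgroup.normalizer (nsTorus t : Set (Matrix.SpecialLinearGroup (Fin 2) F))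
    obtain ⟨hq, hc⟩ := (Finset.mem_filter.mp hs).2
    obtain ⟨hq', hc'⟩ := (Finset.mem_filter.mp hx).2
    rw [mem_nsTorus_iff] at hq hq'
    have e1 := centralizer_eq_nsTorus hq (apply_10_ne_zero_of_isQuad hq hc)
    have e2 := centralizer_eq_nsTorus hq' (apply_10_ne_zero_of_isQuad hq' hc')
    exact mem_normalizer_of_centralizer_eq (nsTorus t) _ _ x e1 e2 rfl

/-! ### sizes -/

theorem two_ne_zero_of_ringChar (hF : ringChar F ≠ 2) : (2 : F) ≠ 0 := by
  intro h
  apply hF
  have h2 : ((2 : ℕ) : F) = 0 := by exact_mod_cast h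
  have := (ringChar.spec F 2).mp h2
  have hle := Nat.le_of_dvd (by norm_num) this
  have hne : ringChar F ≠ 1 := by
    intro h1
    have := (ringChar.spec F 1).mpr (by rw [h1])
    simp at this
  have hne0 : ringChar F ≠ 0 := by
    intro h0
    rw [h0] at this
    simp at this
  omega

open Classical in
theorem card_famS0 (hF : ringChar F ≠ 2) (t : F) : (famS t 0).card = 2 := by
  change ({1, negOneSL} : Finset (Matrix.SpecialLinearGroup (Fin 2) F)).card = 2
  exact Finset.card_pair (Ne.symm (negOneSL_ne_one hF))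

open Classical in
theorem card_famS1 (hF : ringChar F ≠ 2) (t : F) :
    (famS t 1).card = 2 * (Fintype.card F - 1) := by
  change ((Finset.univ.erase (0 : F)).image upperU ∪
      (Finset.univ.erase (0 : F)).image (fun y => negOneSL * upperU y)).card = _
  have hneg1 : (-1 : F) ≠ 1 := Ring.neg_one_ne_one_of_char_ne_two hF
  have hdisj : Disjoint ((Finset.univ.erase (0 : F)).image upperU)
      ((Finset.univ.erase (0 : F)).image (fun y => negOneSL * upperU y)) := by
    rw [Finset.disjoint_left]
    intro s hs hs'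
    obtain ⟨y, -, rfl⟩ := Finset.mem_image.mp hs
    obtain ⟨y', -, hy'⟩ := Finset.mem_image.mp hs'
    have := congrArg (fun g : Matrix.SpecialLinearGroup (Fin 2) F =>
      (g : Matrix (Fin 2) (Fin 2) F) 0 0) hy'
    simp [coe_upperU, coe_negOneSL, Matrix.mul_apply, Fin.sum_univ_two] at this
    exact hneg1 this
  rw [Finset.card_union_of_disjoint hdisj,
    Finset.card_image_of_injective _ upperU_injective,
    Finset.card_image_of_injective _ (fun a b h => upperU_injective (mul_left_cancel h)),
    Finset.card_erase_of_mem (Finset.mem_univ _), Finset.card_univ]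
  ring

open Classical in
theorem card_famS2 (hF : ringChar F ≠ 2) (t : F) :
    (famS t 2).card = Fintype.card F - 3 := by
  change ((Finset.univ.filter (fun u : Fˣ => (u : F) ^ 2 ≠ 1)).image diagHom).card = _
  rw [Finset.card_image_of_injective _ diagHom_injective]
  have hneg1 : (-1 : Fˣ) ≠ 1 := by
    intro h
    have := congrArg Units.val h
    simp at this
    exact Ring.neg_one_ne_one_of_char_ne_two hF this
  have hfil : Finset.univ.filter (fun u : Fˣ => (u : F) ^ 2 ≠ 1) =
      Finset.univ \ {1, -1} := by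
    ext u
    simp only [Finset.mem_filter, Finset.mem_univ, true_and, Finset.mem_sdiff, Finset.mem_insert,
      Finset.mem_singleton, not_or]
    constructor
    · intro h
      constructor
      · rintro rfl; apply h; simp
      · rintro rfl; apply h; simp
    · rintro ⟨h1, h2⟩ h
      have : ((u : F) - 1) * ((u : F) + 1) = 0 := by linear_combination h
      rcases mul_eq_zero.mp this with h' | h'
      · apply h1
        apply Units.ext
        simp only [Units.val_one]
        linear_combination h'
      · apply h2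
        apply Units.ext
        simp only [Units.val_neg, Units.val_one]
        linear_combination h'
  rw [hfil, Finset.card_sdiff_of_subset (Finset.subset_univ _), Finset.card_univ,
    Fintype.card_units, Finset.card_pair hneg1.symm]
  omega

open Classical in
theorem card_famS3 (hF : ringChar F ≠ 2) {t : F} (ht : ∀ r : F, r ^ 2 ≠ -1 + t * r) :
    (famS t 3).card = Fintype.card F - 1 := by
  change (Finset.univ.filter (fun g => g ∈ nsTorus t ∧
      g ∉ Subgroup.center (Matrix.SpecialLinearGroup (Fin 2) F))).card = _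
  have hT : (Finset.univ.filter (fun g : Matrix.SpecialLinearGroup (Fin 2) F =>
      g ∈ nsTorus t)).card = Fintype.card F + 1 := by
    rw [← card_nsTorus ht, Nat.card_eq_fintype_card, Fintype.card_subtype]
  have hfil : Finset.univ.filter (fun g => g ∈ nsTorus t ∧
      g ∉ Subgroup.center (Matrix.SpecialLinearGroup (Fin 2) F)) =
      (Finset.univ.filter (fun g : Matrix.SpecialLinearGroup (Fin 2) F => g ∈ nsTorus t)) \
        {1, negOneSL} := by
    ext g
    simp only [Finset.mem_filter, Finset.mem_univ, true_and, Finset.mem_sdiff, Finset.mem_insert,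
      Finset.mem_singleton, not_or]
    constructor
    · rintro ⟨h1, h2⟩
      refine ⟨h1, ?_, ?_⟩
      · rintro rfl; exact h2 (Subgroup.one_mem _)
      · rintro rfl; exact h2 negOneSL_mem_center
    · rintro ⟨h1, h2, h3⟩
      refine ⟨h1, fun hc => ?_⟩
      rcases (mem_center_iff_pm g).mp hc with h | h
      · apply h2
        apply Subtype.ext
        rw [h]; simp
      · apply h3
        apply Subtype.ext
        rw [h, coe_negOneSL]
        simp [Matrix.one_fin_two]
  have hsub : ({1, negOneSL} : Finset (Matrix.SpecialLinearGroup (Fin 2) F)) ⊆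
      Finset.univ.filter (fun g : Matrix.SpecialLinearGroup (Fin 2) F => g ∈ nsTorus t) := by
    intro g hg
    rw [Finset.mem_filter]
    refine ⟨Finset.mem_univ _, ?_⟩
    rcases Finset.mem_insert.mp hg with rfl | hg
    · exact Subgroup.one_mem _
    · rw [Finset.mem_singleton.mp hg, mem_nsTorus_iff]
      constructor <;> simp [coe_negOneSL]
  rw [hfil, Finset.card_sdiff_of_subset hsub, hT,
    Finset.card_pair (Ne.symm (negOneSL_ne_one hF))]
  omega

theorem card_famH (hF : ringChar F ≠ 2) {t : F} (ht : ∀ r : F, r ^ 2 ≠ -1 + t * r) :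
    Nat.card (famH t 0) = Fintype.card F * (Fintype.card F ^ 2 - 1) ∧
    Nat.card (famH t 1) = (Fintype.card F - 1) * Fintype.card F ∧
    Nat.card (famH t 2) = 2 * (Fintype.card F - 1) ∧
    Nat.card (famH t 3) = 2 * (Fintype.card F + 1) := by
  refine ⟨?_, ?_, ?_, ?_⟩
  · change Nat.card (⊤ : Subgroup (Matrix.SpecialLinearGroup (Fin 2) F)) = _
    rw [Subgroup.card_top, Cfsg.Agent.Lib.Helper5.card_SL2]
  · exact card_borelSub
  · exact card_monoSub
  · exact card_normalizer_nsTorus (two_ne_zero_of_ringChar hF) ht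

open Classical in
theorem famS_size (hF : ringChar F ≠ 2) {t : F} (ht : ∀ r : F, r ^ 2 ≠ -1 + t * r) :
    ∑ i, ((famS t i).card : ℚ) / (Nat.card (famH t i) : ℚ) = 1 := by
  obtain ⟨h0, h1, h2, h3⟩ := card_famH hF ht
  rw [Fin.sum_univ_four, card_famS0 hF, card_famS1 hF, card_famS2 hF, card_famS3 hF ht,
    h0, h1, h2, h3]
  have hq3 : 3 ≤ Fintype.card F := by
    have hq2 : 2 ≤ Fintype.card F := Fintype.one_lt_card
    rcases Nat.lt_or_ge 2 (Fintype.card F) with h | h
    · exact h
    · exfalso
      have h2' : Fintype.card F = 2 := le_antisymm h hq2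
      apply hF
      have := FiniteField.even_card_iff_char_two.mpr (by rw [h2'])
      exact this
  have hq1 : 1 ≤ Fintype.card F ^ 2 := Nat.one_le_pow _ _ (by omega)
  push_cast [Nat.cast_sub (by omega : 1 ≤ Fintype.card F),
    Nat.cast_sub (by omega : 3 ≤ Fintype.card F), Nat.cast_sub hq1]
  have hq : (3 : ℚ) ≤ (Fintype.card F : ℚ) := by exact_mod_cast hq3
  have e1 : ((Fintype.card F : ℚ) - 1) ≠ 0 := by linarith
  have e2 : ((Fintype.card F : ℚ) + 1) ≠ 0 := by linarith
  have e3 : (Fintype.card F : ℚ) ≠ 0 := by linarith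
  have e4 : ((Fintype.card F : ℚ) ^ 2 - 1) ≠ 0 := by
    have : ((Fintype.card F : ℚ) ^ 2 - 1) = ((Fintype.card F : ℚ) - 1) * ((Fintype.card F : ℚ) + 1) := by
      ring
    rw [this]
    exact mul_ne_zero e1 e2
  field_simp
  ring

open Classical in
/-- every element of `SL₂(q)`, `q` odd, is conjugate into exactly one of the four rigid sets -/
theorem sl2_exists_conj (hF : ringChar F ≠ 2) {t : F} (ht : ∀ r : F, r ^ 2 ≠ -1 + t * r)
    (g : Matrix.SpecialLinearGroup (Fin 2) F) :
    ∃ (i : Fin 4) (x : Matrix.SpecialLinearGroup (Fin 2) F), x⁻¹ * g * x ∈ famS t i := by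
  obtain ⟨i, -, x, hx⟩ := exists_conjCount_eq (famH t) (famS t)
    (fun i s hs x hx => famS_rigid i s hs x hx)
    (famS_disjoint (two_ne_zero_of_ringChar hF) ht) (famS_size hF ht) g
  exact ⟨i, x, hx⟩

open Classical in
/-- **the class equation of `SL₂(q)`, `q` odd, for class functions** -/
theorem sl2_sum_classes (hF : ringChar F ≠ 2) {t : F} (ht : ∀ r : F, r ^ 2 ≠ -1 + t * r)
    (f : Matrix.SpecialLinearGroup (Fin 2) F → ℂ)
    (hf : Cfsg.IsClassFunction (Matrix.SpecialLinearGroup (Fin 2) F) f) :
    ∑ g : Matrix.SpecialLinearGroup (Fin 2) F, f g =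
      (f 1 + f negOneSL) +
      ((Fintype.card F : ℂ) + 1) *
        ∑ y ∈ Finset.univ.erase (0 : F), (f (upperU y) + f (negOneSL * upperU y)) +
      ((Fintype.card F : ℂ) * ((Fintype.card F : ℂ) + 1) / 2) *
        ∑ u ∈ Finset.univ.filter (fun u : Fˣ => (u : F) ^ 2 ≠ 1), f (diagHom u) +
      ((Fintype.card F : ℂ) * ((Fintype.card F : ℂ) - 1) / 2) * ∑ c ∈ famS t 3, f c := by
  have h := sum_eq_sum_rigid (famH t) (famS t)
    (fun i s hs x hx => famS_rigid i s hs x hx)
    (famS_disjoint (two_ne_zero_of_ringChar hF) ht) (famS_size hF ht) f hf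
  obtain ⟨h0, h1, h2, h3⟩ := card_famH hF ht
  rw [Fin.sum_univ_four, h0, h1, h2, h3, ← Nat.card_eq_fintype_card,
    Cfsg.Agent.Lib.Helper5.card_SL2] at h
  rw [h]
  have hq3 : 3 ≤ Fintype.card F := by
    have hq2 : 2 ≤ Fintype.card F := Fintype.one_lt_card
    rcases Nat.lt_or_ge 2 (Fintype.card F) with h | h
    · exact h
    · exfalso
      have h2' : Fintype.card F = 2 := le_antisymm h hq2
      apply hF
      have := FiniteField.even_card_iff_char_two.mpr (by rw [h2'])
      exact this
  have hq1 : 1 ≤ Fintype.card F ^ 2 := Nat.one_le_pow _ _ (by omega)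
  have hneg1 : (-1 : F) ≠ 1 := Ring.neg_one_ne_one_of_char_ne_two hF
  -- the four sums
  have s0 : ∑ s ∈ famS t 0, f s = f 1 + f negOneSL := by
    change ∑ s ∈ ({1, negOneSL} : Finset (Matrix.SpecialLinearGroup (Fin 2) F)), f s = _
    rw [Finset.sum_pair (Ne.symm (negOneSL_ne_one hF))]
  have s1 : ∑ s ∈ famS t 1, f s =
      ∑ y ∈ Finset.univ.erase (0 : F), (f (upperU y) + f (negOneSL * upperU y)) := by
    change ∑ s ∈ (Finset.univ.erase (0 : F)).image upperU ∪
      (Finset.univ.erase (0 : F)).image (fun y => negOneSL * upperU y), f s = _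
    have hdisj : Disjoint ((Finset.univ.erase (0 : F)).image upperU)
        ((Finset.univ.erase (0 : F)).image (fun y => negOneSL * upperU y)) := by
      rw [Finset.disjoint_left]
      intro s hs hs'
      obtain ⟨y, -, rfl⟩ := Finset.mem_image.mp hs
      obtain ⟨y', -, hy'⟩ := Finset.mem_image.mp hs'
      have := congrArg (fun g : Matrix.SpecialLinearGroup (Fin 2) F =>
        (g : Matrix (Fin 2) (Fin 2) F) 0 0) hy'
      simp [coe_upperU, coe_negOneSL, Matrix.mul_apply, Fin.sum_univ_two] at this
      exact hneg1 this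
    rw [Finset.sum_union hdisj, Finset.sum_image (fun a _ b _ h => upperU_injective h),
      Finset.sum_image (fun a _ b _ h => upperU_injective (mul_left_cancel h)),
      ← Finset.sum_add_distrib]
  have s2 : ∑ s ∈ famS t 2, f s =
      ∑ u ∈ Finset.univ.filter (fun u : Fˣ => (u : F) ^ 2 ≠ 1), f (diagHom u) := by
    change ∑ s ∈ (Finset.univ.filter (fun u : Fˣ => (u : F) ^ 2 ≠ 1)).image diagHom, f s = _
    rw [Finset.sum_image (fun a _ b _ h => diagHom_injective h)]
  rw [s0, s1, s2]
  push_cast [Nat.cast_sub (by omega : 1 ≤ Fintype.card F), Nat.cast_sub hq1]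
  have hq : (3 : ℝ) ≤ (Fintype.card F : ℝ) := by exact_mod_cast hq3
  have e1 : ((Fintype.card F : ℂ) - 1) ≠ 0 := by
    intro h
    have : (Fintype.card F : ℂ) = 1 := by linear_combination h
    have : Fintype.card F = 1 := by exact_mod_cast this
    omega
  have e2 : ((Fintype.card F : ℂ) + 1) ≠ 0 := by
    intro h
    have h' : ((Fintype.card F + 1 : ℕ) : ℂ) = 0 := by push_cast; exact h
    have : Fintype.card F + 1 = 0 := by exact_mod_cast h'
    omega
  have e3 : (Fintype.card F : ℂ) ≠ 0 := by
    intro h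
    have : Fintype.card F = 0 := by exact_mod_cast h
    omega
  have e4 : ((Fintype.card F : ℂ) ^ 2 - 1) ≠ 0 := by
    have : ((Fintype.card F : ℂ) ^ 2 - 1) = ((Fintype.card F : ℂ) - 1) * ((Fintype.card F : ℂ) + 1) := by
      ring
    rw [this]
    exact mul_ne_zero e1 e2
  field_simp
  ring

end families

end Cfsg.Agent.Lib.Helper39
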