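import Mathlib
import Cfsg.Prelude.Def_Characters
import Cfsg.Agent.Lib.Helper3.BrAbelian
import Cfsg.Agent.Lib.Helper77.Linear
import Cfsg.Agent.Lib.Helper78.CharMore
import Cfsg.Agent.Lib.Helper80.CharBasic

set_option autoImplicit false
set_option linter.unusedSectionVars false

/-!
# Restriction of an irreducible character to an abelian subgroup (helper39)

`resMult C χ μ`: the multiplicity of the linear character `μ` of `C` in `χ|_C`.
Fourier inversion (`res_eq_sum_resMult`), Parseval (`sum_res_mul_conj`), parity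
(`resMult_eq_zero_of_central`), and sums of linear characters with prescribed value at a central
involution (`sum_hom_parity`).
-/

namespace Cfsg.Agent.Lib.Helper39

open Cfsg Cfsg.Agent.Lib.Helper3
open scoped ComplexConjugate

universe u

section

variable {G : Type u} [Group G] [Finite G] (C : Subgroup G) [Fintype C]

theorem exists_resMult (χ : IrrCharacter G) (μ : C →* ℂˣ) :
    ∃ n : ℕ, classInner (fun x : C => (χ : G → ℂ) x) (fun x : C => ((μ x : ℂˣ) : ℂ)) = n :=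
  Cfsg.Agent.Lib.Helper78.IsCharacter.exists_nat_classInner
    (Cfsg.Agent.Lib.Helper80.isCharacter_restrict C
      (Cfsg.Agent.Lib.Helper78.IsIrrCharacter.isCharacter χ.2))
    ⟨_, Cfsg.Agent.Lib.Helper77.isIrrCharacter_of_monoidHom μ⟩

/-- the multiplicity of the linear character `μ` of `C` in the restriction of `χ` -/
noncomputable def resMult (χ : IrrCharacter G) (μ : C →* ℂˣ) : ℕ := (exists_resMult C χ μ).choose

theorem sum_res_mul_conj_hom (χ : IrrCharacter G) (μ : C →* ℂˣ) :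
    ∑ x : C, (χ : G → ℂ) x * conj ((μ x : ℂˣ) : ℂ) = (Nat.card C : ℂ) * resMult C χ μ := by
  have h : classInner (fun x : C => (χ : G → ℂ) x) (fun x : C => ((μ x : ℂˣ) : ℂ)) =
      resMult C χ μ := (exists_resMult C χ μ).choose_spec
  unfold classInner at h
  have hc : (Nat.card C : ℂ) ≠ 0 := by exact_mod_cast Nat.card_pos.ne'
  rw [← h]
  field_simp

variable (hcomm : ∀ a b : C, a * b = b * a)
include hcomm

/-- Fourier inversion on an abelian subgroup -/
theorem res_eq_sum_resMult (χ : IrrCharacter G) (c : C) :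
    (χ : G → ℂ) c = ∑ μ : C →* ℂˣ, (resMult C χ μ : ℂ) * ((μ c : ℂˣ) : ℂ) := by
  classical
  have hc : (Nat.card C : ℂ) ≠ 0 := by exact_mod_cast Nat.card_pos.ne'
  have h1 : ∀ μ : C →* ℂˣ, (resMult C χ μ : ℂ) * ((μ c : ℂˣ) : ℂ) =
      (Nat.card C : ℂ)⁻¹ * ∑ x : C, (χ : G → ℂ) x * (((μ c : ℂˣ) : ℂ) * conj ((μ x : ℂˣ) : ℂ)) := by
    intro μ
    have := sum_res_mul_conj_hom C χ μ
    have e : ∑ x : C, (χ : G → ℂ) x * (((μ c : ℂˣ) : ℂ) * conj ((μ x : ℂˣ) : ℂ)) =
        ((μ c : ℂˣ) : ℂ) * ∑ x : C, (χ : G → ℂ) x * conj ((μ x : ℂˣ) : ℂ) := by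
      rw [Finset.mul_sum]
      refine Finset.sum_congr rfl (fun x _ => ?_)
      ring
    rw [e, this]
    field_simp
  rw [Finset.sum_congr rfl (fun μ _ => h1 μ), ← Finset.mul_sum, Finset.sum_comm]
  have h2 : ∀ x : C, ∑ μ : C →* ℂˣ, (χ : G → ℂ) x * (((μ c : ℂˣ) : ℂ) * conj ((μ x : ℂˣ) : ℂ)) =
      if c = x then (Nat.card C : ℂ) * (χ : G → ℂ) x else 0 := by
    intro x
    rw [← Finset.mul_sum, sum_hom_mul_conj hcomm c x]
    split_ifs <;> ring
  rw [Finset.sum_congr rfl (fun x _ => h2 x), Finset.sum_ite_eq Finset.univ c, if_pos (Finset.mem_univ _)]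
  field_simp

/-- Parseval on an abelian subgroup -/
theorem sum_res_mul_conj (χ : IrrCharacter G) :
    ∑ c : C, (χ : G → ℂ) c * conj ((χ : G → ℂ) c) =
      (Nat.card C : ℂ) * ∑ μ : C →* ℂˣ, (resMult C χ μ : ℂ) ^ 2 := by
  have h1 : ∀ c : C, (χ : G → ℂ) c * conj ((χ : G → ℂ) c) =
      ∑ μ : C →* ℂˣ, (resMult C χ μ : ℂ) * ((χ : G → ℂ) c * conj ((μ c : ℂˣ) : ℂ)) := by
    intro c
    conv_lhs => rw [res_eq_sum_resMult C hcomm χ c, map_sum, Finset.mul_sum]
    rw [← res_eq_sum_resMult C hcomm χ c]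
    refine Finset.sum_congr rfl (fun μ _ => ?_)
    rw [map_mul, Complex.conj_natCast]
    ring
  rw [Finset.sum_congr rfl (fun c _ => h1 c), Finset.sum_comm, Finset.mul_sum]
  refine Finset.sum_congr rfl (fun μ _ => ?_)
  rw [← Finset.mul_sum, sum_res_mul_conj_hom C χ μ]
  ring

/-- the degree is the sum of the multiplicities -/
theorem apply_one_eq_sum_resMult (χ : IrrCharacter G) :
    (χ : G → ℂ) 1 = ∑ μ : C →* ℂˣ, (resMult C χ μ : ℂ) := by
  have := res_eq_sum_resMult C hcomm χ 1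
  simp only [OneMemClass.coe_one, map_one, Units.val_one, mul_one] at this
  exact this

omit hcomm in
/-- if the central element `z ∈ C` acts by the scalar `ε` then only the linear characters with
`μ z = ε` occur -/
theorem resMult_eq_zero_of_central (χ : IrrCharacter G) (z : C) (ε : ℂ)
    (hz : ∀ g : G, (χ : G → ℂ) ((z : G) * g) = ε * (χ : G → ℂ) g)
    (μ : C →* ℂˣ) (hμ : ((μ z : ℂˣ) : ℂ) ≠ ε) : resMult C χ μ = 0 := by
  have h := sum_res_mul_conj_hom C χ μ
  have h2 : ∑ x : C, (χ : G → ℂ) x * conj ((μ x : ℂˣ) : ℂ) =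
      ε * conj ((μ z : ℂˣ) : ℂ) * ∑ x : C, (χ : G → ℂ) x * conj ((μ x : ℂˣ) : ℂ) := by
    conv_lhs => rw [← Equiv.sum_comp (Equiv.mulLeft z)]
    rw [Finset.mul_sum]
    refine Finset.sum_congr rfl (fun x _ => ?_)
    simp only [Equiv.coe_mulLeft, Subgroup.coe_mul, map_mul, Units.val_mul]
    rw [hz]
    ring
  have hc : (Nat.card C : ℂ) ≠ 0 := by exact_mod_cast Nat.card_pos.ne'
  rw [h] at h2
  have hμ1 : ((μ z : ℂˣ) : ℂ) * conj ((μ z : ℂˣ) : ℂ) = 1 := by
    rw [hom_conj, ← Units.val_mul, ← map_mul, mul_inv_cancel, map_one, Units.val_one]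
  by_contra hne
  have hm : (resMult C χ μ : ℂ) ≠ 0 := by exact_mod_cast hne
  have h3 : ε * conj ((μ z : ℂˣ) : ℂ) = 1 := by
    have : (Nat.card C : ℂ) * (resMult C χ μ : ℂ) * (ε * conj ((μ z : ℂˣ) : ℂ) - 1) = 0 := by
      linear_combination -h2
    rcases mul_eq_zero.mp this with h' | h'
    · exact absurd h' (mul_ne_zero hc hm)
    · linear_combination h'
  apply hμ
  calc ((μ z : ℂˣ) : ℂ) = ((μ z : ℂˣ) : ℂ) * (ε * conj ((μ z : ℂˣ) : ℂ)) := by rw [h3, mul_one]
    _ = ε * (((μ z : ℂˣ) : ℂ) * conj ((μ z : ℂˣ) : ℂ)) := by ring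
    _ = ε := by rw [hμ1, mul_one]

/-- the sum of the linear characters with a prescribed sign at an involution `z` vanishes off
`{1, z}` -/
theorem sum_hom_parity (z : C) (hz2 : z * z = 1) (ε : ℂ) (c : C)
    (hc1 : c ≠ 1) (hcz : c ≠ z) :
    ∑ μ : C →* ℂˣ, (1 + ε * ((μ z : ℂˣ) : ℂ)) * ((μ c : ℂˣ) : ℂ) = 0 := by
  have h1 : ∀ μ : C →* ℂˣ, (1 + ε * ((μ z : ℂˣ) : ℂ)) * ((μ c : ℂˣ) : ℂ) =
      ((μ c : ℂˣ) : ℂ) + ε * ((μ (z * c) : ℂˣ) : ℂ) := by
    intro μ
    rw [map_mul, Units.val_mul]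
    ring
  rw [Finset.sum_congr rfl (fun μ _ => h1 μ), Finset.sum_add_distrib, ← Finset.mul_sum,
    sum_hom_apply_eq_zero hcomm hc1, sum_hom_apply_eq_zero hcomm (c := z * c) ?_]
  · ring
  · intro h
    apply hcz
    have : z * (z * c) = z := by rw [h, mul_one]
    rwa [← mul_assoc, hz2, one_mul] at this

end

section homs

variable {C : Type*} [Group C] [Fintype C]

/-- row orthogonality for linear characters -/
theorem sum_hom_row (μ ν : C →* ℂˣ) :
    ∑ c : C, ((μ c : ℂˣ) : ℂ) * conj ((ν c : ℂˣ) : ℂ) =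
      if μ = ν then (Fintype.card C : ℂ) else 0 := by
  have h1 : ∀ c : C, ((μ c : ℂˣ) : ℂ) * conj ((ν c : ℂˣ) : ℂ) =
      ((Units.coeHom ℂ).comp (μ * ν⁻¹)) c := by
    intro c
    rw [hom_conj]
    simp [map_inv]
  rw [Finset.sum_congr rfl (fun c _ => h1 c)]
  by_cases h : μ = ν
  · have h0 : μ * ν⁻¹ = 1 := by
      rw [h]; ext c; simp
    rw [if_pos h, h0]
    simp
  · rw [if_neg h]
    apply sum_hom_units_eq_zero
    intro h'
    apply h
    ext c
    have := congrArg (fun f : C →* ℂ => f c) h'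
    simp only [MonoidHom.coe_comp, Function.comp_apply, MonoidHom.mul_apply, MonoidHom.inv_apply,
      Units.coeHom_apply, Units.val_mul, MonoidHom.one_apply] at this
    have h2 : μ c * (ν c)⁻¹ = 1 := Units.ext (by simpa using this)
    rw [mul_inv_eq_one] at h2
    rw [h2]

/-- half of the linear characters take a prescribed sign at a non-trivial involution -/
theorem card_hom_parity (hcomm : ∀ a b : C, a * b = b * a) (z : C) (hz1 : z ≠ 1)
    (hz2 : z * z = 1) (ε : ℂ) (hε : ε = 1 ∨ ε = -1) [DecidablePred fun μ : C →* ℂˣ =>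
      ((μ z : ℂˣ) : ℂ) = ε] :
    2 * (Finset.univ.filter (fun μ : C →* ℂˣ => ((μ z : ℂˣ) : ℂ) = ε)).card = Fintype.card C := by
  have h11 : (1 : ℂ) ≠ -1 := by norm_num
  have hμz : ∀ μ : C →* ℂˣ, ((μ z : ℂˣ) : ℂ) = 1 ∨ ((μ z : ℂˣ) : ℂ) = -1 := by
    intro μ
    have h1 : ((μ z : ℂˣ) : ℂ) * ((μ z : ℂˣ) : ℂ) = 1 := by
      rw [← Units.val_mul, ← map_mul, hz2, map_one, Units.val_one]
    have : (((μ z : ℂˣ) : ℂ) - 1) * (((μ z : ℂˣ) : ℂ) + 1) = 0 := by linear_combination h1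
    rcases mul_eq_zero.mp this with h | h
    · left; linear_combination h
    · right; linear_combination h
  have h1 : ∑ μ : C →* ℂˣ, (1 + ε * ((μ z : ℂˣ) : ℂ)) = (Fintype.card C : ℂ) := by
    rw [Finset.sum_add_distrib, ← Finset.mul_sum, sum_hom_apply_eq_zero hcomm hz1, mul_zero,
      add_zero, Finset.sum_const, Finset.card_univ, nsmul_eq_mul, mul_one,
      ← Nat.card_eq_fintype_card, card_hom_units hcomm, Nat.card_eq_fintype_card]
  have h2 : ∀ μ : C →* ℂˣ, (1 + ε * ((μ z : ℂˣ) : ℂ)) =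
      if ((μ z : ℂˣ) : ℂ) = ε then 2 else 0 := by
    intro μ
    rcases hμz μ with h | h <;> rcases hε with h' | h'
    · rw [if_pos (h.trans h'.symm), h, h']; norm_num
    · rw [if_neg (by rw [h, h']; exact h11), h, h']; norm_num
    · rw [if_neg (by rw [h, h']; exact h11.symm), h, h']; norm_num
    · rw [if_pos (h.trans h'.symm), h, h']; norm_num
  rw [Finset.sum_congr rfl (fun μ _ => h2 μ), Finset.sum_ite, Finset.sum_const_zero, add_zero,
    Finset.sum_const, nsmul_eq_mul] at h1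
  have h3 : ((2 * (Finset.univ.filter (fun μ : C →* ℂˣ => ((μ z : ℂˣ) : ℂ) = ε)).card : ℕ) : ℂ) =
      (Fintype.card C : ℂ) := by
    rw [← h1]; push_cast; ring
  exact_mod_cast h3

end homs

end Cfsg.Agent.Lib.Helper39
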