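import Mathlib
import Cfsg.Agent.Lib.Helper39.SL2Families
import Cfsg.Agent.Lib.Helper39.TorusRestrict
import Cfsg.Agent.Lib.Helper39.BlockArith
import Cfsg.Agent.Lib.Helper41.SL2Trace
import Cfsg.Agent.Lib.Helper39.SL2Trichotomy

set_option autoImplicit false
set_option linter.style.haveILetI false
set_option linter.unusedSectionVars false

/-!
# Values of the cuspidal characters of `SL₂(q)`, `q` odd, on the non-split torus (helper39)
-/

namespace Cfsg.Agent.Lib.Helper39

open Cfsg Matrix Cfsg.Agent.Lib.Helper41 Cfsg.Agent.Lib.Helper3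
open scoped ComplexConjugate

/-! ### a counting lemma -/

/-- integers `d` on a finite set with `∑ d = k` and `∑ d² ≤ k` are `0` or `1`, exactly `k` of them
being `1` -/
theorem defect_lemma {ι : Type*} [DecidableEq ι] (Θ : Finset ι) (d : ι → ℤ) (k : ℕ)
    (h1 : ∑ μ ∈ Θ, d μ = k) (h2 : ∑ μ ∈ Θ, d μ ^ 2 ≤ k) :
    (∀ μ ∈ Θ, d μ = 0 ∨ d μ = 1) ∧ (Θ.filter (fun μ => d μ = 1)).card = k := by
  have hnn : ∀ μ ∈ Θ, 0 ≤ d μ ^ 2 - d μ := by
    intro μ _
    have : d μ ^ 2 - d μ = d μ * (d μ - 1) := by ring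
    rw [this]
    rcases le_or_gt (d μ) 0 with h | h
    · exact mul_nonneg_of_nonpos_of_nonpos h (by omega)
    · exact mul_nonneg (by omega) (by omega)
  have hsum : ∑ μ ∈ Θ, (d μ ^ 2 - d μ) ≤ 0 := by
    rw [Finset.sum_sub_distrib, h1]
    linarith
  have hz := (Finset.sum_eq_zero_iff_of_nonneg hnn).mp
    (le_antisymm hsum (Finset.sum_nonneg hnn))
  have h01 : ∀ μ ∈ Θ, d μ = 0 ∨ d μ = 1 := by
    intro μ hμ
    have := hz μ hμ
    have h' : d μ * (d μ - 1) = 0 := by linear_combination this
    rcases mul_eq_zero.mp h' with h | h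
    · left; exact h
    · right; linarith
  refine ⟨h01, ?_⟩
  have : ∑ μ ∈ Θ, d μ = ((Θ.filter (fun μ => d μ = 1)).card : ℤ) := by
    rw [Finset.card_filter]
    push_cast
    refine Finset.sum_congr rfl (fun μ hμ => ?_)
    rcases h01 μ hμ with h | h <;> simp [h]
  rw [h1] at this
  exact_mod_cast this.symm

section torus

variable {F : Type*} [Field F] [Fintype F] [DecidableEq F]

theorem nsTorus_comm (t : F) (a b : nsTorus t) : a * b = b * a := by
  apply Subtype.ext
  exact IsQuad.commute ((mem_nsTorus_iff t _).mp a.2) ((mem_nsTorus_iff t _).mp b.2)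

theorem negOneSL_mem_nsTorus (t : F) :
    (negOneSL : Matrix.SpecialLinearGroup (Fin 2) F) ∈ nsTorus t := by
  rw [mem_nsTorus_iff]
  constructor <;> simp [coe_negOneSL]

theorem mem_center_iff_eq (g : Matrix.SpecialLinearGroup (Fin 2) F) :
    g ∈ Subgroup.center (Matrix.SpecialLinearGroup (Fin 2) F) ↔ g = 1 ∨ g = negOneSL := by
  rw [mem_center_iff_pm]
  constructor
  · rintro (h | h)
    · left; apply Subtype.ext; rw [h]; simp
    · right; apply Subtype.ext; rw [h, coe_negOneSL]; simp [Matrix.one_fin_two]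
  · rintro (rfl | rfl)
    · left; simp
    · right; rw [coe_negOneSL]; simp [Matrix.one_fin_two]

open Classical in
theorem mem_famS3_iff (t : F) (g : Matrix.SpecialLinearGroup (Fin 2) F) :
    g ∈ famS t 3 ↔ g ∈ nsTorus t ∧ g ≠ 1 ∧ g ≠ negOneSL := by
  change g ∈ Finset.univ.filter (fun g => g ∈ nsTorus t ∧
      g ∉ Subgroup.center (Matrix.SpecialLinearGroup (Fin 2) F)) ↔ _
  rw [Finset.mem_filter, mem_center_iff_eq]
  simp only [Finset.mem_univ, true_and, not_or]

open Classical in
/-- the sum over the non-central elements of the torus -/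
theorem sum_famS3 (hF : ringChar F ≠ 2) (t : F) (f : Matrix.SpecialLinearGroup (Fin 2) F → ℂ) :
    ∑ c ∈ famS t 3, f c = ∑ c : nsTorus t, f c - f 1 - f negOneSL := by
  have h1 : ∑ c : nsTorus t, f c =
      ∑ g ∈ Finset.univ.filter (fun g : Matrix.SpecialLinearGroup (Fin 2) F => g ∈ nsTorus t),
        f g := by
    rw [Finset.sum_subtype (Finset.univ.filter (fun g : Matrix.SpecialLinearGroup (Fin 2) F =>
      g ∈ nsTorus t)) (p := fun g => g ∈ nsTorus t) (by intro x; simp)]
  have h2 : Finset.univ.filter (fun g : Matrix.SpecialLinearGroup (Fin 2) F => g ∈ nsTorus t) =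
      famS t 3 ∪ {1, negOneSL} := by
    ext g
    rw [Finset.mem_union, mem_famS3_iff, Finset.mem_filter, Finset.mem_insert,
      Finset.mem_singleton]
    constructor
    · rintro ⟨-, hg⟩
      by_cases h1 : g = 1
      · right; left; exact h1
      · by_cases h2 : g = negOneSL
        · right; right; exact h2
        · left; exact ⟨hg, h1, h2⟩
    · rintro (⟨hg, -, -⟩ | rfl | rfl)
      · exact ⟨Finset.mem_univ _, hg⟩
      · exact ⟨Finset.mem_univ _, Subgroup.one_mem _⟩
      · exact ⟨Finset.mem_univ _, negOneSL_mem_nsTorus t⟩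
  have hdisj : Disjoint (famS t 3) ({1, negOneSL} : Finset (Matrix.SpecialLinearGroup (Fin 2) F)) := by
    rw [Finset.disjoint_left]
    intro g hg hg'
    rw [mem_famS3_iff] at hg
    rw [Finset.mem_insert, Finset.mem_singleton] at hg'
    rcases hg' with h | h
    · exact hg.2.1 h
    · exact hg.2.2 h
  rw [h1, h2, Finset.sum_union hdisj, Finset.sum_pair (Ne.symm (negOneSL_ne_one hF))]
  ring

/-- class functions take the same value at an element of the torus and its inverse -/
theorem apply_inv_of_mem_nsTorus (hF : ringChar F ≠ 2) {t : F} (ht : ∀ r : F, r ^ 2 ≠ -1 + t * r)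
    (f : Matrix.SpecialLinearGroup (Fin 2) F → ℂ)
    (hf : Cfsg.IsClassFunction (Matrix.SpecialLinearGroup (Fin 2) F) f)
    (c : Matrix.SpecialLinearGroup (Fin 2) F) (hc : c ∈ nsTorus t) : f c⁻¹ = f c := by
  have h2 := two_ne_zero_of_ringChar hF
  by_cases hcen : c ∈ Subgroup.center (Matrix.SpecialLinearGroup (Fin 2) F)
  · rcases (mem_center_iff_eq c).mp hcen with rfl | rfl
    · rw [inv_one]
    · have : (negOneSL : Matrix.SpecialLinearGroup (Fin 2) F)⁻¹ = negOneSL := by
        rw [inv_eq_iff_mul_eq_one]; exact negOneSL_mul_self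
      rw [this]
  · have hq := (mem_nsTorus_iff t c).mp hc
    have h10 := apply_10_ne_zero_of_isQuad hq hcen
    have hd : (tr2 c) ^ 2 ≠ 4 := by
      have := disc_of_isQuad hq
      unfold disc at this
      intro h4
      rw [h4, sub_self] at this
      have h5 := sq_ne_four_of_nonsplit h2 ht
      rcases mul_eq_zero.mp this.symm with h | h
      · exact h5 (by linear_combination h)
      · exact h10 (pow_eq_zero_iff (two_ne_zero) |>.mp h)
    have hconj : IsConj c⁻¹ c := by
      apply isConj_of_tr2_eq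
      · rw [tr2_inv]; exact hd
      · exact tr2_inv c
    exact Cfsg.Agent.Lib.Helper78.IsClassFunction.eq_of_isConj hf hconj

end torus

end Cfsg.Agent.Lib.Helper39
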