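import Mathlib
import Cfsg.Agent.Lib.Helper39.TorusRestrict
import Cfsg.Agent.Lib.Helper39.SL2TorusChar

set_option autoImplicit false
set_option linter.style.haveILetI false
set_option linter.unusedSectionVars false

/-!
# Decomposing the restriction of an irreducible character to an abelian subgroup containing a
central involution (helper39)

If `z ∈ C` acts on `χ` by the sign `ε`, only the linear characters of `C` with `μ z = ε` occur in
`χ|_C`.  When the degree and the norm of the restriction are almost those of `K` times the sum of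
all these linear characters, the restriction is `K` times that sum minus `k` linear characters
(`torus_defect`).
-/

namespace Cfsg.Agent.Lib.Helper39

open Cfsg Cfsg.Agent.Lib.Helper3
open scoped ComplexConjugate

universe u

theorem one_add_sign_mul (ε x : ℂ) (hε : ε = 1 ∨ ε = -1) (hx : x = 1 ∨ x = -1)
    [Decidable (x = ε)] : 1 + ε * x = if x = ε then 2 else 0 := by
  have h11 : (1 : ℂ) ≠ -1 := by norm_num
  rcases hx with h | h <;> rcases hε with h' | h'
  · rw [if_pos (h.trans h'.symm), h, h']; norm_num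
  · rw [if_neg (by rw [h, h']; exact h11), h, h']; norm_num
  · rw [if_neg (by rw [h, h']; exact h11.symm), h, h']; norm_num
  · rw [if_pos (h.trans h'.symm), h, h']; norm_num

theorem hom_apply_invol {C : Type*} [Group C] (μ : C →* ℂˣ) (z : C) (hz2 : z * z = 1) :
    ((μ z : ℂˣ) : ℂ) = 1 ∨ ((μ z : ℂˣ) : ℂ) = -1 := by
  have h1 : ((μ z : ℂˣ) : ℂ) * ((μ z : ℂˣ) : ℂ) = 1 := by
    rw [← Units.val_mul, ← map_mul, hz2, map_one, Units.val_one]
  have : (((μ z : ℂˣ) : ℂ) - 1) * (((μ z : ℂˣ) : ℂ) + 1) = 0 := by linear_combination h1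
  rcases mul_eq_zero.mp this with h | h
  · left; linear_combination h
  · right; linear_combination h

section abstract

variable {G : Type u} [Group G] [Finite G] (C : Subgroup G) [Fintype C]

open Classical in
/-- the linear characters of `C` with the sign `ε` at `z` -/
noncomputable def signHoms (z : C) (ε : ℂ) : Finset (C →* ℂˣ) :=
  Finset.univ.filter (fun μ : C →* ℂˣ => ((μ z : ℂˣ) : ℂ) = ε)

theorem mem_signHoms (z : C) (ε : ℂ) (μ : C →* ℂˣ) :
    μ ∈ signHoms C z ε ↔ ((μ z : ℂˣ) : ℂ) = ε := by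
  classical
  unfold signHoms
  rw [Finset.mem_filter]
  simp

variable (hcomm : ∀ a b : C, a * b = b * a) (z : C) (hz1 : z ≠ 1) (hz2 : z * z = 1)
  (χ : IrrCharacter G) (ε : ℂ) (hε : ε = 1 ∨ ε = -1)
  (hz : ∀ g : G, (χ : G → ℂ) ((z : G) * g) = ε * (χ : G → ℂ) g)

include hcomm hz in
theorem res_eq_sum_signHoms (c : C) :
    (χ : G → ℂ) c = ∑ μ ∈ signHoms C z ε, (resMult C χ μ : ℂ) * ((μ c : ℂˣ) : ℂ) := by
  classical
  rw [res_eq_sum_resMult C hcomm χ c, signHoms, Finset.sum_filter]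
  refine Finset.sum_congr rfl (fun μ _ => ?_)
  split_ifs with h
  · rfl
  · rw [resMult_eq_zero_of_central C χ z ε hz μ h]; simp

include hcomm hz in
theorem parseval_signHoms :
    ∑ c : C, (χ : G → ℂ) c * conj ((χ : G → ℂ) c) =
      (Nat.card C : ℂ) * ∑ μ ∈ signHoms C z ε, (resMult C χ μ : ℂ) ^ 2 := by
  classical
  rw [sum_res_mul_conj C hcomm χ, signHoms, Finset.sum_filter]
  congr 1
  refine Finset.sum_congr rfl (fun μ _ => ?_)
  split_ifs with h
  · rfl
  · rw [resMult_eq_zero_of_central C χ z ε hz μ h]; simp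

include hcomm hz2 hε in
theorem sum_signHoms_apply (c : C) (hc1 : c ≠ 1) (hcz : c ≠ z) :
    ∑ μ ∈ signHoms C z ε, ((μ c : ℂˣ) : ℂ) = 0 := by
  classical
  have h := sum_hom_parity C hcomm z hz2 ε c hc1 hcz
  have h2 : ∀ μ : C →* ℂˣ, (1 + ε * ((μ z : ℂˣ) : ℂ)) * ((μ c : ℂˣ) : ℂ) =
      if ((μ z : ℂˣ) : ℂ) = ε then 2 * ((μ c : ℂˣ) : ℂ) else 0 := by
    intro μ
    rw [one_add_sign_mul ε _ hε (hom_apply_invol μ z hz2)]
    split_ifs <;> simp
  rw [Finset.sum_congr rfl (fun μ _ => h2 μ), ← Finset.sum_filter, ← Finset.mul_sum] at h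
  have h3 : (2 : ℂ) ≠ 0 := two_ne_zero
  exact (mul_eq_zero.mp h).resolve_left h3

include hcomm hz1 hz2 hε in
theorem card_signHoms : 2 * (signHoms C z ε).card = Fintype.card C := by
  classical
  exact card_hom_parity hcomm z hz1 hz2 ε hε

include hcomm hz1 hz2 hε hz in
/-- the restriction of `χ` is `K` times the sum of the linear characters with sign `ε`, minus
`k` of them -/
theorem torus_defect (n K k : ℕ) (hn : Fintype.card C = 2 * n)
    (hdeg : (χ : G → ℂ) 1 = (K : ℂ) * n - k)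
    (hnorm : ∑ c : C, (χ : G → ℂ) c * conj ((χ : G → ℂ) c) =
      2 * (n : ℂ) * ((K : ℂ) ^ 2 * n - (2 * K - 1) * k)) :
    ∃ T : Finset (C →* ℂˣ), T ⊆ signHoms C z ε ∧ T.card = k ∧
      (∀ μ ∈ T, (resMult C χ μ : ℤ) = K - 1) ∧
      (∀ μ ∈ signHoms C z ε, μ ∉ T → resMult C χ μ = K) ∧
      ∀ c : C, c ≠ 1 → c ≠ z → (χ : G → ℂ) c = - ∑ μ ∈ T, ((μ c : ℂˣ) : ℂ) := by
  classical
  have hn0 : n ≠ 0 := by
    intro h
    rw [h, mul_zero] at hn
    exact Fintype.card_ne_zero hn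
  have hΘ : (signHoms C z ε).card = n := by
    have := card_signHoms C hcomm z hz1 hz2 ε hε
    omega
  -- the sum of the multiplicities
  have h1 : ∑ μ ∈ signHoms C z ε, (resMult C χ μ : ℂ) = (K : ℂ) * n - k := by
    have := res_eq_sum_signHoms C hcomm z χ ε hz 1
    simp only [OneMemClass.coe_one, map_one, Units.val_one, mul_one] at this
    rw [← this, hdeg]
  have h2 : ∑ μ ∈ signHoms C z ε, (resMult C χ μ : ℂ) ^ 2 =
      (K : ℂ) ^ 2 * n - (2 * K - 1) * k := by
    have := parseval_signHoms C hcomm z χ ε hz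
    rw [hnorm, Nat.card_eq_fintype_card, hn] at this
    have h2n : ((2 * n : ℕ) : ℂ) ≠ 0 := by
      exact_mod_cast (by omega : 2 * n ≠ 0)
    apply mul_left_cancel₀ h2n
    rw [← this]
    push_cast
    ring
  have h1z : ∑ μ ∈ signHoms C z ε, (resMult C χ μ : ℤ) = (K : ℤ) * n - k := by
    have : ((∑ μ ∈ signHoms C z ε, (resMult C χ μ : ℤ) : ℤ) : ℂ) = (((K : ℤ) * n - k : ℤ) : ℂ) := by
      push_cast
      exact h1
    exact_mod_cast this
  have h2z : ∑ μ ∈ signHoms C z ε, (resMult C χ μ : ℤ) ^ 2 =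
      (K : ℤ) ^ 2 * n - (2 * K - 1) * k := by
    have : ((∑ μ ∈ signHoms C z ε, (resMult C χ μ : ℤ) ^ 2 : ℤ) : ℂ) =
        (((K : ℤ) ^ 2 * n - (2 * K - 1) * k : ℤ) : ℂ) := by
      push_cast
      exact h2
    exact_mod_cast this
  set d : (C →* ℂˣ) → ℤ := fun μ => (K : ℤ) - resMult C χ μ with hd
  have hd1 : ∑ μ ∈ signHoms C z ε, d μ = k := by
    simp only [hd, Finset.sum_sub_distrib, Finset.sum_const, hΘ, h1z, nsmul_eq_mul]
    ring
  have hd2 : ∑ μ ∈ signHoms C z ε, d μ ^ 2 ≤ k := by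
    have : ∀ μ : C →* ℂˣ, d μ ^ 2 = (K : ℤ) ^ 2 - 2 * K * (resMult C χ μ : ℤ) +
        (resMult C χ μ : ℤ) ^ 2 := by
      intro μ; simp only [hd]; ring
    simp only [this, Finset.sum_add_distrib, Finset.sum_sub_distrib, Finset.sum_const, hΘ,
      ← Finset.mul_sum, h1z, h2z, nsmul_eq_mul]
    apply le_of_eq
    ring
  obtain ⟨h01, hcard⟩ := defect_lemma (signHoms C z ε) d k hd1 hd2
  refine ⟨(signHoms C z ε).filter (fun μ => d μ = 1), Finset.filter_subset _ _, hcard, ?_, ?_, ?_⟩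
  · intro μ hμ
    have := (Finset.mem_filter.mp hμ).2
    simp only [hd] at this
    omega
  · intro μ hμ hμT
    have h0 : d μ = 0 := by
      rcases h01 μ hμ with h | h
      · exact h
      · exact absurd (Finset.mem_filter.mpr ⟨hμ, h⟩) hμT
    simp only [hd] at h0
    omega
  · intro c hc1 hcz
    rw [res_eq_sum_signHoms C hcomm z χ ε hz c]
    have hm : ∀ μ : C →* ℂˣ, (resMult C χ μ : ℂ) = (K : ℂ) - ((d μ : ℤ) : ℂ) := by
      intro μ
      simp only [hd]
      push_cast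
      ring
    have h3 : ∀ μ ∈ signHoms C z ε, (resMult C χ μ : ℂ) * ((μ c : ℂˣ) : ℂ) =
        (K : ℂ) * ((μ c : ℂˣ) : ℂ) - (if d μ = 1 then ((μ c : ℂˣ) : ℂ) else 0) := by
      intro μ hμ
      rw [hm μ]
      rcases h01 μ hμ with h | h
      · rw [h, if_neg (by norm_num)]; push_cast; ring
      · rw [h, if_pos rfl]; push_cast; ring
    rw [Finset.sum_congr rfl h3, Finset.sum_sub_distrib, ← Finset.mul_sum,
      sum_signHoms_apply C hcomm z hz2 ε hε c hc1 hcz, mul_zero, zero_sub, Finset.sum_filter]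

end abstract

section real

variable {C : Type*} [Group C] [Fintype C]

/-- two distinct linear characters whose sum is real are inverse to each other or both of order
at most two -/
theorem hom_pair_real (a b : C →* ℂˣ) (hab : a ≠ b)
    (h : ∀ c : C, ((a c : ℂˣ) : ℂ) + ((b c : ℂˣ) : ℂ) =
      ((a c⁻¹ : ℂˣ) : ℂ) + ((b c⁻¹ : ℂˣ) : ℂ)) :
    b = a⁻¹ ∨ (a⁻¹ = a ∧ b⁻¹ = b) := by
  have hcard : (Fintype.card C : ℂ) ≠ 0 := by
    exact_mod_cast Fintype.card_ne_zero
  have key : ∀ x : C →* ℂˣ, (if a = x then (1 : ℂ) else 0) + (if b = x then 1 else 0) =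
      (if a⁻¹ = x then 1 else 0) + (if b⁻¹ = x then 1 else 0) := by
    intro x
    have e1 : ∑ c : C, (((a c : ℂˣ) : ℂ) + ((b c : ℂˣ) : ℂ)) * conj ((x c : ℂˣ) : ℂ) =
        (Fintype.card C : ℂ) * ((if a = x then (1 : ℂ) else 0) + (if b = x then 1 else 0)) := by
      simp only [add_mul, Finset.sum_add_distrib, sum_hom_row]
      split_ifs <;> ring
    have e2 : ∑ c : C, (((a c⁻¹ : ℂˣ) : ℂ) + ((b c⁻¹ : ℂˣ) : ℂ)) * conj ((x c : ℂˣ) : ℂ) =
        (Fintype.card C : ℂ) *
          ((if a⁻¹ = x then (1 : ℂ) else 0) + (if b⁻¹ = x then 1 else 0)) := by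
      have h1 : ∀ c : C, (((a c⁻¹ : ℂˣ) : ℂ) + ((b c⁻¹ : ℂˣ) : ℂ)) * conj ((x c : ℂˣ) : ℂ) =
          (((a⁻¹ c : ℂˣ) : ℂ)) * conj ((x c : ℂˣ) : ℂ) +
            (((b⁻¹ c : ℂˣ) : ℂ)) * conj ((x c : ℂˣ) : ℂ) := by
        intro c
        rw [MonoidHom.inv_apply, MonoidHom.inv_apply, map_inv, map_inv]
        ring
      simp only [h1, Finset.sum_add_distrib, sum_hom_row]
      split_ifs <;> ring
    have e3 : ∑ c : C, (((a c : ℂˣ) : ℂ) + ((b c : ℂˣ) : ℂ)) * conj ((x c : ℂˣ) : ℂ) =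
        ∑ c : C, (((a c⁻¹ : ℂˣ) : ℂ) + ((b c⁻¹ : ℂˣ) : ℂ)) * conj ((x c : ℂˣ) : ℂ) :=
      Finset.sum_congr rfl (fun c _ => by rw [h c])
    rw [e1, e2] at e3
    exact mul_left_cancel₀ hcard e3
  have ka := key a
  have kb := key b
  rw [if_pos rfl, if_neg (Ne.symm hab)] at ka
  rw [if_pos rfl, if_neg hab] at kb
  by_cases h1 : b⁻¹ = a
  · left
    rw [← h1]
    ext c
    simp
  · by_cases h2 : a⁻¹ = b
    · left; exact h2.symm
    · right
      rw [if_neg h1] at ka
      rw [if_neg h2] at kb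
      constructor
      · by_contra h3
        rw [if_neg h3] at ka
        norm_num at ka
      · by_contra h3
        rw [if_neg h3] at kb
        norm_num at kb

end real

end Cfsg.Agent.Lib.Helper39
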