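import Mathlib
import Cfsg.Agent.Lib.Helper39.TorusDecomp
import Cfsg.Agent.Lib.Helper5.SL2Sylow

set_option autoImplicit false
set_option linter.style.haveILetI false
set_option linter.unusedSectionVars false

/-!
# Sums of an irreducible character of `SL₂(q)`, `q` odd, over the non-split torus (helper39)

The class equation `sl2_sum_classes` turns the two orthogonality relations `⟨χ, χ⟩ = 1` and
`⟨χ, 1⟩ = 0` into formulas for `∑_{c ∈ T} |χ c|²` and `∑_{c ∈ T} χ c` over the non-split torus `T`,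
in terms of the values at the unipotent elements, for the characters vanishing at the regular
diagonal elements.
-/

namespace Cfsg.Agent.Lib.Helper39

open Cfsg Matrix Cfsg.Agent.Lib.Helper41 Cfsg.Agent.Lib.Helper3
open scoped ComplexConjugate

section

variable {F : Type*} [Field F] [Fintype F] [DecidableEq F]

theorem sign_mul_conj {ε : ℂ} (hε : ε = 1 ∨ ε = -1) : ε * conj ε = 1 := by
  rcases hε with h | h <;> rw [h] <;> simp

open Classical in
/-- the sum over the non-central elements of the torus, for any `Fintype` instance -/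
theorem sum_famS3' (hF : ringChar F ≠ 2) (t : F) [Fintype (nsTorus t)]
    (f : Matrix.SpecialLinearGroup (Fin 2) F → ℂ) :
    ∑ c ∈ famS t 3, f c = ∑ c : nsTorus t, f c - f 1 - f negOneSL := by
  rw [sum_famS3 hF t f]
  congr! 3
  ext x
  simp

open Classical in
theorem torus_sums_general (hF : ringChar F ≠ 2) {t : F} (ht : ∀ r : F, r ^ 2 ≠ -1 + t * r)
    [Fintype (nsTorus t)]
    (χ : IrrCharacter (Matrix.SpecialLinearGroup (Fin 2) F)) (ε : ℂ) (hε : ε = 1 ∨ ε = -1)
    (hz : ∀ g : Matrix.SpecialLinearGroup (Fin 2) F,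
      (χ : Matrix.SpecialLinearGroup (Fin 2) F → ℂ) (negOneSL * g) =
        ε * (χ : Matrix.SpecialLinearGroup (Fin 2) F → ℂ) g)
    (D : ℕ) (hdeg : (χ : Matrix.SpecialLinearGroup (Fin 2) F → ℂ) 1 = D)
    (hne : ∃ g, (χ : Matrix.SpecialLinearGroup (Fin 2) F → ℂ) g ≠ 1)
    (hD : ∀ u : Fˣ, (u : F) ^ 2 ≠ 1 →
      (χ : Matrix.SpecialLinearGroup (Fin 2) F → ℂ) (diagHom u) = 0) :
    ((Fintype.card F : ℂ) * ((Fintype.card F : ℂ) - 1) / 2) *
      (∑ c : nsTorus t, (χ : Matrix.SpecialLinearGroup (Fin 2) F → ℂ) c *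
        conj ((χ : Matrix.SpecialLinearGroup (Fin 2) F → ℂ) c) - 2 * (D : ℂ) ^ 2) =
      (Fintype.card F : ℂ) * ((Fintype.card F : ℂ) ^ 2 - 1) - 2 * (D : ℂ) ^ 2 -
        2 * ((Fintype.card F : ℂ) + 1) * ∑ y ∈ Finset.univ.erase (0 : F),
          (χ : Matrix.SpecialLinearGroup (Fin 2) F → ℂ) (upperU y) *
            conj ((χ : Matrix.SpecialLinearGroup (Fin 2) F → ℂ) (upperU y)) ∧
    ((Fintype.card F : ℂ) * ((Fintype.card F : ℂ) - 1) / 2) *
      (∑ c : nsTorus t, (χ : Matrix.SpecialLinearGroup (Fin 2) F → ℂ) c - (1 + ε) * (D : ℂ)) =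
      -((1 + ε) * ((D : ℂ) + ((Fintype.card F : ℂ) + 1) * ∑ y ∈ Finset.univ.erase (0 : F),
          (χ : Matrix.SpecialLinearGroup (Fin 2) F → ℂ) (upperU y))) := by
  have hcf := Cfsg.Agent.Lib.Helper78.isClassFunction_irr χ
  have hχz : (χ : Matrix.SpecialLinearGroup (Fin 2) F → ℂ) negOneSL = ε * (D : ℂ) := by
    have := hz 1
    rwa [mul_one, hdeg] at this
  have hεε := sign_mul_conj hε
  constructor
  · -- the norm
    set f : Matrix.SpecialLinearGroup (Fin 2) F → ℂ := fun g =>
      (χ : Matrix.SpecialLinearGroup (Fin 2) F → ℂ) g *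
        conj ((χ : Matrix.SpecialLinearGroup (Fin 2) F → ℂ) g) with hf
    have hfc : Cfsg.IsClassFunction (Matrix.SpecialLinearGroup (Fin 2) F) f := by
      intro g h
      simp only [hf]
      rw [hcf g h]
    have hfz : ∀ g, f (negOneSL * g) = f g := by
      intro g
      simp only [hf]
      rw [hz g, map_mul]
      linear_combination ((χ : Matrix.SpecialLinearGroup (Fin 2) F → ℂ) g *
        conj ((χ : Matrix.SpecialLinearGroup (Fin 2) F → ℂ) g)) * hεε
    have hsum : ∑ g : Matrix.SpecialLinearGroup (Fin 2) F, f g =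
        (Fintype.card F : ℂ) * ((Fintype.card F : ℂ) ^ 2 - 1) := by
      have h1 := Cfsg.Agent.Lib.Helper78.classInner_irr_self χ.2
      unfold Cfsg.classInner at h1
      have hc : (Nat.card (Matrix.SpecialLinearGroup (Fin 2) F) : ℂ) ≠ 0 := by
        exact_mod_cast Nat.card_pos.ne'
      have h2 : ∑ g : Matrix.SpecialLinearGroup (Fin 2) F, f g =
          (Nat.card (Matrix.SpecialLinearGroup (Fin 2) F) : ℂ) := by
        have := congrArg (fun x => (Nat.card (Matrix.SpecialLinearGroup (Fin 2) F) : ℂ) * x) h1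
        simp only [mul_one] at this
        rw [← this, ← mul_assoc, mul_inv_cancel₀ hc, one_mul]
      rw [h2, Cfsg.Agent.Lib.Helper5.card_SL2]
      have hq1 : 1 ≤ Fintype.card F ^ 2 := Nat.one_le_pow _ _ Fintype.card_pos
      push_cast [Nat.cast_sub hq1]
      ring
    have hcls := sl2_sum_classes hF ht f hfc
    rw [hsum, sum_famS3' hF t f] at hcls
    have h1 : f 1 = (D : ℂ) ^ 2 := by
      simp only [hf]
      rw [hdeg, Complex.conj_natCast]
      ring
    have hz1 : f negOneSL = (D : ℂ) ^ 2 := by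
      have := hfz 1
      rw [mul_one] at this
      rw [this, h1]
    have hdiag : ∑ u ∈ Finset.univ.filter (fun u : Fˣ => (u : F) ^ 2 ≠ 1), f (diagHom u) = 0 := by
      apply Finset.sum_eq_zero
      intro u hu
      simp only [hf]
      rw [hD u (Finset.mem_filter.mp hu).2, zero_mul]
    have hunip : ∑ y ∈ Finset.univ.erase (0 : F), (f (upperU y) + f (negOneSL * upperU y)) =
        2 * ∑ y ∈ Finset.univ.erase (0 : F), f (upperU y) := by
      rw [Finset.mul_sum]
      refine Finset.sum_congr rfl (fun y _ => ?_)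
      rw [hfz]
      ring
    rw [h1, hz1, hdiag, hunip] at hcls
    linear_combination -hcls
  · -- the sum
    have hne1 : (χ : Matrix.SpecialLinearGroup (Fin 2) F → ℂ) ≠ fun _ => (1 : ℂ) := by
      obtain ⟨g, hg⟩ := hne
      intro h
      exact hg (congrFun h g)
    have hsum : ∑ g : Matrix.SpecialLinearGroup (Fin 2) F,
        (χ : Matrix.SpecialLinearGroup (Fin 2) F → ℂ) g = 0 := by
      have h1 := Cfsg.Agent.Lib.Helper78.classInner_irr_ne χ.2
        (Cfsg.Agent.Lib.Helper80.isIrrCharacter_one) hne1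
      unfold Cfsg.classInner at h1
      have hc : (Nat.card (Matrix.SpecialLinearGroup (Fin 2) F) : ℂ)⁻¹ ≠ 0 := by
        apply inv_ne_zero
        exact_mod_cast Nat.card_pos.ne'
      have h2 := (mul_eq_zero.mp h1).resolve_left hc
      simpa using h2
    have hcls := sl2_sum_classes hF ht (χ : Matrix.SpecialLinearGroup (Fin 2) F → ℂ) hcf
    rw [hsum, sum_famS3' hF t] at hcls
    have hdiag : ∑ u ∈ Finset.univ.filter (fun u : Fˣ => (u : F) ^ 2 ≠ 1),
        (χ : Matrix.SpecialLinearGroup (Fin 2) F → ℂ) (diagHom u) = 0 := by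
      apply Finset.sum_eq_zero
      intro u hu
      exact hD u (Finset.mem_filter.mp hu).2
    have hunip : ∑ y ∈ Finset.univ.erase (0 : F),
        ((χ : Matrix.SpecialLinearGroup (Fin 2) F → ℂ) (upperU y) +
          (χ : Matrix.SpecialLinearGroup (Fin 2) F → ℂ) (negOneSL * upperU y)) =
        (1 + ε) * ∑ y ∈ Finset.univ.erase (0 : F),
          (χ : Matrix.SpecialLinearGroup (Fin 2) F → ℂ) (upperU y) := by
      rw [Finset.mul_sum]
      refine Finset.sum_congr rfl (fun y _ => ?_)
      rw [hz]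
      ring
    rw [hdeg, hχz, hdiag, hunip] at hcls
    linear_combination -hcls

end

end Cfsg.Agent.Lib.Helper39
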