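import Mathlib
import Cfsg.Agent.Lib.Helper39.SL2TorusSums
import Cfsg.Agent.Lib.Helper39.SL2OddCount
import Cfsg.Agent.Lib.Helper39.SL2Ell

set_option autoImplicit false
set_option linter.style.haveILetI false
set_option linter.unusedSectionVars false

/-!
# Values of the cuspidal characters of `SL₂(q)`, `q` odd, on the non-split torus (helper39)
-/

namespace Cfsg.Agent.Lib.Helper39

open Cfsg Matrix Cfsg.Agent.Lib.Helper41 Cfsg.Agent.Lib.Helper3
open scoped ComplexConjugate

theorem unit_inv_eq_self (u : ℂˣ) (h : u⁻¹ = u) : u = 1 ∨ u = -1 := by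
  have h1 : u * u = 1 := by
    nth_rewrite 1 [← h]
    exact inv_mul_cancel u
  have h2 : ((u : ℂˣ) : ℂ) * ((u : ℂˣ) : ℂ) = 1 := by
    rw [← Units.val_mul, h1, Units.val_one]
  have : (((u : ℂˣ) : ℂ) - 1) * (((u : ℂˣ) : ℂ) + 1) = 0 := by linear_combination h2
  rcases mul_eq_zero.mp this with h | h
  · left; apply Units.ext; rw [Units.val_one]; linear_combination h
  · right; apply Units.ext; rw [Units.val_neg, Units.val_one]; linear_combination h

theorem hom_eq_of_generator {C : Type*} [Group C] (a b : C →* ℂˣ) (c₀ : C)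
    (hc₀ : ∀ x : C, x ∈ Subgroup.zpowers c₀) (h : a c₀ = b c₀) : a = b := by
  ext x
  obtain ⟨k, rfl⟩ := Subgroup.mem_zpowers_iff.mp (hc₀ x)
  rw [map_zpow, map_zpow, h]

theorem ringChar_ne_two_of_odd {F : Type*} [Field F] [Fintype F] (hodd : Odd (Fintype.card F)) :
    ringChar F ≠ 2 := by
  intro h2
  have := FiniteField.even_card_iff_char_two.mp h2
  obtain ⟨k, hk⟩ := hodd
  omega

section

variable {F : Type*} [Field F] [Fintype F] [DecidableEq F]

open Classical in
/-- the values on the non-split torus of an irreducible character of degree `q - 1` which is `-1`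
at the non-trivial unipotent elements and vanishes at the regular diagonal elements -/
theorem cusp_values_nsTorus (hodd : Odd (Fintype.card F)) {t : F}
    (ht : ∀ r : F, r ^ 2 ≠ -1 + t * r)
    (χ : IrrCharacter (Matrix.SpecialLinearGroup (Fin 2) F))
    (hdeg : (χ : Matrix.SpecialLinearGroup (Fin 2) F → ℂ) 1 = (Fintype.card F : ℂ) - 1)
    (hU : ∀ y : F, y ≠ 0 → (χ : Matrix.SpecialLinearGroup (Fin 2) F → ℂ) (upperU y) = -1)
    (hD : ∀ u : Fˣ, (u : F) ^ 2 ≠ 1 →
      (χ : Matrix.SpecialLinearGroup (Fin 2) F → ℂ) (diagHom u) = 0) :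
    ∃ θ : nsTorus t →* ℂˣ, (∃ c, θ c ^ 2 ≠ 1) ∧
      (∀ c : nsTorus t, (c : Matrix.SpecialLinearGroup (Fin 2) F) ∉
          Subgroup.center (Matrix.SpecialLinearGroup (Fin 2) F) →
        (χ : Matrix.SpecialLinearGroup (Fin 2) F → ℂ) c =
          -(((θ c : ℂˣ) : ℂ) + (((θ c)⁻¹ : ℂˣ) : ℂ))) ∧
      (∀ g : Matrix.SpecialLinearGroup (Fin 2) F,
        (χ : Matrix.SpecialLinearGroup (Fin 2) F → ℂ) (negOneSL * g) =
          ((θ ⟨negOneSL, negOneSL_mem_nsTorus t⟩ : ℂˣ) : ℂ) *
            (χ : Matrix.SpecialLinearGroup (Fin 2) F → ℂ) g) := by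
  haveI : Fintype (nsTorus t) := Fintype.ofFinite _
  have hF : ringChar F ≠ 2 := ringChar_ne_two_of_odd hodd
  have hq2 : 2 ≤ Fintype.card F := Fintype.one_lt_card
  have hq3 : 3 ≤ Fintype.card F := by
    obtain ⟨k, hk⟩ := hodd
    omega
  obtain ⟨n, hn⟩ : ∃ n, Fintype.card F + 1 = 2 * n := by
    obtain ⟨k, hk⟩ := hodd
    exact ⟨k + 1, by omega⟩
  have hcf := Cfsg.Agent.Lib.Helper78.isClassFunction_irr χ
  obtain ⟨ε, hε, hz⟩ := irr_central_sign χ negOneSL negOneSL_mem_center negOneSL_mul_self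
  obtain ⟨z, hzdef⟩ : ∃ z : nsTorus t, (z : Matrix.SpecialLinearGroup (Fin 2) F) = negOneSL :=
    ⟨⟨negOneSL, negOneSL_mem_nsTorus t⟩, rfl⟩
  have hz' : ∀ g : Matrix.SpecialLinearGroup (Fin 2) F,
      (χ : Matrix.SpecialLinearGroup (Fin 2) F → ℂ)
        ((z : Matrix.SpecialLinearGroup (Fin 2) F) * g) =
        ε * (χ : Matrix.SpecialLinearGroup (Fin 2) F → ℂ) g := by
    rw [hzdef]; exact hz
  have hz1 : z ≠ 1 := by
    intro h
    apply negOneSL_ne_one hF
    rw [← hzdef, h]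
    rfl
  have hz2 : z * z = 1 := by
    apply Subtype.ext
    rw [Subgroup.coe_mul, hzdef, negOneSL_mul_self]
    rfl
  have hzinv : z⁻¹ = z := inv_eq_of_mul_eq_one_left hz2
  have hcardC : Fintype.card (nsTorus t) = 2 * n := by
    rw [← Nat.card_eq_fintype_card, card_nsTorus ht, hn]
  have hDq : ((Fintype.card F - 1 : ℕ) : ℂ) = (Fintype.card F : ℂ) - 1 := by
    rw [Nat.cast_sub (by omega)]; simp
  obtain ⟨e1, e2⟩ := torus_sums_general hF ht χ ε hε hz (Fintype.card F - 1)
    (by rw [hdeg, hDq]) ⟨upperU 1, by rw [hU 1 one_ne_zero]; norm_num⟩ hD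
  have hS1 : ∑ y ∈ Finset.univ.erase (0 : F),
      (χ : Matrix.SpecialLinearGroup (Fin 2) F → ℂ) (upperU y) =
        -((Fintype.card F : ℂ) - 1) := by
    rw [Finset.sum_congr rfl (fun y hy => hU y (Finset.ne_of_mem_erase hy)), Finset.sum_const,
      Finset.card_erase_of_mem (Finset.mem_univ _), Finset.card_univ, nsmul_eq_mul, hDq]
    ring
  have hS2 : ∑ y ∈ Finset.univ.erase (0 : F),
      (χ : Matrix.SpecialLinearGroup (Fin 2) F → ℂ) (upperU y) *
        conj ((χ : Matrix.SpecialLinearGroup (Fin 2) F → ℂ) (upperU y)) =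
        (Fintype.card F : ℂ) - 1 := by
    have : ∀ y ∈ Finset.univ.erase (0 : F),
        (χ : Matrix.SpecialLinearGroup (Fin 2) F → ℂ) (upperU y) *
          conj ((χ : Matrix.SpecialLinearGroup (Fin 2) F → ℂ) (upperU y)) = 1 := by
      intro y hy
      rw [hU y (Finset.ne_of_mem_erase hy)]
      simp
    rw [Finset.sum_congr rfl this, Finset.sum_const,
      Finset.card_erase_of_mem (Finset.mem_univ _), Finset.card_univ, nsmul_eq_mul, hDq]
    ring
  have hqn : (Fintype.card F : ℂ) = 2 * n - 1 := by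
    have : (Fintype.card F : ℂ) + 1 = 2 * n := by exact_mod_cast hn
    linear_combination this
  have hA : (Fintype.card F : ℂ) * ((Fintype.card F : ℂ) - 1) / 2 ≠ 0 := by
    have h1 : (Fintype.card F : ℂ) ≠ 0 := by exact_mod_cast (by omega : Fintype.card F ≠ 0)
    have h2 : (Fintype.card F : ℂ) - 1 ≠ 0 := by
      have : (Fintype.card F : ℂ) ≠ 1 := by exact_mod_cast (by omega : Fintype.card F ≠ 1)
      exact sub_ne_zero.mpr this
    exact div_ne_zero (mul_ne_zero h1 h2) two_ne_zero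
  rw [hS2, hDq] at e1
  rw [hS1, hDq] at e2
  have hnorm : ∑ c : nsTorus t, (χ : Matrix.SpecialLinearGroup (Fin 2) F → ℂ) c *
      conj ((χ : Matrix.SpecialLinearGroup (Fin 2) F → ℂ) c) =
      2 * (n : ℂ) * ((((2 : ℕ) : ℂ)) ^ 2 * n - (2 * ((2 : ℕ) : ℂ) - 1) * ((2 : ℕ) : ℂ)) := by
    apply mul_left_cancel₀ hA
    rw [hqn] at e1 ⊢
    push_cast
    linear_combination e1
  have hsum : ∑ c : nsTorus t, (χ : Matrix.SpecialLinearGroup (Fin 2) F → ℂ) c =
      (1 + ε) * (2 * n) := by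
    apply mul_left_cancel₀ hA
    rw [hqn] at e2 ⊢
    linear_combination e2
  have hdeg' : (χ : Matrix.SpecialLinearGroup (Fin 2) F → ℂ) 1 =
      ((2 : ℕ) : ℂ) * n - ((2 : ℕ) : ℂ) := by
    rw [hdeg, hqn]; push_cast; ring
  obtain ⟨T, hTsub, hTcard, hTm, -, hTval⟩ := torus_defect (nsTorus t) (nsTorus_comm t) z hz1 hz2
    χ ε hε hz' n 2 2 hcardC hdeg' hnorm
  obtain ⟨a, b, hab, rfl⟩ := Finset.card_eq_two.mp hTcard
  have haz : ((a z : ℂˣ) : ℂ) = ε :=
    (mem_signHoms _ z ε a).mp (hTsub (by simp))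
  have hbz : ((b z : ℂˣ) : ℂ) = ε :=
    (mem_signHoms _ z ε b).mp (hTsub (by simp))
  have hval : ∀ c : nsTorus t, c ≠ 1 → c ≠ z →
      (χ : Matrix.SpecialLinearGroup (Fin 2) F → ℂ) c =
        -(((a c : ℂˣ) : ℂ) + ((b c : ℂˣ) : ℂ)) := by
    intro c h1 h2
    rw [hTval c h1 h2, Finset.sum_pair hab]
  have hreal : ∀ c : nsTorus t, ((a c : ℂˣ) : ℂ) + ((b c : ℂˣ) : ℂ) =
      ((a c⁻¹ : ℂˣ) : ℂ) + ((b c⁻¹ : ℂˣ) : ℂ) := by
    intro c
    by_cases h1 : c = 1
    · rw [h1, inv_one]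
    by_cases h2 : c = z
    · rw [h2, hzinv]
    have h1' : c⁻¹ ≠ 1 := by rwa [Ne, inv_eq_one]
    have h2' : c⁻¹ ≠ z := by
      intro h; apply h2; rw [← inv_inv c, h, hzinv]
    have e := apply_inv_of_mem_nsTorus hF ht _ hcf (c : Matrix.SpecialLinearGroup (Fin 2) F) c.2
    have e1 := hval c h1 h2
    have e2 := hval c⁻¹ h1' h2'
    rw [Subgroup.coe_inv, e, e1] at e2
    linear_combination -e2
  have hnotcen : ∀ c : nsTorus t, (c : Matrix.SpecialLinearGroup (Fin 2) F) ∉
      Subgroup.center (Matrix.SpecialLinearGroup (Fin 2) F) → c ≠ 1 ∧ c ≠ z := by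
    intro c hc
    constructor
    · intro h; apply hc; rw [h]; exact Subgroup.one_mem _
    · intro h; apply hc; rw [h, hzdef]; exact negOneSL_mem_center
  have hzeq : (⟨negOneSL, negOneSL_mem_nsTorus t⟩ : nsTorus t) = z := Subtype.ext hzdef.symm
  rcases hom_pair_real a b hab hreal with hba | ⟨haa, hbb⟩
  · refine ⟨a, ?_, ?_, ?_⟩
    · by_contra hall
      push Not at hall
      apply hab
      rw [hba]
      ext c
      have := hall c
      rw [MonoidHom.inv_apply]
      have h2 : a c * a c = 1 := by rw [← sq]; exact this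
      exact congrArg Units.val (eq_inv_of_mul_eq_one_left h2)
    · intro c hc
      obtain ⟨h1, h2⟩ := hnotcen c hc
      rw [hval c h1 h2, hba, MonoidHom.inv_apply]
    · intro g
      rw [hzeq, haz]
      exact hz g
  · exfalso
    have hcyc := isCyclic_nsTorus ht
    obtain ⟨c₀, hc₀⟩ := hcyc.exists_generator
    have ha0 := unit_inv_eq_self (a c₀) (by rw [← MonoidHom.inv_apply, haa])
    have hb0 := unit_inv_eq_self (b c₀) (by rw [← MonoidHom.inv_apply, hbb])
    have hone : a = 1 ∨ b = 1 := by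
      rcases ha0 with ha0 | ha0
      · left
        exact hom_eq_of_generator a 1 c₀ hc₀ (by rw [ha0]; simp)
      · rcases hb0 with hb0 | hb0
        · right
          exact hom_eq_of_generator b 1 c₀ hc₀ (by rw [hb0]; simp)
        · exact absurd (hom_eq_of_generator a b c₀ hc₀ (by rw [ha0, hb0])) hab
    have hm1 : (resMult (nsTorus t) χ 1 : ℤ) = 2 - 1 := by
      rcases hone with h | h
      · rw [← h]; exact hTm a (by simp)
      · rw [← h]; exact hTm b (by simp)
    have hm1' : resMult (nsTorus t) χ 1 = 1 := by omega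
    have hs := sum_res_mul_conj_hom (nsTorus t) χ 1
    simp only [MonoidHom.one_apply, Units.val_one, map_one, mul_one] at hs
    rw [hsum, hm1', Nat.card_eq_fintype_card, hcardC] at hs
    have hn0 : (n : ℂ) ≠ 0 := by
      have : n ≠ 0 := by omega
      exact_mod_cast this
    have hε0 : ε = 0 := by
      have h2 : (2 : ℂ) * n ≠ 0 := mul_ne_zero two_ne_zero hn0
      apply mul_left_cancel₀ h2
      push_cast at hs
      linear_combination hs
    rcases hε with h | h <;> rw [h] at hε0 <;> norm_num at hε0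

end

end Cfsg.Agent.Lib.Helper39
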