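import Mathlib
import Cfsg.Agent.Lib.Helper39.SL2TorusValues

set_option autoImplicit false
set_option linter.style.haveILetI false
set_option linter.unusedSectionVars false

/-!
# Cyclic subgroups of order `q + 1` of `SL₂(q)` are conjugate to the non-split torus (helper39)
-/

namespace Cfsg.Agent.Lib.Helper39

open Cfsg Matrix Cfsg.Agent.Lib.Helper41 Cfsg.Agent.Lib.Helper3
open scoped ComplexConjugate

section

variable {F : Type*} [Field F] [Fintype F] [DecidableEq F]

/-- the non-central elements of the non-split torus have no eigenvector -/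
theorem no_eigenvector_of_mem_nsTorus {t : F} (ht : ∀ r : F, r ^ 2 ≠ -1 + t * r)
    (c : Matrix.SpecialLinearGroup (Fin 2) F) (hc : c ∈ nsTorus t)
    (hcen : c ∉ Subgroup.center (Matrix.SpecialLinearGroup (Fin 2) F)) :
    ∀ (l : F) (v : Fin 2 → F), v ≠ 0 → (c : Matrix (Fin 2) (Fin 2) F).mulVec v ≠ l • v := by
  intro l v hv h
  have hq := (mem_nsTorus_iff t c).mp hc
  have h10 := apply_10_ne_zero_of_isQuad hq hcen
  obtain ⟨q1, q2⟩ := hq
  have e0 := congrFun h 0
  have e1 := congrFun h 1
  simp only [Matrix.mulVec, dotProduct, Fin.sum_univ_two, Pi.smul_apply, smul_eq_mul] at e0 e1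
  rw [q1] at e0
  rw [q2] at e1
  have hv0 : v 0 ≠ 0 := by
    intro h0
    rw [h0] at e0
    have h1 : v 1 = 0 := by
      have : (c : Matrix (Fin 2) (Fin 2) F) 1 0 * v 1 = 0 := by linear_combination -e0
      exact (mul_eq_zero.mp this).resolve_left h10
    apply hv
    funext i
    fin_cases i
    · exact h0
    · exact h1
  have key : (c : Matrix (Fin 2) (Fin 2) F) 1 0 * (v 0 ^ 2 + t * v 0 * v 1 + v 1 ^ 2) = 0 := by
    linear_combination v 0 * e1 - v 1 * e0
  have key2 := (mul_eq_zero.mp key).resolve_left h10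
  apply ht (-(v 1) / v 0)
  field_simp
  linear_combination key2

open Classical in
/-- a class function is determined by its values on the four rigid families -/
theorem classFun_ext_of_families (hF : ringChar F ≠ 2) {t : F} (ht : ∀ r : F, r ^ 2 ≠ -1 + t * r)
    (f f' : Matrix.SpecialLinearGroup (Fin 2) F → ℂ)
    (hf : Cfsg.IsClassFunction (Matrix.SpecialLinearGroup (Fin 2) F) f)
    (hf' : Cfsg.IsClassFunction (Matrix.SpecialLinearGroup (Fin 2) F) f')
    (h0 : f 1 = f' 1) (h0' : f negOneSL = f' negOneSL)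
    (h1 : ∀ y : F, y ≠ 0 → f (upperU y) = f' (upperU y))
    (h1' : ∀ y : F, y ≠ 0 → f (negOneSL * upperU y) = f' (negOneSL * upperU y))
    (h2 : ∀ u : Fˣ, (u : F) ^ 2 ≠ 1 → f (diagHom u) = f' (diagHom u))
    (h3 : ∀ c : Matrix.SpecialLinearGroup (Fin 2) F, c ∈ nsTorus t →
      c ∉ Subgroup.center (Matrix.SpecialLinearGroup (Fin 2) F) → f c = f' c) : f = f' := by
  funext g
  obtain ⟨i, x, hx⟩ := sl2_exists_conj hF ht g
  have e : f g = f (x⁻¹ * g * x) := by
    have := hf g x⁻¹
    rw [inv_inv] at this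
    exact this.symm
  have e' : f' g = f' (x⁻¹ * g * x) := by
    have := hf' g x⁻¹
    rw [inv_inv] at this
    exact this.symm
  rw [e, e']
  fin_cases i
  · change x⁻¹ * g * x ∈ ({1, negOneSL} : Finset _) at hx
    rcases Finset.mem_insert.mp hx with h | h
    · rw [h, h0]
    · rw [Finset.mem_singleton.mp h, h0']
  · change x⁻¹ * g * x ∈ (Finset.univ.erase (0 : F)).image upperU ∪
      (Finset.univ.erase (0 : F)).image (fun y => negOneSL * upperU y) at hx
    rcases Finset.mem_union.mp hx with h | h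
    · obtain ⟨y, hy, hyx⟩ := Finset.mem_image.mp h
      rw [← hyx, h1 y (Finset.ne_of_mem_erase hy)]
    · obtain ⟨y, hy, hyx⟩ := Finset.mem_image.mp h
      rw [← hyx, h1' y (Finset.ne_of_mem_erase hy)]
  · change x⁻¹ * g * x ∈ (Finset.univ.filter (fun u : Fˣ => (u : F) ^ 2 ≠ 1)).image diagHom at hx
    obtain ⟨u, hu, hux⟩ := Finset.mem_image.mp hx
    rw [← hux, h2 u (Finset.mem_filter.mp hu).2]
  · change x⁻¹ * g * x ∈ Finset.univ.filter (fun g => g ∈ nsTorus t ∧
      g ∉ Subgroup.center (Matrix.SpecialLinearGroup (Fin 2) F)) at hx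
    obtain ⟨hq, hc⟩ := (Finset.mem_filter.mp hx).2
    exact h3 _ hq hc

open Classical in
/-- a cyclic subgroup of order `q + 1` is conjugate to the non-split torus -/
theorem exists_conj_nsTorus_of_cyclic (hodd : Odd (Fintype.card F)) {t : F}
    (ht : ∀ r : F, r ^ 2 ≠ -1 + t * r)
    (C : Subgroup (Matrix.SpecialLinearGroup (Fin 2) F)) (hC : IsCyclic C)
    (hcard : Nat.card C = Fintype.card F + 1) :
    ∃ h : Matrix.SpecialLinearGroup (Fin 2) F,
      ∀ g : Matrix.SpecialLinearGroup (Fin 2) F, g ∈ C ↔ h * g * h⁻¹ ∈ nsTorus t := by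
  have hF : ringChar F ≠ 2 := ringChar_ne_two_of_odd hodd
  have hq3 : 3 ≤ Fintype.card F := by
    have hq2 : 2 ≤ Fintype.card F := Fintype.one_lt_card
    obtain ⟨k, hk⟩ := hodd
    omega
  obtain ⟨c₀, hc₀⟩ := hC.exists_generator
  have hord : orderOf (c₀ : Matrix.SpecialLinearGroup (Fin 2) F) = Fintype.card F + 1 := by
    rw [Subgroup.orderOf_coe, orderOf_eq_card_of_forall_mem_zpowers hc₀, hcard]
  obtain ⟨i, x, hx⟩ := sl2_exists_conj hF ht (c₀ : Matrix.SpecialLinearGroup (Fin 2) F)
  have hpow : ∀ k : ℕ, (x⁻¹ * (c₀ : Matrix.SpecialLinearGroup (Fin 2) F) * x) ^ k = 1 →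
      Fintype.card F + 1 ∣ k := by
    intro k hk
    rw [← hord]
    apply orderOf_dvd_of_pow_eq_one
    have h1 : (x⁻¹ * (c₀ : Matrix.SpecialLinearGroup (Fin 2) F) * x) ^ k =
        x⁻¹ * (c₀ : Matrix.SpecialLinearGroup (Fin 2) F) ^ k * x := by
      have := conj_pow (a := x⁻¹) (b := (c₀ : Matrix.SpecialLinearGroup (Fin 2) F)) (i := k)
      rwa [inv_inv] at this
    rw [h1] at hk
    have := congrArg (fun y => x * y * x⁻¹) hk
    simpa [mul_assoc] using this
  have hzq : (negOneSL : Matrix.SpecialLinearGroup (Fin 2) F) ^ 2 = 1 := by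
    rw [pow_two]; exact negOneSL_mul_self
  have hi : i = 3 := by
    fin_cases i
    · exfalso
      change x⁻¹ * (c₀ : Matrix.SpecialLinearGroup (Fin 2) F) * x ∈ ({1, negOneSL} : Finset _) at hx
      have h2 : (x⁻¹ * (c₀ : Matrix.SpecialLinearGroup (Fin 2) F) * x) ^ 2 = 1 := by
        rcases Finset.mem_insert.mp hx with h | h
        · rw [h, one_pow]
        · rw [Finset.mem_singleton.mp h, hzq]
      have := Nat.le_of_dvd (by norm_num) (hpow 2 h2)
      omega
    · exfalso
      change x⁻¹ * (c₀ : Matrix.SpecialLinearGroup (Fin 2) F) * x ∈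
        (Finset.univ.erase (0 : F)).image upperU ∪
        (Finset.univ.erase (0 : F)).image (fun y => negOneSL * upperU y) at hx
      have hU : ∀ y : F, upperU y ^ (2 * Fintype.card F) = 1 := by
        intro y
        rw [upperU_pow, upperU_eq_one_iff, nsmul_eq_mul]
        push_cast
        rw [Nat.cast_card_eq_zero]
        ring
      have h2 : (x⁻¹ * (c₀ : Matrix.SpecialLinearGroup (Fin 2) F) * x) ^ (2 * Fintype.card F) = 1 := by
        rcases Finset.mem_union.mp hx with h | h
        · obtain ⟨y, -, hyx⟩ := Finset.mem_image.mp h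
          rw [← hyx, hU]
        · obtain ⟨y, -, hyx⟩ := Finset.mem_image.mp h
          have hcomm : Commute (negOneSL : Matrix.SpecialLinearGroup (Fin 2) F) (upperU y) :=
            (Subgroup.mem_center_iff.mp negOneSL_mem_center (upperU y)).symm
          rw [← hyx]
          rw [hcomm.mul_pow, hU, mul_one, pow_mul, hzq, one_pow]
      have hd := hpow _ h2
      have hcop : Nat.Coprime (Fintype.card F + 1) (Fintype.card F) := by
        rw [Nat.coprime_self_add_left]
        exact Nat.coprime_one_left _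
      have := Nat.le_of_dvd (by norm_num) (hcop.dvd_of_dvd_mul_right hd)
      omega
    · exfalso
      change x⁻¹ * (c₀ : Matrix.SpecialLinearGroup (Fin 2) F) * x ∈
        (Finset.univ.filter (fun u : Fˣ => (u : F) ^ 2 ≠ 1)).image diagHom at hx
      obtain ⟨u, -, hux⟩ := Finset.mem_image.mp hx
      have h2 : (x⁻¹ * (c₀ : Matrix.SpecialLinearGroup (Fin 2) F) * x) ^ (Fintype.card F - 1) = 1 := by
        rw [← hux, ← map_pow]
        have : u ^ (Fintype.card F - 1) = 1 := by
          apply Units.ext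
          rw [Units.val_pow_eq_pow_val, Units.val_one]
          exact FiniteField.pow_card_sub_one_eq_one _ u.ne_zero
        rw [this, map_one]
      have := Nat.le_of_dvd (by omega) (hpow _ h2)
      omega
    · rfl
  subst hi
  change x⁻¹ * (c₀ : Matrix.SpecialLinearGroup (Fin 2) F) * x ∈ Finset.univ.filter (fun g =>
    g ∈ nsTorus t ∧ g ∉ Subgroup.center (Matrix.SpecialLinearGroup (Fin 2) F)) at hx
  obtain ⟨hq, -⟩ := (Finset.mem_filter.mp hx).2
  refine ⟨x⁻¹, ?_⟩
  have hfwd : ∀ g : Matrix.SpecialLinearGroup (Fin 2) F, g ∈ C → x⁻¹ * g * x⁻¹⁻¹ ∈ nsTorus t := by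
    intro g hg
    obtain ⟨k, hk⟩ := Subgroup.mem_zpowers_iff.mp (hc₀ ⟨g, hg⟩)
    have hk' : (c₀ : Matrix.SpecialLinearGroup (Fin 2) F) ^ k = g := by
      have := congrArg Subtype.val hk
      simpa using this
    rw [← hk', ← conj_zpow, inv_inv]
    exact Subgroup.zpow_mem _ hq k
  -- compare the cardinalities
  set C' : Subgroup (Matrix.SpecialLinearGroup (Fin 2) F) :=
    C.map (MulAut.conj x⁻¹).toMonoidHom with hC'
  have hle : C' ≤ nsTorus t := by
    rintro y ⟨g, hg, rfl⟩
    exact hfwd g hg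
  have hcardC' : Nat.card C' = Nat.card C :=
    Subgroup.card_map_of_injective (MulAut.conj x⁻¹).injective
  have heq : C' = nsTorus t := by
    apply Subgroup.eq_of_le_of_card_ge hle
    rw [hcardC', hcard, card_nsTorus ht]
  intro g
  constructor
  · exact hfwd g
  · intro hg
    rw [← heq] at hg
    obtain ⟨g', hg', hgg⟩ := hg
    have : g' = g := (MulAut.conj x⁻¹).injective hgg
    rwa [← this]

end

end Cfsg.Agent.Lib.Helper39
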