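import Mathlib
import Cfsg.Agent.Lib.Helper39.SL2TorusConj
import Cfsg.Agent.Lib.Helper39.SL2OddCount
import Cfsg.Agent.S2322

set_option autoImplicit false
set_option linter.style.haveILetI false
set_option linter.unusedSectionVars false

/-!
# The cuspidal characters of degree `q - 1` of `SL₂(q)`, `q` odd, and the characters of the
non-split torus (helper39)
-/

namespace Cfsg.Agent.Lib.Helper39

open Cfsg Matrix Cfsg.Agent.Lib.Helper41 Cfsg.Agent.Lib.Helper3
open scoped ComplexConjugate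

section

variable {F : Type*} [Field F] [Fintype F] [DecidableEq F]

/-- the values of a cuspidal character of degree `q - 1` off the non-split torus -/
def CuspProps (χ : Matrix.SpecialLinearGroup (Fin 2) F → ℂ) : Prop :=
  χ 1 = (Fintype.card F : ℂ) - 1 ∧ (∀ y : F, y ≠ 0 → χ (upperU y) = -1) ∧
  (∀ g : Matrix.SpecialLinearGroup (Fin 2) F, (g : Matrix (Fin 2) (Fin 2) F) 0 1 = 0 →
    (g : Matrix (Fin 2) (Fin 2) F) 1 0 = 0 → (g : Matrix (Fin 2) (Fin 2) F) 0 0 ^ 2 ≠ 1 → χ g = 0)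

/-- the values on the non-split torus attached to the character `θ` of the torus -/
def TorusVals (t : F) (χ : Matrix.SpecialLinearGroup (Fin 2) F → ℂ) (θ : nsTorus t →* ℂˣ) : Prop :=
  (∀ c : nsTorus t, (c : Matrix.SpecialLinearGroup (Fin 2) F) ∉
      Subgroup.center (Matrix.SpecialLinearGroup (Fin 2) F) →
    χ c = -(((θ c : ℂˣ) : ℂ) + (((θ c)⁻¹ : ℂˣ) : ℂ))) ∧
  (∀ g : Matrix.SpecialLinearGroup (Fin 2) F,
    χ (negOneSL * g) = ((θ ⟨negOneSL, negOneSL_mem_nsTorus t⟩ : ℂˣ) : ℂ) * χ g)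

theorem TorusVals.inv {t : F} {χ : Matrix.SpecialLinearGroup (Fin 2) F → ℂ}
    {θ : nsTorus t →* ℂˣ} (h : TorusVals t χ θ) : TorusVals t χ θ⁻¹ := by
  obtain ⟨h1, h2⟩ := h
  refine ⟨?_, ?_⟩
  · intro c hc
    rw [h1 c hc, MonoidHom.inv_apply, inv_inv, add_comm]
  · intro g
    rw [h2 g, MonoidHom.inv_apply]
    congr 2
    have hz2 : (⟨negOneSL, negOneSL_mem_nsTorus t⟩ : nsTorus t) *
        ⟨negOneSL, negOneSL_mem_nsTorus t⟩ = 1 := Subtype.ext negOneSL_mul_self
    have : θ ⟨negOneSL, negOneSL_mem_nsTorus t⟩ * θ ⟨negOneSL, negOneSL_mem_nsTorus t⟩ = 1 := by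
      rw [← map_mul, hz2, map_one]
    exact eq_inv_of_mul_eq_one_left this

theorem CuspProps.diagHom {χ : Matrix.SpecialLinearGroup (Fin 2) F → ℂ} (h : CuspProps χ)
    (u : Fˣ) (hu : (u : F) ^ 2 ≠ 1) : χ (diagHom u) = 0 :=
  h.2.2 (Cfsg.Agent.Lib.Helper41.diagHom u) (by simp [coe_diagHom]) (by simp [coe_diagHom])
    (by simpa [coe_diagHom] using hu)

/-- an irreducible character of degree `q - 1` which is `-1` at the non-trivial unipotent
elements vanishes at the regular diagonal elements -/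
theorem cuspProps_of_unip (χ : IrrCharacter (Matrix.SpecialLinearGroup (Fin 2) F))
    (hdeg : (χ : Matrix.SpecialLinearGroup (Fin 2) F → ℂ) 1 = (Fintype.card F : ℂ) - 1)
    (hU : ∀ y : F, y ≠ 0 → (χ : Matrix.SpecialLinearGroup (Fin 2) F → ℂ) (upperU y) = -1) :
    CuspProps (χ : Matrix.SpecialLinearGroup (Fin 2) F → ℂ) := by
  refine ⟨hdeg, hU, ?_⟩
  obtain ⟨χ, n, ρ, hirr, rfl⟩ := χ
  change ρ.character 1 = _ at hdeg
  change ∀ y : F, y ≠ 0 → ρ.character (upperU y) = -1 at hU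
  have h := sum_char_upperU ρ
  rw [← Finset.add_sum_erase Finset.univ _ (Finset.mem_univ (0 : F)), upperU_zero, hdeg,
    Finset.sum_congr rfl (fun y hy => hU y (Finset.ne_of_mem_erase hy)), Finset.sum_const,
    Finset.card_erase_of_mem (Finset.mem_univ _), Finset.card_univ, nsmul_eq_mul] at h
  have hq1 : 1 ≤ Fintype.card F := Fintype.card_pos
  have h0 : fixUS ρ = 0 := by
    have hq : (Fintype.card F : ℂ) ≠ 0 := by exact_mod_cast (by omega : Fintype.card F ≠ 0)
    have h' : (Fintype.card F : ℂ) * (fixUS ρ : ℂ) = 0 := by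
      rw [← h]
      push_cast [Nat.cast_sub hq1]
      ring
    rcases mul_eq_zero.mp h' with h'' | h''
    · exact absurd h'' hq
    · exact_mod_cast h''
  intro g h01 h10 hne
  exact char_regular_diag_eq_zero_SL ρ h0 g h01 h10 hne

open Classical in
/-- there are `(q - 1)/2` irreducible characters with the properties `CuspProps` -/
theorem exists_cusp_family (hodd : Odd (Fintype.card F)) :
    ∃ X : Finset (IrrCharacter (Matrix.SpecialLinearGroup (Fin 2) F)),
      2 * X.card + 1 = Fintype.card F ∧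
      ∀ χ ∈ X, CuspProps (χ : Matrix.SpecialLinearGroup (Fin 2) F → ℂ) := by
  obtain ⟨N, hN⟩ := hodd
  have hodd : Odd (Fintype.card F) := ⟨N, hN⟩
  have hF : ringChar F ≠ 2 := ringChar_ne_two_of_odd hodd
  obtain ⟨ψ, hψ⟩ := exists_primitive_addChar (F := F)
  obtain ⟨ε, hε'⟩ := FiniteField.exists_nonsquare hF
  have hε : quadraticChar F ε = -1 := quadraticChar_neg_one_iff_not_isSquare.mpr hε'
  obtain ⟨m, a, b, hd, hval, -, -, -, -, -, -, hC11, -, -⟩ := sl2_odd_main N hN hψ ε hε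
  refine ⟨Finset.univ.filter (fun χ => m χ = 0 ∧ a χ = 1 ∧ b χ = 1), ?_, ?_⟩
  · rw [Finset.sum_boole] at hC11
    have : (Finset.univ.filter (fun χ => m χ = 0 ∧ a χ = 1 ∧ b χ = 1)).card = N := by
      exact_mod_cast hC11
    rw [this, hN]
  · intro χ hχ
    obtain ⟨h1, h2, h3⟩ := (Finset.mem_filter.mp hχ).2
    apply cuspProps_of_unip
    · rw [hd χ, h1, h2, h3, hN]
      push_cast
      ring
    · intro y hy
      rw [hval χ y, h1, h2, h3]
      have hn : ∀ c : F, (nOdd 0 1 1 c : ℂ) = if c = 0 then 0 else 1 := by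
        intro c
        unfold nOdd
        split_ifs <;> simp
      have hs := AddChar.sum_mulShift y hψ
      rw [if_neg hy, ← Finset.add_sum_erase Finset.univ _ (Finset.mem_univ (0 : F))] at hs
      simp only [zero_mul, AddChar.map_zero_eq_one, Nat.cast_zero] at hs
      rw [← Finset.add_sum_erase Finset.univ _ (Finset.mem_univ (0 : F)), hn 0, if_pos rfl,
        zero_mul, zero_add]
      rw [Finset.sum_congr rfl (fun c hc => by
        rw [hn c, if_neg (Finset.ne_of_mem_erase hc), one_mul])]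
      linear_combination hs

/-- two irreducible characters with the same values on the four families are equal -/
theorem cusp_unique (hF : ringChar F ≠ 2) {t : F} (ht : ∀ r : F, r ^ 2 ≠ -1 + t * r)
    (χ χ' : IrrCharacter (Matrix.SpecialLinearGroup (Fin 2) F))
    (h : CuspProps (χ : Matrix.SpecialLinearGroup (Fin 2) F → ℂ))
    (h' : CuspProps (χ' : Matrix.SpecialLinearGroup (Fin 2) F → ℂ))
    (θ : nsTorus t →* ℂˣ)
    (hv : TorusVals t (χ : Matrix.SpecialLinearGroup (Fin 2) F → ℂ) θ)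
    (hv' : TorusVals t (χ' : Matrix.SpecialLinearGroup (Fin 2) F → ℂ) θ) : χ = χ' := by
  apply Subtype.ext
  apply classFun_ext_of_families hF ht _ _
    (Cfsg.Agent.Lib.Helper78.isClassFunction_irr χ) (Cfsg.Agent.Lib.Helper78.isClassFunction_irr χ')
  · rw [h.1, h'.1]
  · have e1 := hv.2 1
    have e2 := hv'.2 1
    rw [mul_one] at e1 e2
    rw [e1, e2, h.1, h'.1]
  · intro y hy
    rw [h.2.1 y hy, h'.2.1 y hy]
  · intro y hy
    rw [hv.2, hv'.2, h.2.1 y hy, h'.2.1 y hy]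
  · intro u hu
    rw [h.diagHom u hu, h'.diagHom u hu]
  · intro c hc hcen
    have e1 := hv.1 ⟨c, hc⟩ hcen
    have e2 := hv'.1 ⟨c, hc⟩ hcen
    simp only at e1 e2
    rw [e1, e2]

open Classical in
/-- every character `θ` of the non-split torus with `θ² ≠ 1` belongs to a cuspidal character -/
theorem exists_cusp_of_hom (hodd : Odd (Fintype.card F)) {t : F}
    (ht : ∀ r : F, r ^ 2 ≠ -1 + t * r) (θ : nsTorus t →* ℂˣ) (hθ : ∃ c, θ c ^ 2 ≠ 1) :
    ∃ χ : IrrCharacter (Matrix.SpecialLinearGroup (Fin 2) F),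
      CuspProps (χ : Matrix.SpecialLinearGroup (Fin 2) F → ℂ) ∧
      TorusVals t (χ : Matrix.SpecialLinearGroup (Fin 2) F → ℂ) θ := by
  haveI : Fintype (nsTorus t) := Fintype.ofFinite _
  have hF : ringChar F ≠ 2 := ringChar_ne_two_of_odd hodd
  obtain ⟨X, hXcard, hXprops⟩ := exists_cusp_family hodd
  have hex : ∀ χ : {χ // χ ∈ X}, ∃ θ' : nsTorus t →* ℂˣ, (∃ c, θ' c ^ 2 ≠ 1) ∧
      TorusVals t (χ.1 : Matrix.SpecialLinearGroup (Fin 2) F → ℂ) θ' := by
    intro χ
    have hp := hXprops χ.1 χ.2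
    obtain ⟨θ', a, b, c⟩ := cusp_values_nsTorus hodd ht χ.1 hp.1 hp.2.1 (fun u hu => hp.diagHom u hu)
    exact ⟨θ', a, b, c⟩
  choose Θ hΘ1 hΘ2 using hex
  set Φ : {χ // χ ∈ X} × Bool → (nsTorus t →* ℂˣ) :=
    fun p => if p.2 = true then Θ p.1 else (Θ p.1)⁻¹ with hΦ
  have hΦvals : ∀ p, TorusVals t (p.1.1 : Matrix.SpecialLinearGroup (Fin 2) F → ℂ) (Φ p) := by
    rintro ⟨χ, s⟩
    cases s
    · simp only [hΦ, Bool.false_eq_true, if_false]
      exact (hΘ2 χ).inv
    · simp only [hΦ, if_true]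
      exact hΘ2 χ
  have hne_inv : ∀ χ : {χ // χ ∈ X}, Θ χ ≠ (Θ χ)⁻¹ := by
    intro χ h
    obtain ⟨c, hc⟩ := hΘ1 χ
    apply hc
    have := congrArg (fun f : nsTorus t →* ℂˣ => f c) h
    simp only [MonoidHom.inv_apply] at this
    rw [pow_two]
    nth_rewrite 1 [this]
    exact inv_mul_cancel _
  have hΦsq : ∀ p, ∃ c, Φ p c ^ 2 ≠ 1 := by
    rintro ⟨χ, s⟩
    obtain ⟨c, hc⟩ := hΘ1 χ
    refine ⟨c, ?_⟩
    cases s
    · simp only [hΦ, Bool.false_eq_true, if_false, MonoidHom.inv_apply, inv_pow]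
      intro h
      exact hc (inv_eq_one.mp h)
    · simp only [hΦ, if_true]
      exact hc
  have hinj : Function.Injective Φ := by
    rintro ⟨χ, s⟩ ⟨χ', s'⟩ h
    have hχ : χ = χ' := by
      apply Subtype.ext
      apply cusp_unique hF ht χ.1 χ'.1 (hXprops χ.1 χ.2) (hXprops χ'.1 χ'.2) (Φ (χ, s))
        (hΦvals (χ, s))
      rw [h]
      exact hΦvals (χ', s')
    subst hχ
    congr 1
    cases s <;> cases s'
    · rfl
    · simp only [hΦ, Bool.false_eq_true, if_false, if_true] at h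
      exact absurd h.symm (hne_inv χ)
    · simp only [hΦ, Bool.false_eq_true, if_false, if_true] at h
      exact absurd h (hne_inv χ)
    · rfl
  -- the count
  set S : Finset (nsTorus t →* ℂˣ) := Finset.univ.image Φ with hS
  have hScard : S.card = 2 * X.card := by
    rw [hS, Finset.card_image_of_injective _ hinj, Finset.card_univ, Fintype.card_prod,
      Fintype.card_bool, Fintype.card_coe, mul_comm]
  set Tset : Finset (nsTorus t →* ℂˣ) :=
    Finset.univ.filter (fun θ' : nsTorus t →* ℂˣ => ∃ c, θ' c ^ 2 ≠ 1) with hT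
  have hST : S ⊆ Tset := by
    intro θ' hθ'
    obtain ⟨p, -, rfl⟩ := Finset.mem_image.mp hθ'
    exact Finset.mem_filter.mpr ⟨Finset.mem_univ _, hΦsq p⟩
  have hcardHom : (Finset.univ : Finset (nsTorus t →* ℂˣ)).card = Fintype.card F + 1 := by
    rw [Finset.card_univ, ← Nat.card_eq_fintype_card, card_hom_units (nsTorus_comm t),
      card_nsTorus ht]
  have hTcard : Tset.card + 2 ≤ Fintype.card F + 1 := by
    have hsplit := Finset.card_filter_add_card_filter_not (s := (Finset.univ :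
      Finset (nsTorus t →* ℂˣ))) (fun θ' : nsTorus t →* ℂˣ => ∃ c, θ' c ^ 2 ≠ 1)
    rw [hcardHom, ← hT] at hsplit
    have h2 : 2 ≤ (Finset.univ.filter
        (fun θ' : nsTorus t →* ℂˣ => ¬ ∃ c, θ' c ^ 2 ≠ 1)).card := by
      have hdvd : 2 ∣ Nat.card (nsTorus t →* ℂˣ) := by
        rw [card_hom_units (nsTorus_comm t), card_nsTorus ht]
        obtain ⟨k, hk⟩ := hodd
        exact ⟨k + 1, by omega⟩
      haveI : Fact (Nat.Prime 2) := ⟨Nat.prime_two⟩
      obtain ⟨σ, hσ⟩ := exists_prime_orderOf_dvd_card' (G := nsTorus t →* ℂˣ) 2 hdvd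
      have hσ1 : σ ≠ 1 := by
        intro h
        rw [h, orderOf_one] at hσ
        norm_num at hσ
      have hσ2 : σ ^ 2 = 1 := by
        have := pow_orderOf_eq_one σ
        rwa [hσ] at this
      have hsub : ({1, σ} : Finset (nsTorus t →* ℂˣ)) ⊆ Finset.univ.filter
          (fun θ' : nsTorus t →* ℂˣ => ¬ ∃ c, θ' c ^ 2 ≠ 1) := by
        intro θ' hθ'
        rw [Finset.mem_filter]
        refine ⟨Finset.mem_univ _, ?_⟩
        push Not
        intro c
        rcases Finset.mem_insert.mp hθ' with h | h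
        · rw [h]; simp
        · rw [Finset.mem_singleton.mp h]
          have := congrArg (fun f : nsTorus t →* ℂˣ => f c) hσ2
          simpa using this
      have := Finset.card_le_card hsub
      rwa [Finset.card_pair (Ne.symm hσ1)] at this
    omega
  have hSeq : S = Tset := by
    apply Finset.eq_of_subset_of_card_le hST
    omega
  have hθT : θ ∈ Tset := Finset.mem_filter.mpr ⟨Finset.mem_univ _, hθ⟩
  rw [← hSeq] at hθT
  obtain ⟨p, -, hp⟩ := Finset.mem_image.mp hθT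
  refine ⟨p.1.1, hXprops p.1.1 p.1.2, ?_⟩
  rw [← hp]
  exact hΦvals p

/-- every irreducible character of degree `q - 1` has the torus values of some `θ`, `θ² ≠ 1` -/
theorem exists_hom_of_cusp (hodd : Odd (Fintype.card F)) {t : F}
    (ht : ∀ r : F, r ^ 2 ≠ -1 + t * r)
    (χ : Matrix.SpecialLinearGroup (Fin 2) F → ℂ)
    (hχ : Cfsg.IsIrrCharacter (Matrix.SpecialLinearGroup (Fin 2) F) χ)
    (hdeg : χ 1 = (Fintype.card F : ℂ) - 1) :
    ∃ θ : nsTorus t →* ℂˣ, (∃ c, θ c ^ 2 ≠ 1) ∧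
      ∀ c : nsTorus t, (c : Matrix.SpecialLinearGroup (Fin 2) F) ∉
          Subgroup.center (Matrix.SpecialLinearGroup (Fin 2) F) →
        χ c = -(((θ c : ℂˣ) : ℂ) + (((θ c)⁻¹ : ℂˣ) : ℂ)) := by
  classical
  have hq2 : 2 ≤ Fintype.card F := Fintype.one_lt_card
  by_cases hq5 : 5 ≤ Fintype.card F
  · have hχ' := hχ
    obtain ⟨n, ρ, hirr, rfl⟩ := hχ
    have hd : Module.finrank ℂ (Fin n → ℂ) + 1 = Fintype.card F := by
      rw [Representation.char_one] at hdeg
      have : (Module.finrank ℂ (Fin n → ℂ) : ℂ) + 1 = (Fintype.card F : ℂ) := by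
        rw [hdeg]; ring
      exact_mod_cast this
    have h0 : fixUS ρ = 0 := (fixUS_of_degree_odd hodd hq5 ρ hirr).2.2.1 hd
    have hU : ∀ y : F, y ≠ 0 → ρ.character (upperU y) = -1 := fun y hy =>
      char_upperU_of_cusp_sub_one_odd hodd ρ hirr h0 hd y hy
    have hD : ∀ u : Fˣ, (u : F) ^ 2 ≠ 1 → ρ.character (Cfsg.Agent.Lib.Helper41.diagHom u) = 0 :=
      fun u hu => char_regular_diag_eq_zero_SL ρ h0 (Cfsg.Agent.Lib.Helper41.diagHom u)
        (by simp [coe_diagHom]) (by simp [coe_diagHom]) (by simpa [coe_diagHom] using hu)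
    obtain ⟨θ, h1, h2, -⟩ := cusp_values_nsTorus hodd ht ⟨ρ.character, hχ'⟩ hdeg hU hD
    exact ⟨θ, h1, h2⟩
  · have hq3 : Fintype.card F = 3 := by
      obtain ⟨k, hk⟩ := hodd
      omega
    obtain ⟨X, hXcard, hXprops⟩ := exists_cusp_family hodd
    have hXne : X.Nonempty := by
      rw [← Finset.card_pos]
      omega
    obtain ⟨χ₀, hχ₀⟩ := hXne
    have hp := hXprops χ₀ hχ₀
    obtain ⟨θ, h1, h2, -⟩ := cusp_values_nsTorus hodd ht χ₀ hp.1 hp.2.1
      (fun u hu => hp.diagHom u hu)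
    refine ⟨θ, h1, ?_⟩
    intro c hc
    rw [← h2 c hc]
    have hell := no_eigenvector_of_mem_nsTorus ht (c : Matrix.SpecialLinearGroup (Fin 2) F) c.2 hc
    have hhalf : ((Fintype.card F : ℂ) - 1) = (((Fintype.card F + 1) / 2 : ℕ) : ℂ) := by
      rw [hq3]; norm_num
    have e1 := (Cfsg.Agent.S2322.result hodd χ hχ (c : Matrix.SpecialLinearGroup (Fin 2) F)).2
      (Or.inr (by rw [hdeg, hhalf])) hell
    have e2 := (Cfsg.Agent.S2322.result hodd (χ₀ : Matrix.SpecialLinearGroup (Fin 2) F → ℂ) χ₀.2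
      (c : Matrix.SpecialLinearGroup (Fin 2) F)).2 (Or.inr (by rw [hp.1, hhalf])) hell
    rw [e1, e2]

end

end Cfsg.Agent.Lib.Helper39
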