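import Mathlib
import Cfsg.Agent.Lib.Helper39.SL2CuspExist

set_option autoImplicit false
set_option linter.style.haveILetI false
set_option linter.unusedSectionVars false

/-!
# The cuspidal characters of degree `q - 1` of `SL₂(q)`, `q` odd, and the characters of a cyclic
subgroup of order `q + 1` (helper39)
-/

namespace Cfsg.Agent.Lib.Helper39

open Cfsg Matrix Cfsg.Agent.Lib.Helper41 Cfsg.Agent.Lib.Helper3

/-- conjugation by `h` as an isomorphism between a subgroup and its conjugate -/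
noncomputable def conjEquiv {G : Type*} [Group G] (C K : Subgroup G) (h : G)
    (hiff : ∀ g : G, g ∈ C ↔ h * g * h⁻¹ ∈ K) : C ≃* K where
  toFun c := ⟨h * c * h⁻¹, (hiff c).mp c.2⟩
  invFun y := ⟨h⁻¹ * y * h, (hiff _).mpr (by simpa [mul_assoc] using y.2)⟩
  left_inv c := Subtype.ext (by simp [mul_assoc])
  right_inv y := Subtype.ext (by simp [mul_assoc])
  map_mul' a b := Subtype.ext (by simp [mul_assoc])

theorem coe_conjEquiv {G : Type*} [Group G] (C K : Subgroup G) (h : G)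
    (hiff : ∀ g : G, g ∈ C ↔ h * g * h⁻¹ ∈ K) (c : C) :
    ((conjEquiv C K h hiff c : K) : G) = h * c * h⁻¹ := rfl

theorem cusp_characters_statement {F : Type*} [Field F] [Fintype F]
    (hodd : Odd (Fintype.card F))
    (C : Subgroup (Matrix.SpecialLinearGroup (Fin 2) F)) (hC : IsCyclic C)
    (hcard : Nat.card C = Fintype.card F + 1) :
    (∀ θ : C →* ℂˣ, (∃ c : C, θ c ^ 2 ≠ 1) →
      ∃ χ : Matrix.SpecialLinearGroup (Fin 2) F → ℂ, Cfsg.IsIrrCharacter (Matrix.SpecialLinearGroup (Fin 2) F) χ ∧ χ 1 = (Fintype.card F : ℂ) - 1 ∧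
        (∀ c : C, (c : Matrix.SpecialLinearGroup (Fin 2) F) ∉ Subgroup.center (Matrix.SpecialLinearGroup (Fin 2) F) → χ c = -((θ c).val + (θ c)⁻¹.val)) ∧
        (∀ c : C, (c : Matrix.SpecialLinearGroup (Fin 2) F) ∈ Subgroup.center (Matrix.SpecialLinearGroup (Fin 2) F) → ∀ g : Matrix.SpecialLinearGroup (Fin 2) F, χ ((c : Matrix.SpecialLinearGroup (Fin 2) F) * g) = (θ c).val * χ g) ∧
        (∀ g : Matrix.SpecialLinearGroup (Fin 2) F, (g : Matrix (Fin 2) (Fin 2) F) 0 1 = 0 → (g : Matrix (Fin 2) (Fin 2) F) 1 0 = 0 → (g : Matrix (Fin 2) (Fin 2) F) 0 0 ^ 2 ≠ 1 → χ g = 0) ∧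
        (∀ g : Matrix.SpecialLinearGroup (Fin 2) F, (g : Matrix (Fin 2) (Fin 2) F) 1 0 = 0 → (g : Matrix (Fin 2) (Fin 2) F) 0 0 = 1 → (g : Matrix (Fin 2) (Fin 2) F) 1 1 = 1 → (g : Matrix (Fin 2) (Fin 2) F) 0 1 ≠ 0 → χ g = -1)) ∧
    (∀ χ : Matrix.SpecialLinearGroup (Fin 2) F → ℂ, Cfsg.IsIrrCharacter (Matrix.SpecialLinearGroup (Fin 2) F) χ → χ 1 = (Fintype.card F : ℂ) - 1 →
      ∃ θ : C →* ℂˣ, (∃ c : C, θ c ^ 2 ≠ 1) ∧
        ∀ c : C, (c : Matrix.SpecialLinearGroup (Fin 2) F) ∉ Subgroup.center (Matrix.SpecialLinearGroup (Fin 2) F) → χ c = -((θ c).val + (θ c)⁻¹.val)) := by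
  classical
  obtain ⟨t, ht⟩ := exists_nonsplit_trace (F := F)
  obtain ⟨h, hiff⟩ := exists_conj_nsTorus_of_cyclic hodd ht C hC hcard
  set φ : C ≃* nsTorus t := conjEquiv C (nsTorus t) h hiff with hφdef
  have hφ : ∀ c : C, ((φ c : nsTorus t) : Matrix.SpecialLinearGroup (Fin 2) F) =
      h * c * h⁻¹ := fun c => rfl
  have hcenφ : ∀ c : C, (c : Matrix.SpecialLinearGroup (Fin 2) F) ∉
      Subgroup.center (Matrix.SpecialLinearGroup (Fin 2) F) →
      ((φ c : nsTorus t) : Matrix.SpecialLinearGroup (Fin 2) F) ∉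
        Subgroup.center (Matrix.SpecialLinearGroup (Fin 2) F) := by
    intro c hc hc'
    apply hc
    rw [hφ] at hc'
    have := (Subgroup.center (Matrix.SpecialLinearGroup (Fin 2) F)).normal_of_characteristic.conj_mem
      _ hc' h⁻¹
    simpa [mul_assoc] using this
  constructor
  · rintro θ ⟨c₁, hc₁⟩
    set θ' : nsTorus t →* ℂˣ := θ.comp φ.symm.toMonoidHom with hθ'
    have hθ'φ : ∀ c : C, θ' (φ c) = θ c := by
      intro c
      simp [hθ']
    obtain ⟨χ, hp, hv⟩ := exists_cusp_of_hom hodd ht θ' ⟨φ c₁, by rw [hθ'φ]; exact hc₁⟩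
    have hcf := Cfsg.Agent.Lib.Helper78.isClassFunction_irr χ
    refine ⟨χ.1, χ.2, hp.1, ?_, ?_, hp.2.2, ?_⟩
    · intro c hc
      have e : χ.1 (c : Matrix.SpecialLinearGroup (Fin 2) F) =
          χ.1 ((φ c : nsTorus t) : Matrix.SpecialLinearGroup (Fin 2) F) := by
        rw [hφ]; exact (hcf _ h).symm
      rw [e, hv.1 (φ c) (hcenφ c hc), hθ'φ]
    · intro c hc g
      rcases (mem_center_iff_eq (c : Matrix.SpecialLinearGroup (Fin 2) F)).mp hc with h1 | h1
      · have : c = 1 := Subtype.ext h1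
        rw [this]
        simp
      · have hφc : φ c = ⟨negOneSL, negOneSL_mem_nsTorus t⟩ := by
          apply Subtype.ext
          rw [hφ, h1]
          have := Subgroup.mem_center_iff.mp (negOneSL_mem_center (F := F)) h
          rw [this, mul_inv_cancel_right]
        rw [h1, hv.2 g, ← hφc, hθ'φ]
    · intro g h10 h00 h11 h01
      have : g = upperU ((g : Matrix (Fin 2) (Fin 2) F) 0 1) := by
        apply Subtype.ext
        ext i j
        fin_cases i <;> fin_cases j <;> simp [coe_upperU, h10, h00, h11]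
      rw [this]
      exact hp.2.1 _ h01
  · intro χ hχ hdeg
    obtain ⟨θ', ⟨c', hc'⟩, hv⟩ := exists_hom_of_cusp hodd ht χ hχ hdeg
    refine ⟨θ'.comp φ.toMonoidHom, ⟨φ.symm c', by simpa using hc'⟩, ?_⟩
    intro c hc
    have hcf := Cfsg.Agent.Lib.Helper78.isClassFunction_irr ⟨χ, hχ⟩
    have e : χ (c : Matrix.SpecialLinearGroup (Fin 2) F) =
        χ ((φ c : nsTorus t) : Matrix.SpecialLinearGroup (Fin 2) F) := by
      rw [hφ]; exact (hcf _ h).symm
    rw [e, hv (φ c) (hcenφ c hc)]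
    rfl

end Cfsg.Agent.Lib.Helper39
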