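import Mathlib
import Cfsg.Agent.Lib.Helper39.SL2TorusValues

set_option autoImplicit false
set_option linter.style.haveILetI false
set_option linter.unusedSectionVars false

/-!
# Values of the characters of degree `(q - 1)/2` of `SL₂(q)` on the non-split torus (helper39)
-/

namespace Cfsg.Agent.Lib.Helper39

open Cfsg Matrix Cfsg.Agent.Lib.Helper41 Cfsg.Agent.Lib.Helper3
open scoped ComplexConjugate

section

variable {F : Type*} [Field F] [Fintype F] [DecidableEq F]

/-- the unipotent data of an irreducible character of degree `(q - 1)/2`, `q ≥ 5` -/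
theorem half_unip_data (hodd : Odd (Fintype.card F)) (hq5 : 5 ≤ Fintype.card F)
    (χ : IrrCharacter (Matrix.SpecialLinearGroup (Fin 2) F)) (N : ℕ)
    (hN : Fintype.card F = 2 * N + 1)
    (hdeg : (χ : Matrix.SpecialLinearGroup (Fin 2) F → ℂ) 1 = (N : ℂ)) :
    (∀ g : Matrix.SpecialLinearGroup (Fin 2) F, (g : Matrix (Fin 2) (Fin 2) F) 0 1 = 0 →
      (g : Matrix (Fin 2) (Fin 2) F) 1 0 = 0 → (g : Matrix (Fin 2) (Fin 2) F) 0 0 ^ 2 ≠ 1 →
      (χ : Matrix.SpecialLinearGroup (Fin 2) F → ℂ) g = 0) ∧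
    ∑ y ∈ Finset.univ.erase (0 : F),
      (χ : Matrix.SpecialLinearGroup (Fin 2) F → ℂ) (upperU y) = -(N : ℂ) ∧
    ∑ y ∈ Finset.univ.erase (0 : F),
      (χ : Matrix.SpecialLinearGroup (Fin 2) F → ℂ) (upperU y) *
        conj ((χ : Matrix.SpecialLinearGroup (Fin 2) F → ℂ) (upperU y)) =
      (N : ℂ) * ((N : ℂ) + 1) := by
  obtain ⟨χ, n, ρ, hirr, rfl⟩ := χ
  have hF : ringChar F ≠ 2 := ringChar_ne_two_of_odd hodd
  change ρ.character 1 = (N : ℂ) at hdeg
  rw [Representation.char_one] at hdeg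
  have hfin : Module.finrank ℂ (Fin n → ℂ) = N := by exact_mod_cast hdeg
  have h0 : fixUS ρ = 0 := (fixUS_of_degree_odd hodd hq5 ρ hirr).2.2.2.2 (by omega)
  have hNN : (Fintype.card F - 1) / 2 = N := by omega
  refine ⟨fun g h01 h10 hne => char_regular_diag_eq_zero_SL ρ h0 g h01 h10 hne, ?_, ?_⟩
  · change ∑ y ∈ Finset.univ.erase (0 : F), ρ.character (upperU y) = -(N : ℂ)
    have h := sum_char_upperU ρ
    rw [h0, ← Finset.add_sum_erase Finset.univ _ (Finset.mem_univ (0 : F)), upperU_zero,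
      Representation.char_one, hfin] at h
    push_cast at h
    linear_combination h
  · change ∑ y ∈ Finset.univ.erase (0 : F), ρ.character (upperU y) *
      conj (ρ.character (upperU y)) = (N : ℂ) * ((N : ℂ) + 1)
    obtain ⟨ψ, hψ⟩ := exists_primitive_addChar (F := F)
    obtain ⟨ε, hε'⟩ := FiniteField.exists_nonsquare hF
    have hε : quadraticChar F ε = -1 := quadraticChar_neg_one_iff_not_isSquare.mpr hε'
    obtain ⟨hn, hD, -⟩ := data_odd_rep hodd hψ ε hε ρ hirr
    rw [hNN, h0, hfin, zero_add] at hD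
    have hAB : uMult ρ ψ 1 + uMult ρ ψ ε = 1 := by
      have hN0 : 0 < N := by omega
      have : N * (uMult ρ ψ 1 + uMult ρ ψ ε) = N * 1 := by rw [mul_one]; exact hD.symm
      exact Nat.eq_of_mul_eq_mul_left hN0 this
    have hsq : ((uMult ρ ψ 1 : ℕ) : ℝ) ^ 2 + ((uMult ρ ψ ε : ℕ) : ℝ) ^ 2 = 1 := by
      have h01 : (uMult ρ ψ 1 = 0 ∧ uMult ρ ψ ε = 1) ∨ (uMult ρ ψ 1 = 1 ∧ uMult ρ ψ ε = 0) := by
        omega
      rcases h01 with ⟨h1, h2⟩ | ⟨h1, h2⟩ <;> rw [h1, h2] <;> norm_num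
    have hsum : ∑ c : F, ((uMult ρ ψ c : ℕ) : ℝ) ^ 2 = (N : ℝ) := by
      rw [Finset.sum_congr rfl (fun c _ => by rw [hn c])]
      rw [sum_of_sq_invariant hF ε hε
        (fun c : F => ((nOdd (fixUS ρ) (uMult ρ ψ 1) (uMult ρ ψ ε) c : ℕ) : ℝ) ^ 2)
        (fun t c => by simp only [nOdd_sq_mul])]
      simp only [nOdd_zero, nOdd_one, nOdd_eps _ _ _ ε hε, hNN, h0, nsmul_eq_mul]
      push_cast
      linear_combination (N : ℝ) * hsq
    have hnorm := sum_norm_sq_char_upperU ρ hψ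
    rw [hsum] at hnorm
    have hconv : ∀ w : ℂ, w * conj w = (((‖w‖ ^ 2 : ℝ)) : ℂ) := by
      intro w
      rw [Complex.mul_conj, Complex.normSq_eq_norm_sq]
    have hall : ∑ x : F, ρ.character (upperU x) * conj (ρ.character (upperU x)) =
        (Fintype.card F : ℂ) * N := by
      rw [Finset.sum_congr rfl (fun x _ => hconv _), ← Complex.ofReal_sum, hnorm]
      push_cast
      ring
    rw [← Finset.add_sum_erase Finset.univ _ (Finset.mem_univ (0 : F)), upperU_zero,
      Representation.char_one, hfin, Complex.conj_natCast] at hall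
    have hq : (Fintype.card F : ℂ) = 2 * N + 1 := by rw [hN]; push_cast; ring
    rw [hq] at hall
    linear_combination hall

open Classical in
/-- the values on the non-split torus of an irreducible character of degree `(q - 1)/2` -/
theorem half_values_nsTorus (hodd : Odd (Fintype.card F)) (hq5 : 5 ≤ Fintype.card F) {t : F}
    (ht : ∀ r : F, r ^ 2 ≠ -1 + t * r)
    (χ : IrrCharacter (Matrix.SpecialLinearGroup (Fin 2) F))
    (hdeg : (χ : Matrix.SpecialLinearGroup (Fin 2) F → ℂ) 1 =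
      (((Fintype.card F - 1) / 2 : ℕ) : ℂ))
    (c : Matrix.SpecialLinearGroup (Fin 2) F) (hc : c ∈ nsTorus t)
    (hcen : c ∉ Subgroup.center (Matrix.SpecialLinearGroup (Fin 2) F)) :
    (c ^ ((Fintype.card F + 1) / 2) = 1 →
      (χ : Matrix.SpecialLinearGroup (Fin 2) F → ℂ) c = -1) ∧
    (c ^ ((Fintype.card F + 1) / 2) ≠ 1 →
      (χ : Matrix.SpecialLinearGroup (Fin 2) F → ℂ) c = 1) := by
  haveI : Fintype (nsTorus t) := Fintype.ofFinite _
  have hF : ringChar F ≠ 2 := ringChar_ne_two_of_odd hodd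
  obtain ⟨N, hN⟩ := hodd
  have hodd : Odd (Fintype.card F) := ⟨N, hN⟩
  have hNN : (Fintype.card F - 1) / 2 = N := by omega
  have hnn : (Fintype.card F + 1) / 2 = N + 1 := by omega
  rw [hNN] at hdeg
  rw [hnn]
  obtain ⟨hD, hS1, hS2⟩ := half_unip_data hodd hq5 χ N hN hdeg
  have hcf := Cfsg.Agent.Lib.Helper78.isClassFunction_irr χ
  obtain ⟨ε, hε, hz⟩ := irr_central_sign χ negOneSL negOneSL_mem_center negOneSL_mul_self
  obtain ⟨z, hzdef⟩ : ∃ z : nsTorus t, (z : Matrix.SpecialLinearGroup (Fin 2) F) = negOneSL :=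
    ⟨⟨negOneSL, negOneSL_mem_nsTorus t⟩, rfl⟩
  have hz' : ∀ g : Matrix.SpecialLinearGroup (Fin 2) F,
      (χ : Matrix.SpecialLinearGroup (Fin 2) F → ℂ)
        ((z : Matrix.SpecialLinearGroup (Fin 2) F) * g) =
        ε * (χ : Matrix.SpecialLinearGroup (Fin 2) F → ℂ) g := by
    rw [hzdef]; exact hz
  have hz1 : z ≠ 1 := by
    intro h
    apply negOneSL_ne_one hF
    rw [← hzdef, h]
    rfl
  have hz2 : z * z = 1 := by
    apply Subtype.ext
    rw [Subgroup.coe_mul, hzdef, negOneSL_mul_self]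
    rfl
  have hzinv : z⁻¹ = z := inv_eq_of_mul_eq_one_left hz2
  have hcardC : Fintype.card (nsTorus t) = 2 * (N + 1) := by
    rw [← Nat.card_eq_fintype_card, card_nsTorus ht, hN]; ring
  have hne : ∃ g, (χ : Matrix.SpecialLinearGroup (Fin 2) F → ℂ) g ≠ 1 := by
    refine ⟨1, ?_⟩
    rw [hdeg]
    have : N ≠ 1 := by omega
    exact_mod_cast this
  obtain ⟨e1, e2⟩ := torus_sums_general hF ht χ ε hε hz N hdeg hne
    (fun u hu => hD (diagHom u) (by simp [coe_diagHom]) (by simp [coe_diagHom])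
      (by simpa [coe_diagHom] using hu))
  have hqn : (Fintype.card F : ℂ) = 2 * N + 1 := by rw [hN]; push_cast; ring
  have hA : (Fintype.card F : ℂ) * ((Fintype.card F : ℂ) - 1) / 2 ≠ 0 := by
    have h1 : (Fintype.card F : ℂ) ≠ 0 := by exact_mod_cast (by omega : Fintype.card F ≠ 0)
    have h2 : (Fintype.card F : ℂ) - 1 ≠ 0 := by
      have : (Fintype.card F : ℂ) ≠ 1 := by exact_mod_cast (by omega : Fintype.card F ≠ 1)
      exact sub_ne_zero.mpr this
    exact div_ne_zero (mul_ne_zero h1 h2) two_ne_zero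
  rw [hS2] at e1
  rw [hS1] at e2
  have hnorm : ∑ c : nsTorus t, (χ : Matrix.SpecialLinearGroup (Fin 2) F → ℂ) c *
      conj ((χ : Matrix.SpecialLinearGroup (Fin 2) F → ℂ) c) =
      2 * ((N + 1 : ℕ) : ℂ) * ((((1 : ℕ) : ℂ)) ^ 2 * ((N + 1 : ℕ) : ℂ) -
        (2 * ((1 : ℕ) : ℂ) - 1) * ((1 : ℕ) : ℂ)) := by
    apply mul_left_cancel₀ hA
    rw [hqn] at e1 ⊢
    push_cast
    linear_combination e1
  have hsum : ∑ c : nsTorus t, (χ : Matrix.SpecialLinearGroup (Fin 2) F → ℂ) c =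
      (1 + ε) * ((N : ℂ) + 1) := by
    apply mul_left_cancel₀ hA
    rw [hqn] at e2 ⊢
    linear_combination e2
  have hdeg' : (χ : Matrix.SpecialLinearGroup (Fin 2) F → ℂ) 1 =
      ((1 : ℕ) : ℂ) * ((N + 1 : ℕ) : ℂ) - ((1 : ℕ) : ℂ) := by
    rw [hdeg]; push_cast; ring
  obtain ⟨T, hTsub, hTcard, hTm, -, hTval⟩ := torus_defect (nsTorus t) (nsTorus_comm t) z hz1 hz2
    χ ε hε hz' (N + 1) 1 1 hcardC hdeg' hnorm
  obtain ⟨a, rfl⟩ := Finset.card_eq_one.mp hTcard
  have haz : ((a z : ℂˣ) : ℂ) = ε :=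
    (mem_signHoms _ z ε a).mp (hTsub (by simp))
  have hval : ∀ c : nsTorus t, c ≠ 1 → c ≠ z →
      (χ : Matrix.SpecialLinearGroup (Fin 2) F → ℂ) c = -((a c : ℂˣ) : ℂ) := by
    intro c h1 h2
    rw [hTval c h1 h2, Finset.sum_singleton]
  have hm0 : resMult (nsTorus t) χ a = 0 := by
    have := hTm a (by simp)
    omega
  -- `a` is real
  have haa : a⁻¹ = a := by
    ext c
    rw [MonoidHom.inv_apply, ← map_inv]
    by_cases h1 : c = 1
    · rw [h1, inv_one]
    by_cases h2 : c = z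
    · rw [h2, hzinv]
    have h1' : c⁻¹ ≠ 1 := by rwa [Ne, inv_eq_one]
    have h2' : c⁻¹ ≠ z := by
      intro h; apply h2; rw [← inv_inv c, h, hzinv]
    have e := apply_inv_of_mem_nsTorus hF ht _ hcf (c : Matrix.SpecialLinearGroup (Fin 2) F) c.2
    have e1 := hval c h1 h2
    have e2 := hval c⁻¹ h1' h2'
    rw [Subgroup.coe_inv, e, e1] at e2
    linear_combination e2
  -- `a` is not trivial
  have ha1 : a ≠ 1 := by
    intro h
    have hs := sum_res_mul_conj_hom (nsTorus t) χ 1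
    simp only [MonoidHom.one_apply, Units.val_one, map_one, mul_one] at hs
    rw [← h, hm0, hsum] at hs
    have hN1 : (N : ℂ) + 1 ≠ 0 := by exact_mod_cast (by omega : N + 1 ≠ 0)
    have hs' : (1 + ε) * ((N : ℂ) + 1) = 0 := by rw [hs]; simp
    have hε1 : 1 + ε = 0 := by
      rcases mul_eq_zero.mp hs' with h' | h'
      · exact h'
      · exact absurd h' hN1
    rw [h] at haz
    simp only [MonoidHom.one_apply, Units.val_one] at haz
    rw [← haz] at hε1
    norm_num at hε1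
  have hcyc := isCyclic_nsTorus ht
  obtain ⟨c₀, hc₀⟩ := hcyc.exists_generator
  have ha0 : a c₀ = -1 := by
    rcases unit_inv_eq_self (a c₀) (by rw [← MonoidHom.inv_apply, haa]) with h | h
    · exact absurd (hom_eq_of_generator a 1 c₀ hc₀ (by rw [h]; simp)) ha1
    · exact h
  have hord : orderOf c₀ = 2 * (N + 1) := by
    rw [orderOf_eq_card_of_forall_mem_zpowers hc₀, Nat.card_eq_fintype_card, hcardC]
  obtain ⟨h1c, h2c⟩ : (⟨c, hc⟩ : nsTorus t) ≠ 1 ∧ (⟨c, hc⟩ : nsTorus t) ≠ z := by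
    constructor
    · intro h; apply hcen
      have := congrArg Subtype.val h
      simp only [OneMemClass.coe_one] at this
      rw [this]; exact Subgroup.one_mem _
    · intro h; apply hcen
      have := congrArg Subtype.val h
      simp only [hzdef] at this
      rw [this]; exact negOneSL_mem_center
  have hχc := hval ⟨c, hc⟩ h1c h2c
  simp only at hχc
  obtain ⟨k, hk⟩ := Subgroup.mem_zpowers_iff.mp (hc₀ ⟨c, hc⟩)
  have hak : a ⟨c, hc⟩ = (-1 : ℂˣ) ^ k := by rw [← hk, map_zpow, ha0]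
  have hpow : c ^ (N + 1) = 1 ↔ Even k := by
    have h1 : c ^ (N + 1) = 1 ↔ (⟨c, hc⟩ : nsTorus t) ^ (N + 1) = 1 := by
      constructor
      · intro h; apply Subtype.ext; simp [h]
      · intro h
        have := congrArg Subtype.val h
        simpa using this
    rw [h1, ← hk, ← zpow_natCast, ← _root_.zpow_mul, ← orderOf_dvd_iff_zpow_eq_one, hord]
    push_cast
    rw [mul_comm k, mul_comm (2 : ℤ), even_iff_two_dvd]
    have hN1 : ((N : ℤ) + 1) ≠ 0 := by omega
    exact mul_dvd_mul_iff_left hN1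
  constructor
  · intro h
    have hk2 := hpow.mp h
    rw [hχc, hak, Even.neg_one_zpow hk2]
    simp
  · intro h
    have hk2 : ¬ Even k := fun h' => h (hpow.mpr h')
    rw [hχc, hak, Odd.neg_one_zpow (Int.not_even_iff_odd.mp hk2)]
    simp

end

end Cfsg.Agent.Lib.Helper39
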