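import Mathlib
import Cfsg.Agent.Lib.Helper39.SL2TorusHalf
import Cfsg.Agent.S2307

set_option autoImplicit false
set_option linter.style.haveILetI false
set_option linter.unusedSectionVars false

/-!
# Values of the characters of degree `(q ± 1)/2` of `SL₂(q)` at semisimple elements (helper39)
-/

namespace Cfsg.Agent.Lib.Helper39

open Cfsg Matrix Cfsg.Agent.Lib.Helper41 Cfsg.Agent.Lib.Helper3
open scoped ComplexConjugate

section

variable {F : Type*} [Field F] [Fintype F] [DecidableEq F]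

/-- the values of the multiplicative character of order two -/
theorem mulChar_quadratic_values (hF : ringChar F ≠ 2) (α : MulChar F ℂ) (hα : α ^ 2 = 1)
    (hα1 : α ≠ 1) (a : F) (ha : a ≠ 0) :
    (IsSquare a → α a = 1) ∧ (¬ IsSquare a → α a = -1) := by
  have hsq : ∀ x : F, x ≠ 0 → IsSquare x → α x = 1 := by
    rintro x hx ⟨b, rfl⟩
    have hb : b ≠ 0 := fun h => hx (by rw [h, mul_zero])
    have h1 : (α ^ 2) b = 1 := by
      rw [hα]
      exact MulChar.one_apply (isUnit_iff_ne_zero.mpr hb)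
    rw [MulChar.pow_apply' α (by norm_num) b] at h1
    rw [map_mul, ← sq, h1]
  refine ⟨hsq a ha, ?_⟩
  intro hns
  have h2 : α a * α a = 1 := by
    rw [← map_mul]
    exact hsq (a * a) (mul_ne_zero ha ha) ⟨a, rfl⟩
  have h3 : (α a - 1) * (α a + 1) = 0 := by linear_combination h2
  rcases mul_eq_zero.mp h3 with h | h
  · exfalso
    have ha1 : α a = 1 := by linear_combination h
    apply hα1
    ext x
    rw [MulChar.one_apply x.isUnit]
    by_cases hx : IsSquare (x : F)
    · exact hsq x x.ne_zero hx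
    · have hxa : IsSquare ((x : F) * a) := by
        rw [← quadraticChar_one_iff_isSquare (mul_ne_zero x.ne_zero ha), map_mul,
          quadraticChar_neg_one_iff_not_isSquare.mpr hx,
          quadraticChar_neg_one_iff_not_isSquare.mpr hns]
        norm_num
      have := hsq _ (mul_ne_zero x.ne_zero ha) hxa
      rw [map_mul, ha1, mul_one] at this
      exact this
  · linear_combination h

/-- the characters of degree `(q + 1)/2` at the regular diagonal elements -/
theorem half_diag_values (hodd : Odd (Fintype.card F)) (hq5 : 5 ≤ Fintype.card F)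
    (χ : Matrix.SpecialLinearGroup (Fin 2) F → ℂ)
    (hχ : Cfsg.IsIrrCharacter (Matrix.SpecialLinearGroup (Fin 2) F) χ)
    (hdeg : χ 1 = (((Fintype.card F + 1) / 2 : ℕ) : ℂ))
    (g : Matrix.SpecialLinearGroup (Fin 2) F)
    (h01 : (g : Matrix (Fin 2) (Fin 2) F) 0 1 = 0) (h10 : (g : Matrix (Fin 2) (Fin 2) F) 1 0 = 0)
    (hne : (g : Matrix (Fin 2) (Fin 2) F) 0 0 ^ 2 ≠ 1) :
    (IsSquare ((g : Matrix (Fin 2) (Fin 2) F) 0 0) → χ g = 1) ∧
    (¬ IsSquare ((g : Matrix (Fin 2) (Fin 2) F) 0 0) → χ g = -1) := by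
  have hF : ringChar F ≠ 2 := ringChar_ne_two_of_odd hodd
  have h₁ := hχ
  obtain ⟨n, ρ, hirr, rfl⟩ := hχ
  rw [Representation.char_one] at hdeg
  have hfin : Module.finrank ℂ (Fin n → ℂ) = (Fintype.card F + 1) / 2 := by exact_mod_cast hdeg
  obtain ⟨k, hk⟩ := hodd
  have hodd : Odd (Fintype.card F) := ⟨k, hk⟩
  have hf1 : fixUS ρ = 1 := (fixUS_of_degree_odd hodd hq5 ρ hirr).2.2.2.1 (by omega)
  rcases fixUS_cases_SL ρ hirr (by omega) with
    ⟨α, hα⟩ | hd1 | hdq | ⟨-, -, α, χ', hα2, hα1, hχ', hne', hsum⟩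
  · exfalso
    have := congrFun hα 1
    rw [psSL_one, Representation.char_one, hfin] at this
    have h' : (Fintype.card F + 1) / 2 = Fintype.card F + 1 := by exact_mod_cast this
    omega
  · omega
  · omega
  · have hex : ∃ (t : Fˣ) (g₀ : Matrix.SpecialLinearGroup (Fin 2) F),
        ρ.character (conjGL (dT t 1) g₀) ≠ ρ.character g₀ := by
      by_contra hall
      push Not at hall
      exact Cfsg.Agent.S2307.not_all_invariant α hα1 h₁ hχ' (Ne.symm hne') hsum hall
    obtain ⟨t, g₀, ht⟩ := hex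
    have hirrσ : Cfsg.IsIrrCharacter (Matrix.SpecialLinearGroup (Fin 2) F)
        (ρ.character ∘ (conjGL (dT t 1))) :=
      Cfsg.Agent.Lib.Helper81.isIrrCharacter_comp_mulEquiv h₁ (conjGL (dT t 1))
    have hPσ : psSL α ∘ (conjGL (dT t 1)) = psSL α := by
      funext g
      exact psSL_conj α t g
    have hinner : Cfsg.classInner (ρ.character + χ') (ρ.character ∘ (conjGL (dT t 1))) ≠ 0 := by
      rw [← hsum, ← hPσ]
      have := Cfsg.Agent.Lib.Helper75.classInner_comp_equiv (conjGL (dT t 1)).toEquiv (psSL α)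
        ρ.character
      have h' : Cfsg.classInner (psSL α ∘ ⇑(conjGL (dT t 1))) (ρ.character ∘ ⇑(conjGL (dT t 1))) =
          Cfsg.classInner (psSL α) ρ.character := this
      rw [h', hsum, Cfsg.Agent.Lib.Helper78.classInner_add_left,
        Cfsg.Agent.Lib.Helper78.classInner_irr_self h₁,
        Cfsg.Agent.Lib.Helper78.classInner_irr_ne hχ' h₁ hne']
      norm_num
    have h2 : ρ.character ∘ (conjGL (dT t 1)) = χ' := by
      rcases eq_or_eq_of_classInner_add_ne_zero h₁ hχ' hirrσ hinner with h | h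
      · exact absurd (congrFun h g₀) ht
      · exact h
    have hfix : conjGL (dT t 1) g = g := by
      apply Subtype.ext
      rw [conjGL_dT_val, h01, h10, mul_zero, mul_zero]
      ext i j
      fin_cases i <;> fin_cases j <;> simp [h01, h10]
    have hχ'g : χ' g = ρ.character g := by
      rw [← h2, Function.comp_apply, hfix]
    have hps : psSL α g = α ((g : Matrix (Fin 2) (Fin 2) F) 0 0) +
        α ((g : Matrix (Fin 2) (Fin 2) F) 1 1) := by
      unfold psSL
      exact indFun_borel_diag (fun a => α a) g h01 h10 hne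
    have hdet := sl2_det g
    rw [h01, zero_mul, sub_zero] at hdet
    have h00 : (g : Matrix (Fin 2) (Fin 2) F) 0 0 ≠ 0 := by
      intro h0; rw [h0, zero_mul] at hdet; exact zero_ne_one hdet
    have hα11 : α ((g : Matrix (Fin 2) (Fin 2) F) 1 1) = α ((g : Matrix (Fin 2) (Fin 2) F) 0 0) := by
      have e1 : α ((g : Matrix (Fin 2) (Fin 2) F) 0 0) * α ((g : Matrix (Fin 2) (Fin 2) F) 1 1) = 1 := by
        rw [← map_mul, hdet, map_one]
      have e2 : α ((g : Matrix (Fin 2) (Fin 2) F) 0 0) * α ((g : Matrix (Fin 2) (Fin 2) F) 0 0) = 1 := by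
        have h1 : (α ^ 2) ((g : Matrix (Fin 2) (Fin 2) F) 0 0) = 1 := by
          rw [hα2]
          exact MulChar.one_apply (isUnit_iff_ne_zero.mpr h00)
        rw [MulChar.pow_apply' α (by norm_num)] at h1
        rw [← sq, h1]
      calc α ((g : Matrix (Fin 2) (Fin 2) F) 1 1)
          = (α ((g : Matrix (Fin 2) (Fin 2) F) 0 0) * α ((g : Matrix (Fin 2) (Fin 2) F) 0 0)) *
            α ((g : Matrix (Fin 2) (Fin 2) F) 1 1) := by rw [e2, one_mul]
        _ = α ((g : Matrix (Fin 2) (Fin 2) F) 0 0) *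
            (α ((g : Matrix (Fin 2) (Fin 2) F) 0 0) * α ((g : Matrix (Fin 2) (Fin 2) F) 1 1)) := by
              ring
        _ = α ((g : Matrix (Fin 2) (Fin 2) F) 0 0) := by rw [e1, mul_one]
    have hval : ρ.character g = α ((g : Matrix (Fin 2) (Fin 2) F) 0 0) := by
      have := congrFun hsum g
      rw [hps, hα11, Pi.add_apply, hχ'g] at this
      have h2 : (2 : ℂ) ≠ 0 := two_ne_zero
      apply mul_left_cancel₀ h2
      linear_combination -this
    rw [hval]
    exact mulChar_quadratic_values hF α hα2 hα1 _ h00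

/-- the characters of degree `(q - 1)/2` at the elements without eigenvector -/
theorem half_elliptic_values (hodd : Odd (Fintype.card F)) (hq5 : 5 ≤ Fintype.card F)
    (χ : Matrix.SpecialLinearGroup (Fin 2) F → ℂ)
    (hχ : Cfsg.IsIrrCharacter (Matrix.SpecialLinearGroup (Fin 2) F) χ)
    (hdeg : χ 1 = (((Fintype.card F - 1) / 2 : ℕ) : ℂ))
    (g : Matrix.SpecialLinearGroup (Fin 2) F)
    (hg : ∀ (c : F) (v : Fin 2 → F), v ≠ 0 → (g : Matrix (Fin 2) (Fin 2) F).mulVec v ≠ c • v) :
    (((g ^ ((Fintype.card F + 1) / 2) : Matrix.SpecialLinearGroup (Fin 2) F) :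
        Matrix (Fin 2) (Fin 2) F) = 1 → χ g = -1) ∧
    (((g ^ ((Fintype.card F + 1) / 2) : Matrix.SpecialLinearGroup (Fin 2) F) :
        Matrix (Fin 2) (Fin 2) F) ≠ 1 → χ g = 1) := by
  have hF : ringChar F ≠ 2 := ringChar_ne_two_of_odd hodd
  have h2 := two_ne_zero_of_ringChar hF
  obtain ⟨t, ht⟩ := exists_nonsplit_trace (F := F)
  obtain ⟨h, hh⟩ := exists_conj_mem_nsTorus h2 ht g hg
  have hcf := Cfsg.Agent.Lib.Helper78.isClassFunction_irr ⟨χ, hχ⟩
  have hχg : χ (h * g * h⁻¹) = χ g := hcf g h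
  have hcen : h * g * h⁻¹ ∉ Subgroup.center (Matrix.SpecialLinearGroup (Fin 2) F) := by
    intro hc
    have hgc : g ∈ Subgroup.center (Matrix.SpecialLinearGroup (Fin 2) F) := by
      have := (Subgroup.center (Matrix.SpecialLinearGroup (Fin 2) F)).normal_of_characteristic.conj_mem
        _ hc h⁻¹
      simpa [mul_assoc] using this
    rcases (mem_center_iff_eq g).mp hgc with rfl | rfl
    · apply hg 1 ![1, 0] (by intro h0; have := congrFun h0 0; simp at this)
      simp
    · apply hg (-1) ![1, 0] (by intro h0; have := congrFun h0 0; simp at this)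
      rw [coe_negOneSL]
      ext i
      fin_cases i <;> simp
  have hpow : (h * g * h⁻¹) ^ ((Fintype.card F + 1) / 2) = 1 ↔
      ((g ^ ((Fintype.card F + 1) / 2) : Matrix.SpecialLinearGroup (Fin 2) F) :
        Matrix (Fin 2) (Fin 2) F) = 1 := by
    rw [conj_pow]
    constructor
    · intro h1
      have : g ^ ((Fintype.card F + 1) / 2) = 1 := by
        have := congrArg (fun x => h⁻¹ * x * h) h1
        simpa [mul_assoc] using this
      rw [this]; rfl
    · intro h1
      have : g ^ ((Fintype.card F + 1) / 2) = 1 := Subtype.ext (by rw [h1]; rfl)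
      rw [this]; simp
  obtain ⟨r1, r2⟩ := half_values_nsTorus hodd hq5 ht ⟨χ, hχ⟩ hdeg (h * g * h⁻¹) hh hcen
  simp only at r1 r2
  rw [hχg] at r1 r2
  exact ⟨fun h1 => r1 (hpow.mpr h1), fun h1 => r2 (fun h' => h1 (hpow.mp h'))⟩

end

end Cfsg.Agent.Lib.Helper39
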