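import Cfsg.Agent.Lib.Helper39.SL2OddCount
import Cfsg.Agent.Lib.Helper39.DegType
import Cfsg.Agent.Lib.Helper39.DegGraph

set_option autoImplicit false

/-!
# The number of irreducible characters of `ℓ'`-degree of `SL₂(q)`, `q` odd (helper39)
-/

namespace Cfsg.Agent.Lib.Helper39

open Cfsg

variable {F : Type*} [Field F] [Fintype F]

/-- the number of irreducible characters of `SL₂(q)`, `q = 2 N + 1`, of degree prime to `ℓ` -/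
theorem sl2_mckay_left (N : ℕ) (hN : Fintype.card F = 2 * N + 1) (ℓ : ℕ) :
    (Nat.card {χ : IrrCharacter (Matrix.SpecialLinearGroup (Fin 2) F) //
      ¬ ℓ ∣ charDegree (χ : Matrix.SpecialLinearGroup (Fin 2) F → ℂ)} : ℤ) =
      (if ¬ ℓ ∣ 1 then (1 : ℤ) else 0) + (if ¬ ℓ ∣ 2 * N + 1 then (1 : ℤ) else 0) +
      (if ¬ ℓ ∣ 2 * N + 2 then (N : ℤ) - 1 else 0) + (if ¬ ℓ ∣ N + 1 then (2 : ℤ) else 0) +
      (if ¬ ℓ ∣ 2 * N then (N : ℤ) else 0) + (if ¬ ℓ ∣ N then (2 : ℤ) else 0) := by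
  classical
  have hq : 2 ≤ Fintype.card F := Fintype.one_lt_card
  have hF : ringChar F ≠ 2 := by
    intro h2
    have := FiniteField.even_card_iff_char_two.mp h2
    omega
  obtain ⟨ψ, hψ⟩ := exists_primitive_addChar (F := F)
  obtain ⟨ε, hε'⟩ := FiniteField.exists_nonsquare hF
  have hε : quadraticChar F ε = -1 := quadraticChar_neg_one_iff_not_isSquare.mpr hε'
  obtain ⟨m, a, b, hd, -, ht, hT, hS, hP, hHp, hHm, hC11, hC10, hC01⟩ :=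
    sl2_odd_main N hN hψ ε hε
  have hdeg : ∀ χ : IrrCharacter (Matrix.SpecialLinearGroup (Fin 2) F),
      charDegree (χ : Matrix.SpecialLinearGroup (Fin 2) F → ℂ) = m χ + N * (a χ + b χ) :=
    fun χ => charDegree_natCast _ _ (hd χ)
  rw [natCard_subtype_eq_sum_indicator]
  have hper : ∀ χ : IrrCharacter (Matrix.SpecialLinearGroup (Fin 2) F),
      (if ¬ ℓ ∣ charDegree (χ : Matrix.SpecialLinearGroup (Fin 2) F → ℂ) then (1 : ℤ) else 0) =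
        (if ¬ ℓ ∣ 1 then (1 : ℤ) else 0) * (if m χ = 1 ∧ a χ = 0 ∧ b χ = 0 then (1 : ℤ) else 0) +
        (if ¬ ℓ ∣ 2 * N + 1 then (1 : ℤ) else 0) *
          (if m χ = 1 ∧ a χ = 1 ∧ b χ = 1 then (1 : ℤ) else 0) +
        (if ¬ ℓ ∣ 2 * N + 2 then (1 : ℤ) else 0) *
          (if m χ = 2 ∧ a χ = 1 ∧ b χ = 1 then (1 : ℤ) else 0) +
        (if ¬ ℓ ∣ N + 1 then (1 : ℤ) else 0) *
          (if m χ = 1 ∧ a χ = 1 ∧ b χ = 0 then (1 : ℤ) else 0) +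
        (if ¬ ℓ ∣ N + 1 then (1 : ℤ) else 0) *
          (if m χ = 1 ∧ a χ = 0 ∧ b χ = 1 then (1 : ℤ) else 0) +
        (if ¬ ℓ ∣ 2 * N then (1 : ℤ) else 0) *
          (if m χ = 0 ∧ a χ = 1 ∧ b χ = 1 then (1 : ℤ) else 0) +
        (if ¬ ℓ ∣ N then (1 : ℤ) else 0) *
          (if m χ = 0 ∧ a χ = 1 ∧ b χ = 0 then (1 : ℤ) else 0) +
        (if ¬ ℓ ∣ N then (1 : ℤ) else 0) *
          (if m χ = 0 ∧ a χ = 0 ∧ b χ = 1 then (1 : ℤ) else 0) := by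
    intro χ
    rw [hdeg χ]
    rcases ht χ with ⟨h1, h2, h3⟩ | ⟨h1, h2, h3⟩ | ⟨h1, h2, h3⟩ | ⟨h1, h2, h3⟩ |
      ⟨h1, h2, h3⟩ | ⟨h1, h2, h3⟩ | ⟨h1, h2, h3⟩ | ⟨h1, h2, h3⟩ <;> rw [h1, h2, h3] <;>
      simp <;> ring_nf
  rw [Finset.sum_congr rfl (fun χ _ => hper χ)]
  simp only [Finset.sum_add_distrib, ← Finset.mul_sum]
  rw [hT, hS, hP, hHp, hHm, hC11, hC10, hC01]
  split_ifs <;> ring

end Cfsg.Agent.Lib.Helper39
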