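import Cfsg.Agent.Lib.Helper39.McKayDicyclic
import Cfsg.Agent.Lib.Helper5.SL2Sylow
import Cfsg.Agent.Lib.Helper41.SL2Basic
import Cfsg.Agent.Lib.Helper41.SL2Nonsplit
import Cfsg.Agent.Lib.Helper41.SL2Torus
import Cfsg.Agent.Lib.Helper41.SL2TorusCount
import Cfsg.Agent.Lib.Helper41.SL2NsTorus
import Cfsg.Agent.Lib.Helper41.SL2NsTorusNorm
import Cfsg.Agent.Lib.Helper41.SL2NsTorusCard
import Cfsg.Agent.Lib.Helper41.SL2NsTorusMain
import Cfsg.Agent.Lib.Helper41.SL2NsTorusClass
import Cfsg.Agent.Lib.Helper41.SL2Borel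
import Cfsg.Agent.Lib.Helper41.SL2BorelClasses
import Cfsg.Agent.Lib.Helper41.SL2SylowTwo
import Cfsg.Agent.Lib.Helper41.SL2SylowTwoTori
import Cfsg.Agent.Lib.Helper41.SylowAbelian

set_option autoImplicit false

/-!
# The McKay count for the Sylow normalisers of `SL₂(q)`, `q` odd (helper39)
-/

namespace Cfsg.Agent.Lib.Helper39

open Cfsg Cfsg.Agent.Lib.Helper41
open scoped Pointwise

/-- a Sylow subgroup for a prime not dividing the group order is trivial -/
theorem mckay_right_trivial {G : Type*} [Group G] [Finite G] (ℓ : ℕ) [Fact ℓ.Prime]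
    (h : ¬ ℓ ∣ Nat.card G) (S : Sylow ℓ G) :
    Nat.card {χ : IrrCharacter (Subgroup.normalizer ((S : Subgroup G) : Set G)) //
      ¬ ℓ ∣ charDegree (χ : ↥(Subgroup.normalizer ((S : Subgroup G) : Set G)) → ℂ)} =
    Nat.card {χ : IrrCharacter G // ¬ ℓ ∣ charDegree (χ : G → ℂ)} := by
  have hS : (S : Subgroup G) = ⊥ := by
    apply Subgroup.eq_bot_of_card_eq
    obtain ⟨k, hk⟩ := IsPGroup.iff_card.mp S.isPGroup'
    rcases Nat.eq_zero_or_pos k with h0 | h0
    · rw [hk, h0, pow_zero]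
    · exfalso
      apply h
      have h1 : ℓ ∣ Nat.card (S : Subgroup G) := by rw [hk]; exact dvd_pow_self ℓ h0.ne'
      exact h1.trans (Subgroup.card_subgroup_dvd_card _)
  have hN : Subgroup.normalizer ((S : Subgroup G) : Set G) = ⊤ := by
    rw [hS]
    exact Subgroup.normalizer_eq_top ⊥
  rw [mckay_count_congr (MulEquiv.subgroupCongr hN), mckay_count_congr Subgroup.topEquiv]

variable {F : Type*} [Field F] [Fintype F]

theorem two_ne_zero_of_odd_card' (hodd : Odd (Fintype.card F)) : (2 : F) ≠ 0 := by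
  intro h
  have h' : ((2 : ℕ) : F) = 0 := by exact_mod_cast h
  have hchar : ringChar F = 2 := CharP.ringChar_of_prime_eq_zero Nat.prime_two h'
  have := FiniteField.even_card_of_char_two hchar
  rw [Nat.odd_iff] at hodd
  omega

/-- the McKay count at the prime `2` -/
theorem mckay_right_two (hodd : Odd (Fintype.card F))
    (S : Sylow 2 (Matrix.SpecialLinearGroup (Fin 2) F)) :
    Nat.card {χ : IrrCharacter (Subgroup.normalizer
        ((S : Subgroup (Matrix.SpecialLinearGroup (Fin 2) F)) :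
          Set (Matrix.SpecialLinearGroup (Fin 2) F))) //
      ¬ 2 ∣ charDegree (χ : ↥(Subgroup.normalizer
        ((S : Subgroup (Matrix.SpecialLinearGroup (Fin 2) F)) :
          Set (Matrix.SpecialLinearGroup (Fin 2) F))) → ℂ)} = 4 := by
  have h2 : (2 : F) ≠ 0 := two_ne_zero_of_odd_card' hodd
  rw [Nat.odd_iff] at hodd
  by_cases hq : Fintype.card F % 4 = 1
  · exact mckay_two_dicyclic (dicyclicTorus_diagSub h2 hq) S
  · have hq3 : Fintype.card F % 4 = 3 := by omega
    obtain ⟨t, ht⟩ := exists_nonsplit_trace (F := F)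
    exact mckay_two_dicyclic (dicyclicTorus_nsTorus h2 hq3 ht) S

section defining

open Cfsg.Agent.Lib.Helper5 in
/-- the normaliser of the unitriangular subgroup is the Borel subgroup -/
theorem normalizer_unipSL (p : ℕ) [Fact p.Prime] [CharP F p] :
    Subgroup.normalizer ((Cfsg.Agent.Lib.Helper5.unipSL F :
      Subgroup (Matrix.SpecialLinearGroup (Fin 2) F)) :
        Set (Matrix.SpecialLinearGroup (Fin 2) F)) = borelSub F := by
  ext k
  constructor
  · intro hk
    rw [Subgroup.mem_normalizer_iff] at hk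
    have h1 := (hk (Matrix.SpecialLinearGroup.transvection (zero_ne_one : (0 : Fin 2) ≠ 1) 1)).mp
      (Cfsg.Agent.Lib.Helper5.transvection01_mem_unipSL 1)
    rw [Cfsg.Agent.Lib.Helper5.mem_unipSL] at h1
    obtain ⟨-, h10, -⟩ := h1
    simp only [Cfsg.Agent.Lib.Helper5.sl2_mul_apply, Cfsg.Agent.Lib.Helper5.sl2_inv_00,
      Cfsg.Agent.Lib.Helper5.sl2_inv_10, Cfsg.Agent.Lib.Helper5.transvection01_00,
      Cfsg.Agent.Lib.Helper5.transvection01_01, Cfsg.Agent.Lib.Helper5.transvection01_10,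
      Cfsg.Agent.Lib.Helper5.transvection01_11] at h10
    rw [mem_borelSub]
    have h2 : (k : Matrix (Fin 2) (Fin 2) F) 1 0 * (k : Matrix (Fin 2) (Fin 2) F) 1 0 = 0 := by
      linear_combination -h10
    exact mul_self_eq_zero.mp h2
  · intro hk
    rw [mem_borelSub] at hk
    have h1 := Cfsg.Agent.Lib.Helper5.smul_unipSLSylow_eq_self p hk
    rw [Sylow.smul_eq_iff_mem_normalizer] at h1
    exact h1

omit [Fintype F] in
theorem unipSL_le_borelSub :
    (Cfsg.Agent.Lib.Helper5.unipSL F : Subgroup (Matrix.SpecialLinearGroup (Fin 2) F)) ≤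
      borelSub F := by
  intro g hg
  rw [mem_borelSub]
  exact hg.2.1

/-- the McKay count at the defining characteristic -/
theorem mckay_right_char (h2 : (2 : F) ≠ 0) (ℓ : ℕ) [Fact ℓ.Prime] [CharP F ℓ]
    (S : Sylow ℓ (Matrix.SpecialLinearGroup (Fin 2) F)) :
    Nat.card {χ : IrrCharacter (Subgroup.normalizer
        ((S : Subgroup (Matrix.SpecialLinearGroup (Fin 2) F)) :
          Set (Matrix.SpecialLinearGroup (Fin 2) F))) //
      ¬ ℓ ∣ charDegree (χ : ↥(Subgroup.normalizer
        ((S : Subgroup (Matrix.SpecialLinearGroup (Fin 2) F)) :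
          Set (Matrix.SpecialLinearGroup (Fin 2) F))) → ℂ)} = Fintype.card F + 3 := by
  classical
  have hℓp : ℓ.Prime := Fact.out
  have hq : 2 ≤ Fintype.card F := Fintype.one_lt_card
  obtain ⟨g, hg⟩ := Cfsg.Agent.Lib.Helper5.exists_smul_unipSLSylow_eq ℓ S
  have hSg : (S : Subgroup (Matrix.SpecialLinearGroup (Fin 2) F)) =
      MulAut.conj g • Cfsg.Agent.Lib.Helper5.unipSL F := by
    rw [← hg]; exact Cfsg.Agent.Lib.Helper5.smul_unipSLSylow_coe ℓ g
  have hN : Subgroup.normalizer ((S : Subgroup (Matrix.SpecialLinearGroup (Fin 2) F)) :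
      Set (Matrix.SpecialLinearGroup (Fin 2) F)) = MulAut.conj g • borelSub F := by
    rw [hSg, normalizer_conj_smul, normalizer_unipSL ℓ]
  rw [mckay_count_congr (MulEquiv.subgroupCongr hN),
    ← mckay_count_congr (Subgroup.equivSMul (MulAut.conj g) (borelSub F)),
    ← card_conjClasses_borelSub h2]
  have hnormal : ((Cfsg.Agent.Lib.Helper5.unipSL F).subgroupOf (borelSub F)).Normal := by
    have : ∀ B : Subgroup (Matrix.SpecialLinearGroup (Fin 2) F),
        Subgroup.normalizer ((Cfsg.Agent.Lib.Helper5.unipSL F :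
          Subgroup (Matrix.SpecialLinearGroup (Fin 2) F)) :
            Set (Matrix.SpecialLinearGroup (Fin 2) F)) = B →
        ((Cfsg.Agent.Lib.Helper5.unipSL F).subgroupOf B).Normal := by
      rintro B rfl
      exact Subgroup.normal_in_normalizer
    exact this _ (normalizer_unipSL ℓ)
  apply mckay_count_of_abelian_normal ((Cfsg.Agent.Lib.Helper5.unipSL F).subgroupOf (borelSub F))
  · rintro ⟨a, ha⟩ haU ⟨b, hb⟩ hbU
    rw [Subgroup.mem_subgroupOf] at haU hbU
    have haU' : a ∈ Cfsg.Agent.Lib.Helper5.unipSL F := haU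
    have hbU' : b ∈ Cfsg.Agent.Lib.Helper5.unipSL F := hbU
    obtain ⟨a1, a2, a3⟩ := Cfsg.Agent.Lib.Helper5.mem_unipSL.mp haU'
    obtain ⟨b1, b2, b3⟩ := Cfsg.Agent.Lib.Helper5.mem_unipSL.mp hbU'
    apply Subtype.ext
    simp only [Subgroup.coe_mul]
    apply Cfsg.Agent.Lib.Helper5.sl2_ext <;>
      simp only [Cfsg.Agent.Lib.Helper5.sl2_mul_apply, a1, a2, a3, b1, b2, b3] <;> ring
  · have h1 := ((Cfsg.Agent.Lib.Helper5.unipSL F).subgroupOf (borelSub F)).card_mul_index
    rw [Nat.card_congr (Subgroup.subgroupOfEquivOfLe (unipSL_le_borelSub (F := F))).toEquiv,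
      Cfsg.Agent.Lib.Helper5.card_unipSL, card_borelSub, mul_comm] at h1
    have h3 : ((Cfsg.Agent.Lib.Helper5.unipSL F).subgroupOf (borelSub F)).index =
        Fintype.card F - 1 := Nat.eq_of_mul_eq_mul_right (by omega) h1
    rw [h3]
    intro hcon
    have hdvd : ℓ ∣ Fintype.card F := Cfsg.Agent.Lib.Helper5.char_dvd_card ℓ
    have := Nat.dvd_sub hdvd hcon
    rw [show Fintype.card F - (Fintype.card F - 1) = 1 by omega] at this
    exact hℓp.one_lt.ne' (Nat.dvd_one.mp this)

end defining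

section tori

theorem isDiag_commute' {g h : Matrix.SpecialLinearGroup (Fin 2) F}
    (hg : IsDiag g) (hh : IsDiag h) : g * h = h * g := by
  apply sl2_ext <;>
    simp only [mul_apply_00, mul_apply_01, mul_apply_10, mul_apply_11, hg.1, hg.2, hh.1, hh.2] <;>
    ring

theorem not_order_of_mul_self' {G : Type*} [Group G] {x : G} (hx : x * x = 1) {ℓ : ℕ}
    (hℓp : ℓ.Prime) (hℓ : ℓ ≠ 2) : orderOf x ≠ ℓ := by
  intro h
  have h2 : orderOf x ∣ 2 := orderOf_dvd_of_pow_eq_one (by rw [pow_two]; exact hx)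
  rw [h] at h2
  exact hℓ ((Nat.prime_dvd_prime_iff_eq hℓp Nat.prime_two).mp h2)

/-- the McKay count at an odd prime dividing `q - 1` -/
theorem mckay_right_split (hodd : Odd (Fintype.card F)) (ℓ : ℕ) [Fact ℓ.Prime] (hℓ : ℓ ≠ 2)
    (hdvd : ℓ ∣ Fintype.card F - 1) (hnq : ¬ ℓ ∣ Fintype.card F)
    (P : Sylow ℓ (Matrix.SpecialLinearGroup (Fin 2) F)) :
    2 * Nat.card {χ : IrrCharacter (Subgroup.normalizer
        ((P : Subgroup (Matrix.SpecialLinearGroup (Fin 2) F)) :
          Set (Matrix.SpecialLinearGroup (Fin 2) F))) //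
      ¬ ℓ ∣ charDegree (χ : ↥(Subgroup.normalizer
        ((P : Subgroup (Matrix.SpecialLinearGroup (Fin 2) F)) :
          Set (Matrix.SpecialLinearGroup (Fin 2) F))) → ℂ)} = (Fintype.card F - 1) + 6 := by
  classical
  have h2 : (2 : F) ≠ 0 := two_ne_zero_of_odd_card' hodd
  have hℓp : ℓ.Prime := Fact.out
  have hq : 2 ≤ Fintype.card F := Fintype.one_lt_card
  have hG : Nat.card (Matrix.SpecialLinearGroup (Fin 2) F)
      = Fintype.card F * (Fintype.card F ^ 2 - 1) := Cfsg.Agent.Lib.Helper5.card_SL2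
  have hfac : Fintype.card F ^ 2 - 1 = (Fintype.card F + 1) * (Fintype.card F - 1) := by
    zify [show 1 ≤ Fintype.card F by omega,
      show 1 ≤ Fintype.card F ^ 2 from Nat.one_le_pow _ _ (by omega)]
    ring
  have hcop3 : ¬ ℓ ∣ Fintype.card F + 1 := by
    intro hcon
    have := (Nat.dvd_sub hcon hdvd)
    rw [show Fintype.card F + 1 - (Fintype.card F - 1) = 2 by omega] at this
    exact hℓ ((Nat.prime_dvd_prime_iff_eq hℓp Nat.prime_two).mp this)
  have hcardT : Nat.card (diagSub F) = Fintype.card F - 1 := card_diagSub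
  have hidx : ¬ ℓ ∣ (diagSub F).index := by
    intro hcon
    have h1 := (diagSub F).card_mul_index
    rw [hcardT, hG, hfac] at h1
    have h3 : (diagSub F).index = Fintype.card F * (Fintype.card F + 1) := by
      have hpos : 0 < Fintype.card F - 1 := by omega
      apply Nat.eq_of_mul_eq_mul_left hpos
      rw [h1]; ring
    rw [h3] at hcon
    rcases (Nat.Prime.dvd_mul hℓp).mp hcon with h | h
    · exact hnq h
    · exact hcop3 h
  have hreg : ∀ x ∈ diagSub F, orderOf x = ℓ →
      (x : Matrix (Fin 2) (Fin 2) F) 0 0 ^ 2 ≠ 1 := by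
    intro x hx hord ha
    have hdet := sl2_det x
    rw [hx.1, zero_mul, sub_zero] at hdet
    have h11 : (x : Matrix (Fin 2) (Fin 2) F) 1 1 = (x : Matrix (Fin 2) (Fin 2) F) 0 0 := by
      calc (x : Matrix (Fin 2) (Fin 2) F) 1 1
          = (x : Matrix (Fin 2) (Fin 2) F) 0 0 ^ 2 * (x : Matrix (Fin 2) (Fin 2) F) 1 1 := by
            rw [ha, one_mul]
        _ = (x : Matrix (Fin 2) (Fin 2) F) 0 0 := by
            rw [pow_two, mul_assoc, hdet, mul_one]
    have hxx : x * x = 1 := by
      apply sl2_ext <;>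
        simp only [mul_apply_00, mul_apply_01, mul_apply_10, mul_apply_11, hx.1, hx.2, h11] <;>
        simp
      · rw [← pow_two]; exact ha
      · rw [← pow_two]; exact ha
    exact not_order_of_mul_self' hxx hℓp hℓ hord
  obtain ⟨g, -, hNg⟩ := exists_conj_centralizer_normalizer_sylow (diagSub F) ℓ
    (fun a ha b hb => isDiag_commute' ha hb) (by rw [hcardT]; exact hdvd) hidx
    (fun x hx hord => (centralizer_eq_diagSub x hx (hreg x hx hord)).le) P
  obtain ⟨x₀, hx₀⟩ := exists_prime_orderOf_dvd_card' (G := diagSub F) ℓ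
    (by rw [hcardT]; exact hdvd)
  have hx₀' : orderOf ((x₀ : diagSub F) : Matrix.SpecialLinearGroup (Fin 2) F) = ℓ := by
    rw [Subgroup.orderOf_coe, hx₀]
  have hN := normalizer_diagSub (x₀ : Matrix.SpecialLinearGroup (Fin 2) F) x₀.2
    (hreg _ x₀.2 hx₀')
  rw [hN] at hNg
  rw [mckay_count_congr (MulEquiv.subgroupCongr hNg),
    ← mckay_count_congr (Subgroup.equivSMul (MulAut.conj g) (monoSub F)),
    ← two_mul_card_conjClasses_monoSub h2]
  congr 1
  have hnormal : ((diagSub F).subgroupOf (monoSub F)).Normal :=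
    Subgroup.normal_of_index_eq_two index_diagSub_subgroupOf_monoSub
  apply mckay_count_of_abelian_normal ((diagSub F).subgroupOf (monoSub F))
  · rintro ⟨a, ha⟩ haU ⟨b, hb⟩ hbU
    rw [Subgroup.mem_subgroupOf] at haU hbU
    apply Subtype.ext
    exact isDiag_commute' haU hbU
  · rw [index_diagSub_subgroupOf_monoSub]
    intro hcon
    exact hℓ ((Nat.prime_dvd_prime_iff_eq hℓp Nat.prime_two).mp hcon)

/-- the McKay count at an odd prime dividing `q + 1` -/
theorem mckay_right_nonsplit (hodd : Odd (Fintype.card F)) (ℓ : ℕ) [Fact ℓ.Prime] (hℓ : ℓ ≠ 2)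
    (hdvd : ℓ ∣ Fintype.card F + 1) (hnq : ¬ ℓ ∣ Fintype.card F)
    (P : Sylow ℓ (Matrix.SpecialLinearGroup (Fin 2) F)) :
    2 * Nat.card {χ : IrrCharacter (Subgroup.normalizer
        ((P : Subgroup (Matrix.SpecialLinearGroup (Fin 2) F)) :
          Set (Matrix.SpecialLinearGroup (Fin 2) F))) //
      ¬ ℓ ∣ charDegree (χ : ↥(Subgroup.normalizer
        ((P : Subgroup (Matrix.SpecialLinearGroup (Fin 2) F)) :
          Set (Matrix.SpecialLinearGroup (Fin 2) F))) → ℂ)} = (Fintype.card F + 1) + 6 := by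
  classical
  have h2 : (2 : F) ≠ 0 := two_ne_zero_of_odd_card' hodd
  have hℓp : ℓ.Prime := Fact.out
  have hq : 2 ≤ Fintype.card F := Fintype.one_lt_card
  have hG : Nat.card (Matrix.SpecialLinearGroup (Fin 2) F)
      = Fintype.card F * (Fintype.card F ^ 2 - 1) := Cfsg.Agent.Lib.Helper5.card_SL2
  have hfac : Fintype.card F ^ 2 - 1 = (Fintype.card F + 1) * (Fintype.card F - 1) := by
    zify [show 1 ≤ Fintype.card F by omega,
      show 1 ≤ Fintype.card F ^ 2 from Nat.one_le_pow _ _ (by omega)]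
    ring
  have hcop3 : ¬ ℓ ∣ Fintype.card F - 1 := by
    intro hcon
    have := (Nat.dvd_sub hdvd hcon)
    rw [show Fintype.card F + 1 - (Fintype.card F - 1) = 2 by omega] at this
    exact hℓ ((Nat.prime_dvd_prime_iff_eq hℓp Nat.prime_two).mp this)
  obtain ⟨t, ht⟩ := exists_nonsplit_trace (F := F)
  have hcardT : Nat.card (nsTorus t) = Fintype.card F + 1 := card_nsTorus ht
  have hidx : ¬ ℓ ∣ (nsTorus t).index := by
    intro hcon
    have h1 := (nsTorus t).card_mul_index
    rw [hcardT, hG, hfac] at h1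
    have h3 : (nsTorus t).index = Fintype.card F * (Fintype.card F - 1) := by
      have hpos : 0 < Fintype.card F + 1 := by omega
      apply Nat.eq_of_mul_eq_mul_left hpos
      rw [h1]; ring
    rw [h3] at hcon
    rcases (Nat.Prime.dvd_mul hℓp).mp hcon with h | h
    · exact hnq h
    · exact hcop3 h
  have hreg : ∀ x ∈ nsTorus t, orderOf x = ℓ →
      (x : Matrix (Fin 2) (Fin 2) F) 1 0 ≠ 0 := by
    intro x hx hord hc
    rw [mem_nsTorus_iff] at hx
    have hxx : x * x = 1 := by
      apply Subtype.ext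
      rw [Matrix.SpecialLinearGroup.coe_mul]
      rcases hx.eq_one_or_neg_one hc with h | h <;> rw [h] <;> simp
    exact not_order_of_mul_self' hxx hℓp hℓ hord
  have hcommT : ∀ a ∈ nsTorus t, ∀ b ∈ nsTorus t, a * b = b * a :=
    fun a ha b hb => ((mem_nsTorus_iff t a).mp ha).commute ((mem_nsTorus_iff t b).mp hb)
  obtain ⟨g, -, hNg⟩ := exists_conj_centralizer_normalizer_sylow (nsTorus t) ℓ
    hcommT (by rw [hcardT]; exact hdvd) hidx
    (fun x hx hord =>
      (centralizer_eq_nsTorus ((mem_nsTorus_iff t x).mp hx) (hreg x hx hord)).le) P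
  have ht4 := sq_ne_four_of_nonsplit h2 ht
  rw [mckay_count_congr (MulEquiv.subgroupCongr hNg),
    ← mckay_count_congr (Subgroup.equivSMul (MulAut.conj g)
      (Subgroup.normalizer (nsTorus t : Set (Matrix.SpecialLinearGroup (Fin 2) F)))),
    ← two_mul_card_conjClasses_normalizer_nsTorus h2 ht]
  congr 1
  have hnormal : ((nsTorus t).subgroupOf
      (Subgroup.normalizer (nsTorus t : Set (Matrix.SpecialLinearGroup (Fin 2) F)))).Normal :=
    Subgroup.normal_in_normalizer
  apply mckay_count_of_abelian_normal ((nsTorus t).subgroupOf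
      (Subgroup.normalizer (nsTorus t : Set (Matrix.SpecialLinearGroup (Fin 2) F))))
  · rintro ⟨a, ha⟩ haU ⟨b, hb⟩ hbU
    rw [Subgroup.mem_subgroupOf] at haU hbU
    apply Subtype.ext
    exact hcommT a haU b hbU
  · rw [index_nsTorus_subgroupOf_normalizer h2 ht4]
    intro hcon
    exact hℓ ((Nat.prime_dvd_prime_iff_eq hℓp Nat.prime_two).mp hcon)

end tori

end Cfsg.Agent.Lib.Helper39
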