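import Cfsg.Agent.Lib.Helper39.DegGraph
import Cfsg.Agent.Lib.Helper39.IrrSums
import Cfsg.Agent.Lib.Helper39.DegType
import Cfsg.Agent.Lib.Helper57.CardSL
import Cfsg.Agent.Lib.Helper77.Deflation
import Cfsg.Agent.S4765

set_option autoImplicit false
set_option linter.style.haveILetI false

/-!
# Character degree sets of `SL₂(q)` and `PSL₂(q)`, `q` odd, and their degree graph (helper39)
-/

namespace Cfsg.Agent.Lib.Helper39

open scoped ComplexConjugate

/-- regrouping a sum according to the value of `d`, when the values are among the `k j` -/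
theorem sum_regroup {ι J : Type*} [Fintype ι] [Fintype J] [DecidableEq J] (d : ι → ℕ) (k : J → ℕ)
    (hk : Function.Injective k) (hd : ∀ i, ∃ j, d i = k j) (f : ℕ → ℤ) :
    ∑ i, f (d i) = ∑ j, f (k j) * ∑ i, (if d i = k j then (1 : ℤ) else 0) := by
  simp only [Finset.mul_sum]
  rw [Finset.sum_comm]
  refine Finset.sum_congr rfl (fun i _ => ?_)
  obtain ⟨j₀, hj₀⟩ := hd i
  rw [Finset.sum_eq_single j₀]
  · rw [if_pos hj₀, mul_one, hj₀]
  · intro j _ hne
    rw [if_neg, mul_zero]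
    intro h
    exact hne (hk (h.symm.trans hj₀))
  · intro h; exact absurd (Finset.mem_univ _) h

/-- the arithmetic behind the existence of characters of degrees `q ± 1` of `PSL₂(q)` -/
theorem psl2_count_arith (N nq e x h c : ℕ) (hN : 3 ≤ N) (hq : nq ≤ 1)
    (hx : x ≤ N) (hh : h ≤ 2) (hc : c ≤ 2)
    (E : 1 + (2 * N + 1) ^ 2 * nq + (2 * N + 2) ^ 2 * e + (2 * N) ^ 2 * x + (N + 1) ^ 2 * h +
      N ^ 2 * c = 2 * N * (N + 1) * (2 * N + 1)) : 1 ≤ e ∧ 1 ≤ x := by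
  have EZ : (1 : ℤ) + (2 * N + 1) ^ 2 * nq + (2 * N + 2) ^ 2 * e + (2 * N) ^ 2 * x +
      (N + 1) ^ 2 * h + N ^ 2 * c = 2 * N * (N + 1) * (2 * N + 1) := by exact_mod_cast E
  constructor
  · by_contra hcon
    have he : e = 0 := by omega
    subst he
    have hdiv : (N : ℤ) ∣ 1 + nq + h := by
      refine ⟨2 * (N + 1) * (2 * N + 1) - (4 * N + 4) * nq - 4 * N * x - (N + 2) * h - N * c, ?_⟩
      linear_combination EZ
    have hle : (N : ℤ) ≤ 1 + nq + h := Int.le_of_dvd (by positivity) hdiv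
    have hN4 : N ≤ 4 := by omega
    interval_cases N
    · norm_num at E
      interval_cases nq <;> interval_cases h <;> interval_cases c <;> omega
    · norm_num at E
      interval_cases nq <;> interval_cases h <;> interval_cases c <;> omega
  · by_contra hcon
    have hx0 : x = 0 := by omega
    subst hx0
    have hdiv : ((N : ℤ) + 1) ∣ 1 + nq + c := by
      refine ⟨2 * N * (2 * N + 1) - 4 * (N + 1) * e - (N + 1) * h - 4 * N * nq - (N - 1) * c, ?_⟩
      linear_combination EZ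
    have hle : (N : ℤ) + 1 ≤ 1 + nq + c := Int.le_of_dvd (by positivity) hdiv
    have hN3 : N = 3 := by omega
    subst hN3
    norm_num at E
    interval_cases nq <;> interval_cases h <;> interval_cases c <;> omega

/-- regrouping a sum according to the value of `d` (cardinality version) -/
theorem sum_regroup_card {ι J : Type*} [Fintype ι] [Fintype J] [DecidableEq J] (d : ι → ℕ)
    (k : J → ℕ) (hk : Function.Injective k) (hd : ∀ i, ∃ j, d i = k j) (f : ℕ → ℤ) :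
    ∑ i, f (d i) = ∑ j, f (k j) * ((Nat.card {i : ι // d i = k j} : ℕ) : ℤ) := by
  rw [sum_regroup d k hk hd f]
  refine Finset.sum_congr rfl (fun j _ => ?_)
  rw [natCard_subtype_eq_sum_indicator]

section odd

variable (F : Type*) [Field F] [Fintype F]

/-- the numbers of irreducible characters of `SL₂(q)`, `q = 2 N + 1`, by degree -/
theorem cnt_SL2_odd (N : ℕ) (hN : Fintype.card F = 2 * N + 1) (hN2 : 2 ≤ N) :
    (∀ χ : Matrix.SpecialLinearGroup (Fin 2) F → ℂ,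
      Cfsg.IsIrrCharacter (Matrix.SpecialLinearGroup (Fin 2) F) χ →
      χ 1 = ((1 : ℕ) : ℂ) ∨ χ 1 = ((2 * N + 1 : ℕ) : ℂ) ∨ χ 1 = ((2 * N + 2 : ℕ) : ℂ) ∨
        χ 1 = ((2 * N : ℕ) : ℂ) ∨ χ 1 = ((N + 1 : ℕ) : ℂ) ∨ χ 1 = ((N : ℕ) : ℂ)) ∧
    Nat.card {χ : Cfsg.IrrCharacter (Matrix.SpecialLinearGroup (Fin 2) F) //
      (χ : Matrix.SpecialLinearGroup (Fin 2) F → ℂ) 1 = ((1 : ℕ) : ℂ)} = 1 ∧
    Nat.card {χ : Cfsg.IrrCharacter (Matrix.SpecialLinearGroup (Fin 2) F) //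
      (χ : Matrix.SpecialLinearGroup (Fin 2) F → ℂ) 1 = ((2 * N + 1 : ℕ) : ℂ)} = 1 ∧
    Nat.card {χ : Cfsg.IrrCharacter (Matrix.SpecialLinearGroup (Fin 2) F) //
      (χ : Matrix.SpecialLinearGroup (Fin 2) F → ℂ) 1 = ((2 * N + 2 : ℕ) : ℂ)} = N - 1 ∧
    Nat.card {χ : Cfsg.IrrCharacter (Matrix.SpecialLinearGroup (Fin 2) F) //
      (χ : Matrix.SpecialLinearGroup (Fin 2) F → ℂ) 1 = ((2 * N : ℕ) : ℂ)} = N ∧
    Nat.card {χ : Cfsg.IrrCharacter (Matrix.SpecialLinearGroup (Fin 2) F) //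
      (χ : Matrix.SpecialLinearGroup (Fin 2) F → ℂ) 1 = ((N + 1 : ℕ) : ℂ)} = 2 ∧
    Nat.card {χ : Cfsg.IrrCharacter (Matrix.SpecialLinearGroup (Fin 2) F) //
      (χ : Matrix.SpecialLinearGroup (Fin 2) F → ℂ) 1 = ((N : ℕ) : ℂ)} = 2 := by
  have hodd : Odd (Fintype.card F) := ⟨N, hN⟩
  have h := Cfsg.Agent.S2299.result hodd
  have hh1 : (Fintype.card F + 1) / 2 = N + 1 := by omega
  have hh2 : (Fintype.card F - 1) / 2 = N := by omega
  have hh3 : (Fintype.card F - 3) / 2 = N - 1 := by omega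
  have hqm1 : (Fintype.card F : ℂ) - 1 = ((2 * N : ℕ) : ℂ) := by rw [hN]; push_cast; ring
  have hqp1 : (Fintype.card F : ℂ) + 1 = ((2 * N + 2 : ℕ) : ℂ) := by rw [hN]; push_cast; ring
  have hq0 : (Fintype.card F : ℂ) = ((2 * N + 1 : ℕ) : ℂ) := by rw [hN]
  have h1C : (1 : ℂ) = ((1 : ℕ) : ℂ) := by simp
  rw [hh1, hh2, hh3, hqm1, hqp1, hq0, h1C] at h
  obtain ⟨h1, h2⟩ := h
  obtain ⟨c1, c2, c3, c4, c5, c6⟩ := h2 (by omega)
  exact ⟨h1, c1, c2, c3, c4, c5, c6⟩

/-- the character degrees of `SL₂(q)`, `q = 2 N + 1 ≥ 7` -/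
theorem charDegrees_SL2_odd (N : ℕ) (hN : Fintype.card F = 2 * N + 1) (hN3 : 3 ≤ N) :
    Cfsg.charDegrees (Matrix.SpecialLinearGroup (Fin 2) F) ⊆
      {1, 2 * N + 1, 2 * N + 2, 2 * N, N + 1, N} ∧
    2 * N + 1 ∈ Cfsg.charDegrees (Matrix.SpecialLinearGroup (Fin 2) F) ∧
    2 * N + 2 ∈ Cfsg.charDegrees (Matrix.SpecialLinearGroup (Fin 2) F) ∧
    2 * N ∈ Cfsg.charDegrees (Matrix.SpecialLinearGroup (Fin 2) F) := by
  obtain ⟨h1, c1, c2, c3, c4, c5, c6⟩ := cnt_SL2_odd F N hN (by omega)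
  have hex : ∀ (k : ℕ),
      0 < Nat.card {χ : Cfsg.IrrCharacter (Matrix.SpecialLinearGroup (Fin 2) F) //
        (χ : Matrix.SpecialLinearGroup (Fin 2) F → ℂ) 1 = (k : ℂ)} →
      k ∈ Cfsg.charDegrees (Matrix.SpecialLinearGroup (Fin 2) F) := by
    intro k hpos
    obtain ⟨⟨χ, hχ⟩⟩ := (Nat.card_pos_iff.mp hpos).1
    exact ⟨χ, charDegree_natCast _ k hχ⟩
  refine ⟨?_, hex _ (by rw [c2]; norm_num), hex _ (by rw [c3]; omega), hex _ (by rw [c4]; omega)⟩
  rintro d ⟨χ, rfl⟩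
  simp only [Set.mem_insert_iff, Set.mem_singleton_iff]
  rcases h1 χ.1 χ.2 with h | h | h | h | h | h
  · left; exact charDegree_natCast _ _ h
  · right; left; exact charDegree_natCast _ _ h
  · right; right; left; exact charDegree_natCast _ _ h
  · right; right; right; left; exact charDegree_natCast _ _ h
  · right; right; right; right; left; exact charDegree_natCast _ _ h
  · right; right; right; right; right; exact charDegree_natCast _ _ h

/-- the order of `PSL₂(q)`, `q = 2 N + 1` -/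
theorem card_PSL2_odd (N : ℕ) (hN : Fintype.card F = 2 * N + 1) :
    Nat.card (Matrix.ProjectiveSpecialLinearGroup (Fin 2) F) = 2 * N * (N + 1) * (2 * N + 1) := by
  have h := Cfsg.Agent.Lib.Helper57.card_PSL_formula (F := F) 2 (by norm_num)
  rw [Fin.prod_univ_two, hN] at h
  simp only [Fin.val_zero, Fin.val_one, pow_zero, pow_one, Nat.add_sub_cancel] at h
  have hg : Nat.gcd 2 (2 * N) = 2 := Nat.gcd_eq_left (Dvd.intro _ rfl)
  rw [hg] at h
  have h1 : (2 * N + 1) ^ 2 - 1 = 4 * N * (N + 1) := by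
    apply Nat.sub_eq_of_eq_add; ring
  have h2 : (2 * N + 1) ^ 2 - (2 * N + 1) = 2 * N * (2 * N + 1) := by
    apply Nat.sub_eq_of_eq_add; ring
  rw [h1, h2] at h
  rcases Nat.eq_zero_or_pos N with h0 | hpos
  · subst h0
    exfalso
    have : 2 ≤ Fintype.card F := Fintype.one_lt_card
    omega
  · have h4 : 0 < 4 * N := by omega
    apply Nat.eq_of_mul_eq_mul_left h4
    rw [← mul_assoc] at h
    have e : 4 * N = 2 * (2 * N) := by ring
    rw [e, h]
    ring

/-- the character degrees of `PSL₂(q)`, `q = 2 N + 1 ≥ 7` -/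
theorem charDegrees_PSL2_odd (t : ℕ) [Fact t.Prime] [CharP F t] (N : ℕ)
    (hN : Fintype.card F = 2 * N + 1) (hN3 : 3 ≤ N) :
    Cfsg.charDegrees (Matrix.ProjectiveSpecialLinearGroup (Fin 2) F) ⊆
      {1, 2 * N + 1, 2 * N + 2, 2 * N, N + 1, N} ∧
    2 * N + 1 ∈ Cfsg.charDegrees (Matrix.ProjectiveSpecialLinearGroup (Fin 2) F) ∧
    2 * N + 2 ∈ Cfsg.charDegrees (Matrix.ProjectiveSpecialLinearGroup (Fin 2) F) ∧
    2 * N ∈ Cfsg.charDegrees (Matrix.ProjectiveSpecialLinearGroup (Fin 2) F) := by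
  classical
  obtain ⟨h1, c1, c2, c3, c4, c5, c6⟩ := cnt_SL2_odd F N hN (by omega)
  haveI : Fintype (Matrix.ProjectiveSpecialLinearGroup (Fin 2) F) := Fintype.ofFinite _
  -- the degree of a character of `PSL₂`
  have hinfl : ∀ χ : Cfsg.IrrCharacter (Matrix.ProjectiveSpecialLinearGroup (Fin 2) F),
      (χ : Matrix.ProjectiveSpecialLinearGroup (Fin 2) F → ℂ) 1 =
        (Cfsg.Agent.Lib.Helper77.inflate (Subgroup.center (Matrix.SpecialLinearGroup (Fin 2) F)) χ :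
          Matrix.SpecialLinearGroup (Fin 2) F → ℂ) 1 := by
    intro χ
    rw [Cfsg.Agent.Lib.Helper77.inflate_apply, QuotientGroup.mk_one]
  let d : Cfsg.IrrCharacter (Matrix.ProjectiveSpecialLinearGroup (Fin 2) F) → ℕ :=
    fun χ => Cfsg.charDegree (χ : Matrix.ProjectiveSpecialLinearGroup (Fin 2) F → ℂ)
  let k : Fin 6 → ℕ := ![1, 2 * N + 1, 2 * N + 2, 2 * N, N + 1, N]
  have hdk : ∀ χ : Cfsg.IrrCharacter (Matrix.ProjectiveSpecialLinearGroup (Fin 2) F),
      ∃ j, (χ : Matrix.ProjectiveSpecialLinearGroup (Fin 2) F → ℂ) 1 = (k j : ℂ) := by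
    intro χ
    rw [hinfl χ]
    rcases h1 _ (Cfsg.Agent.Lib.Helper77.inflate
      (Subgroup.center (Matrix.SpecialLinearGroup (Fin 2) F)) χ).2 with h | h | h | h | h | h
    · exact ⟨0, h⟩
    · exact ⟨1, h⟩
    · exact ⟨2, h⟩
    · exact ⟨3, h⟩
    · exact ⟨4, h⟩
    · exact ⟨5, h⟩
  have hd : ∀ χ : Cfsg.IrrCharacter (Matrix.ProjectiveSpecialLinearGroup (Fin 2) F),
      (χ : Matrix.ProjectiveSpecialLinearGroup (Fin 2) F → ℂ) 1 = (d χ : ℂ) := by
    intro χ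
    obtain ⟨j, hj⟩ := hdk χ
    rw [hj]
    congr 1
    exact (charDegree_natCast _ _ hj).symm
  have hcover : ∀ χ, ∃ j, d χ = k j := by
    intro χ
    obtain ⟨j, hj⟩ := hdk χ
    exact ⟨j, charDegree_natCast _ _ hj⟩
  have hkinj : Function.Injective k := by
    intro i j hij
    fin_cases i <;> fin_cases j <;> simp [k] at hij ⊢ <;> omega
  -- the count of characters of `PSL₂` of a given degree is at most that of `SL₂`
  have hle : ∀ j : ℕ, (∑ χ, (if d χ = j then (1 : ℤ) else 0)) ≤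
      (Nat.card {χ : Cfsg.IrrCharacter (Matrix.SpecialLinearGroup (Fin 2) F) //
        (χ : Matrix.SpecialLinearGroup (Fin 2) F → ℂ) 1 = (j : ℂ)} : ℤ) := by
    intro j
    rw [← natCard_subtype_eq_sum_indicator]
    have : Nat.card {χ : Cfsg.IrrCharacter (Matrix.ProjectiveSpecialLinearGroup (Fin 2) F) //
        d χ = j} ≤
        Nat.card {χ : Cfsg.IrrCharacter (Matrix.SpecialLinearGroup (Fin 2) F) //
          (χ : Matrix.SpecialLinearGroup (Fin 2) F → ℂ) 1 = (j : ℂ)} := by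
      apply Nat.card_le_card_of_injective
        (fun χ => ⟨Cfsg.Agent.Lib.Helper77.inflate
          (Subgroup.center (Matrix.SpecialLinearGroup (Fin 2) F)) χ.1, by
            rw [← hinfl, hd, χ.2]⟩)
      intro χ₁ χ₂ h
      apply Subtype.ext
      apply Cfsg.Agent.Lib.Helper77.inflate_injective
        (Subgroup.center (Matrix.SpecialLinearGroup (Fin 2) F))
      exact congrArg Subtype.val h
    exact_mod_cast this
  -- the sum of the squares of the degrees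
  have hsq : ∑ χ, ((d χ : ℕ) : ℤ) ^ 2 = 2 * (N : ℤ) * ((N : ℤ) + 1) * (2 * (N : ℤ) + 1) := by
    have h := sum_irr_deg_sq (G := Matrix.ProjectiveSpecialLinearGroup (Fin 2) F)
    rw [card_PSL2_odd F N hN] at h
    have h2 : ∀ χ : Cfsg.IrrCharacter (Matrix.ProjectiveSpecialLinearGroup (Fin 2) F),
        (χ : Matrix.ProjectiveSpecialLinearGroup (Fin 2) F → ℂ) 1 *
          conj ((χ : Matrix.ProjectiveSpecialLinearGroup (Fin 2) F → ℂ) 1) =
        ((((d χ : ℕ) : ℤ) ^ 2 : ℤ) : ℂ) := by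
      intro χ
      rw [hd χ, Complex.conj_natCast]
      push_cast
      ring
    rw [Finset.sum_congr rfl (fun χ _ => h2 χ), ← Int.cast_sum] at h
    have h3 : ((∑ χ, ((d χ : ℕ) : ℤ) ^ 2 : ℤ) : ℂ) =
        ((2 * (N : ℤ) * ((N : ℤ) + 1) * (2 * (N : ℤ) + 1) : ℤ) : ℂ) := by
      rw [h]; push_cast; ring
    exact_mod_cast h3
  have hre := sum_regroup_card d k hkinj hcover (fun n => ((n : ℕ) : ℤ) ^ 2)
  rw [hsq, Fin.sum_univ_six] at hre
  simp only [k, Matrix.cons_val_zero, Matrix.cons_val_one, Matrix.head_cons,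
    Matrix.cons_val_two, Matrix.tail_cons, Matrix.cons_val_three, Matrix.cons_val_four,
    Matrix.cons_val] at hre
  have hcn : ∀ j : ℕ, (∑ χ, (if d χ = j then (1 : ℤ) else 0)) =
      ((Nat.card {χ : Cfsg.IrrCharacter (Matrix.ProjectiveSpecialLinearGroup (Fin 2) F) //
        d χ = j} : ℕ) : ℤ) := fun j => (natCard_subtype_eq_sum_indicator _).symm
  have hle' : ∀ j : ℕ,
      Nat.card {χ : Cfsg.IrrCharacter (Matrix.ProjectiveSpecialLinearGroup (Fin 2) F) // d χ = j} ≤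
      Nat.card {χ : Cfsg.IrrCharacter (Matrix.SpecialLinearGroup (Fin 2) F) //
        (χ : Matrix.SpecialLinearGroup (Fin 2) F → ℂ) 1 = (j : ℂ)} := by
    intro j
    have := hle j
    rw [hcn j] at this
    exact_mod_cast this
  -- the trivial character
  have hone : Cfsg.IsIrrCharacter (Matrix.ProjectiveSpecialLinearGroup (Fin 2) F)
      (fun _ => (1 : ℂ)) := Cfsg.Agent.Lib.Helper80.isIrrCharacter_one
  have hcn1 : Nat.card {χ : Cfsg.IrrCharacter (Matrix.ProjectiveSpecialLinearGroup (Fin 2) F) //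
      d χ = 1} = 1 := by
    apply le_antisymm
    · have := hle' 1
      rwa [c1] at this
    · apply Nat.card_pos_iff.mpr
      refine ⟨⟨⟨⟨fun _ => (1 : ℂ), hone⟩, ?_⟩⟩, inferInstance⟩
      exact charDegree_natCast _ 1 (by simp)
  rw [hcn1] at hre
  have b2 := hle' (2 * N + 1)
  have b4 := hle' (2 * N)
  have b5 := hle' (N + 1)
  have b6 := hle' N
  rw [c2] at b2
  rw [c4] at b4
  rw [c5] at b5
  rw [c6] at b6
  have E : 1 + (2 * N + 1) ^ 2 *
      Nat.card {χ : Cfsg.IrrCharacter (Matrix.ProjectiveSpecialLinearGroup (Fin 2) F) //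
        d χ = 2 * N + 1} + (2 * N + 2) ^ 2 *
      Nat.card {χ : Cfsg.IrrCharacter (Matrix.ProjectiveSpecialLinearGroup (Fin 2) F) //
        d χ = 2 * N + 2} + (2 * N) ^ 2 *
      Nat.card {χ : Cfsg.IrrCharacter (Matrix.ProjectiveSpecialLinearGroup (Fin 2) F) //
        d χ = 2 * N} + (N + 1) ^ 2 *
      Nat.card {χ : Cfsg.IrrCharacter (Matrix.ProjectiveSpecialLinearGroup (Fin 2) F) //
        d χ = N + 1} + N ^ 2 *
      Nat.card {χ : Cfsg.IrrCharacter (Matrix.ProjectiveSpecialLinearGroup (Fin 2) F) //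
        d χ = N} = 2 * N * (N + 1) * (2 * N + 1) := by
    have := hre.symm
    push_cast at this
    have h' : ((1 + (2 * N + 1) ^ 2 *
      Nat.card {χ : Cfsg.IrrCharacter (Matrix.ProjectiveSpecialLinearGroup (Fin 2) F) //
        d χ = 2 * N + 1} + (2 * N + 2) ^ 2 *
      Nat.card {χ : Cfsg.IrrCharacter (Matrix.ProjectiveSpecialLinearGroup (Fin 2) F) //
        d χ = 2 * N + 2} + (2 * N) ^ 2 *
      Nat.card {χ : Cfsg.IrrCharacter (Matrix.ProjectiveSpecialLinearGroup (Fin 2) F) //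
        d χ = 2 * N} + (N + 1) ^ 2 *
      Nat.card {χ : Cfsg.IrrCharacter (Matrix.ProjectiveSpecialLinearGroup (Fin 2) F) //
        d χ = N + 1} + N ^ 2 *
      Nat.card {χ : Cfsg.IrrCharacter (Matrix.ProjectiveSpecialLinearGroup (Fin 2) F) //
        d χ = N} : ℕ) : ℤ) = ((2 * N * (N + 1) * (2 * N + 1) : ℕ) : ℤ) := by
      push_cast
      linear_combination this
    exact_mod_cast h'
  obtain ⟨e1, x1⟩ := psl2_count_arith N _ _ _ _ _ hN3 b2 b4 b5 b6 E
  have hmem : ∀ j : ℕ,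
      1 ≤ Nat.card {χ : Cfsg.IrrCharacter (Matrix.ProjectiveSpecialLinearGroup (Fin 2) F) //
        d χ = j} → j ∈ Cfsg.charDegrees (Matrix.ProjectiveSpecialLinearGroup (Fin 2) F) := by
    intro j hj
    obtain ⟨⟨χ, hχ⟩⟩ := (Nat.card_pos_iff.mp hj).1
    exact ⟨χ, hχ⟩
  refine ⟨?_, ?_, hmem _ e1, hmem _ x1⟩
  · rintro j ⟨χ, rfl⟩
    obtain ⟨i, hi⟩ := hcover χ
    change d χ ∈ _
    rw [hi]
    fin_cases i <;> simp [k]
  · have h4 : 4 ≤ Fintype.card F := by omega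
    obtain ⟨hS1, hS2⟩ := Cfsg.Agent.S4765.result t F h4
    obtain ⟨⟨χ, hχ⟩⟩ := (Nat.card_pos_iff.mp (by rw [hS1]; norm_num :
      0 < Nat.card {χ : Cfsg.IrrCharacter (Matrix.ProjectiveSpecialLinearGroup (Fin 2) F) //
        t ∣ Cfsg.charDegree (χ : Matrix.ProjectiveSpecialLinearGroup (Fin 2) F → ℂ)})).1
    refine ⟨χ, ?_⟩
    rw [hS2 χ hχ, hN]

end odd

section graphodd

/-- the character degree graph of a group whose character degrees lie in
`{1, q, q ± 1, (q ± 1)/2}` and include `q, q ± 1`, for `q` an odd prime power -/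
theorem degGraph_odd (S : Type*) [Group S] (q t k : ℕ) (ht : t.Prime) (ht2 : t ≠ 2)
    (hq : q = t ^ k) (h5 : 5 < q)
    (hsub : Cfsg.charDegrees S ⊆ {1, q, q + 1, q - 1, (q + 1) / 2, (q - 1) / 2})
    (hq0 : q ∈ Cfsg.charDegrees S) (hq1 : q + 1 ∈ Cfsg.charDegrees S)
    (hqm1 : q - 1 ∈ Cfsg.charDegrees S) :
    Cfsg.degreePrimes S = {r : ℕ | r.Prime ∧ r ∣ q * (q ^ 2 - 1)} ∧
    ∀ r s : ℕ, (Cfsg.degreeGraph S).Adj r s ↔
      (r ≠ s ∧ r.Prime ∧ s.Prime ∧ r ∣ q ^ 2 - 1 ∧ s ∣ q ^ 2 - 1 ∧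
        (r = 2 ∨ s = 2 ∨ (r ∣ q + 1 ∧ s ∣ q + 1) ∨ (r ∣ q - 1 ∧ s ∣ q - 1))) := by
  have hfac : q ^ 2 - 1 = (q - 1) * (q + 1) := by
    obtain ⟨j, rfl⟩ : ∃ j, q = j + 1 := ⟨q - 1, by omega⟩
    rw [Nat.add_sub_cancel]
    apply Nat.sub_eq_of_eq_add
    ring
  have hodd : Odd q := by
    rw [hq]
    exact Odd.pow (ht.eq_two_or_odd'.resolve_left ht2)
  obtain ⟨N, hN⟩ := hodd
  have hp1 : q + 1 = 2 * (N + 1) := by omega
  have hm1 : q - 1 = 2 * N := by omega
  have hh1 : (q + 1) / 2 = N + 1 := by omega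
  have hh2 : (q - 1) / 2 = N := by omega
  rw [hh1, hh2] at hsub
  -- membership in the list gives divisibility of `q`, `q - 1` or `q + 1`
  have hlist : ∀ d ∈ Cfsg.charDegrees S, d = 1 ∨ d = q ∨ d ∣ q + 1 ∨ d ∣ q - 1 := by
    intro d hd
    have := hsub hd
    simp only [Set.mem_insert_iff, Set.mem_singleton_iff] at this
    rcases this with h | h | h | h | h | h
    · exact Or.inl h
    · exact Or.inr (Or.inl h)
    · exact Or.inr (Or.inr (Or.inl (by rw [h])))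
    · exact Or.inr (Or.inr (Or.inr (by rw [h])))
    · exact Or.inr (Or.inr (Or.inl (by rw [h, hp1]; exact Dvd.intro_left _ rfl)))
    · exact Or.inr (Or.inr (Or.inr (by rw [h, hm1]; exact Dvd.intro_left _ rfl)))
  have hdvdsq1 : ∀ r : ℕ, r ∣ q + 1 → r ∣ q ^ 2 - 1 := fun r h => by
    rw [hfac]; exact Dvd.dvd.mul_left h _
  have hdvdsq2 : ∀ r : ℕ, r ∣ q - 1 → r ∣ q ^ 2 - 1 := fun r h => by
    rw [hfac]; exact Dvd.dvd.mul_right h _
  constructor
  · ext r
    unfold Cfsg.degreePrimes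
    simp only [Set.mem_ofPred_eq]
    constructor
    · rintro ⟨hr, d, hd, hdiv⟩
      refine ⟨hr, ?_⟩
      rcases hlist d hd with rfl | rfl | h | h
      · exact absurd (Nat.dvd_one.mp hdiv) hr.one_lt.ne'
      · exact Dvd.dvd.mul_right hdiv _
      · exact Dvd.dvd.mul_left (hdvdsq1 r (hdiv.trans h)) _
      · exact Dvd.dvd.mul_left (hdvdsq2 r (hdiv.trans h)) _
    · rintro ⟨hr, hdiv⟩
      refine ⟨hr, ?_⟩
      rw [hfac] at hdiv
      rcases (Nat.Prime.dvd_mul hr).mp hdiv with h | h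
      · exact ⟨q, hq0, h⟩
      · rcases (Nat.Prime.dvd_mul hr).mp h with h | h
        · exact ⟨q - 1, hqm1, h⟩
        · exact ⟨q + 1, hq1, h⟩
  · intro r s
    unfold Cfsg.degreeGraph
    simp only
    constructor
    · rintro ⟨hne, hr, hs, d, hd, hdiv⟩
      have hrd : r ∣ d := (Dvd.intro _ rfl).trans hdiv
      have hsd : s ∣ d := (Dvd.intro_left _ rfl).trans hdiv
      rcases hlist d hd with rfl | rfl | h | h
      · exact absurd (Nat.dvd_one.mp hrd) hr.one_lt.ne'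
      · exfalso
        rw [hq] at hrd hsd
        have h1 := (Nat.prime_dvd_prime_iff_eq hr ht).mp (hr.dvd_of_dvd_pow hrd)
        have h2 := (Nat.prime_dvd_prime_iff_eq hs ht).mp (hs.dvd_of_dvd_pow hsd)
        exact hne (h1.trans h2.symm)
      · exact ⟨hne, hr, hs, hdvdsq1 r (hrd.trans h), hdvdsq1 s (hsd.trans h),
          Or.inr (Or.inr (Or.inl ⟨hrd.trans h, hsd.trans h⟩))⟩
      · exact ⟨hne, hr, hs, hdvdsq2 r (hrd.trans h), hdvdsq2 s (hsd.trans h),
          Or.inr (Or.inr (Or.inr ⟨hrd.trans h, hsd.trans h⟩))⟩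
    · rintro ⟨hne, hr, hs, hr1, hs1, hcase⟩
      have hcop : Nat.Coprime r s := (Nat.coprime_primes hr hs).mpr hne
      have h2p : 2 ∣ q + 1 := ⟨N + 1, hp1⟩
      have h2m : 2 ∣ q - 1 := ⟨N, hm1⟩
      have hsplit : ∀ x : ℕ, x.Prime → x ∣ q ^ 2 - 1 → x ∣ q - 1 ∨ x ∣ q + 1 := by
        intro x hx h
        rw [hfac] at h
        exact (Nat.Prime.dvd_mul hx).mp h
      have hboth : (r ∣ q + 1 ∧ s ∣ q + 1) ∨ (r ∣ q - 1 ∧ s ∣ q - 1) := by
        rcases hcase with h | h | h | h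
        · subst h
          rcases hsplit s hs hs1 with h' | h'
          · exact Or.inr ⟨h2m, h'⟩
          · exact Or.inl ⟨h2p, h'⟩
        · subst h
          rcases hsplit r hr hr1 with h' | h'
          · exact Or.inr ⟨h', h2m⟩
          · exact Or.inl ⟨h', h2p⟩
        · exact Or.inl h
        · exact Or.inr h
      rcases hboth with h | h
      · exact ⟨hne, hr, hs, q + 1, hq1, Nat.Coprime.mul_dvd_of_dvd_of_dvd hcop h.1 h.2⟩
      · exact ⟨hne, hr, hs, q - 1, hqm1, Nat.Coprime.mul_dvd_of_dvd_of_dvd hcop h.1 h.2⟩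

end graphodd

end Cfsg.Agent.Lib.Helper39
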