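/-
helper39 library: `SL_3(F)`, `F` finite of characteristic two with `|F| ≠ 4`, is generated by the
Jordan block `Jmat 3` and the lower bidiagonal matrix with constant subdiagonal `ζ` (a generator of `Fˣ`).
Also: the reduction "all of `X_{0,last}(F)` in `H`" implies `H = ⊤` (from `JordanGen`).
-/
import Mathlib
import Cfsg.Agent.Lib.Helper39.RankOne
import Cfsg.Agent.Lib.Helper39.JordanMat
import Cfsg.Agent.Lib.Helper39.JordanW
import Cfsg.Agent.Lib.Helper39.JordanGen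
import Cfsg.Agent.Lib.Helper39.FieldGen
import Cfsg.Agent.Lib.Helper5.SLGen

set_option autoImplicit false
set_option linter.unusedSectionVars false
set_option linter.unnecessarySeqFocus false

namespace Cfsg.Agent.Lib.Helper39.SL3Char2

open Matrix Cfsg.Agent.Lib.Helper39.RankOne Cfsg.Agent.Lib.Helper39.JordanMat
  Cfsg.Agent.Lib.Helper39.JordanGen

variable {F : Type*} [Field F]

/-- from the full root group `X_{0,last}` to everything -/
theorem eq_top_of_S_all {m : ℕ} (μ : Fin (m + 3) → F) (hμ : ∀ k, μ k ≠ 0)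
    (H : Subgroup (SpecialLinearGroup (Fin (m + 3)) F))
    (L' : Matrix (Fin (m + 3)) (Fin (m + 3)) F) (hLL' : Lmat (m + 3) μ * L' = 1)
    (hJ : InH H (Jmat (m + 3) : Matrix (Fin (m + 3)) (Fin (m + 3)) F)) (hL : InH H (Lmat (m + 3) μ))
    (hS : ∀ c : F, InH H (tv (Pi.single (0 : Fin (m + 3)) c) (Pi.single (Fin.last (m + 2)) 1))) :
    H = ⊤ := by
  have hD := D_all μ hμ H L' hLL' hJ hL hS
  rw [eq_top_iff, ← Cfsg.Agent.Lib.Helper5.closure_transvection_eq_top, Subgroup.closure_le]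
  rintro g ⟨i, j, hij, c, rfl⟩
  apply InH.mem
  rw [SpecialLinearGroup.transvection_coe, one_add_single_eq_tv]
  exact hD j _ (Pi.single_eq_of_ne (Ne.symm hij) _)

/-- the additive group of `c` with `1 + c E_{02} ∈ H` -/
def S02 (H : Subgroup (SpecialLinearGroup (Fin 3) F)) : AddSubgroup F where
  carrier := {c | InH H (tv (Pi.single (0 : Fin 3) c) (Pi.single (2 : Fin 3) 1))}
  add_mem' := by
    intro a b ha hb
    have h0 : (Pi.single (2 : Fin 3) (1 : F)) ⬝ᵥ (Pi.single (0 : Fin 3) b) = 0 := by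
      rw [single_one_dot, Pi.single_eq_of_ne (by decide)]
    have := InH.mul ha hb
    rw [tv_mul_tv _ _ _ h0, ← Pi.single_add] at this
    exact this
  zero_mem' := by
    show InH H (tv (Pi.single (0 : Fin 3) (0 : F)) (Pi.single (2 : Fin 3) 1))
    rw [Pi.single_zero, tv_zero]; exact InH.one H
  neg_mem' := by
    intro a ha
    have h0 : (Pi.single (2 : Fin 3) (1 : F)) ⬝ᵥ (Pi.single (0 : Fin 3) a) = 0 := by
      rw [single_one_dot, Pi.single_eq_of_ne (by decide)]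
    have := InH.tv_neg h0 ha
    rw [← Pi.single_neg] at this
    exact this

theorem Jmat3_eq : (Jmat 3 : Matrix (Fin 3) (Fin 3) F) = !![1, 1, 0; 0, 1, 1; 0, 0, 1] := by
  ext a b
  fin_cases a <;> fin_cases b <;> simp [Jmat, Nmat]

theorem Lmat3_eq (μ : Fin 3 → F) : Lmat 3 μ = !![1, 0, 0; μ 0, 1, 0; 0, μ 1, 1] := by
  ext a b
  fin_cases a <;> fin_cases b <;> simp [Lmat]

theorem Jmat3_sq (h2 : (2 : F) = 0) : (Jmat 3 : Matrix (Fin 3) (Fin 3) F) * Jmat 3 =
    tv (Pi.single (0 : Fin 3) 1) (Pi.single (2 : Fin 3) 1) := by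
  have h11 : (1 : F) + 1 = 0 := by rw [one_add_one_eq_two]; exact h2
  rw [Jmat3_eq]
  ext a b
  fin_cases a <;> fin_cases b <;>
    simp [tv, vecMulVec, Matrix.mul_apply, Fin.sum_univ_three, Matrix.one_apply, h11]

theorem Lmat3_mul_inv (ζ : F) : Lmat 3 (fun _ => ζ) * !![1, 0, 0; -ζ, 1, 0; ζ ^ 2, -ζ, 1] = 1 := by
  rw [Lmat3_eq]
  ext a b
  fin_cases a <;> fin_cases b <;>
    simp [Matrix.mul_apply, Fin.sum_univ_three, Matrix.one_apply] <;> ring

variable [Fintype F]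

theorem eq_top_char2 (h2 : (2 : F) = 0) (hq : Fintype.card F ≠ 4) (ζ : F) (hζ0 : ζ ≠ 0)
    (hgen : ∀ y : F, y ≠ 0 → ∃ j : ℕ, y = ζ ^ j)
    (H : Subgroup (SpecialLinearGroup (Fin 3) F))
    (hJ : InH H (Jmat 3 : Matrix (Fin 3) (Fin 3) F)) (hL : InH H (Lmat 3 (fun _ => ζ))) : H = ⊤ := by
  set μ : Fin (0 + 3) → F := fun _ => ζ with hμdef
  have hμ : ∀ k, μ k ≠ 0 := fun _ => hζ0
  set L' : Matrix (Fin (0 + 3)) (Fin (0 + 3)) F := !![1, 0, 0; -ζ, 1, 0; ζ ^ 2, -ζ, 1] with hL'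
  have hLL' : Lmat (0 + 3) μ * L' = 1 := Lmat3_mul_inv ζ
  have h1 : (1 : F) ∈ S02 H := by
    show InH H (tv (Pi.single (0 : Fin 3) (1 : F)) (Pi.single (2 : Fin 3) 1))
    rw [← Jmat3_sq h2]; exact hJ.mul hJ
  have hstab : ∀ x ∈ S02 H, ζ ^ 3 * x ∈ S02 H := by
    intro x hx
    have := S_closed (m := 0) μ hμ H L' hLL' hJ hL x 1 hx h1
    have e : -(L' (Fin.last (0 + 2)) 0) * μ 0 * x * 1 = -(ζ ^ 3 * x) := by
      have : L' (Fin.last (0 + 2)) 0 = ζ ^ 2 := by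
        rw [hL']; rfl
      rw [this]; ring
    rw [e] at this
    have h3 := (S02 H).neg_mem (show -(ζ ^ 3 * x) ∈ S02 H from this)
    rwa [neg_neg] at h3
  have hS : ∀ c : F, InH H (tv (Pi.single (0 : Fin (0 + 3)) c) (Pi.single (Fin.last (0 + 2)) 1)) :=
    fun c => FieldGen.addSubgroup_eq_top ζ hgen hq (S02 H) hstab 1 h1 one_ne_zero c
  exact eq_top_of_S_all (m := 0) μ hμ H L' hLL' hJ hL hS

end Cfsg.Agent.Lib.Helper39.SL3Char2
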