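/-
helper39 library (part A): algebraic preliminaries for the two-generator theorem for `SL_3(F)`:
powers of `a (1 - E) + b E + n` and powers inside a subgroup.
-/
import Mathlib
import Cfsg.Agent.Lib.Helper39.RankOne

set_option autoImplicit false
set_option linter.unusedSectionVars false

namespace Cfsg.Agent.Lib.Helper39.SL3Pair

open Matrix Cfsg.Agent.Lib.Helper39.RankOne

theorem InH.pow' {n : Type*} [Fintype n] [DecidableEq n] {R : Type*} [CommRing R]
    {H : Subgroup (SpecialLinearGroup n R)} {M : Matrix n n R} (h : InH H M) (k : ℕ) :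
    InH H (M ^ k) := by
  induction k with
  | zero => rw [pow_zero]; exact InH.one H
  | succ k ih => rw [pow_succ]; exact ih.mul h

/-- powers of a "semisimple plus nilpotent" element -/
theorem pow_decomp {F A : Type*} [Field F] [Ring A] [Algebra F A] (E n w : A) (a b : F)
    (hEE : E * E = E) (hnn : n * n = 0) (hEn : E * n = 0) (hnE : n * E = 0)
    (hw : w = a • (1 - E) + b • E + n) (j : ℕ) :
    w ^ (j + 1) = a ^ (j + 1) • (1 - E) + b ^ (j + 1) • E + (((j + 1 : ℕ) : F) * a ^ j) • n := by
  set P : A := 1 - E with hP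
  have hPP : P * P = P := by
    rw [hP, sub_mul, mul_sub, mul_sub, one_mul, one_mul, mul_one, hEE]; abel
  have hPE : P * E = 0 := by rw [hP, sub_mul, one_mul, hEE, sub_self]
  have hEP : E * P = 0 := by rw [hP, mul_sub, mul_one, hEE, sub_self]
  have hPn : P * n = n := by rw [hP, sub_mul, one_mul, hEn, sub_zero]
  have hnP : n * P = n := by rw [hP, mul_sub, mul_one, hnE, sub_zero]
  induction j with
  | zero => rw [zero_add, pow_one, pow_one, pow_one, pow_zero, hw]; simp
  | succ j ih =>
    rw [pow_succ, ih]
    have hw' : (a ^ (j + 1) • P + b ^ (j + 1) • E + (((j + 1 : ℕ) : F) * a ^ j) • n) * w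
        = (a ^ (j + 1) • P + b ^ (j + 1) • E + (((j + 1 : ℕ) : F) * a ^ j) • n) *
          (a • P + b • E + n) := by rw [← hw]
    rw [hw']
    simp only [add_mul, mul_add, smul_mul_assoc, mul_smul_comm, smul_smul, hPP, hPE, hEP, hPn, hnP,
      hEE, hEn, hnE, hnn, smul_zero, add_zero, zero_add]
    push_cast
    module

end Cfsg.Agent.Lib.Helper39.SL3Pair
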