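/-
helper39 library (part B): the explicit matrices for the two-generator theorem for `SL_3(F)`,
odd characteristic: `uM` (companion matrix of `(X - 1)^3`), `wM l` (upper triangular with eigenvalues
`l⁻², l, l`), `vM l = uM⁻¹ * wM l` and the conjugating matrix `gM l`.
-/
import Mathlib
import Cfsg.Agent.Lib.Helper39.RankOne
import Cfsg.Agent.Lib.Helper39.SL3PairA

set_option autoImplicit false
set_option linter.unusedSectionVars false

namespace Cfsg.Agent.Lib.Helper39.SL3Pair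

open Matrix Cfsg.Agent.Lib.Helper39.RankOne

variable {F : Type*} [Field F]

/-- the companion matrix of `(X - 1)^3` -/
def uM : Matrix (Fin 3) (Fin 3) F := !![0, 0, 1; 1, 0, -3; 0, 1, 3]

/-- its inverse -/
def uI : Matrix (Fin 3) (Fin 3) F := !![3, 1, 0; -3, 0, 1; 1, 0, 0]

def wM (l : F) : Matrix (Fin 3) (Fin 3) F :=
  !![l⁻¹ ^ 2, l⁻¹ ^ 3 - 1, 3 * l⁻¹ ^ 3 - 3 * l⁻¹ ^ 2; 0, l, -(1 - l) ^ 3; 0, 0, l]

def vM (l : F) : Matrix (Fin 3) (Fin 3) F := uI * wM l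

def gM (l : F) : Matrix (Fin 3) (Fin 3) F :=
  !![-l, -(3 * l⁻¹), -(l⁻¹ * (l ^ 3 - 3 * l ^ 2 + 8)); 0, 3 * l⁻¹, l⁻¹ * (9 - l); 0, -l⁻¹, -(3 * l⁻¹)]

def phi2 (l : F) : F := (3 * l⁻¹ - l * (1 - l) ^ 2) / (1 + l + l ^ 2)

def EM (l : F) : Matrix (Fin 3) (Fin 3) F := !![1, l⁻¹, phi2 l; 0, 0, 0; 0, 0, 0]

def nM (l : F) : Matrix (Fin 3) (Fin 3) F :=
  !![0, 0, (1 - l) ^ 3 * l⁻¹; 0, 0, -(1 - l) ^ 3; 0, 0, 0]

theorem uM_mul_uI : (uM : Matrix (Fin 3) (Fin 3) F) * uI = 1 := by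
  ext a b
  fin_cases a <;> fin_cases b <;> simp [uM, uI, Matrix.mul_apply, Fin.sum_univ_three]

theorem uI_mul_uM : (uI : Matrix (Fin 3) (Fin 3) F) * uM = 1 := by
  ext a b
  fin_cases a <;> fin_cases b <;> simp [uM, uI, Matrix.mul_apply, Fin.sum_univ_three]

theorem det_uM : (uM : Matrix (Fin 3) (Fin 3) F).det = 1 := by
  rw [Matrix.det_fin_three]
  simp [uM]

theorem det_gM (l : F) (hl : l ≠ 0) : (gM l).det = 1 := by
  rw [Matrix.det_fin_three]
  simp [gM]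
  field_simp
  ring

theorem uM_mul_vM (l : F) : uM * vM l = wM l := by
  unfold vM
  rw [← Matrix.mul_assoc, uM_mul_uI, one_mul]

theorem gM_mul_uM (l : F) (hl : l ≠ 0) : gM l * uM = vM l * gM l := by
  unfold vM
  ext a b
  fin_cases a <;> fin_cases b <;>
    simp [gM, uM, uI, wM, Matrix.mul_apply, Fin.sum_univ_three] <;> field_simp <;> ring

theorem uM_sub_one_pow_three : ((uM : Matrix (Fin 3) (Fin 3) F) - 1) ^ 3 = 0 := by
  have h : (uM : Matrix (Fin 3) (Fin 3) F) - 1 = !![-1, 0, 1; 1, -1, -3; 0, 1, 2] := by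
    ext a b
    fin_cases a <;> fin_cases b <;> simp [uM] <;> norm_num
  rw [h, pow_succ, pow_two]
  ext a b
  fin_cases a <;> fin_cases b <;> simp [Matrix.mul_apply, Fin.sum_univ_three] <;> norm_num

theorem uM_sub_one_sq_ne_zero : ((uM : Matrix (Fin 3) (Fin 3) F) - 1) ^ 2 ≠ 0 := by
  have h : (uM : Matrix (Fin 3) (Fin 3) F) - 1 = !![-1, 0, 1; 1, -1, -3; 0, 1, 2] := by
    ext a b
    fin_cases a <;> fin_cases b <;> simp [uM] <;> norm_num
  rw [h, pow_two]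
  intro h0
  have := congrFun (congrFun h0 0) 0
  simp [Matrix.mul_apply, Fin.sum_univ_three] at this

theorem EM_mul_EM (l : F) : EM l * EM l = EM l := by
  ext a b
  fin_cases a <;> fin_cases b <;> simp [EM, Matrix.mul_apply, Fin.sum_univ_three]

theorem nM_mul_nM (l : F) : nM l * nM l = 0 := by
  ext a b
  fin_cases a <;> fin_cases b <;> simp [nM, Matrix.mul_apply, Fin.sum_univ_three]

theorem EM_mul_nM (l : F) (hl : l ≠ 0) : EM l * nM l = 0 := by
  ext a b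
  fin_cases a <;> fin_cases b <;> simp [EM, nM, Matrix.mul_apply, Fin.sum_univ_three]
  field_simp
  ring

theorem nM_mul_EM (l : F) : nM l * EM l = 0 := by
  ext a b
  fin_cases a <;> fin_cases b <;> simp [EM, nM, Matrix.mul_apply, Fin.sum_univ_three]

theorem wM_decomp (l : F) (hl : l ≠ 0) (hσ : 1 + l + l ^ 2 ≠ 0) :
    wM l = l • (1 - EM l) + l⁻¹ ^ 2 • EM l + nM l := by
  ext a b
  fin_cases a <;> fin_cases b <;> simp [wM, EM, nM, phi2] <;> field_simp <;> ring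

end Cfsg.Agent.Lib.Helper39.SL3Pair
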