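/-
helper39 library (part C): a subgroup of `SL_3(F)` (`F` finite of odd characteristic, `|F|` arbitrary)
containing `uM` and `vM l` (for `l⁻¹` a generator of `Fˣ`) is everything.
-/
import Mathlib
import Cfsg.Agent.Lib.Helper39.RankOne
import Cfsg.Agent.Lib.Helper39.SL3PairA
import Cfsg.Agent.Lib.Helper39.SL3PairB
import Cfsg.Agent.Lib.Helper39.FieldGen
import Cfsg.Agent.Lib.Helper5.SLGen

set_option autoImplicit false
set_option linter.unusedSectionVars false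
set_option linter.unnecessarySeqFocus false

namespace Cfsg.Agent.Lib.Helper39.SL3Pair

open Matrix Cfsg.Agent.Lib.Helper39.RankOne

variable {F : Type*} [Field F]

/-- semisimple part of `wM l` -/
def sM (l : F) : Matrix (Fin 3) (Fin 3) F := l • (1 - EM l) + l⁻¹ ^ 2 • EM l

/-- its inverse -/
def sI (l : F) : Matrix (Fin 3) (Fin 3) F := l⁻¹ • (1 - EM l) + l ^ 2 • EM l

theorem sM_eq (l : F) : sM l =
    !![l⁻¹ ^ 2, (l⁻¹ ^ 2 - l) * l⁻¹, (l⁻¹ ^ 2 - l) * phi2 l; 0, l, 0; 0, 0, l] := by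
  ext a b
  fin_cases a <;> fin_cases b <;> simp [sM, EM] <;> ring

theorem sI_eq (l : F) : sI l =
    !![l ^ 2, (l ^ 2 - l⁻¹) * l⁻¹, (l ^ 2 - l⁻¹) * phi2 l; 0, l⁻¹, 0; 0, 0, l⁻¹] := by
  ext a b
  fin_cases a <;> fin_cases b <;> simp [sI, EM] <;> ring

theorem sM_mul_sI (l : F) (hl : l ≠ 0) : sM l * sI l = 1 := by
  rw [sM_eq, sI_eq]
  ext a b
  fin_cases a <;> fin_cases b <;> simp [Matrix.mul_apply, Fin.sum_univ_three] <;> field_simp <;> ring

theorem wM_mul_tau (l : F) (hl : l ≠ 0) (hσ : 1 + l + l ^ 2 ≠ 0) :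
    wM l * (1 - l⁻¹ • nM l) = sM l := by
  have hw := wM_decomp l hl hσ
  have hsn : sM l * nM l = l • nM l := by
    unfold sM
    rw [add_mul, smul_mul_assoc, smul_mul_assoc, sub_mul, one_mul, EM_mul_nM l hl, sub_zero,
      smul_zero, add_zero]
  have hw' : wM l = sM l + nM l := hw
  rw [hw', mul_sub, mul_one, mul_smul_comm, add_mul, hsn, nM_mul_nM, add_zero, smul_smul,
    inv_mul_cancel₀ hl, one_smul, add_sub_cancel_right]

/-- the vector `e_2` (as a covector) -/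
def e2 : Fin 3 → F := ![0, 0, 1]
def e1 : Fin 3 → F := ![0, 1, 0]
def e0 : Fin 3 → F := ![1, 0, 0]

theorem tv_smul_comm {n : Type*} [Fintype n] [DecidableEq n] (c : F) (a δ : n → F) :
    tv a (c • δ) = tv (c • a) δ := by
  unfold tv
  rw [vecMulVec_smul, smul_vecMulVec]

theorem one_sub_nM (l : F) :
    1 - l⁻¹ • nM l = tv ![-(l⁻¹ * ((1 - l) ^ 3 * l⁻¹)), l⁻¹ * (1 - l) ^ 3, 0] e2 := by
  ext a b
  fin_cases a <;> fin_cases b <;> simp [tv, vecMulVec, nM, e2]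

theorem e2_dot (x y : F) : (e2 : Fin 3 → F) ⬝ᵥ ![x, y, 0] = 0 := by
  simp [e2, dotProduct, Fin.sum_univ_three]

/-- the conjugate of `sM` by `uM` and its inverse -/
theorem s'_mul_s'I (l : F) (hl : l ≠ 0) : (uM * sM l * uI) * (uM * sI l * uI) = 1 := by
  rw [Matrix.mul_assoc, Matrix.mul_assoc, ← Matrix.mul_assoc uI, ← Matrix.mul_assoc uI, uI_mul_uM,
    one_mul, ← Matrix.mul_assoc (sM l), sM_mul_sI l hl, one_mul, uM_mul_uI]

theorem e2_vecMul_s'I (l : F) : (e2 : Fin 3 → F) ᵥ* (uM * sI l * uI) = l⁻¹ • e2 := by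
  rw [sI_eq]
  ext a
  fin_cases a <;>
    simp [e2, uM, uI, Matrix.vecMul, dotProduct, Matrix.mul_apply, Fin.sum_univ_three] <;> ring

theorem s'_mulVec (l x y : F) : (uM * sM l * uI) *ᵥ ![x, y, 0] =
    ![l * x, l⁻¹ ^ 2 * y + (l⁻¹ ^ 2 - l) * (3 - 3 * l⁻¹ + phi2 l) * x, 0] := by
  rw [sM_eq]
  ext a
  fin_cases a
  · simp [uM, uI, Matrix.mulVec, dotProduct, Matrix.mul_apply, Fin.sum_univ_three]
  · simp [uM, uI, Matrix.mulVec, dotProduct, Matrix.mul_apply, Fin.sum_univ_three]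
    ring
  · simp [uM, uI, Matrix.mulVec, dotProduct, Matrix.mul_apply, Fin.sum_univ_three]
    left; ring

theorem e2_vecMul_sI (l : F) : (e2 : Fin 3 → F) ᵥ* sI l = l⁻¹ • e2 := by
  rw [sI_eq]
  ext a
  fin_cases a <;> simp [e2, Matrix.vecMul, dotProduct, Fin.sum_univ_three]

theorem sM_mulVec (l y : F) : sM l *ᵥ ![0, y, 0] = ![(l⁻¹ ^ 2 - l) * l⁻¹ * y, l * y, 0] := by
  rw [sM_eq]
  ext a
  fin_cases a <;> simp [Matrix.mulVec, dotProduct, Fin.sum_univ_three]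

theorem D_mul (l : F) (hl : l ≠ 0) (hσ : 1 + l + l ^ 2 ≠ 0) :
    (1 - l⁻¹ * (3 - 3 * l⁻¹ + phi2 l)) * (1 + l + l ^ 2) = 2 * (1 - l) ^ 2 := by
  unfold phi2
  field_simp
  ring

end Cfsg.Agent.Lib.Helper39.SL3Pair
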