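/-
helper39 library (part D): a subgroup of `SL_3(F)` (`F` finite, `2 ≠ 0`, `|F|` arbitrary)
containing `uM` and `vM l` (for `l⁻¹` a generator of `Fˣ`) is everything.
-/
import Mathlib
import Cfsg.Agent.Lib.Helper39.RankOne
import Cfsg.Agent.Lib.Helper39.SL3PairA
import Cfsg.Agent.Lib.Helper39.SL3PairB
import Cfsg.Agent.Lib.Helper39.SL3PairC
import Cfsg.Agent.Lib.Helper39.FieldGen
import Cfsg.Agent.Lib.Helper5.SLGen

set_option autoImplicit false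
set_option linter.unusedSectionVars false
set_option linter.unnecessarySeqFocus false

namespace Cfsg.Agent.Lib.Helper39.SL3Pair

open Matrix Cfsg.Agent.Lib.Helper39.RankOne

variable {F : Type*} [Field F] [Fintype F]

/-- `wM l ^ (q - 1)` is a transvection -/
theorem wM_pow (l : F) (hl : l ≠ 0) (hσ : 1 + l + l ^ 2 ≠ 0) :
    wM l ^ (Fintype.card F - 1) = 1 - l⁻¹ • nM l := by
  have hq : 2 ≤ Fintype.card F := Fintype.one_lt_card
  have hj : Fintype.card F - 1 = (Fintype.card F - 2) + 1 := by omega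
  rw [hj, pow_decomp (EM l) (nM l) (wM l) l (l⁻¹ ^ 2) (EM_mul_EM l) (nM_mul_nM l) (EM_mul_nM l hl)
    (nM_mul_EM l) (wM_decomp l hl hσ) (Fintype.card F - 2), ← hj]
  have h1 : l ^ (Fintype.card F - 1) = 1 := FiniteField.pow_card_sub_one_eq_one l hl
  have h2 : (l⁻¹ ^ 2) ^ (Fintype.card F - 1) = 1 :=
    FiniteField.pow_card_sub_one_eq_one _ (pow_ne_zero 2 (inv_ne_zero hl))
  have h3 : ((Fintype.card F - 1 : ℕ) : F) = -1 := by
    rw [Nat.cast_sub (by omega), FiniteField.cast_card_eq_zero, Nat.cast_one, zero_sub]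
  have h4 : l ^ (Fintype.card F - 2) = l⁻¹ := by
    have : l ^ (Fintype.card F - 2) * l = 1 := by
      rw [← pow_succ, ← hj, h1]
    exact eq_inv_of_mul_eq_one_left this
  rw [h1, h2, h3, h4, one_smul, one_smul, sub_add_cancel, neg_one_mul, neg_smul, sub_eq_add_neg]

theorem vec_add (x y x' y' : F) : (![x, y, 0] + ![x', y', 0] : Fin 3 → F) = ![x + x', y + y', 0] := by
  ext a; fin_cases a <;> simp

theorem vec_neg (x y : F) : (-![x, y, 0] : Fin 3 → F) = ![-x, -y, 0] := by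
  ext a; fin_cases a <;> simp

theorem inH_add (H : Subgroup (SpecialLinearGroup (Fin 3) F)) (x y x' y' : F) (h : InH H (tv ![x, y, 0] (e2 : Fin 3 → F)))
    (h' : InH H (tv ![x', y', 0] (e2 : Fin 3 → F))) :
    InH H (tv ![x + x', y + y', 0] (e2 : Fin 3 → F)) := by
  have := h.mul h'
  rwa [tv_mul_tv _ _ _ (e2_dot x' y'), vec_add] at this

theorem inH_neg (H : Subgroup (SpecialLinearGroup (Fin 3) F)) (x y : F) (h : InH H (tv ![x, y, 0] (e2 : Fin 3 → F))) :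
    InH H (tv ![-x, -y, 0] (e2 : Fin 3 → F)) := by
  have := h.tv_neg (e2_dot x y)
  rwa [vec_neg] at this

section main

variable (l : F) (hl : l ≠ 0) (hl1 : l ≠ 1) (hσ : 1 + l + l ^ 2 ≠ 0) (h2 : (2 : F) ≠ 0)
  (hgen : ∀ y : F, y ≠ 0 → ∃ j : ℕ, y = l⁻¹ ^ j) (hq : Fintype.card F ≠ 4)
  (H : Subgroup (SpecialLinearGroup (Fin 3) F))
  (hu : InH H (uM : Matrix (Fin 3) (Fin 3) F)) (hv : InH H (vM l))

include hl hl1 hσ h2 hgen hq hu hv

theorem inH_wM : InH H (wM l) := by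
  rw [← uM_mul_vM]; exact hu.mul hv

theorem inH_tau : InH H (tv ![-(l⁻¹ * ((1 - l) ^ 3 * l⁻¹)), l⁻¹ * (1 - l) ^ 3, 0] (e2 : Fin 3 → F)) := by
  rw [← one_sub_nM, ← wM_pow l hl hσ]
  exact InH.pow' (inH_wM l hl hl1 hσ h2 hgen hq H hu hv) _

theorem inH_sM : InH H (sM l) := by
  rw [← wM_mul_tau l hl hσ, one_sub_nM]
  exact (inH_wM l hl hl1 hσ h2 hgen hq H hu hv).mul (inH_tau l hl hl1 hσ h2 hgen hq H hu hv)

theorem inH_s' : InH H (uM * sM l * uI) :=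
  (hu.mul (inH_sM l hl hl1 hσ h2 hgen hq H hu hv)).mul (hu.of_mul_eq_one uM_mul_uI)

/-- conjugating `1 + (x, y, 0) e_2ᵀ` by `s'` -/
theorem conj_s' (x y : F) (h : InH H (tv ![x, y, 0] (e2 : Fin 3 → F))) :
    InH H (tv ![x, l⁻¹ ^ 3 * y + l⁻¹ * (l⁻¹ ^ 2 - l) * (3 - 3 * l⁻¹ + phi2 l) * x, 0]
      (e2 : Fin 3 → F)) := by
  have h1 := (inH_s' l hl hl1 hσ h2 hgen hq H hu hv).conj (s'_mul_s'I l hl) h
  rw [e2_vecMul_s'I, s'_mulVec, tv_smul_comm] at h1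
  have e : l⁻¹ • ![l * x, l⁻¹ ^ 2 * y + (l⁻¹ ^ 2 - l) * (3 - 3 * l⁻¹ + phi2 l) * x, 0]
      = ![x, l⁻¹ ^ 3 * y + l⁻¹ * (l⁻¹ ^ 2 - l) * (3 - 3 * l⁻¹ + phi2 l) * x, 0] := by
    ext a
    fin_cases a
    · simp; field_simp
    · simp; ring
    · simp
  rwa [e] at h1

/-- the additive group of `y` with `1 + y E_{12} ∈ H` -/
def S1 : AddSubgroup F where
  carrier := {y | InH H (tv ![0, y, 0] (e2 : Fin 3 → F))}
  add_mem' := by
    intro a b ha hb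
    have := inH_add H 0 a 0 b ha hb
    rwa [add_zero] at this
  zero_mem' := by
    show InH H (tv ![0, 0, 0] (e2 : Fin 3 → F))
    have : (![0, 0, 0] : Fin 3 → F) = 0 := by ext a; fin_cases a <;> simp
    rw [this, tv_zero]; exact InH.one H
  neg_mem' := by
    intro a ha
    have := inH_neg H 0 a ha
    rwa [neg_zero] at this

theorem S1_all (y : F) : InH H (tv ![0, y, 0] (e2 : Fin 3 → F)) := by
  have hl3 : l⁻¹ ^ 3 - 1 ≠ 0 := by
    intro h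
    have h3 : l ^ 3 = 1 := by
      have : l⁻¹ ^ 3 = 1 := sub_eq_zero.mp h
      rw [inv_pow] at this
      exact inv_eq_one.mp this
    have : (l - 1) * (1 + l + l ^ 2) = 0 := by ring_nf; rw [h3]; ring
    rcases mul_eq_zero.mp this with h | h
    · exact hl1 (sub_eq_zero.mp h)
    · exact hσ h
  have hD : (1 - l⁻¹ * (3 - 3 * l⁻¹ + phi2 l)) ≠ 0 := by
    intro h
    have := D_mul l hl hσ
    rw [h, zero_mul] at this
    have h1l : (1 - l) ≠ 0 := sub_ne_zero.mpr (Ne.symm hl1)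
    exact (mul_ne_zero h2 (pow_ne_zero 2 h1l)) this.symm
  set x0 : F := -(l⁻¹ * ((1 - l) ^ 3 * l⁻¹)) with hx0
  set y0 : F := l⁻¹ * (1 - l) ^ 3 with hy0
  have hτ : InH H (tv ![x0, y0, 0] (e2 : Fin 3 → F)) := inH_tau l hl hl1 hσ h2 hgen hq H hu hv
  have hy0' : y0 ≠ 0 :=
    mul_ne_zero (inv_ne_zero hl) (pow_ne_zero 3 (sub_ne_zero.mpr (Ne.symm hl1)))
  set y1 : F := (l⁻¹ ^ 3 - 1) * y0 * (1 - l⁻¹ * (3 - 3 * l⁻¹ + phi2 l)) with hy1
  have hy1' : y1 ≠ 0 := mul_ne_zero (mul_ne_zero hl3 hy0') hD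
  have hmem : y1 ∈ S1 H := by
    show InH H (tv ![0, y1, 0] (e2 : Fin 3 → F))
    have h1 := conj_s' l hl hl1 hσ h2 hgen hq H hu hv x0 y0 hτ
    have h3 := inH_add H _ _ _ _ h1
      (inH_neg H x0 y0 hτ)
    have e1 : x0 + -x0 = 0 := add_neg_cancel _
    have e2' : l⁻¹ ^ 3 * y0 + l⁻¹ * (l⁻¹ ^ 2 - l) * (3 - 3 * l⁻¹ + phi2 l) * x0 + -y0 = y1 := by
      rw [hy1, hx0, hy0]
      field_simp
      ring
    rwa [e1, e2'] at h3
  have hstab : ∀ x ∈ S1 H, l⁻¹ ^ 3 * x ∈ S1 H := by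
    intro x hx
    show InH H (tv ![0, l⁻¹ ^ 3 * x, 0] (e2 : Fin 3 → F))
    have h1 := conj_s' l hl hl1 hσ h2 hgen hq H hu hv 0 x hx
    rwa [mul_zero, add_zero] at h1
  exact FieldGen.addSubgroup_eq_top l⁻¹ hgen hq (S1 H) hstab y1 hmem hy1' y

end main

end Cfsg.Agent.Lib.Helper39.SL3Pair
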