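/-
helper39 library (part E): a subgroup of `SL_3(F)` (`F` finite, `2 ≠ 0`)
containing `uM` and `vM l` (for `l⁻¹` a generator of `Fˣ`) is everything.
-/
import Mathlib
import Cfsg.Agent.Lib.Helper39.RankOne
import Cfsg.Agent.Lib.Helper39.SL3PairA
import Cfsg.Agent.Lib.Helper39.SL3PairB
import Cfsg.Agent.Lib.Helper39.SL3PairC
import Cfsg.Agent.Lib.Helper39.SL3PairD
import Cfsg.Agent.Lib.Helper5.SLGen

set_option autoImplicit false
set_option linter.unusedSectionVars false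
set_option linter.unnecessarySeqFocus false

namespace Cfsg.Agent.Lib.Helper39.SL3Pair

open Matrix Cfsg.Agent.Lib.Helper39.RankOne

variable {F : Type*} [Field F]

theorem e2_vecMul_uI : (e2 : Fin 3 → F) ᵥ* uI = e0 := by
  ext a
  fin_cases a <;> simp [e2, e0, uI, Matrix.vecMul, dotProduct, Fin.sum_univ_three]

theorem e2_vecMul_uM : (e2 : Fin 3 → F) ᵥ* uM = ![0, 1, 3] := by
  ext a
  fin_cases a <;> simp [e2, uM, Matrix.vecMul, dotProduct, Fin.sum_univ_three]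

theorem uM_mulVec (x y : F) : (uM : Matrix (Fin 3) (Fin 3) F) *ᵥ ![x, y, 0] = ![0, x, y] := by
  ext a
  fin_cases a <;> simp [uM, Matrix.mulVec, dotProduct, Fin.sum_univ_three]

theorem uI_mulVec (y : F) : (uI : Matrix (Fin 3) (Fin 3) F) *ᵥ ![0, y, 0] = ![y, 0, 0] := by
  ext a
  fin_cases a <;> simp [uI, Matrix.mulVec, dotProduct, Fin.sum_univ_three]

theorem tv_013_mul (y : F) :
    tv ![y, 0, 0] (![0, 1, 3] : Fin 3 → F) * tv ![-(3 * y), 0, 0] (e2 : Fin 3 → F)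
      = tv ![y, 0, 0] (e1 : Fin 3 → F) := by
  ext a b
  fin_cases a <;> fin_cases b <;>
    simp [tv, vecMulVec, e1, e2, Matrix.mul_apply, Fin.sum_univ_three, Matrix.one_apply] <;> ring

theorem single0 (c : F) : (Pi.single (0 : Fin 3) c : Fin 3 → F) = ![c, 0, 0] := by
  ext a; fin_cases a <;> simp

theorem single1 (c : F) : (Pi.single (1 : Fin 3) c : Fin 3 → F) = ![0, c, 0] := by
  ext a; fin_cases a <;> simp

theorem single2 (c : F) : (Pi.single (2 : Fin 3) c : Fin 3 → F) = ![0, 0, c] := by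
  ext a; fin_cases a <;> simp

/-- from the full group of transvections with covector `e_2` (and `uM`) to everything -/
theorem eq_top_of_T (H : Subgroup (SpecialLinearGroup (Fin 3) F))
    (hu : InH H (uM : Matrix (Fin 3) (Fin 3) F))
    (hT : ∀ x y : F, InH H (tv ![x, y, 0] (e2 : Fin 3 → F))) : H = ⊤ := by
  -- root groups `E_{10}, E_{20}`
  have hR0 : ∀ x y : F, InH H (tv ![0, x, y] (e0 : Fin 3 → F)) := by
    intro x y
    have := hu.conj uM_mul_uI (hT x y)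
    rwa [uM_mulVec, e2_vecMul_uI] at this
  -- root group `E_{01}`
  have hR1 : ∀ y : F, InH H (tv ![y, 0, 0] (e1 : Fin 3 → F)) := by
    intro y
    have h1 := (hu.of_mul_eq_one uM_mul_uI).conj uI_mul_uM (hT 0 y)
    rw [uI_mulVec, e2_vecMul_uM] at h1
    have h2 := h1.mul (hT (-(3 * y)) 0)
    rwa [tv_013_mul] at h2
  -- root group `E_{21}`
  have hR2 : ∀ z : F, InH H (tv ![0, 0, z] (e1 : Fin 3 → F)) := by
    intro z
    have hba : (e1 : Fin 3 → F) ⬝ᵥ ![1, 0, 0] = 0 := by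
      simp [e1, dotProduct, Fin.sum_univ_three]
    have hdc : (e0 : Fin 3 → F) ⬝ᵥ ![0, 0, -z] = 0 := by
      simp [e0, dotProduct, Fin.sum_univ_three]
    have hbc : (e1 : Fin 3 → F) ⬝ᵥ ![0, 0, -z] = 0 := by
      simp [e1, dotProduct, Fin.sum_univ_three]
    have := InH.comm hba hdc hbc (hR1 1) (hR0 0 (-z))
    have e : (-((e0 : Fin 3 → F) ⬝ᵥ ![1, 0, 0]) • ![0, 0, -z] : Fin 3 → F) = ![0, 0, z] := by
      ext a
      fin_cases a <;> simp [e0, dotProduct, Fin.sum_univ_three]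
    rwa [e] at this
  rw [eq_top_iff, ← Cfsg.Agent.Lib.Helper5.closure_transvection_eq_top, Subgroup.closure_le]
  rintro g ⟨i, j, hij, c, rfl⟩
  apply InH.mem
  rw [SpecialLinearGroup.transvection_coe, one_add_single_eq_tv]
  have h1e : (Pi.single (1 : Fin 3) (1 : F) : Fin 3 → F) = e1 := by rw [single1]; rfl
  have h0e : (Pi.single (0 : Fin 3) (1 : F) : Fin 3 → F) = e0 := by rw [single0]; rfl
  have h2e : (Pi.single (2 : Fin 3) (1 : F) : Fin 3 → F) = e2 := by rw [single2]; rfl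
  fin_cases i <;> fin_cases j
  · exact absurd rfl hij
  · show InH H (tv (Pi.single (0 : Fin 3) c) (Pi.single (1 : Fin 3) 1))
    rw [single0, h1e]; exact hR1 c
  · show InH H (tv (Pi.single (0 : Fin 3) c) (Pi.single (2 : Fin 3) 1))
    rw [single0, h2e]; exact hT c 0
  · show InH H (tv (Pi.single (1 : Fin 3) c) (Pi.single (0 : Fin 3) 1))
    rw [single1, h0e]; exact hR0 c 0
  · exact absurd rfl hij
  · show InH H (tv (Pi.single (1 : Fin 3) c) (Pi.single (2 : Fin 3) 1))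
    rw [single1, h2e]; exact hT 0 c
  · show InH H (tv (Pi.single (2 : Fin 3) c) (Pi.single (0 : Fin 3) 1))
    rw [single2, h0e]; exact hR0 0 c
  · show InH H (tv (Pi.single (2 : Fin 3) c) (Pi.single (1 : Fin 3) 1))
    rw [single2, h1e]; exact hR2 c
  · exact absurd rfl hij

variable [Fintype F]

/-- the main theorem of the odd-characteristic construction -/
theorem eq_top_of_pair (l : F) (hl : l ≠ 0) (hl1 : l ≠ 1) (hσ : 1 + l + l ^ 2 ≠ 0) (h2 : (2 : F) ≠ 0)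
    (hgen : ∀ y : F, y ≠ 0 → ∃ j : ℕ, y = l⁻¹ ^ j) (hq : Fintype.card F ≠ 4)
    (H : Subgroup (SpecialLinearGroup (Fin 3) F))
    (hu : InH H (uM : Matrix (Fin 3) (Fin 3) F)) (hv : InH H (vM l)) : H = ⊤ := by
  have hY := S1_all l hl hl1 hσ h2 hgen hq H hu hv
  have hs := inH_sM l hl hl1 hσ h2 hgen hq H hu hv
  have hl3 : l⁻¹ ^ 3 - 1 ≠ 0 := by
    intro h
    have h3 : l ^ 3 = 1 := by
      have : l⁻¹ ^ 3 = 1 := sub_eq_zero.mp h
      rw [inv_pow] at this
      exact inv_eq_one.mp this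
    have : (l - 1) * (1 + l + l ^ 2) = 0 := by ring_nf; rw [h3]; ring
    rcases mul_eq_zero.mp this with h | h
    · exact hl1 (sub_eq_zero.mp h)
    · exact hσ h
  have hc1 : l⁻¹ * ((l⁻¹ ^ 2 - l) * l⁻¹) ≠ 0 := by
    have : l⁻¹ ^ 2 - l = l * (l⁻¹ ^ 3 - 1) := by field_simp
    rw [this]
    exact mul_ne_zero (inv_ne_zero hl) (mul_ne_zero (mul_ne_zero hl hl3) (inv_ne_zero hl))
  have hX : ∀ x : F, InH H (tv ![x, 0, 0] (e2 : Fin 3 → F)) := by
    intro x
    set y : F := x / (l⁻¹ * ((l⁻¹ ^ 2 - l) * l⁻¹)) with hy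
    have h1 := hs.conj (sM_mul_sI l hl) (hY y)
    rw [e2_vecMul_sI, sM_mulVec, tv_smul_comm] at h1
    have e : (l⁻¹ • ![(l⁻¹ ^ 2 - l) * l⁻¹ * y, l * y, 0] : Fin 3 → F) = ![x, y, 0] := by
      ext a
      fin_cases a
      · show l⁻¹ * ((l⁻¹ ^ 2 - l) * l⁻¹ * y) = x
        have : l⁻¹ * ((l⁻¹ ^ 2 - l) * l⁻¹ * y) = (l⁻¹ * ((l⁻¹ ^ 2 - l) * l⁻¹)) * y := by ring
        rw [this, hy, mul_div_cancel₀ _ hc1]
      · show l⁻¹ * (l * y) = y
        rw [← mul_assoc, inv_mul_cancel₀ hl, one_mul]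
      · show l⁻¹ * 0 = 0
        rw [mul_zero]
    rw [e] at h1
    have h3 := inH_add H _ _ _ _ h1 (inH_neg H 0 y (hY y))
    have e1 : y + -y = 0 := add_neg_cancel _
    have e2 : x + -0 = x := by rw [neg_zero, add_zero]
    rwa [e1, e2] at h3
  refine eq_top_of_T H hu ?_
  intro x y
  have := inH_add H _ _ _ _ (hX x) (hY y)
  rwa [add_zero, zero_add] at this

end Cfsg.Agent.Lib.Helper39.SL3Pair
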