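/-
helper39 library: `SL_3(F)` for `|F| = 4` is generated by the Jordan block `Jmat 3` and an explicit conjugate
`v4 ω`; the proof finds the bidiagonal matrix `Lmat 3 ![ω + 1, 1, 1]` as the word `v J v v J v⁻¹`.
(The entrywise certificates below are machine generated.)
-/
import Mathlib
import Cfsg.Agent.Lib.Helper39.RankOne
import Cfsg.Agent.Lib.Helper39.JordanMat
import Cfsg.Agent.Lib.Helper39.JordanGen
import Cfsg.Agent.Lib.Helper39.SL3Char2

set_option autoImplicit false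
set_option linter.unusedSectionVars false
set_option linter.unnecessarySeqFocus false
set_option linter.unusedVariables false

namespace Cfsg.Agent.Lib.Helper39.SL3Q4

open Matrix Cfsg.Agent.Lib.Helper39.RankOne Cfsg.Agent.Lib.Helper39.JordanMat
  Cfsg.Agent.Lib.Helper39.JordanGen Cfsg.Agent.Lib.Helper39.SL3Char2

variable {F : Type*} [Field F]

theorem q4_gJ (ω : F) (hω : ω * ω = ω + 1) (h2 : (2 : F) = 0) :
    (!![0, ω, 0; ω + 1, 1, 0; 0, 1, 1] : Matrix (Fin 3) (Fin 3) F) * !![1, 1, 0; 0, 1, 1; 0, 0, 1]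
      = !![0, ω, ω; ω + 1, ω, 1; 0, 1, 0] := by
  ext a b
  fin_cases a <;> fin_cases b <;> simp only [Matrix.mul_apply, Fin.sum_univ_three]
  · show (0 * 1 + ω * 0 + 0 * 0 : F) = 0
    linear_combination (0 : F) * hω + ((0 : F) * ω + (0 : F)) * h2
  · show (0 * 1 + ω * 1 + 0 * 0 : F) = ω
    linear_combination (0 : F) * hω + ((0 : F) * ω + (0 : F)) * h2
  · show (0 * 0 + ω * 1 + 0 * 1 : F) = ω
    linear_combination (0 : F) * hω + ((0 : F) * ω + (0 : F)) * h2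
  · show ((ω + 1) * 1 + 1 * 0 + 0 * 0 : F) = ω + 1
    linear_combination (0 : F) * hω + ((0 : F) * ω + (0 : F)) * h2
  · show ((ω + 1) * 1 + 1 * 1 + 0 * 0 : F) = ω
    linear_combination (0 : F) * hω + ((0 : F) * ω + (1 : F)) * h2
  · show ((ω + 1) * 0 + 1 * 1 + 0 * 1 : F) = 1
    linear_combination (0 : F) * hω + ((0 : F) * ω + (0 : F)) * h2
  · show (0 * 1 + 1 * 0 + 1 * 0 : F) = 0
    linear_combination (0 : F) * hω + ((0 : F) * ω + (0 : F)) * h2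
  · show (0 * 1 + 1 * 1 + 1 * 0 : F) = 1
    linear_combination (0 : F) * hω + ((0 : F) * ω + (0 : F)) * h2
  · show (0 * 0 + 1 * 1 + 1 * 1 : F) = 0
    linear_combination (0 : F) * hω + ((0 : F) * ω + (1 : F)) * h2

theorem q4_vg (ω : F) (hω : ω * ω = ω + 1) (h2 : (2 : F) = 0) :
    (!![0, 0, ω; 1, 1, 1; ω + 1, 0, 0] : Matrix (Fin 3) (Fin 3) F) * !![0, ω, 0; ω + 1, 1, 0; 0, 1, 1]
      = !![0, ω, ω; ω + 1, ω, 1; 0, 1, 0] := by
  ext a b
  fin_cases a <;> fin_cases b <;> simp only [Matrix.mul_apply, Fin.sum_univ_three]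
  · show (0 * 0 + 0 * (ω + 1) + ω * 0 : F) = 0
    linear_combination (0 : F) * hω + ((0 : F) * ω + (0 : F)) * h2
  · show (0 * ω + 0 * 1 + ω * 1 : F) = ω
    linear_combination (0 : F) * hω + ((0 : F) * ω + (0 : F)) * h2
  · show (0 * 0 + 0 * 0 + ω * 1 : F) = ω
    linear_combination (0 : F) * hω + ((0 : F) * ω + (0 : F)) * h2
  · show (1 * 0 + 1 * (ω + 1) + 1 * 0 : F) = ω + 1
    linear_combination (0 : F) * hω + ((0 : F) * ω + (0 : F)) * h2
  · show (1 * ω + 1 * 1 + 1 * 1 : F) = ω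
    linear_combination (0 : F) * hω + ((0 : F) * ω + (1 : F)) * h2
  · show (1 * 0 + 1 * 0 + 1 * 1 : F) = 1
    linear_combination (0 : F) * hω + ((0 : F) * ω + (0 : F)) * h2
  · show ((ω + 1) * 0 + 0 * (ω + 1) + 0 * 0 : F) = 0
    linear_combination (0 : F) * hω + ((0 : F) * ω + (0 : F)) * h2
  · show ((ω + 1) * ω + 0 * 1 + 0 * 1 : F) = 1
    linear_combination (1 : F) * hω + ((1 : F) * ω + (0 : F)) * h2
  · show ((ω + 1) * 0 + 0 * 0 + 0 * 1 : F) = 0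
    linear_combination (0 : F) * hω + ((0 : F) * ω + (0 : F)) * h2

theorem q4_w1 (ω : F) (hω : ω * ω = ω + 1) (h2 : (2 : F) = 0) :
    (!![0, 0, ω; 1, 1, 1; ω + 1, 0, 0] : Matrix (Fin 3) (Fin 3) F) * !![1, 1, 0; 0, 1, 1; 0, 0, 1]
      = !![0, 0, ω; 1, 0, 0; ω + 1, ω + 1, 0] := by
  ext a b
  fin_cases a <;> fin_cases b <;> simp only [Matrix.mul_apply, Fin.sum_univ_three]
  · show (0 * 1 + 0 * 0 + ω * 0 : F) = 0
    linear_combination (0 : F) * hω + ((0 : F) * ω + (0 : F)) * h2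
  · show (0 * 1 + 0 * 1 + ω * 0 : F) = 0
    linear_combination (0 : F) * hω + ((0 : F) * ω + (0 : F)) * h2
  · show (0 * 0 + 0 * 1 + ω * 1 : F) = ω
    linear_combination (0 : F) * hω + ((0 : F) * ω + (0 : F)) * h2
  · show (1 * 1 + 1 * 0 + 1 * 0 : F) = 1
    linear_combination (0 : F) * hω + ((0 : F) * ω + (0 : F)) * h2
  · show (1 * 1 + 1 * 1 + 1 * 0 : F) = 0
    linear_combination (0 : F) * hω + ((0 : F) * ω + (1 : F)) * h2
  · show (1 * 0 + 1 * 1 + 1 * 1 : F) = 0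
    linear_combination (0 : F) * hω + ((0 : F) * ω + (1 : F)) * h2
  · show ((ω + 1) * 1 + 0 * 0 + 0 * 0 : F) = ω + 1
    linear_combination (0 : F) * hω + ((0 : F) * ω + (0 : F)) * h2
  · show ((ω + 1) * 1 + 0 * 1 + 0 * 0 : F) = ω + 1
    linear_combination (0 : F) * hω + ((0 : F) * ω + (0 : F)) * h2
  · show ((ω + 1) * 0 + 0 * 1 + 0 * 1 : F) = 0
    linear_combination (0 : F) * hω + ((0 : F) * ω + (0 : F)) * h2

theorem q4_w2 (ω : F) (hω : ω * ω = ω + 1) (h2 : (2 : F) = 0) :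
    (!![0, 0, ω; 1, 0, 0; ω + 1, ω + 1, 0] : Matrix (Fin 3) (Fin 3) F) * !![0, 0, ω; 1, 1, 1; ω + 1, 0, 0]
      = !![1, 0, 0; 0, 0, ω; ω + 1, ω + 1, ω] := by
  ext a b
  fin_cases a <;> fin_cases b <;> simp only [Matrix.mul_apply, Fin.sum_univ_three]
  · show (0 * 0 + 0 * 1 + ω * (ω + 1) : F) = 1
    linear_combination (1 : F) * hω + ((1 : F) * ω + (0 : F)) * h2
  · show (0 * 0 + 0 * 1 + ω * 0 : F) = 0
    linear_combination (0 : F) * hω + ((0 : F) * ω + (0 : F)) * h2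
  · show (0 * ω + 0 * 1 + ω * 0 : F) = 0
    linear_combination (0 : F) * hω + ((0 : F) * ω + (0 : F)) * h2
  · show (1 * 0 + 0 * 1 + 0 * (ω + 1) : F) = 0
    linear_combination (0 : F) * hω + ((0 : F) * ω + (0 : F)) * h2
  · show (1 * 0 + 0 * 1 + 0 * 0 : F) = 0
    linear_combination (0 : F) * hω + ((0 : F) * ω + (0 : F)) * h2
  · show (1 * ω + 0 * 1 + 0 * 0 : F) = ω
    linear_combination (0 : F) * hω + ((0 : F) * ω + (0 : F)) * h2
  · show ((ω + 1) * 0 + (ω + 1) * 1 + 0 * (ω + 1) : F) = ω + 1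
    linear_combination (0 : F) * hω + ((0 : F) * ω + (0 : F)) * h2
  · show ((ω + 1) * 0 + (ω + 1) * 1 + 0 * 0 : F) = ω + 1
    linear_combination (0 : F) * hω + ((0 : F) * ω + (0 : F)) * h2
  · show ((ω + 1) * ω + (ω + 1) * 1 + 0 * 0 : F) = ω
    linear_combination (1 : F) * hω + ((1 : F) * ω + (1 : F)) * h2

theorem q4_w3 (ω : F) (hω : ω * ω = ω + 1) (h2 : (2 : F) = 0) :
    (!![1, 0, 0; 0, 0, ω; ω + 1, ω + 1, ω] : Matrix (Fin 3) (Fin 3) F) * !![0, 0, ω; 1, 1, 1; ω + 1, 0, 0]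
      = !![0, 0, ω; 1, 0, 0; ω, ω + 1, ω] := by
  ext a b
  fin_cases a <;> fin_cases b <;> simp only [Matrix.mul_apply, Fin.sum_univ_three]
  · show (1 * 0 + 0 * 1 + 0 * (ω + 1) : F) = 0
    linear_combination (0 : F) * hω + ((0 : F) * ω + (0 : F)) * h2
  · show (1 * 0 + 0 * 1 + 0 * 0 : F) = 0
    linear_combination (0 : F) * hω + ((0 : F) * ω + (0 : F)) * h2
  · show (1 * ω + 0 * 1 + 0 * 0 : F) = ω
    linear_combination (0 : F) * hω + ((0 : F) * ω + (0 : F)) * h2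
  · show (0 * 0 + 0 * 1 + ω * (ω + 1) : F) = 1
    linear_combination (1 : F) * hω + ((1 : F) * ω + (0 : F)) * h2
  · show (0 * 0 + 0 * 1 + ω * 0 : F) = 0
    linear_combination (0 : F) * hω + ((0 : F) * ω + (0 : F)) * h2
  · show (0 * ω + 0 * 1 + ω * 0 : F) = 0
    linear_combination (0 : F) * hω + ((0 : F) * ω + (0 : F)) * h2
  · show ((ω + 1) * 0 + (ω + 1) * 1 + ω * (ω + 1) : F) = ω
    linear_combination (1 : F) * hω + ((1 : F) * ω + (1 : F)) * h2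
  · show ((ω + 1) * 0 + (ω + 1) * 1 + ω * 0 : F) = ω + 1
    linear_combination (0 : F) * hω + ((0 : F) * ω + (0 : F)) * h2
  · show ((ω + 1) * ω + (ω + 1) * 1 + ω * 0 : F) = ω
    linear_combination (1 : F) * hω + ((1 : F) * ω + (1 : F)) * h2

theorem q4_w4 (ω : F) (hω : ω * ω = ω + 1) (h2 : (2 : F) = 0) :
    (!![0, 0, ω; 1, 0, 0; ω, ω + 1, ω] : Matrix (Fin 3) (Fin 3) F) * !![1, 1, 0; 0, 1, 1; 0, 0, 1]
      = !![0, 0, ω; 1, 1, 0; ω, 1, 1] := by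
  ext a b
  fin_cases a <;> fin_cases b <;> simp only [Matrix.mul_apply, Fin.sum_univ_three]
  · show (0 * 1 + 0 * 0 + ω * 0 : F) = 0
    linear_combination (0 : F) * hω + ((0 : F) * ω + (0 : F)) * h2
  · show (0 * 1 + 0 * 1 + ω * 0 : F) = 0
    linear_combination (0 : F) * hω + ((0 : F) * ω + (0 : F)) * h2
  · show (0 * 0 + 0 * 1 + ω * 1 : F) = ω
    linear_combination (0 : F) * hω + ((0 : F) * ω + (0 : F)) * h2
  · show (1 * 1 + 0 * 0 + 0 * 0 : F) = 1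
    linear_combination (0 : F) * hω + ((0 : F) * ω + (0 : F)) * h2
  · show (1 * 1 + 0 * 1 + 0 * 0 : F) = 1
    linear_combination (0 : F) * hω + ((0 : F) * ω + (0 : F)) * h2
  · show (1 * 0 + 0 * 1 + 0 * 1 : F) = 0
    linear_combination (0 : F) * hω + ((0 : F) * ω + (0 : F)) * h2
  · show (ω * 1 + (ω + 1) * 0 + ω * 0 : F) = ω
    linear_combination (0 : F) * hω + ((0 : F) * ω + (0 : F)) * h2
  · show (ω * 1 + (ω + 1) * 1 + ω * 0 : F) = 1
    linear_combination (0 : F) * hω + ((1 : F) * ω + (0 : F)) * h2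
  · show (ω * 0 + (ω + 1) * 1 + ω * 1 : F) = 1
    linear_combination (0 : F) * hω + ((1 : F) * ω + (0 : F)) * h2

theorem q4_Lv (ω : F) (hω : ω * ω = ω + 1) (h2 : (2 : F) = 0) :
    (!![1, 0, 0; ω + 1, 1, 0; 0, 1, 1] : Matrix (Fin 3) (Fin 3) F) * !![0, 0, ω; 1, 1, 1; ω + 1, 0, 0]
      = !![0, 0, ω; 1, 1, 0; ω, 1, 1] := by
  ext a b
  fin_cases a <;> fin_cases b <;> simp only [Matrix.mul_apply, Fin.sum_univ_three]
  · show (1 * 0 + 0 * 1 + 0 * (ω + 1) : F) = 0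
    linear_combination (0 : F) * hω + ((0 : F) * ω + (0 : F)) * h2
  · show (1 * 0 + 0 * 1 + 0 * 0 : F) = 0
    linear_combination (0 : F) * hω + ((0 : F) * ω + (0 : F)) * h2
  · show (1 * ω + 0 * 1 + 0 * 0 : F) = ω
    linear_combination (0 : F) * hω + ((0 : F) * ω + (0 : F)) * h2
  · show ((ω + 1) * 0 + 1 * 1 + 0 * (ω + 1) : F) = 1
    linear_combination (0 : F) * hω + ((0 : F) * ω + (0 : F)) * h2
  · show ((ω + 1) * 0 + 1 * 1 + 0 * 0 : F) = 1
    linear_combination (0 : F) * hω + ((0 : F) * ω + (0 : F)) * h2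
  · show ((ω + 1) * ω + 1 * 1 + 0 * 0 : F) = 0
    linear_combination (1 : F) * hω + ((1 : F) * ω + (1 : F)) * h2
  · show (0 * 0 + 1 * 1 + 1 * (ω + 1) : F) = ω
    linear_combination (0 : F) * hω + ((0 : F) * ω + (1 : F)) * h2
  · show (0 * 0 + 1 * 1 + 1 * 0 : F) = 1
    linear_combination (0 : F) * hω + ((0 : F) * ω + (0 : F)) * h2
  · show (0 * ω + 1 * 1 + 1 * 0 : F) = 1
    linear_combination (0 : F) * hω + ((0 : F) * ω + (0 : F)) * h2

theorem q4_LLinv (ω : F) (hω : ω * ω = ω + 1) (h2 : (2 : F) = 0) :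
    (!![1, 0, 0; ω + 1, 1, 0; 0, 1, 1] : Matrix (Fin 3) (Fin 3) F) * !![1, 0, 0; ω + 1, 1, 0; ω + 1, 1, 1]
      = !![1, 0, 0; 0, 1, 0; 0, 0, 1] := by
  ext a b
  fin_cases a <;> fin_cases b <;> simp only [Matrix.mul_apply, Fin.sum_univ_three]
  · show (1 * 1 + 0 * (ω + 1) + 0 * (ω + 1) : F) = 1
    linear_combination (0 : F) * hω + ((0 : F) * ω + (0 : F)) * h2
  · show (1 * 0 + 0 * 1 + 0 * 1 : F) = 0
    linear_combination (0 : F) * hω + ((0 : F) * ω + (0 : F)) * h2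
  · show (1 * 0 + 0 * 0 + 0 * 1 : F) = 0
    linear_combination (0 : F) * hω + ((0 : F) * ω + (0 : F)) * h2
  · show ((ω + 1) * 1 + 1 * (ω + 1) + 0 * (ω + 1) : F) = 0
    linear_combination (0 : F) * hω + ((1 : F) * ω + (1 : F)) * h2
  · show ((ω + 1) * 0 + 1 * 1 + 0 * 1 : F) = 1
    linear_combination (0 : F) * hω + ((0 : F) * ω + (0 : F)) * h2
  · show ((ω + 1) * 0 + 1 * 0 + 0 * 1 : F) = 0
    linear_combination (0 : F) * hω + ((0 : F) * ω + (0 : F)) * h2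
  · show (0 * 1 + 1 * (ω + 1) + 1 * (ω + 1) : F) = 0
    linear_combination (0 : F) * hω + ((1 : F) * ω + (1 : F)) * h2
  · show (0 * 0 + 1 * 1 + 1 * 1 : F) = 0
    linear_combination (0 : F) * hω + ((0 : F) * ω + (1 : F)) * h2
  · show (0 * 0 + 1 * 0 + 1 * 1 : F) = 1
    linear_combination (0 : F) * hω + ((0 : F) * ω + (0 : F)) * h2

/-- the conjugating matrix -/
def g4 (ω : F) : Matrix (Fin 3) (Fin 3) F := !![0, ω, 0; ω + 1, 1, 0; 0, 1, 1]

/-- the second generator -/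
def v4 (ω : F) : Matrix (Fin 3) (Fin 3) F := !![0, 0, ω; 1, 1, 1; ω + 1, 0, 0]

theorem det_g4 (ω : F) (hω : ω * ω = ω + 1) (h2 : (2 : F) = 0) : (g4 ω).det = 1 := by
  rw [Matrix.det_fin_three]
  show (0 * 1 * 1 - 0 * 0 * 1 - ω * (ω + 1) * 1 + ω * 0 * 0 + 0 * (ω + 1) * 1 - 0 * 1 * 0 : F) = 1
  linear_combination (-1 : F) * hω + (-(ω + 1)) * h2

theorem g4_mul_J (ω : F) (hω : ω * ω = ω + 1) (h2 : (2 : F) = 0) :
    g4 ω * (Jmat 3 : Matrix (Fin 3) (Fin 3) F) = v4 ω * g4 ω := by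
  rw [Jmat3_eq]
  unfold g4 v4
  rw [q4_gJ ω hω h2, q4_vg ω hω h2]

theorem InH.cancel_right {n : Type*} [Fintype n] [DecidableEq n] {R : Type*} [CommRing R]
    {H : Subgroup (SpecialLinearGroup n R)} {A B : Matrix n n R} (hAB : InH H (A * B))
    (hB : InH H B) : InH H A := by
  obtain ⟨g1, hg1, e1⟩ := hAB
  obtain ⟨g2, hg2, e2⟩ := hB
  refine ⟨g1 * g2⁻¹, H.mul_mem hg1 (H.inv_mem hg2), ?_⟩
  have h1 : (g2 : Matrix n n R) * ((g2⁻¹ : SpecialLinearGroup n R) : Matrix n n R) = 1 := by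
    show ((g2 * g2⁻¹ : SpecialLinearGroup n R) : Matrix n n R) = 1
    rw [mul_inv_cancel]; rfl
  show (g1 : Matrix n n R) * ((g2⁻¹ : SpecialLinearGroup n R) : Matrix n n R) = A
  rw [e1, Matrix.mul_assoc, ← e2, h1, mul_one]

theorem eq_top_q4 (ω : F) (hω : ω * ω = ω + 1) (h2 : (2 : F) = 0)
    (hall : ∀ c : F, c = 0 ∨ c = 1 ∨ c = ω ∨ c = ω + 1)
    (H : Subgroup (SpecialLinearGroup (Fin 3) F))
    (hJ : InH H (Jmat 3 : Matrix (Fin 3) (Fin 3) F)) (hv : InH H (v4 ω)) : H = ⊤ := by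
  have hω1 : ω + 1 ≠ 0 := by
    intro h
    have h0 : ω * ω = 0 := by rw [hω, h]
    have h00 : ω = 0 := by
      rcases mul_eq_zero.mp h0 with h | h <;> exact h
    rw [h00, zero_add] at h
    exact one_ne_zero h
  set μ : Fin (0 + 3) → F := ![ω + 1, 1, 1] with hμdef
  have hμ : ∀ k, μ k ≠ 0 := by
    intro k
    fin_cases k
    · exact hω1
    · exact one_ne_zero
    · exact one_ne_zero
  have hLeq : Lmat (0 + 3) μ = !![1, 0, 0; ω + 1, 1, 0; 0, 1, 1] := by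
    rw [Lmat3_eq]; rfl
  set L' : Matrix (Fin (0 + 3)) (Fin (0 + 3)) F := !![1, 0, 0; ω + 1, 1, 0; ω + 1, 1, 1] with hL'
  have hLL' : Lmat (0 + 3) μ * L' = 1 := by
    rw [hLeq, hL', q4_LLinv ω hω h2, Matrix.one_fin_three]
  -- the word
  have hL : InH H (Lmat (0 + 3) μ) := by
    have hJ' : InH H (!![1, 1, 0; 0, 1, 1; 0, 0, 1] : Matrix (Fin 3) (Fin 3) F) := by
      rw [← Jmat3_eq]; exact hJ
    have hv' : InH H (!![0, 0, ω; 1, 1, 1; ω + 1, 0, 0] : Matrix (Fin 3) (Fin 3) F) := hv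
    have hw := (((hv'.mul hJ').mul hv').mul hv').mul hJ'
    rw [q4_w1 ω hω h2, q4_w2 ω hω h2, q4_w3 ω hω h2, q4_w4 ω hω h2, ← q4_Lv ω hω h2] at hw
    rw [hLeq]
    exact InH.cancel_right hw hv'
  have h1 : (1 : F) ∈ S02 H := by
    show InH H (tv (Pi.single (0 : Fin 3) (1 : F)) (Pi.single (2 : Fin 3) 1))
    rw [← Jmat3_sq h2]; exact hJ.mul hJ
  have hω' : ω ∈ S02 H := by
    have := S_closed (m := 0) μ hμ H L' hLL' hJ hL 1 1 h1 h1
    have e : -(L' (Fin.last (0 + 2)) 0) * μ 0 * 1 * 1 = ω := by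
      have e1 : L' (Fin.last (0 + 2)) 0 = ω + 1 := by rw [hL']; rfl
      have e2 : μ 0 = ω + 1 := rfl
      rw [e1, e2]
      linear_combination (-1 : F) * hω + (-(2 : F) * ω - 1) * h2
    rw [e] at this
    exact this
  have hS : ∀ c : F, InH H (tv (Pi.single (0 : Fin (0 + 3)) c) (Pi.single (Fin.last (0 + 2)) 1)) := by
    intro c
    show c ∈ S02 H
    rcases hall c with rfl | rfl | rfl | rfl
    · exact (S02 H).zero_mem
    · exact h1
    · exact hω'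
    · exact (S02 H).add_mem hω' h1
  exact eq_top_of_S_all (m := 0) μ hμ H L' hLL' hJ hL hS

end Cfsg.Agent.Lib.Helper39.SL3Q4
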