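/-
helper39 library: `SL_3(F)`, `F` a finite field, is generated by two conjugate regular unipotent elements.
-/
import Mathlib
import Cfsg.Agent.Lib.Helper39.RankOne
import Cfsg.Agent.Lib.Helper39.JordanMat
import Cfsg.Agent.Lib.Helper39.JordanW
import Cfsg.Agent.Lib.Helper39.JordanGen
import Cfsg.Agent.Lib.Helper39.SL3Char2
import Cfsg.Agent.Lib.Helper39.SL3Q4
import Cfsg.Agent.Lib.Helper39.SL3PairB
import Cfsg.Agent.Lib.Helper39.SL3PairE

set_option autoImplicit false
set_option linter.unusedSectionVars false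
set_option linter.unnecessarySeqFocus false

namespace Cfsg.Agent.Lib.Helper39.SL3Final

open Matrix Cfsg.Agent.Lib.Helper39.RankOne Cfsg.Agent.Lib.Helper39.JordanMat
  Cfsg.Agent.Lib.Helper39.JordanGen Cfsg.Agent.Lib.Helper39.SL3Char2 Cfsg.Agent.Lib.Helper39.SL3Q4
  Cfsg.Agent.Lib.Helper39.SL3Pair

variable {F : Type*} [Field F]

/-- packaging: from matrices to the closure statement -/
theorem closure_pair_eq_top (U G : SpecialLinearGroup (Fin 3) F) (v : Matrix (Fin 3) (Fin 3) F)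
    (hguv : (G : Matrix (Fin 3) (Fin 3) F) * (U : Matrix (Fin 3) (Fin 3) F)
      = v * (G : Matrix (Fin 3) (Fin 3) F))
    (hgen : ∀ H : Subgroup (SpecialLinearGroup (Fin 3) F),
      InH H (U : Matrix (Fin 3) (Fin 3) F) → InH H v → H = ⊤) :
    Subgroup.closure ({U, G * U * G⁻¹} : Set (SpecialLinearGroup (Fin 3) F)) = ⊤ := by
  set H := Subgroup.closure ({U, G * U * G⁻¹} : Set (SpecialLinearGroup (Fin 3) F)) with hH
  apply hgen H
  · exact InH.of_mem (g := U) (Subgroup.subset_closure (by simp))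
  · have hmem : G * U * G⁻¹ ∈ H := Subgroup.subset_closure (by simp)
    have hcoe : ((G * U * G⁻¹ : SpecialLinearGroup (Fin 3) F) : Matrix (Fin 3) (Fin 3) F) = v := by
      have hgg : (G : Matrix (Fin 3) (Fin 3) F) *
          ((G⁻¹ : SpecialLinearGroup (Fin 3) F) : Matrix (Fin 3) (Fin 3) F) = 1 := by
        show ((G * G⁻¹ : SpecialLinearGroup (Fin 3) F) : Matrix (Fin 3) (Fin 3) F) = 1
        rw [mul_inv_cancel]; rfl
      show (G : Matrix (Fin 3) (Fin 3) F) * (U : Matrix (Fin 3) (Fin 3) F) *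
        ((G⁻¹ : SpecialLinearGroup (Fin 3) F) : Matrix (Fin 3) (Fin 3) F) = v
      rw [hguv, Matrix.mul_assoc, hgg, mul_one]
    rw [← hcoe]; exact InH.of_mem hmem

theorem revSign3 : revSign F 3 = -1 := by
  unfold revSign
  have : (Equiv.Perm.sign (Fin.revPerm : Equiv.Perm (Fin 3))) = -1 := by decide
  rw [this]; simp

variable [Fintype F]

theorem exists_two_conj_reg_unip :
    ∃ u g : SpecialLinearGroup (Fin 3) F, IsNilpotent ((u : Matrix (Fin 3) (Fin 3) F) - 1) ∧
      ((u : Matrix (Fin 3) (Fin 3) F) - 1) ^ (3 - 1) ≠ 0 ∧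
      Subgroup.closure ({u, g * u * g⁻¹} : Set (SpecialLinearGroup (Fin 3) F)) = ⊤ := by
  classical
  obtain ⟨ζu, hζu⟩ := IsCyclic.exists_monoid_generator (α := Fˣ)
  set ζ : F := (ζu : F) with hζ
  have hζ0 : ζ ≠ 0 := ζu.ne_zero
  have hgen : ∀ y : F, y ≠ 0 → ∃ j : ℕ, y = ζ ^ j := by
    intro y hy
    obtain ⟨k, hk⟩ := (Submonoid.mem_powers_iff _ _).mp (hζu (Units.mk0 y hy))
    refine ⟨k, ?_⟩
    rw [hζ, ← Units.val_pow_eq_pow_val, hk]
    rfl
  have hJnil : IsNilpotent ((Jmat 3 : Matrix (Fin 3) (Fin 3) F) - 1) ∧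
      ((Jmat 3 : Matrix (Fin 3) (Fin 3) F) - 1) ^ (3 - 1) ≠ 0 := by
    have : (Jmat 3 : Matrix (Fin 3) (Fin 3) F) - 1 = Nmat 3 := by
      unfold Jmat; rw [add_sub_cancel_left]
    rw [this]
    exact ⟨⟨3, Nmat_pow_self⟩, Nmat_pow_pred_ne_zero (by omega)⟩
  by_cases h2 : (2 : F) = 0
  · by_cases hq : Fintype.card F = 4
    · -- `q = 4`
      have hcardU : Fintype.card Fˣ = 3 := by rw [Fintype.card_units, hq]
      have hζ3 : ζ ^ 3 = 1 := by
        have : ζu ^ 3 = 1 := by rw [← hcardU]; exact pow_card_eq_one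
        rw [hζ, ← Units.val_pow_eq_pow_val, this]; rfl
      have hζ1 : ζ ≠ 1 := by
        intro h1
        -- then every nonzero element is `1`, so `|F| ≤ 2`
        have hall1 : ∀ y : F, y ≠ 0 → y = 1 := by
          intro y hy
          obtain ⟨j, rfl⟩ := hgen y hy
          rw [h1, one_pow]
        have hle : Fintype.card F ≤ 2 := by
          have hsub : (Finset.univ : Finset F) ⊆ {0, 1} := by
            intro y _
            by_cases hy : y = 0
            · simp [hy]
            · simp [hall1 y hy]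
          calc Fintype.card F = (Finset.univ : Finset F).card := rfl
            _ ≤ ({0, 1} : Finset F).card := Finset.card_le_card hsub
            _ ≤ 2 := Finset.card_le_two
        omega
      have hω : ζ * ζ = ζ + 1 := by
        have h0 : (ζ - 1) * (ζ * ζ + ζ + 1) = 0 := by ring_nf; rw [hζ3]; ring
        rcases mul_eq_zero.mp h0 with h | h
        · exact absurd (sub_eq_zero.mp h) hζ1
        · linear_combination h - (ζ + 1) * h2
      have hall : ∀ c : F, c = 0 ∨ c = 1 ∨ c = ζ ∨ c = ζ + 1 := by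
        intro c
        by_cases hc : c = 0
        · exact Or.inl hc
        · obtain ⟨j, rfl⟩ := hgen c hc
          have hj : ζ ^ j = ζ ^ (j % 3) := by
            conv_lhs => rw [← Nat.div_add_mod j 3, pow_add, pow_mul, hζ3, one_pow, one_mul]
          have hlt : j % 3 < 3 := Nat.mod_lt _ (by norm_num)
          rw [hj]
          interval_cases (j % 3)
          · right; left; exact pow_zero _
          · right; right; left; exact pow_one _
          · right; right; right; rw [pow_two]; exact hω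
      refine ⟨⟨Jmat 3, det_Jmat⟩, ⟨g4 ζ, det_g4 ζ hω h2⟩, hJnil.1, hJnil.2, ?_⟩
      exact closure_pair_eq_top (⟨Jmat 3, det_Jmat⟩ : SpecialLinearGroup (Fin 3) F)
        (⟨g4 ζ, det_g4 ζ hω h2⟩ : SpecialLinearGroup (Fin 3) F) (v4 ζ) (g4_mul_J ζ hω h2)
        (fun H hJ hv => eq_top_q4 ζ hω h2 hall H hJ hv)
    · -- characteristic two, `q ≠ 4`
      set s : Fin 3 → F := ![-ζ⁻¹, -1, -ζ] with hs
      have hdet : (Wmat 3 s).det = 1 := by
        rw [det_Wmat, Fin.prod_univ_three]
        show (-ζ⁻¹) * (-1) * (-ζ) * revSign F 3 = 1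
        rw [revSign3]
        field_simp
      have hrel : ∀ i j : Fin 3, i.val = j.val + 1 → (fun _ => ζ : Fin 3 → F) j * s j = s i := by
        intro i j hij
        fin_cases i <;> fin_cases j <;> simp at hij
        · show ζ * (-ζ⁻¹) = -1
          field_simp
        · show ζ * (-1) = -ζ
          ring
      have hW : Wmat 3 s * (Jmat 3 : Matrix (Fin 3) (Fin 3) F) = Lmat 3 (fun _ => ζ) * Wmat 3 s :=
        Wmat_mul_Jmat s _ hrel
      refine ⟨⟨Jmat 3, det_Jmat⟩, ⟨Wmat 3 s, hdet⟩, hJnil.1, hJnil.2, ?_⟩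
      exact closure_pair_eq_top (⟨Jmat 3, det_Jmat⟩ : SpecialLinearGroup (Fin 3) F)
        (⟨Wmat 3 s, hdet⟩ : SpecialLinearGroup (Fin 3) F) (Lmat 3 (fun _ => ζ)) hW
        (fun H hJ hL => eq_top_char2 h2 hq ζ hζ0 hgen H hJ hL)
  · -- odd characteristic
    set l : F := ζ⁻¹ with hl
    have hl0 : l ≠ 0 := inv_ne_zero hζ0
    have hgen' : ∀ y : F, y ≠ 0 → ∃ j : ℕ, y = l⁻¹ ^ j := by
      intro y hy
      rw [hl, inv_inv]; exact hgen y hy
    have hneg1 : ∀ k : ℕ, ζ ^ k = 1 → ((-1 : F)) ^ k = 1 := by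
      intro k hk
      obtain ⟨j, hj⟩ := hgen (-1) (neg_ne_zero.mpr one_ne_zero)
      rw [hj, ← pow_mul, mul_comm, pow_mul, hk, one_pow]
    have hl1 : l ≠ 1 := by
      intro h
      have h1 : ζ ^ 1 = 1 := by rw [pow_one]; rw [hl] at h; exact inv_eq_one.mp h
      have := hneg1 1 h1
      rw [pow_one] at this
      apply h2
      linear_combination -this
    have hσ : 1 + l + l ^ 2 ≠ 0 := by
      intro h
      have h3 : l ^ 3 = 1 := by linear_combination (l - 1) * h
      have h3' : ζ ^ 3 = 1 := by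
        rw [hl, inv_pow] at h3
        exact inv_eq_one.mp h3
      have := hneg1 3 h3'
      apply h2
      linear_combination -this
    have hq : Fintype.card F ≠ 4 := by
      intro hq
      have h4 : ((Fintype.card F : ℕ) : F) = 0 := FiniteField.cast_card_eq_zero F
      rw [hq] at h4
      have : (2 : F) * 2 = 0 := by norm_num at h4 ⊢; exact h4
      rcases mul_eq_zero.mp this with h | h <;> exact h2 h
    have hnil : IsNilpotent ((uM : Matrix (Fin 3) (Fin 3) F) - 1) := ⟨3, uM_sub_one_pow_three⟩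
    refine ⟨⟨uM, det_uM⟩, ⟨gM l, det_gM l hl0⟩, hnil, uM_sub_one_sq_ne_zero, ?_⟩
    exact closure_pair_eq_top (⟨uM, det_uM⟩ : SpecialLinearGroup (Fin 3) F)
      (⟨gM l, det_gM l hl0⟩ : SpecialLinearGroup (Fin 3) F) (vM l) (gM_mul_uM l hl0)
      (fun H hu hv => eq_top_of_pair l hl0 hl1 hσ h2 hgen' hq H hu hv)

end Cfsg.Agent.Lib.Helper39.SL3Final
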