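import Mathlib
import Cfsg.Agent.Lib.Helper41.SL2OddMat

/-!
# Trace identities for traceless elements of `SL₂(F)` (helper39)

For a traceless `a ∈ SL₂(F)` (so `a² = -1`) and any `g ∈ SL₂(F)`:
`tr (a · g a g⁻¹) = 2 - (tr g)² - (tr (a g))²` (`tr2_mul_conj`), and for an "orthogonal" traceless
pair `a, b` (`tr (a b) = 0`) the norm identity
`(tr g)² + (tr (a g))² + (tr (b g))² + (tr (a b g))² = 4` (`tr2_norm_identity`).
-/

set_option autoImplicit false

namespace Cfsg.Agent.Lib.Helper39.Sol3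

open Cfsg.Agent.Lib.Helper41

variable {F : Type*} [Field F]

local notation "SL2" => Matrix.SpecialLinearGroup (Fin 2) F

theorem tr2_mul_comm (x y : SL2) : tr2 (x * y) = tr2 (y * x) := by
  simp only [tr2, mul_apply_00, mul_apply_11]
  ring

theorem tr2_inv (x : SL2) : tr2 x⁻¹ = tr2 x := by
  simp only [tr2, inv_apply_00, inv_apply_11]
  ring

theorem tr2_one : tr2 (1 : SL2) = 2 := by
  simp only [tr2, Matrix.SpecialLinearGroup.coe_one, Matrix.one_apply_eq]
  norm_num

/-- the inverse of a traceless element is its negative -/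
theorem coe_inv_of_tr2 (a : SL2) (ha : tr2 a = 0) : (a⁻¹ : SL2).1 = -a.1 := by
  have h11 : a.1 1 1 = -a.1 0 0 := by
    unfold tr2 at ha
    linear_combination ha
  ext i j
  fin_cases i <;> fin_cases j
  · show (a⁻¹ : SL2).1 0 0 = -a.1 0 0
    rw [inv_apply_00, h11]
  · show (a⁻¹ : SL2).1 0 1 = -a.1 0 1
    rw [inv_apply_01]
  · show (a⁻¹ : SL2).1 1 0 = -a.1 1 0
    rw [inv_apply_10]
  · show (a⁻¹ : SL2).1 1 1 = -a.1 1 1
    rw [inv_apply_11, h11, neg_neg]

theorem tr2_inv_mul (a x : SL2) (ha : tr2 a = 0) : tr2 (a⁻¹ * x) = -tr2 (a * x) := by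
  have h := coe_inv_of_tr2 a ha
  have e00 := congrFun (congrFun h 0) 0
  have e01 := congrFun (congrFun h 0) 1
  have e10 := congrFun (congrFun h 1) 0
  have e11 := congrFun (congrFun h 1) 1
  simp only [Matrix.neg_apply] at e00 e01 e10 e11
  simp only [tr2, mul_apply_00, mul_apply_11, e00, e01, e10, e11]
  ring

theorem tr2_mul_self (a : SL2) (ha : tr2 a = 0) : tr2 (a * a) = -2 := by
  have hd := sl2_det a
  have h11 : a.1 1 1 = -a.1 0 0 := by
    unfold tr2 at ha
    linear_combination ha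
  simp only [tr2, mul_apply_00, mul_apply_11]
  rw [h11] at hd ⊢
  linear_combination -2 * hd

theorem tr2_mul_inv_self (a : SL2) : tr2 (a * a⁻¹) = 2 := by
  rw [mul_inv_cancel, tr2_one]

/-- orthogonal traceless elements anticommute: `b a b⁻¹ = a⁻¹` -/
theorem conj_eq_inv_of_tr2_mul (a b : SL2) (ha : tr2 a = 0) (hb : tr2 b = 0)
    (hab : tr2 (a * b) = 0) : b * a * b⁻¹ = a⁻¹ := by
  rw [mul_inv_eq_iff_eq_mul]
  have ha11 : a.1 1 1 = -a.1 0 0 := by
    unfold tr2 at ha
    linear_combination ha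
  have hb11 : b.1 1 1 = -b.1 0 0 := by
    unfold tr2 at hb
    linear_combination hb
  simp only [tr2, mul_apply_00, mul_apply_11] at hab
  rw [ha11, hb11] at hab
  apply sl2_ext <;>
    simp only [mul_apply_00, mul_apply_01, mul_apply_10, mul_apply_11, inv_apply_00,
      inv_apply_01, inv_apply_10, inv_apply_11, ha11, hb11]
  · linear_combination hab
  · ring
  · ring
  · linear_combination hab

/-- `tr (a · g a g⁻¹) = 2 - (tr g)² - (tr (a g))²` for traceless `a` -/
theorem tr2_mul_conj (a g : SL2) (ha : tr2 a = 0) :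
    tr2 (a * (g * a * g⁻¹)) = 2 - (tr2 g) ^ 2 - (tr2 (a * g)) ^ 2 := by
  have hda := sl2_det a
  have hdg := sl2_det g
  have ha11 : a.1 1 1 = -a.1 0 0 := by
    unfold tr2 at ha
    linear_combination ha
  simp only [tr2, mul_apply_00, mul_apply_01, mul_apply_10, mul_apply_11, inv_apply_00,
    inv_apply_01, inv_apply_10, inv_apply_11]
  rw [ha11] at hda ⊢
  linear_combination (-(g.1 0 0) ^ 2 - (g.1 1 1) ^ 2 - 2 * g.1 0 1 * g.1 1 0) * hda + 2 * hdg

theorem inv_conj_eq_inv_of_tr2_mul (a b : SL2) (ha : tr2 a = 0) (hb : tr2 b = 0)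
    (hab : tr2 (a * b) = 0) : b⁻¹ * a * b = a⁻¹ := by
  have h1 : tr2 (b⁻¹ : SL2) = 0 := by rw [tr2_inv, hb]
  have h2 : tr2 (a * b⁻¹) = 0 := by
    rw [tr2_mul_comm, tr2_inv_mul _ _ hb, tr2_mul_comm, hab, neg_zero]
  have := conj_eq_inv_of_tr2_mul a b⁻¹ ha h1 h2
  rwa [inv_inv] at this

/-- the norm identity for an orthogonal pair of traceless elements -/
theorem tr2_norm_identity (a b g : SL2) (ha : tr2 a = 0) (hb : tr2 b = 0)
    (hab : tr2 (a * b) = 0) :
    (tr2 g) ^ 2 + (tr2 (a * g)) ^ 2 + (tr2 (b * g)) ^ 2 + (tr2 (a * b * g)) ^ 2 = 4 := by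
  have h1 := tr2_mul_conj a g ha
  have h2 := tr2_mul_conj a (b * g) ha
  have hinv := inv_conj_eq_inv_of_tr2_mul a b ha hb hab
  have key : tr2 (a * (b * g * a * (b * g)⁻¹)) = -tr2 (a * (g * a * g⁻¹)) := by
    have e : a * (b * g * a * (b * g)⁻¹) = b * ((b⁻¹ * a * b) * (g * a * g⁻¹)) * b⁻¹ := by group
    rw [e, tr2_conj, hinv, tr2_inv_mul _ _ ha]
  have e3 : a * (b * g) = a * b * g := by group
  rw [key, e3] at h2
  linear_combination h1 + h2

theorem three_eq_zero' [CharP F 3] : (3 : F) = 0 := by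
  have := CharP.cast_eq_zero F 3
  exact_mod_cast this

/-- in characteristic `3`: `(tr g)² = 1 + e_a + e_b + e_{ab}` -/
theorem tr2_sq_eq_add [CharP F 3] (a b g : SL2) (ha : tr2 a = 0) (hb : tr2 b = 0)
    (hab : tr2 (a * b) = 0) :
    (tr2 g) ^ 2 = 1 + tr2 (a * (g * a * g⁻¹)) + tr2 (b * (g * b * g⁻¹))
      + tr2 (a * b * (g * (a * b) * g⁻¹)) := by
  have h1 := tr2_mul_conj a g ha
  have h2 := tr2_mul_conj b g hb
  have h3 := tr2_mul_conj (a * b) g hab
  have hn := tr2_norm_identity a b g ha hb hab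
  have h30 : (3 : F) = 0 := three_eq_zero'
  linear_combination -h1 - h2 - h3 + hn + ((tr2 g) ^ 2 - 1) * h30

/-- an element inverting a semisimple element is traceless -/
theorem tr2_eq_zero_of_conj_eq_inv (g t : SL2) (ht : (tr2 t) ^ 2 ≠ 4)
    (h : g * t * g⁻¹ = t⁻¹) : tr2 g = 0 := by
  by_contra hne
  have h' : g * t = t⁻¹ * g := mul_inv_eq_iff_eq_mul.mp h
  have e00 := congrArg (fun A : SL2 => A.1 0 0) h'
  have e01 := congrArg (fun A : SL2 => A.1 0 1) h'
  have e10 := congrArg (fun A : SL2 => A.1 1 0) h'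
  have e11 := congrArg (fun A : SL2 => A.1 1 1) h'
  simp only [mul_apply_00, mul_apply_01, mul_apply_10, mul_apply_11, inv_apply_00,
    inv_apply_01, inv_apply_10, inv_apply_11] at e00 e01 e10 e11
  have hb : tr2 g * t.1 0 1 = 0 := by
    unfold tr2
    linear_combination e01
  have hc : tr2 g * t.1 1 0 = 0 := by
    unfold tr2
    linear_combination e10
  have hd : tr2 g * (t.1 0 0 - t.1 1 1) = 0 := by
    unfold tr2
    linear_combination e00 - e11
  apply not_isScalarMat_of_tr2_sq t ht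
  refine ⟨?_, ?_, ?_⟩
  · exact (mul_eq_zero.mp hb).resolve_left hne
  · exact (mul_eq_zero.mp hc).resolve_left hne
  · exact sub_eq_zero.mp ((mul_eq_zero.mp hd).resolve_left hne)

/-- two elements commuting with a non-scalar element commute -/
theorem commute_of_commute_nonscalar (p q t : SL2) (ht : ¬ IsScalarMat t.1)
    (hp : p * t = t * p) (hq : q * t = t * q) : p * q = q * p := by
  have hp' : p.1 * t.1 = t.1 * p.1 := by
    rw [← Matrix.SpecialLinearGroup.coe_mul, hp, Matrix.SpecialLinearGroup.coe_mul]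
  have hq' : q.1 * t.1 = t.1 * q.1 := by
    rw [← Matrix.SpecialLinearGroup.coe_mul, hq, Matrix.SpecialLinearGroup.coe_mul]
  obtain ⟨a, b, hab⟩ := exists_eq_smul_add _ _ ht hp'
  obtain ⟨c, d, hcd⟩ := exists_eq_smul_add _ _ ht hq'
  apply Subtype.ext
  rw [Matrix.SpecialLinearGroup.coe_mul, Matrix.SpecialLinearGroup.coe_mul, hab, hcd]
  simp only [add_mul, mul_add, Matrix.smul_mul, Matrix.mul_smul, Matrix.one_mul, Matrix.mul_one,
    smul_smul]
  module

end Cfsg.Agent.Lib.Helper39.Sol3
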