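import Mathlib
import Cfsg.Agent.Lib.Helper39.Sol3Quat
import Cfsg.Agent.Lib.Helper39.SL2Trichotomy
import Cfsg.Agent.Lib.Helper38.SolStruct
import Cfsg.Agent.Lib.Helper22.Solvable

/-!
# Solvable subgroups of `SL₂(F)`, `char F = 3`, `-1` a non-square (helper39)

`sol_struct`: a solvable subgroup of `SL₂(F)` is conjugate into the Borel subgroup, or normalises
a torus, or all of its elements have their trace in the prime field.
-/

set_option autoImplicit false

namespace Cfsg.Agent.Lib.Helper39.Sol3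

open Cfsg.Agent.Lib.Helper41 Cfsg.Agent.Lib.Helper38.SolMat Cfsg.Agent.Lib.Helper38.SolGen
  Cfsg.Agent.Lib.Helper38.SolStruct

/-- a solvable subgroup not contained in the centre has a normal subgroup, not contained in the
centre, whose commutators are central -/
theorem exists_normal_central_comm {G : Type*} [Group G] (H : Subgroup G)
    (hs : Group.IsSolvable H) (hne : ¬ H ≤ Subgroup.center G) :
    ∃ D : Subgroup G, D ≤ H ∧ (∀ h ∈ H, ∀ d ∈ D, h * d * h⁻¹ ∈ D) ∧ ¬ D ≤ Subgroup.center G ∧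
      ∀ d₁ ∈ D, ∀ d₂ ∈ D, d₁ * d₂ * d₁⁻¹ * d₂⁻¹ ∈ Subgroup.center G := by
  classical
  obtain ⟨n, hn⟩ := hs.solvable
  have hex : ∃ k, (derivedSeries H k).map H.subtype ≤ Subgroup.center G :=
    ⟨n, by rw [hn, Subgroup.map_bot]; exact bot_le⟩
  have hk0spec := Nat.find_spec hex
  have hk0ne : Nat.find hex ≠ 0 := by
    intro h0
    rw [h0, derivedSeries_zero] at hk0spec
    apply hne
    intro x hx
    apply hk0spec
    exact ⟨⟨x, hx⟩, Subgroup.mem_top _, rfl⟩
  obtain ⟨m, hm⟩ := Nat.exists_eq_succ_of_ne_zero hk0ne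
  have hmin : ¬ (derivedSeries H m).map H.subtype ≤ Subgroup.center G :=
    Nat.find_min hex (by omega)
  refine ⟨(derivedSeries H m).map H.subtype, Subgroup.map_subtype_le _, ?_, hmin, ?_⟩
  · rintro h hh _ ⟨d, hd, rfl⟩
    refine ⟨⟨h, hh⟩ * d * ⟨h, hh⟩⁻¹, ?_, rfl⟩
    exact (derivedSeries_normal H m).conj_mem d hd ⟨h, hh⟩
  · rintro _ ⟨d₁, hd₁, rfl⟩ _ ⟨d₂, hd₂, rfl⟩
    apply hk0spec
    refine ⟨d₁ * d₂ * d₁⁻¹ * d₂⁻¹, ?_, rfl⟩
    rw [hm, derivedSeries_succ]
    exact Subgroup.commutator_mem_commutator hd₁ hd₂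

variable {F : Type*} [Field F]

local notation "SL2" => Matrix.SpecialLinearGroup (Fin 2) F

/-- a central commutator means commuting or anticommuting -/
theorem comm_or_anti_of_central (p q : SL2)
    (h : p * q * p⁻¹ * q⁻¹ ∈ Subgroup.center SL2) :
    p * q = q * p ∨ (p * q).1 = -(q * p).1 := by
  rw [mem_center_iff_pm] at h
  have e : p * q = (p * q * p⁻¹ * q⁻¹) * (q * p) := by group
  rcases h with h | h
  · left
    have h1 : p * q * p⁻¹ * q⁻¹ = 1 := Subtype.ext h
    rw [h1, one_mul] at e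
    exact e
  · right
    rw [e]
    conv_lhs => rw [Matrix.SpecialLinearGroup.coe_mul, h]
    rw [neg_mul, one_mul]

/-- anticommuting elements are traceless -/
theorem tr2_eq_zero_of_anti (h2 : (2 : F) ≠ 0) (p q : SL2) (h : (p * q).1 = -(q * p).1) :
    tr2 q = 0 := by
  have h1 : tr2 (p * q * p⁻¹) = tr2 q := tr2_conj p q
  have h3 : (p * q * p⁻¹).1 = -q.1 := by
    rw [Matrix.SpecialLinearGroup.coe_mul, h, neg_mul, ← Matrix.SpecialLinearGroup.coe_mul,
      mul_inv_cancel_right]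
  have h4 : tr2 (p * q * p⁻¹) = -tr2 q := by
    have e00 := congrFun (congrFun h3 0) 0
    have e11 := congrFun (congrFun h3 1) 1
    simp only [Matrix.neg_apply] at e00 e11
    unfold tr2
    rw [e00, e11]
    ring
  rw [h1] at h4
  have : 2 * tr2 q = 0 := by linear_combination h4
  exact (mul_eq_zero.mp this).resolve_left h2

theorem tr2_mul_eq_zero_of_anti (h2 : (2 : F) ≠ 0) (p q : SL2) (h : (p * q).1 = -(q * p).1) :
    tr2 (p * q) = 0 := by
  have h1 : tr2 (p * q) = -tr2 (q * p) := by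
    have e00 := congrFun (congrFun h 0) 0
    have e11 := congrFun (congrFun h 1) 1
    simp only [Matrix.neg_apply] at e00 e11
    unfold tr2
    rw [e00, e11]
    ring
  rw [tr2_mul_comm q p] at h1
  have : 2 * tr2 (p * q) = 0 := by linear_combination h1
  exact (mul_eq_zero.mp this).resolve_left h2

theorem tr2_mul_self_eq (n : SL2) : tr2 (n * n) = (tr2 n) ^ 2 - 2 := by
  have hd := sl2_det n
  simp only [tr2, mul_apply_00, mul_apply_11]
  linear_combination -2 * hd

/-- `(tr n)² = 4`, `n` non-scalar: the elements `h` such that `h n h⁻¹` commutes with `n` all lie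
in one conjugate of the Borel subgroup -/
theorem exists_conj_lower_zero (h2 : (2 : F) ≠ 0) (n : SL2) (ht : (tr2 n) ^ 2 = 4)
    (hns : ¬ IsScalarMat n.1) :
    ∃ k : SL2, ∀ h : SL2, (h * n * h⁻¹) * n = n * (h * n * h⁻¹) → (k⁻¹ * h * k).1 1 0 = 0 := by
  have hm2 : tr2 (n * n) = 2 := by rw [tr2_mul_self_eq, ht]; ring
  have hm1 : n * n ≠ 1 := by
    intro h1
    have h1' : n.1 * n.1 = 1 := by
      rw [← Matrix.SpecialLinearGroup.coe_mul, h1, Matrix.SpecialLinearGroup.coe_one]
    rcases eq_one_or_neg_one_of_mul_self h2 n h1' with h | h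
    · apply hns
      rw [h]
      exact ⟨by simp, by simp, by simp⟩
    · apply hns
      rw [h]
      exact ⟨by simp, by simp, by simp⟩
  obtain ⟨k, s, hs, hk⟩ := exists_conj_upperU_of_tr2 (n * n) hm2 hm1
  refine ⟨k, ?_⟩
  intro h hc
  apply lower_zero_of_conjComm_upperU s hs
  rw [← hk]
  have hc' : Commute (h * n * h⁻¹) n := hc
  have hc2 : Commute ((h * n * h⁻¹) * (h * n * h⁻¹)) (n * n) :=
    (hc'.mul_right hc').mul_left (hc'.mul_right hc')
  have e1 : k⁻¹ * h * k * (k⁻¹ * (n * n) * k) * (k⁻¹ * h * k)⁻¹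
      = k⁻¹ * ((h * n * h⁻¹) * (h * n * h⁻¹)) * k := by group
  rw [e1]
  have e2 : k⁻¹ * ((h * n * h⁻¹) * (h * n * h⁻¹)) * k * (k⁻¹ * (n * n) * k)
      = k⁻¹ * (((h * n * h⁻¹) * (h * n * h⁻¹)) * (n * n)) * k := by group
  have e3 : k⁻¹ * (n * n) * k * (k⁻¹ * ((h * n * h⁻¹) * (h * n * h⁻¹)) * k)
      = k⁻¹ * ((n * n) * ((h * n * h⁻¹) * (h * n * h⁻¹))) * k := by group
  rw [e2, e3, hc2.eq]

section CharThree

variable [CharP F 3]

theorem two_ne_zero_of_char_three : (2 : F) ≠ 0 := by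
  intro h
  have h3 : (3 : F) = 0 := three_eq_zero'
  have : (1 : F) = 0 := by linear_combination h3 - h
  exact one_ne_zero this

theorem four_eq_one_of_char_three : (4 : F) = 1 := by
  have h3 : (3 : F) = 0 := three_eq_zero'
  linear_combination h3

/-- elements of the prime field -/
theorem cube_eq_self_of_mem (e : F) (h : e = 0 ∨ e = 2 ∨ e = -2) : e ^ 3 = e := by
  have h3 : (3 : F) = 0 := three_eq_zero'
  rcases h with rfl | rfl | rfl
  · ring
  · linear_combination 2 * h3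
  · linear_combination -2 * h3

/-- the structure of a solvable subgroup of `SL₂(F)`, `char F = 3`, `-1` a non-square -/
theorem sol_struct (hm : ∀ r : F, r * r ≠ -1) (H : Subgroup SL2) (hs : Group.IsSolvable H) :
    (∃ k : SL2, ∀ h ∈ H, (k⁻¹ * h * k).1 1 0 = 0) ∨
    (∃ t : SL2, (tr2 t) ^ 2 ≠ 4 ∧ ∀ h ∈ H, h * t * h⁻¹ = t ∨ h * t * h⁻¹ = t⁻¹) ∨
    (∀ h ∈ H, (tr2 h) ^ 3 = tr2 h) := by
  have h2 : (2 : F) ≠ 0 := two_ne_zero_of_char_three
  have h3 : (3 : F) = 0 := three_eq_zero'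
  by_cases hZ : H ≤ Subgroup.center SL2
  · right; right
    intro h hh
    have := (mem_center_iff_pm h).mp (hZ hh)
    rcases this with h1 | h1
    · have e00 := congrFun (congrFun h1 0) 0
      have e11 := congrFun (congrFun h1 1) 1
      simp only [Matrix.one_apply_eq] at e00 e11
      unfold tr2
      rw [e00, e11]
      linear_combination 2 * h3
    · have e00 := congrFun (congrFun h1 0) 0
      have e11 := congrFun (congrFun h1 1) 1
      simp only [Matrix.neg_apply, Matrix.one_apply_eq] at e00 e11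
      unfold tr2
      rw [e00, e11]
      linear_combination -2 * h3
  obtain ⟨D, hDH, hDn, hDZ, hDc⟩ := exists_normal_central_comm H hs hZ
  obtain ⟨n, hnD, hnZ⟩ := SetLike.not_le_iff_exists.mp hDZ
  have hns : ¬ IsScalarMat n.1 := by
    intro hsc
    apply hnZ
    apply mem_center_of_scalar n (n.1 0 0)
    obtain ⟨h01, h10, h00⟩ := hsc
    ext i j
    fin_cases i <;> fin_cases j
    · simp
    · simpa using h01
    · simpa using h10
    · simpa using h00.symm
  have hconj : ∀ h ∈ H, (h * n * h⁻¹) * n = n * (h * n * h⁻¹) ∨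
      ((h * n * h⁻¹) * n).1 = -(n * (h * n * h⁻¹)).1 := by
    intro h hh
    exact comm_or_anti_of_central _ _ (hDc _ (hDn h hh n hnD) n hnD)
  by_cases ht4 : (tr2 n) ^ 2 = 4
  · -- Borel case
    left
    obtain ⟨k, hk⟩ := exists_conj_lower_zero h2 n ht4 hns
    refine ⟨k, ?_⟩
    intro h hh
    apply hk
    rcases hconj h hh with hc | hc
    · exact hc
    · exfalso
      have h0 := tr2_eq_zero_of_anti h2 _ _ hc
      rw [h0] at ht4
      have h41 : (4 : F) = 1 := four_eq_one_of_char_three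
      rw [h41] at ht4
      simp at ht4
  by_cases hall : ∀ h ∈ H, (h * n * h⁻¹) * n = n * (h * n * h⁻¹)
  · -- torus case
    right; left
    refine ⟨n, ht4, ?_⟩
    intro h hh
    exact eq_or_eq_inv_of_commute n (h * n * h⁻¹) h2 ht4 (tr2_conj h n) (hall h hh)
  -- quaternion case
  right; right
  push Not at hall
  obtain ⟨h₀, hh₀, hne₀⟩ := hall
  have hanti₀ := (hconj h₀ hh₀).resolve_left hne₀
  set a := n with ha
  set b := h₀ * n * h₀⁻¹ with hb
  have hbD : b ∈ D := hDn h₀ hh₀ n hnD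
  have ha0 : tr2 a = 0 := tr2_eq_zero_of_anti h2 _ _ hanti₀
  have hb0 : tr2 b = 0 := by rw [hb, tr2_conj]; exact ha0
  have hab0 : tr2 (a * b) = 0 := by
    rw [tr2_mul_comm]
    exact tr2_mul_eq_zero_of_anti h2 _ _ hanti₀
  have h44 : (0 : F) ^ 2 ≠ 4 := by
    rw [four_eq_one_of_char_three]
    simp
  -- the `e`-values lie in the prime field
  have hE : ∀ p ∈ D, tr2 p = 0 → ∀ g ∈ H, (tr2 (p * (g * p * g⁻¹))) ^ 3
      = tr2 (p * (g * p * g⁻¹)) := by
    intro p hpD hp0 g hg
    apply cube_eq_self_of_mem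
    have hgp : g * p * g⁻¹ ∈ D := hDn g hg p hpD
    rcases comm_or_anti_of_central _ _ (hDc _ hgp p hpD) with hc | hc
    · have hp4 : (tr2 p) ^ 2 ≠ 4 := by rw [hp0]; exact h44
      rcases eq_or_eq_inv_of_commute p (g * p * g⁻¹) h2 hp4 (tr2_conj g p) hc with e | e
      · right; right
        rw [e, tr2_mul_self p hp0]
      · right; left
        rw [e, tr2_mul_inv_self]
    · left
      rw [tr2_mul_comm]
      exact tr2_mul_eq_zero_of_anti h2 _ _ hc
  intro g hg
  have hsq := tr2_sq_eq_add a b g ha0 hb0 hab0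
  have hea := hE a hnD ha0 g hg
  have heb := hE b hbD hb0 g hg
  have hec := hE (a * b) (D.mul_mem hnD hbD) hab0 g hg
  set ea := tr2 (a * (g * a * g⁻¹)) with hea'
  set eb := tr2 (b * (g * b * g⁻¹)) with heb'
  set ec := tr2 (a * b * (g * (a * b) * g⁻¹)) with hec'
  have hf : ((tr2 g) ^ 2) ^ 3 = (tr2 g) ^ 2 := by
    rw [hsq]
    linear_combination hea + heb + hec +
      (ea + eb + ec + ea ^ 2 + eb ^ 2 + ec ^ 2 + ea ^ 2 * eb + ea ^ 2 * ec + ea * eb ^ 2
        + ea * ec ^ 2 + eb ^ 2 * ec + eb * ec ^ 2 + eb ^ 2 + 2 * ea * eb + 2 * ea * ec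
        + 2 * eb * ec + 2 * ea * eb * ec - eb ^ 2) * h3
  have hfac : (tr2 g) ^ 2 * ((tr2 g) ^ 2 - 1) * ((tr2 g) ^ 2 + 1) = 0 := by
    linear_combination hf
  rcases mul_eq_zero.mp hfac with h | h
  · rcases mul_eq_zero.mp h with h | h
    · have : tr2 g = 0 := by
        have := pow_eq_zero_iff (two_ne_zero) |>.mp h
        exact this
      rw [this]; ring
    · linear_combination tr2 g * h
  · exfalso
    apply hm (tr2 g)
    linear_combination h

end CharThree

end Cfsg.Agent.Lib.Helper39.Sol3
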