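import Mathlib
import Cfsg.Agent.Lib.Helper39.Sol3Struct
import Cfsg.Agent.Lib.Helper41.SL2NsTorusCard

/-!
# Pairs generating a solvable subgroup of `SL₂(F)`, `char F = 3`, `-1` a non-square (helper39)

Explicit description of the set of `y` such that `⟨x, y⟩` is solvable, for `x` traceless
(`isSolvable_invol_iff`), unipotent (`isSolvable_upperU_iff`), split semisimple
(`isSolvable_diagHom_iff`) and nonsplit semisimple (`isSolvable_nonsplit_iff`).
-/

set_option autoImplicit false

namespace Cfsg.Agent.Lib.Helper39.Sol3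

open Cfsg.Agent.Lib.Helper41 Cfsg.Agent.Lib.Helper38.SolMat Cfsg.Agent.Lib.Helper38.SolGen
  Cfsg.Agent.Lib.Helper38.SolStruct

variable {F : Type*} [Field F]

local notation "SL2" => Matrix.SpecialLinearGroup (Fin 2) F

theorem tr2_mul_mul_self (a g : SL2) : tr2 (a * (g * g)) = tr2 g * tr2 (a * g) - tr2 a := by
  have hd := sl2_det g
  simp only [tr2, mul_apply_00, mul_apply_01, mul_apply_10, mul_apply_11]
  linear_combination (-(a.1 0 0 + a.1 1 1)) * hd

theorem coe_mul_self_of_tr2 (x : SL2) (hx : tr2 x = 0) : (x * x).1 = -1 := by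
  rw [Matrix.SpecialLinearGroup.coe_mul, cayley_hamilton, hx, zero_smul, zero_sub]

/-- two traceless elements generate a solvable subgroup -/
theorem isSolvable_closure_of_tr2_zero (x y : SL2) (hx : tr2 x = 0) (hy : tr2 y = 0) :
    Group.IsSolvable ↥(Subgroup.closure ({x, y} : Set SL2)) := by
  have hxx := coe_mul_self_of_tr2 x hx
  have hyy := coe_mul_self_of_tr2 y hy
  have h1 : (x * x) * (y * y) = 1 := by
    apply Subtype.ext
    rw [Matrix.SpecialLinearGroup.coe_mul, hxx, hyy]
    simp
  have hinv : x * (x * y) * x⁻¹ = (x * y)⁻¹ := by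
    rw [eq_inv_iff_mul_eq_one]
    have e : x * (x * y) * x⁻¹ * (x * y) = (x * x) * (y * y) := by group
    rw [e, h1]
  have hs := isSolvable_closure_pair_of_inv (x * y) x hinv
  refine isSolvable_of_le ?_ hs
  rw [Subgroup.closure_le]
  intro g hg
  have h1 : x * y ∈ Subgroup.closure ({x * y, x} : Set SL2) :=
    Subgroup.subset_closure (by simp)
  have h2 : x ∈ Subgroup.closure ({x * y, x} : Set SL2) := Subgroup.subset_closure (by simp)
  rcases hg with h | h
  · rw [h]; exact h2
  · have h3 := Subgroup.mul_mem _ (Subgroup.inv_mem _ h2) h1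
    rw [inv_mul_cancel_left] at h3
    rw [h]; exact h3

section CharThree

variable [Fintype F] [CharP F 3]

/-- a traceless element `a` and an element `g` with `(tr g)² = (tr (a g))² = 1` generate a solvable
subgroup (of a copy of `SL₂(3)`) -/
theorem isSolvable_closure_of_tr2_sq (a g : SL2) (ha : tr2 a = 0) (hg : (tr2 g) ^ 2 = 1)
    (hag : (tr2 (a * g)) ^ 2 = 1) :
    Group.IsSolvable ↥(Subgroup.closure ({a, g} : Set SL2)) := by
  have h2 : (2 : F) ≠ 0 := two_ne_zero_of_char_three
  set b := g * a * g⁻¹ with hb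
  have hb0 : tr2 b = 0 := by rw [hb, tr2_conj]; exact ha
  have hab : tr2 (a * b) = 0 := by
    rw [hb, tr2_mul_conj a g ha, hg, hag]; ring
  have hinv : b * a * b⁻¹ = a⁻¹ := conj_eq_inv_of_tr2_mul a b ha hb0 hab
  have hQ : Group.IsSolvable ↥(Subgroup.closure ({a, b} : Set SL2)) :=
    isSolvable_closure_pair_of_inv a b hinv
  set c := g * b * g⁻¹ with hc
  have hcgg : c = (g * g) * a * (g * g)⁻¹ := by rw [hc, hb]; group
  have hc0 : tr2 c = 0 := by rw [hc, tr2_conj]; exact hb0
  have hac : tr2 (a * c) = 0 := by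
    have h1 : (tr2 g * tr2 (a * g)) ^ 2 = 1 := by rw [mul_pow, hg, hag, one_mul]
    rw [hcgg, tr2_mul_conj a (g * g) ha, tr2_mul_self_eq, tr2_mul_mul_self, ha, hg, sub_zero, h1]
    ring
  have hbc : tr2 (b * c) = 0 := by
    have e : b * c = g * (a * b) * g⁻¹ := by rw [hc, hb]; group
    rw [e, tr2_conj]; exact hab
  have hca : c * a * c⁻¹ = a⁻¹ := conj_eq_inv_of_tr2_mul a c ha hc0 hac
  have hcb : c * b * c⁻¹ = b⁻¹ := conj_eq_inv_of_tr2_mul b c hb0 hc0 hbc
  have hinvab : a⁻¹ * b⁻¹ = a * b := by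
    apply Subtype.ext
    rw [Matrix.SpecialLinearGroup.coe_mul, Matrix.SpecialLinearGroup.coe_mul,
      coe_inv_of_tr2 a ha, coe_inv_of_tr2 b hb0, neg_mul_neg]
  have hcomm : c * (a * b) = (a * b) * c := by
    have : c * (a * b) * c⁻¹ = a * b := by
      calc c * (a * b) * c⁻¹ = (c * a * c⁻¹) * (c * b * c⁻¹) := by group
        _ = a * b := by rw [hca, hcb, hinvab]
    exact mul_inv_eq_iff_eq_mul.mp this
  have h44 : (tr2 (a * b)) ^ 2 ≠ 4 := by
    rw [hab, four_eq_one_of_char_three]; simp
  have haQ : a ∈ Subgroup.closure ({a, b} : Set SL2) := Subgroup.subset_closure (by simp)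
  have hbQ : b ∈ Subgroup.closure ({a, b} : Set SL2) := Subgroup.subset_closure (by simp)
  have hcQ : c ∈ Subgroup.closure ({a, b} : Set SL2) := by
    rcases eq_or_eq_inv_of_commute (a * b) c h2 h44 (by rw [hc0, hab]) hcomm with e | e
    · rw [e]; exact Subgroup.mul_mem _ haQ hbQ
    · rw [e]; exact Subgroup.inv_mem _ (Subgroup.mul_mem _ haQ hbQ)
  have hle : Subgroup.closure ({a, b} : Set SL2) ≤
      (Subgroup.closure ({a, b} : Set SL2)).comap (MulAut.conj g).toMonoidHom := by
    rw [Subgroup.closure_le]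
    intro z hz
    rcases hz with h | h
    · rw [h]
      show g * a * g⁻¹ ∈ Subgroup.closure ({a, b} : Set SL2)
      exact hbQ
    · rw [h]
      show g * b * g⁻¹ ∈ Subgroup.closure ({a, b} : Set SL2)
      exact hcQ
  have hgN : g ∈ Subgroup.normalizer
      ((Subgroup.closure ({a, b} : Set SL2) : Subgroup SL2) : Set SL2) := by
    apply Subgroup.mem_normalizer_fintype
    intro n hn
    exact hle hn
  have hZ : Group.IsSolvable ↥(Subgroup.zpowers g) := by
    apply Group.isSolvable_of_comm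
    rintro ⟨_, i, rfl⟩ ⟨_, j, rfl⟩
    apply Subtype.ext
    show g ^ i * g ^ j = g ^ j * g ^ i
    rw [← zpow_add, ← zpow_add, add_comm]
  have hsup := Cfsg.Agent.Lib.Helper22.isSolvable_sup_of_le_normalizer
    (X := Subgroup.closure ({a, b} : Set SL2)) (Y := Subgroup.zpowers g)
    (by rw [Subgroup.zpowers_le]; exact hgN) hQ hZ
  refine isSolvable_of_le ?_ hsup
  rw [Subgroup.closure_le]
  intro z hz
  rcases hz with h | h
  · rw [h]
    exact (le_sup_left : Subgroup.closure ({a, b} : Set SL2) ≤ _) haQ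
  · rw [h]
    exact (le_sup_right : Subgroup.zpowers g ≤ _) (Subgroup.mem_zpowers g)

omit [Fintype F] in
/-- the three possibilities for a solvable two-generator subgroup -/
theorem sol_cases (hm : ∀ r : F, r * r ≠ -1) (x y : SL2)
    (hs : Group.IsSolvable ↥(Subgroup.closure ({x, y} : Set SL2))) :
    (∃ k : SL2, (k⁻¹ * x * k).1 1 0 = 0 ∧ (k⁻¹ * y * k).1 1 0 = 0) ∨
    (∃ t : SL2, (tr2 t) ^ 2 ≠ 4 ∧ (x * t * x⁻¹ = t ∨ x * t * x⁻¹ = t⁻¹) ∧
      (y * t * y⁻¹ = t ∨ y * t * y⁻¹ = t⁻¹) ∧
      ((x * y) * t * (x * y)⁻¹ = t ∨ (x * y) * t * (x * y)⁻¹ = t⁻¹)) ∨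
    ((tr2 x) ^ 3 = tr2 x ∧ (tr2 y) ^ 3 = tr2 y ∧ (tr2 (x * y)) ^ 3 = tr2 (x * y)) := by
  have hxH : x ∈ Subgroup.closure ({x, y} : Set SL2) := Subgroup.subset_closure (by simp)
  have hyH : y ∈ Subgroup.closure ({x, y} : Set SL2) := Subgroup.subset_closure (by simp)
  have hxyH := Subgroup.mul_mem _ hxH hyH
  rcases sol_struct hm _ hs with ⟨k, hk⟩ | ⟨t, ht, hT⟩ | hQ
  · left
    exact ⟨k, hk x hxH, hk y hyH⟩
  · right; left
    exact ⟨t, ht, hT x hxH, hT y hyH, hT _ hxyH⟩
  · right; right
    exact ⟨hQ x hxH, hQ y hyH, hQ _ hxyH⟩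

omit [Fintype F] [CharP F 3] in
theorem commute_conj_of_torus (x y t : SL2) (hxc : Commute x t)
    (hyt : y * t * y⁻¹ = t ∨ y * t * y⁻¹ = t⁻¹) : Commute (y * x * y⁻¹) t := by
  have h := hxc.conj y
  rcases hyt with e | e
  · rwa [e] at h
  · rw [e] at h
    exact Commute.inv_right_iff.mp h

omit [Fintype F] [CharP F 3] in
/-- torus case, `x` semisimple with non-zero trace -/
theorem conj_eq_or_inv_of_torus (h2 : (2 : F) ≠ 0) (x y t : SL2) (hx0 : tr2 x ≠ 0)
    (hx4 : (tr2 x) ^ 2 ≠ 4) (ht : (tr2 t) ^ 2 ≠ 4)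
    (hxt : x * t * x⁻¹ = t ∨ x * t * x⁻¹ = t⁻¹) (hyt : y * t * y⁻¹ = t ∨ y * t * y⁻¹ = t⁻¹) :
    y * x * y⁻¹ = x ∨ y * x * y⁻¹ = x⁻¹ := by
  have hxc : x * t = t * x := by
    rcases hxt with h | h
    · exact mul_inv_eq_iff_eq_mul.mp h
    · exact absurd (tr2_eq_zero_of_conj_eq_inv x t ht h) hx0
  have hyc := commute_conj_of_torus x y t hxc hyt
  have hcomm := commute_of_commute_nonscalar (y * x * y⁻¹) x t (not_isScalarMat_of_tr2_sq t ht)
    hyc.eq hxc
  exact eq_or_eq_inv_of_commute x (y * x * y⁻¹) h2 hx4 (tr2_conj y x) hcomm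

omit [Fintype F] in
/-- torus case, `x` traceless -/
theorem invol_of_torus (x y t : SL2) (hx : tr2 x = 0) (ht : (tr2 t) ^ 2 ≠ 4)
    (hxt : x * t * x⁻¹ = t ∨ x * t * x⁻¹ = t⁻¹) (hyt : y * t * y⁻¹ = t ∨ y * t * y⁻¹ = t⁻¹) :
    tr2 y = 0 ∨ tr2 (x * y) = 0 ∨ y * x = x * y := by
  have h2 : (2 : F) ≠ 0 := two_ne_zero_of_char_three
  have hx4 : (tr2 x) ^ 2 ≠ 4 := by
    rw [hx, four_eq_one_of_char_three]; simp
  rcases hxt with hxt | hxt
  · have hxc : x * t = t * x := mul_inv_eq_iff_eq_mul.mp hxt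
    have hyc := commute_conj_of_torus x y t hxc hyt
    have hcomm := commute_of_commute_nonscalar (y * x * y⁻¹) x t (not_isScalarMat_of_tr2_sq t ht)
      hyc.eq hxc
    rcases eq_or_eq_inv_of_commute x (y * x * y⁻¹) h2 hx4 (tr2_conj y x) hcomm with e | e
    · right; right
      exact mul_inv_eq_iff_eq_mul.mp e
    · left
      exact tr2_eq_zero_of_conj_eq_inv y x hx4 e
  · rcases hyt with hyt | hyt
    · right; left
      apply tr2_eq_zero_of_conj_eq_inv (x * y) t ht
      have e : x * y * t * (x * y)⁻¹ = x * (y * t * y⁻¹) * x⁻¹ := by group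
      rw [e, hyt, hxt]
    · left
      exact tr2_eq_zero_of_conj_eq_inv y t ht hyt

omit [Fintype F] [CharP F 3] in
/-- torus case, `x` unipotent: impossible -/
theorem not_torus_of_unipotent (x t : SL2) (hx : tr2 x = 2) (hxns : ¬ IsScalarMat x.1)
    (hxxns : ¬ IsScalarMat (x * x).1) (ht : (tr2 t) ^ 2 ≠ 4) :
    ¬ (x * t * x⁻¹ = t ∨ x * t * x⁻¹ = t⁻¹) := by
  rintro (h | h)
  · have hc : t * x = x * t := (mul_inv_eq_iff_eq_mul.mp h).symm
    rcases tr2_of_commute_unipotent x t hx hxns hc with e | e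
    · apply ht; rw [e]; ring
    · apply ht; rw [e]; ring
  · have h' : (x * x) * t * (x * x)⁻¹ = t := by
      have e : (x * x) * t * (x * x)⁻¹ = x * (x * t * x⁻¹) * x⁻¹ := by group
      rw [e, h]
      have e2 : x * t⁻¹ * x⁻¹ = (x * t * x⁻¹)⁻¹ := by group
      rw [e2, h, inv_inv]
    have hc : t * (x * x) = (x * x) * t := (mul_inv_eq_iff_eq_mul.mp h').symm
    have hxx2 : tr2 (x * x) = 2 := by rw [tr2_mul_self_eq, hx]; ring
    rcases tr2_of_commute_unipotent (x * x) t hxx2 hxxns hc with e | e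
    · apply ht; rw [e]; ring
    · apply ht; rw [e]; ring

omit [Fintype F] [CharP F 3] in
/-- an element without eigenvalue is not conjugate into the Borel subgroup -/
theorem conj_apply_10_ne_zero (x k : SL2) (hx : ∀ r : F, r ^ 2 ≠ -1 + tr2 x * r) :
    (k⁻¹ * x * k).1 1 0 ≠ 0 := by
  intro h10
  have htr : tr2 (k⁻¹ * x * k) = tr2 x := by
    have := tr2_conj k⁻¹ x
    rwa [inv_inv] at this
  have hdet := sl2_det (k⁻¹ * x * k)
  rw [h10] at hdet
  apply hx ((k⁻¹ * x * k).1 0 0)
  rw [← htr]
  show _ = -1 + ((k⁻¹ * x * k).1 0 0 + (k⁻¹ * x * k).1 1 1) * _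
  linear_combination (-1 : F) * hdet

omit [Fintype F] [CharP F 3] in
theorem conj_apply_10 (k y : SL2) :
    (k⁻¹ * y * k).1 1 0 = k.1 0 0 * (y.1 1 0 * k.1 0 0 + y.1 1 1 * k.1 1 0)
      - k.1 1 0 * (y.1 0 0 * k.1 0 0 + y.1 0 1 * k.1 1 0) := by
  simp only [mul_apply_10, mul_apply_11, inv_apply_10, inv_apply_11]
  ring

omit [Fintype F] [CharP F 3] in
theorem prime_field_cases (t : F) (ht : t ^ 3 = t) : t = 0 ∨ t ^ 2 = 1 := by
  have : t * (t ^ 2 - 1) = 0 := by linear_combination ht
  rcases mul_eq_zero.mp this with h | h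
  · left; exact h
  · right; exact sub_eq_zero.mp h

/-- the solubilizer of a traceless element -/
theorem isSolvable_invol_iff (hm : ∀ r : F, r * r ≠ -1) (x y : SL2) (hx : tr2 x = 0) :
    Group.IsSolvable ↥(Subgroup.closure ({x, y} : Set SL2)) ↔
      (tr2 y = 0 ∨ tr2 (x * y) = 0 ∨ y * x = x * y ∨
        ((tr2 y) ^ 2 = 1 ∧ (tr2 (x * y)) ^ 2 = 1)) := by
  constructor
  · intro hs
    rcases sol_cases hm x y hs with ⟨k, hkx, -⟩ | ⟨t, ht, hxt, hyt, -⟩ | ⟨-, hy, hxy⟩
    · exfalso
      refine conj_apply_10_ne_zero x k ?_ hkx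
      intro r hr
      apply hm r
      rw [hx] at hr
      linear_combination hr
    · rcases invol_of_torus x y t hx ht hxt hyt with h | h | h
      · exact Or.inl h
      · exact Or.inr (Or.inl h)
      · exact Or.inr (Or.inr (Or.inl h))
    · rcases prime_field_cases _ hy with h | h
      · exact Or.inl h
      · rcases prime_field_cases _ hxy with h' | h'
        · exact Or.inr (Or.inl h')
        · exact Or.inr (Or.inr (Or.inr ⟨h, h'⟩))
  · rintro (h | h | h | ⟨h, h'⟩)
    · exact isSolvable_closure_of_tr2_zero x y hx h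
    · have hs := isSolvable_closure_of_tr2_zero x (x * y) hx h
      refine isSolvable_of_le ?_ hs
      rw [Subgroup.closure_le]
      intro g hg
      have h1 : x * y ∈ Subgroup.closure ({x, x * y} : Set SL2) :=
        Subgroup.subset_closure (by simp)
      have h2 : x ∈ Subgroup.closure ({x, x * y} : Set SL2) := Subgroup.subset_closure (by simp)
      rcases hg with e | e
      · rw [e]; exact h2
      · have h3 := Subgroup.mul_mem _ (Subgroup.inv_mem _ h2) h1
        rw [inv_mul_cancel_left] at h3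
        rw [e]; exact h3
    · exact isSolvable_closure_pair_of_commute x y h.symm
    · exact isSolvable_closure_of_tr2_sq x y hx h h'

omit [Fintype F] [CharP F 3] in
theorem tr2_sq_ne_four_of_nonsplit (h2 : (2 : F) ≠ 0) (x : SL2)
    (hx : ∀ r : F, r ^ 2 ≠ -1 + tr2 x * r) : (tr2 x) ^ 2 ≠ 4 := by
  intro h4
  apply hx (tr2 x / 2)
  field_simp
  linear_combination -h4

omit [Fintype F] in
theorem not_prime_field_of_semisimple (x : SL2) (hx0 : tr2 x ≠ 0) (hx4 : (tr2 x) ^ 2 ≠ 4) :
    (tr2 x) ^ 3 ≠ tr2 x := by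
  intro h
  rcases prime_field_cases _ h with h | h
  · exact hx0 h
  · apply hx4
    rw [h, four_eq_one_of_char_three]

omit [Fintype F] in
/-- the solubilizer of a nonsplit semisimple element with non-zero trace -/
theorem isSolvable_nonsplit_iff (hm : ∀ r : F, r * r ≠ -1) (x y : SL2)
    (hx : ∀ r : F, r ^ 2 ≠ -1 + tr2 x * r) (hx0 : tr2 x ≠ 0) :
    Group.IsSolvable ↥(Subgroup.closure ({x, y} : Set SL2)) ↔
      (y * x = x * y ∨ y * x = x⁻¹ * y) := by
  have h2 : (2 : F) ≠ 0 := two_ne_zero_of_char_three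
  have hx4 := tr2_sq_ne_four_of_nonsplit h2 x hx
  constructor
  · intro hs
    rcases sol_cases hm x y hs with ⟨k, hkx, -⟩ | ⟨t, ht, hxt, hyt, -⟩ | ⟨hxQ, -, -⟩
    · exact absurd hkx (conj_apply_10_ne_zero x k hx)
    · rcases conj_eq_or_inv_of_torus h2 x y t hx0 hx4 ht hxt hyt with h | h
      · left; exact mul_inv_eq_iff_eq_mul.mp h
      · right; exact mul_inv_eq_iff_eq_mul.mp h
    · exact absurd hxQ (not_prime_field_of_semisimple x hx0 hx4)
  · rintro (h | h)
    · exact isSolvable_closure_pair_of_commute x y h.symm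
    · exact isSolvable_closure_pair_of_inv x y (mul_inv_eq_iff_eq_mul.mpr h)

omit [Fintype F] [CharP F 3] in
theorem det_apply_ne_zero_left (k : SL2) (h : k.1 1 0 = 0) : k.1 0 0 ≠ 0 := by
  intro h0
  have := sl2_det k
  rw [h, h0] at this
  simp at this

omit [Fintype F] [CharP F 3] in
theorem det_apply_ne_zero_right (k : SL2) (h : k.1 0 0 = 0) : k.1 1 0 ≠ 0 := by
  intro h0
  have := sl2_det k
  rw [h, h0] at this
  simp at this

omit [Fintype F] in
/-- the solubilizer of a split semisimple element -/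
theorem isSolvable_diagHom_iff (hm : ∀ r : F, r * r ≠ -1) (l : Fˣ)
    (hl : (l : F) ≠ ((l⁻¹ : Fˣ) : F)) (y : SL2) :
    Group.IsSolvable ↥(Subgroup.closure ({diagHom l, y} : Set SL2)) ↔
      (y.1 1 0 = 0 ∨ y.1 0 1 = 0 ∨ (y.1 0 0 = 0 ∧ y.1 1 1 = 0)) := by
  have h2 : (2 : F) ≠ 0 := two_ne_zero_of_char_three
  set x : SL2 := diagHom l with hx
  have hlm : (l : F) * ((l⁻¹ : Fˣ) : F) = 1 := by
    rw [← Units.val_mul, mul_inv_cancel, Units.val_one]
  have hsub : (l : F) - ((l⁻¹ : Fˣ) : F) ≠ 0 := sub_ne_zero.mpr hl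
  have hxt : tr2 x = (l : F) + ((l⁻¹ : Fˣ) : F) := tr2_diagHom l
  have hx0 : tr2 x ≠ 0 := by
    rw [hxt]
    intro h
    apply hm (l : F)
    linear_combination (l : F) * h - hlm
  have hx4 : (tr2 x) ^ 2 ≠ 4 := by
    rw [hxt]
    intro h
    have : ((l : F) - ((l⁻¹ : Fˣ) : F)) ^ 2 = 0 := by linear_combination h - 4 * hlm
    exact hsub (pow_eq_zero_iff (two_ne_zero) |>.mp this)
  constructor
  · intro hs
    rcases sol_cases hm x y hs with ⟨k, hkx, hky⟩ | ⟨t, ht, hxt', hyt, -⟩ | ⟨hxQ, -, -⟩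
    · rw [conj_apply_10] at hkx hky
      simp only [hx, diagHom_00, diagHom_01, diagHom_10, diagHom_11] at hkx
      have hk : k.1 0 0 * k.1 1 0 * ((l : F) - ((l⁻¹ : Fˣ) : F)) = 0 := by
        linear_combination -hkx
      rcases mul_eq_zero.mp hk with hk | hk
      · rcases mul_eq_zero.mp hk with hk | hk
        · right; left
          have hne := det_apply_ne_zero_right k hk
          rw [hk] at hky
          have : k.1 1 0 * k.1 1 0 * y.1 0 1 = 0 := by linear_combination -hky
          rcases mul_eq_zero.mp this with h | h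
          · exact absurd (mul_self_eq_zero.mp h) hne
          · exact h
        · left
          have hne := det_apply_ne_zero_left k hk
          rw [hk] at hky
          have : k.1 0 0 * k.1 0 0 * y.1 1 0 = 0 := by linear_combination hky
          rcases mul_eq_zero.mp this with h | h
          · exact absurd (mul_self_eq_zero.mp h) hne
          · exact h
      · exact absurd hk hsub
    · rcases conj_eq_or_inv_of_torus h2 x y t hx0 hx4 ht hxt' hyt with h | h
      · right; left
        have h' : y * x = x * y := mul_inv_eq_iff_eq_mul.mp h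
        have e01 := congrArg (fun A : SL2 => A.1 0 1) h'
        simp only [mul_apply_01, hx, diagHom_00, diagHom_01, diagHom_11] at e01
        have : ((l : F) - ((l⁻¹ : Fˣ) : F)) * y.1 0 1 = 0 := by linear_combination -e01
        exact (mul_eq_zero.mp this).resolve_left hsub
      · right; right
        have h' : y * x = x⁻¹ * y := mul_inv_eq_iff_eq_mul.mp h
        have e00 := congrArg (fun A : SL2 => A.1 0 0) h'
        have e11 := congrArg (fun A : SL2 => A.1 1 1) h'
        simp only [mul_apply_00, mul_apply_11, inv_apply_00, inv_apply_01, inv_apply_10,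
          inv_apply_11, hx, diagHom_00, diagHom_01, diagHom_10, diagHom_11] at e00 e11
        constructor
        · have : ((l : F) - ((l⁻¹ : Fˣ) : F)) * y.1 0 0 = 0 := by linear_combination e00
          exact (mul_eq_zero.mp this).resolve_left hsub
        · have : ((l : F) - ((l⁻¹ : Fˣ) : F)) * y.1 1 1 = 0 := by linear_combination -e11
          exact (mul_eq_zero.mp this).resolve_left hsub
    · exact absurd hxQ (not_prime_field_of_semisimple x hx0 hx4)
  · rintro (h | h | ⟨h0, h1⟩)
    · exact isSolvable_closure_pair_of_mem (borelSub F) isSolvable_borelSub' x y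
        (by rw [mem_borelSub]; exact diagHom_10 l) (by rw [mem_borelSub]; exact h)
    · exact isSolvable_closure_pair_of_mem (lowerSub F) isSolvable_lowerSub x y
        (by rw [mem_lowerSub]; exact diagHom_01 l) (by rw [mem_lowerSub]; exact h)
    · apply isSolvable_closure_pair_of_inv x y
      rw [mul_inv_eq_iff_eq_mul]
      apply sl2_ext <;>
        simp only [mul_apply_00, mul_apply_01, mul_apply_10, mul_apply_11, inv_apply_00,
          inv_apply_01, inv_apply_10, inv_apply_11, hx, diagHom_00, diagHom_01, diagHom_10,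
          diagHom_11, h0, h1] <;> ring

omit [Fintype F] [CharP F 3] in
theorem upperU_mul_upperU' (a b : F) : (upperU a : SL2) * upperU b = upperU (a + b) := by
  apply sl2_ext <;>
    simp only [mul_apply_00, mul_apply_01, mul_apply_10, mul_apply_11, upperU_00, upperU_01,
      upperU_10, upperU_11] <;> ring

omit [Fintype F] [CharP F 3] in
theorem upperU_neg' (a : F) : (upperU (-a) : SL2) = (upperU a)⁻¹ := by
  apply sl2_ext <;>
    simp only [inv_apply_00, inv_apply_01, inv_apply_10, inv_apply_11, upperU_00, upperU_01,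
      upperU_10, upperU_11]
  ring

omit [Fintype F] [CharP F 3] in
theorem tr2_mul_upperU (y : SL2) (r : F) : tr2 (y * upperU r) = tr2 y + r * y.1 1 0 := by
  simp only [tr2, mul_apply_00, mul_apply_11, upperU_00, upperU_01, upperU_10, upperU_11]
  ring

omit [Fintype F] [CharP F 3] in
theorem tr2_upperU_mul (y : SL2) (r : F) : tr2 (upperU r * y) = tr2 y + r * y.1 1 0 := by
  rw [tr2_mul_comm, tr2_mul_upperU]

/-- the solubilizer of a unipotent element -/
theorem isSolvable_upperU_iff (hm : ∀ r : F, r * r ≠ -1) (s : F) (hs : s ≠ 0) (y : SL2) :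
    Group.IsSolvable ↥(Subgroup.closure ({upperU s, y} : Set SL2)) ↔
      (y.1 1 0 = 0 ∨ ((s * y.1 1 0) ^ 2 = 1 ∧ (tr2 y) ^ 3 = tr2 y)) := by
  have h2 : (2 : F) ≠ 0 := two_ne_zero_of_char_three
  have h3 : (3 : F) = 0 := three_eq_zero'
  set x : SL2 := upperU s with hx
  have hx2 : tr2 x = 2 := by
    simp only [tr2, hx, upperU_00, upperU_11]; ring
  constructor
  · intro hsol
    rcases sol_cases hm x y hsol with ⟨k, hkx, hky⟩ | ⟨t, ht, hxt, -, -⟩ | ⟨-, hyQ, hxyQ⟩
    · left
      rw [conj_apply_10] at hkx hky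
      simp only [hx, upperU_00, upperU_01, upperU_10, upperU_11] at hkx
      have hk : s * (k.1 1 0 * k.1 1 0) = 0 := by linear_combination -hkx
      have hk0 : k.1 1 0 = 0 := mul_self_eq_zero.mp ((mul_eq_zero.mp hk).resolve_left hs)
      have hne := det_apply_ne_zero_left k hk0
      rw [hk0] at hky
      have : k.1 0 0 * k.1 0 0 * y.1 1 0 = 0 := by linear_combination hky
      rcases mul_eq_zero.mp this with h | h
      · exact absurd (mul_self_eq_zero.mp h) hne
      · exact h
    · exfalso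
      refine not_torus_of_unipotent x t hx2 ?_ ?_ ht hxt
      · rintro ⟨h01, -, -⟩
        rw [hx, upperU_01] at h01
        exact hs h01
      · rintro ⟨h01, -, -⟩
        rw [mul_apply_01, hx, upperU_00, upperU_01, upperU_11] at h01
        apply hs
        have : 2 * s = 0 := by linear_combination h01
        exact (mul_eq_zero.mp this).resolve_left h2
    · rw [hx, tr2_upperU_mul] at hxyQ
      have hσ : (s * y.1 1 0) ^ 3 = s * y.1 1 0 := by
        linear_combination hxyQ - hyQ - (tr2 y * (s * y.1 1 0) * (tr2 y + s * y.1 1 0)) * h3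
      rcases prime_field_cases _ hσ with h | h
      · left
        exact (mul_eq_zero.mp h).resolve_left hs
      · right
        exact ⟨h, hyQ⟩
  · rintro (h | ⟨hσ, hτ⟩)
    · exact isSolvable_closure_pair_of_mem (borelSub F) isSolvable_borelSub' x y
        (by rw [mem_borelSub]; exact upperU_10 s) (by rw [mem_borelSub]; exact h)
    · set σ := s * y.1 1 0 with hσdef
      set w := tr2 y * σ with hw
      have hw3 : w * (w - 1) * (w + 1) = 0 := by
        have : w ^ 3 = w := by
          rw [hw, mul_pow, hτ]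
          linear_combination (tr2 y * σ) * hσ
        linear_combination this
      set a' : SL2 := y * upperU (-w * s) with ha'
      have ha0 : tr2 a' = 0 := by
        rw [ha', tr2_mul_upperU, hw]
        linear_combination (-tr2 y) * hσ
      have ha10 : a'.1 1 0 = y.1 1 0 := by
        rw [ha', mul_apply_10, upperU_00, upperU_10]; ring
      have hu1 : (tr2 x) ^ 2 = 1 := by
        rw [hx2, ← four_eq_one_of_char_three (F := F)]; ring
      have hau : (tr2 (a' * x)) ^ 2 = 1 := by
        rw [hx, tr2_mul_upperU, ha0, ha10, zero_add]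
        exact hσ
      have hsol := isSolvable_closure_of_tr2_sq a' x ha0 hu1 hau
      refine isSolvable_of_le ?_ hsol
      rw [Subgroup.closure_le]
      have hxm : x ∈ Subgroup.closure ({a', x} : Set SL2) := Subgroup.subset_closure (by simp)
      have ham : a' ∈ Subgroup.closure ({a', x} : Set SL2) := Subgroup.subset_closure (by simp)
      have hy : y = a' * upperU (w * s) := by
        rw [ha', mul_assoc, upperU_mul_upperU']
        have : -w * s + w * s = 0 := by ring
        rw [this, upperU_zero, mul_one]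
      have hum : (upperU (w * s) : SL2) ∈ Subgroup.closure ({a', x} : Set SL2) := by
        rcases mul_eq_zero.mp hw3 with h | h
        · rcases mul_eq_zero.mp h with h | h
          · rw [h, zero_mul, upperU_zero]
            exact Subgroup.one_mem _
          · have : w = 1 := sub_eq_zero.mp h
            rw [this, one_mul]
            exact hxm
        · have : w = -1 := eq_neg_of_add_eq_zero_left h
          rw [this, neg_one_mul, upperU_neg']
          exact Subgroup.inv_mem _ hxm
      intro g hg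
      rcases hg with e | e
      · rw [e]; exact hxm
      · rw [e, hy]; exact Subgroup.mul_mem _ ham hum

end CharThree

end Cfsg.Agent.Lib.Helper39.Sol3
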