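import Mathlib
import Cfsg.Agent.Lib.Helper39.Sol3Types
import Cfsg.Agent.Lib.Helper38.SolCount
import Cfsg.Agent.Lib.Helper41.SL2NsTorusNorm

/-!
# Counting the solubilizers in `SL₂(F)`, `char F = 3`, `-1` a non-square (helper39)
-/

set_option autoImplicit false

namespace Cfsg.Agent.Lib.Helper39.Sol3

open Cfsg.Agent.Lib.Helper41 Cfsg.Agent.Lib.Helper38.SolMat Cfsg.Agent.Lib.Helper38.SolGen
  Cfsg.Agent.Lib.Helper38.SolStruct Cfsg.Agent.Lib.Helper38.SolCount

variable {F : Type*} [Field F]

local notation "SL2" => Matrix.SpecialLinearGroup (Fin 2) F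

section CharThree

variable [Fintype F] [CharP F 3]

/-- the solubilizer of a split semisimple element -/
theorem card_sol_diagHom (hm : ∀ r : F, r * r ≠ -1) (l : Fˣ)
    (hl : (l : F) ≠ ((l⁻¹ : Fˣ) : F)) :
    Nat.card {y : SL2 // Group.IsSolvable ↥(Subgroup.closure ({diagHom l, y} : Set SL2))} =
      2 * Fintype.card F * (Fintype.card F - 1) := by
  have e : {y : SL2 // Group.IsSolvable ↥(Subgroup.closure ({diagHom l, y} : Set SL2))} ≃
      {y : SL2 // y.1 1 0 = 0 ∨ FiberP (fun a _ => a⁻¹) y} := by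
    refine Equiv.subtypeEquivRight ?_
    intro y
    rw [isSolvable_diagHom_iff hm l hl y]
    have hdet := sl2_det y
    constructor
    · rintro (h | h | ⟨h0, h1⟩)
      · exact Or.inl h
      · by_cases hc : y.1 1 0 = 0
        · exact Or.inl hc
        · refine Or.inr ⟨hc, ?_⟩
          rw [h] at hdet
          show y.1 1 1 = (y.1 0 0)⁻¹
          apply eq_inv_of_mul_eq_one_right
          linear_combination hdet
      · refine Or.inr ⟨?_, ?_⟩
        · intro hc
          rw [hc, h0] at hdet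
          simp at hdet
        · show y.1 1 1 = (y.1 0 0)⁻¹
          rw [h0, h1, inv_zero]
    · rintro (h | ⟨hc, h1⟩)
      · exact Or.inl h
      · have h1' : y.1 1 1 = (y.1 0 0)⁻¹ := h1
        by_cases h0 : y.1 0 0 = 0
        · right; right
          refine ⟨h0, ?_⟩
          rw [h1', h0, inv_zero]
        · right; left
          rw [h1', mul_inv_cancel₀ h0] at hdet
          have : y.1 0 1 * y.1 1 0 = 0 := by linear_combination -hdet
          rcases mul_eq_zero.mp this with h | h
          · exact h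
          · exact absurd h hc
  rw [Nat.card_congr e, card_or, card_lower_zero, card_fiber]
  · ring
  · rintro y hc ⟨h, -⟩
    exact h hc

/-- the solubilizer of a nonsplit semisimple element -/
theorem card_sol_companion (hm : ∀ r : F, r * r ≠ -1) (t : F) (ht0 : t ≠ 0)
    (ht : ∀ r : F, r ^ 2 ≠ -1 + t * r) :
    Nat.card {y : SL2 // Group.IsSolvable ↥(Subgroup.closure ({companion t, y} : Set SL2))} =
      2 * (Fintype.card F + 1) := by
  have h2 : (2 : F) ≠ 0 := two_ne_zero_of_char_three
  have htr : tr2 (companion t : SL2) = t := tr2_companion t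
  have ht' : ∀ r : F, r ^ 2 ≠ -1 + tr2 (companion t : SL2) * r := by rw [htr]; exact ht
  have ht0' : tr2 (companion t : SL2) ≠ 0 := by rw [htr]; exact ht0
  have e : {y : SL2 // Group.IsSolvable ↥(Subgroup.closure ({companion t, y} : Set SL2))} ≃
      {y : SL2 // y * companion t = companion t * y ∨ y * companion t = (companion t)⁻¹ * y} :=
    Equiv.subtypeEquivRight (fun y => isSolvable_nonsplit_iff hm (companion t) y ht' ht0')
  have hinvtr : tr2 ((companion t)⁻¹ : SL2) = tr2 (companion t : SL2) := tr2_inv _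
  have hconj : IsConj (companion t : SL2) (companion t)⁻¹ :=
    isConj_of_tr2_eq _ _ (tr2_sq_ne_four_of_nonsplit h2 _ ht') hinvtr.symm
  obtain ⟨w, hw⟩ := isConj_iff.mp hconj
  have hw' : w * companion t = (companion t)⁻¹ * w := mul_inv_eq_iff_eq_mul.mp hw
  have hne : (companion t : SL2) ≠ (companion t)⁻¹ := by
    intro h
    have e01 := congrArg (fun A : SL2 => A.1 0 1) h
    simp only [inv_apply_01, companion_apply_01] at e01
    apply h2
    linear_combination -e01
  rw [Nat.card_congr e, card_comm_or_inv _ w hw' hne]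
  have e2 : {y : SL2 // y * companion t = companion t * y} ≃ nsTorus t := by
    refine Equiv.subtypeEquivRight ?_
    intro y
    rw [mem_nsTorus_iff_commute]
    exact eq_comm
  rw [Nat.card_congr e2, card_nsTorus ht]

omit [Fintype F] [CharP F 3] in
/-- the two square roots of `1`, scaled -/
theorem card_sq_eq_one (h2 : (2 : F) ≠ 0) (s : F) (hs : s ≠ 0) :
    Nat.card {c : F // (s * c) ^ 2 = 1} = 2 := by
  rw [Nat.card_eq_two_iff]
  refine ⟨⟨s⁻¹, by rw [mul_inv_cancel₀ hs]; ring⟩, ⟨-s⁻¹, by
    rw [mul_neg, mul_inv_cancel₀ hs]; ring⟩, ?_, ?_⟩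
  · intro h
    have h' : s⁻¹ = -s⁻¹ := congrArg Subtype.val h
    have : 2 * s⁻¹ = 0 := by linear_combination h'
    rcases mul_eq_zero.mp this with h | h
    · exact h2 h
    · exact inv_ne_zero hs h
  · ext ⟨c, hc⟩
    simp only [Set.mem_insert_iff, Set.mem_singleton_iff, Set.mem_univ, iff_true, Subtype.mk.injEq]
    have : (s * c - 1) * (s * c + 1) = 0 := by linear_combination hc
    rcases mul_eq_zero.mp this with h | h
    · left
      field_simp
      linear_combination h
    · right
      field_simp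
      linear_combination h

omit [Fintype F] in
/-- the prime field has three elements -/
theorem card_cube_eq_self : Nat.card {τ : F // τ ^ 3 = τ} = 3 := by
  classical
  have h2 : (2 : F) ≠ 0 := two_ne_zero_of_char_three
  have hfin : {τ : F | τ ^ 3 = τ} = (({0, 1, -1} : Finset F) : Set F) := by
    ext τ
    simp only [Set.mem_ofPred_eq, Finset.coe_insert, Finset.coe_singleton, Set.mem_insert_iff,
      Set.mem_singleton_iff]
    constructor
    · intro h
      have : τ * (τ - 1) * (τ + 1) = 0 := by linear_combination h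
      rcases mul_eq_zero.mp this with h | h
      · rcases mul_eq_zero.mp h with h | h
        · exact Or.inl h
        · exact Or.inr (Or.inl (sub_eq_zero.mp h))
      · exact Or.inr (Or.inr (eq_neg_of_add_eq_zero_left h))
    · rintro (rfl | rfl | rfl) <;> ring
  show Nat.card ↥{τ : F | τ ^ 3 = τ} = 3
  rw [hfin, Nat.card_coe_set_eq, Set.ncard_coe_finset]
  rw [Finset.card_insert_of_notMem, Finset.card_insert_of_notMem, Finset.card_singleton]
  · intro h
    rw [Finset.mem_singleton] at h
    apply h2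
    linear_combination h
  · intro h
    rw [Finset.mem_insert, Finset.mem_singleton] at h
    rcases h with h | h
    · exact zero_ne_one h
    · have : (1 : F) = 0 := by linear_combination h
      exact one_ne_zero this

/-- elements with prescribed lower-left entry and trace -/
noncomputable def traceFiberEquiv (P : F → Prop) (Q : F → Prop) (hP : ∀ c, P c → c ≠ 0) :
    {y : SL2 // P (y.1 1 0) ∧ Q (tr2 y)} ≃ F × {c : F // P c} × {τ : F // Q τ} where
  toFun y := (y.1.1 0 0, ⟨y.1.1 1 0, y.2.1⟩, ⟨tr2 y.1, y.2.2⟩)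
  invFun p :=
    ⟨⟨!![p.1, (p.1 * (p.2.2.1 - p.1) - 1) / p.2.1.1; p.2.1.1, p.2.2.1 - p.1], by
        rw [Matrix.det_fin_two]
        simp only [Matrix.of_apply, Matrix.cons_val', Matrix.cons_val_zero, Matrix.cons_val_one,
          Matrix.cons_val_fin_one]
        have : p.2.1.1 ≠ 0 := hP _ p.2.1.2
        field_simp
        ring⟩, by
      constructor
      · simpa using p.2.1.2
      · have : tr2 (⟨!![p.1, (p.1 * (p.2.2.1 - p.1) - 1) / p.2.1.1; p.2.1.1, p.2.2.1 - p.1],
            by
              rw [Matrix.det_fin_two]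
              simp only [Matrix.of_apply, Matrix.cons_val', Matrix.cons_val_zero,
                Matrix.cons_val_one, Matrix.cons_val_fin_one]
              have : p.2.1.1 ≠ 0 := hP _ p.2.1.2
              field_simp
              ring⟩ : SL2) = p.2.2.1 := by
          simp [tr2]
        rw [this]
        exact p.2.2.2⟩
  left_inv := by
    rintro ⟨y, hy0, hy1⟩
    apply Subtype.ext
    have hdet := sl2_det y
    have hc : y.1 1 0 ≠ 0 := hP _ hy0
    apply sl2_ext
    · simp
    · simp only [Matrix.of_apply, Matrix.cons_val', Matrix.cons_val_zero, Matrix.cons_val_one,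
        Matrix.cons_val_fin_one, tr2]
      field_simp
      linear_combination hdet
    · simp
    · simp [tr2]
  right_inv := by
    rintro ⟨a, ⟨c, hc⟩, ⟨τ, hτ⟩⟩
    simp [tr2]

/-- the solubilizer of a unipotent element -/
theorem card_sol_upperU (hm : ∀ r : F, r * r ≠ -1) (s : F) (hs : s ≠ 0) :
    Nat.card {y : SL2 // Group.IsSolvable ↥(Subgroup.closure ({upperU s, y} : Set SL2))} =
      Fintype.card F * (Fintype.card F - 1) + 6 * Fintype.card F := by
  have h2 : (2 : F) ≠ 0 := two_ne_zero_of_char_three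
  have e : {y : SL2 // Group.IsSolvable ↥(Subgroup.closure ({upperU s, y} : Set SL2))} ≃
      {y : SL2 // y.1 1 0 = 0 ∨ ((s * y.1 1 0) ^ 2 = 1 ∧ (tr2 y) ^ 3 = tr2 y)} :=
    Equiv.subtypeEquivRight (fun y => isSolvable_upperU_iff hm s hs y)
  have hP : ∀ c : F, (s * c) ^ 2 = 1 → c ≠ 0 := by
    rintro c hc rfl
    rw [mul_zero] at hc
    simp at hc
  rw [Nat.card_congr e, card_or, card_lower_zero,
    Nat.card_congr (traceFiberEquiv (fun c => (s * c) ^ 2 = 1) (fun τ => τ ^ 3 = τ) hP),
    Nat.card_prod, Nat.card_prod, card_sq_eq_one h2 s hs, card_cube_eq_self,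
    Nat.card_eq_fintype_card]
  · ring
  · rintro y hc ⟨h, -⟩
    exact hP _ h hc

omit [Fintype F] [CharP F 3] in
theorem card_sq_eq_one' (h2 : (2 : F) ≠ 0) : Nat.card {c : F // c ^ 2 = 1} = 2 := by
  calc Nat.card {c : F // c ^ 2 = 1} = Nat.card {c : F // ((1 : F) * c) ^ 2 = 1} :=
        Nat.card_congr (Equiv.subtypeEquivRight (fun c => by rw [one_mul]))
    _ = 2 := card_sq_eq_one h2 (1 : F) one_ne_zero

omit [Fintype F] [CharP F 3] in
theorem tr2_companion_zero_mul (y : SL2) : tr2 (companion 0 * y) = y.1 0 1 - y.1 1 0 := by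
  simp only [tr2, mul_apply_00, mul_apply_11, companion_apply_00, companion_apply_01,
    companion_apply_10, companion_apply_11]
  ring

omit [CharP F 3] in
/-- the number of traceless elements -/
theorem card_tr2_eq_zero (hm : ∀ r : F, r * r ≠ -1) :
    Nat.card {y : SL2 // tr2 y = 0} = Fintype.card F * (Fintype.card F - 1) := by
  rw [← card_fiber (F := F) (fun a _ => -a)]
  refine Nat.card_congr (Equiv.subtypeEquivRight ?_)
  intro y
  unfold FiberP tr2
  constructor
  · intro h
    have h11 : y.1 1 1 = -y.1 0 0 := by linear_combination h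
    refine ⟨?_, h11⟩
    intro hc
    have hdet := sl2_det y
    rw [hc, h11] at hdet
    apply hm (y.1 0 0)
    linear_combination -hdet
  · rintro ⟨-, h⟩
    linear_combination h

omit [CharP F 3] in
theorem card_tr2_companion_mul_eq_zero (hm : ∀ r : F, r * r ≠ -1) :
    Nat.card {y : SL2 // tr2 (companion 0 * y) = 0} = Fintype.card F * (Fintype.card F - 1) := by
  rw [← card_tr2_eq_zero hm]
  exact Nat.card_congr (Equiv.subtypeEquiv (Equiv.mulLeft (companion 0 : SL2)) (fun y => Iff.rfl))

omit [CharP F 3] in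
theorem card_isQuad_zero (hm : ∀ r : F, r * r ≠ -1) :
    Nat.card {y : SL2 // IsQuad 0 y} = Fintype.card F + 1 := by
  have ht : ∀ r : F, r ^ 2 ≠ -1 + 0 * r := by
    intro r hr
    apply hm r
    linear_combination hr
  rw [← card_nsTorus ht]
  refine Nat.card_congr (Equiv.subtypeEquivRight ?_)
  intro y
  exact (mem_nsTorus_iff 0 y).symm

/-- the number of traceless elements orthogonal to `companion 0` -/
theorem card_isQuadInv_zero (hm : ∀ r : F, r * r ≠ -1) :
    Nat.card {y : SL2 // tr2 y = 0 ∧ tr2 (companion 0 * y) = 0} = Fintype.card F + 1 := by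
  have h2 : (2 : F) ≠ 0 := two_ne_zero_of_char_three
  have h04 : (0 : F) ^ 2 ≠ 4 := by
    rw [four_eq_one_of_char_three]; simp
  obtain ⟨w, hw⟩ := exists_isQuadInv (F := F) h04
  rw [isQuadInv_iff] at hw
  have hne : (companion 0 : SL2) ≠ (companion 0)⁻¹ := by
    intro h
    have e01 := congrArg (fun A : SL2 => A.1 0 1) h
    simp only [inv_apply_01, companion_apply_01] at e01
    apply h2
    linear_combination -e01
  have h1 := card_comm_or_inv (companion 0 : SL2) w hw hne
  rw [card_or] at h1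
  · have e1 : {y : SL2 // y * companion 0 = companion 0 * y} ≃ {y : SL2 // IsQuad 0 y} := by
      refine Equiv.subtypeEquivRight ?_
      intro y
      rw [← mem_nsTorus_iff, mem_nsTorus_iff_commute]
      exact eq_comm
    have e2 : {y : SL2 // tr2 y = 0 ∧ tr2 (companion 0 * y) = 0} ≃
        {y : SL2 // y * companion 0 = (companion 0)⁻¹ * y} := by
      refine Equiv.subtypeEquivRight ?_
      intro y
      rw [← isQuadInv_iff, tr2_companion_zero_mul]
      unfold IsQuadInv tr2
      constructor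
      · rintro ⟨h, h'⟩
        exact ⟨by linear_combination h, by linear_combination h'⟩
      · rintro ⟨h, h'⟩
        exact ⟨by linear_combination h, by linear_combination h'⟩
    rw [Nat.card_congr e2]
    rw [Nat.card_congr e1, card_isQuad_zero hm] at h1
    omega
  · intro y h h'
    apply hne
    have : companion 0 * y = (companion 0)⁻¹ * y := h.symm.trans h'
    exact mul_right_cancel this

omit [Fintype F] [CharP F 3] in
/-- elements `[[A, B], [-B, A]]` -/
def quadEl (A B : F) (h : A ^ 2 + B ^ 2 = 1) : SL2 :=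
  ⟨!![A, B; -B, A], by rw [Matrix.det_fin_two]; simp; linear_combination h⟩

omit [Fintype F] [CharP F 3] in
theorem isQuad_quadEl (A B : F) (h : A ^ 2 + B ^ 2 = 1) : IsQuad 0 (quadEl A B h) := by
  unfold IsQuad quadEl
  simp

omit [Fintype F] [CharP F 3] in
theorem isQuad_sq_add_sq {y : SL2} (h : IsQuad 0 y) : (y.1 0 0) ^ 2 + (y.1 1 0) ^ 2 = 1 := by
  obtain ⟨h1, h2⟩ := h
  have hdet := sl2_det y
  rw [h1, h2] at hdet
  linear_combination hdet

/-- the centraliser of `companion 0` meets the union of the two "hyperplanes" in four elements -/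
theorem card_isQuad_generic (hm : ∀ r : F, r * r ≠ -1) :
    Nat.card {y : SL2 // IsQuad 0 y ∧ y.1 0 0 ≠ 0 ∧ y.1 1 0 ≠ 0} + 4 = Fintype.card F + 1 := by
  have h2 : (2 : F) ≠ 0 := two_ne_zero_of_char_three
  rw [← card_isQuad_zero hm]
  have e : {y : SL2 // IsQuad 0 y} ≃
      {y : SL2 // (IsQuad 0 y ∧ y.1 0 0 ≠ 0 ∧ y.1 1 0 ≠ 0) ∨
        ((IsQuad 0 y ∧ y.1 0 0 = 0) ∨ (IsQuad 0 y ∧ y.1 1 0 = 0))} := by
    refine Equiv.subtypeEquivRight ?_
    intro y
    constructor
    · intro h
      by_cases h0 : y.1 0 0 = 0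
      · exact Or.inr (Or.inl ⟨h, h0⟩)
      · by_cases h1 : y.1 1 0 = 0
        · exact Or.inr (Or.inr ⟨h, h1⟩)
        · exact Or.inl ⟨h, h0, h1⟩
    · rintro (h | h | h) <;> exact h.1
  have e0 : {y : SL2 // IsQuad 0 y ∧ y.1 0 0 = 0} ≃ {c : F // c ^ 2 = 1} :=
    { toFun := fun y => ⟨y.1.1 1 0, by
        have := isQuad_sq_add_sq y.2.1
        rw [y.2.2] at this
        linear_combination this⟩
      invFun := fun c => ⟨quadEl 0 (-c.1) (by linear_combination c.2),
        isQuad_quadEl _ _ _, by simp [quadEl]⟩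
      left_inv := by
        rintro ⟨y, ⟨h1, h2'⟩, h0⟩
        apply Subtype.ext
        apply sl2_ext
        · simp [quadEl, h0]
        · simp [quadEl, h1]
        · simp [quadEl]
        · simp [quadEl, h2', h0]
      right_inv := by
        rintro ⟨c, hc⟩
        simp [quadEl] }
  have e1 : {y : SL2 // IsQuad 0 y ∧ y.1 1 0 = 0} ≃ {c : F // c ^ 2 = 1} :=
    { toFun := fun y => ⟨y.1.1 0 0, by
        have := isQuad_sq_add_sq y.2.1
        rw [y.2.2] at this
        linear_combination this⟩
      invFun := fun c => ⟨quadEl c.1 0 (by linear_combination c.2),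
        isQuad_quadEl _ _ _, by simp [quadEl]⟩
      left_inv := by
        rintro ⟨y, ⟨h1, h2'⟩, h0⟩
        apply Subtype.ext
        apply sl2_ext
        · simp [quadEl]
        · simp [quadEl, h1, h0]
        · simp [quadEl, h0]
        · simp [quadEl, h2', h0]
      right_inv := by
        rintro ⟨c, hc⟩
        simp [quadEl] }
  rw [Nat.card_congr e, card_or, card_or, Nat.card_congr e0, Nat.card_congr e1,
    card_sq_eq_one' h2]
  · rintro y ⟨h, h0⟩ ⟨-, h1⟩
    have := isQuad_sq_add_sq h
    rw [h0, h1] at this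
    simp at this
  · rintro y ⟨-, h0, h1⟩ (⟨-, h⟩ | ⟨-, h⟩)
    · exact h0 h
    · exact h1 h

omit [Fintype F] in
theorem typeThree_det (y : SL2) (hτ : (tr2 y) ^ 2 = 1) (hσ : (y.1 0 1 - y.1 1 0) ^ 2 = 1) :
    (y.1 0 0 + tr2 y) ^ 2 + (y.1 0 1 + (y.1 0 1 - y.1 1 0)) ^ 2 = 1 := by
  have h3 : (3 : F) = 0 := three_eq_zero'
  have hdet := sl2_det y
  unfold tr2 at hτ ⊢
  linear_combination hτ + hσ - hdet
    + (y.1 0 0 ^ 2 + y.1 0 0 * y.1 1 1 + y.1 0 1 ^ 2 - y.1 0 1 * y.1 1 0) * h3

/-- the inverse map for the type three elements -/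
def typeThreeEl (τ σ : F) (hτ : τ ^ 2 = 1) (hσ : σ ^ 2 = 1) (k : SL2) (hk : IsQuad 0 k) : SL2 :=
  ⟨!![k.1 0 0 - τ, k.1 0 1 - σ; k.1 0 1 + σ, -k.1 0 0 - τ], by
    have hd := sl2_det k
    obtain ⟨h1, h2⟩ := hk
    rw [Matrix.det_fin_two]
    simp only [Matrix.of_apply, Matrix.cons_val', Matrix.cons_val_zero, Matrix.cons_val_one,
      Matrix.cons_val_fin_one]
    have h10 : k.1 1 0 = -k.1 0 1 := by linear_combination h1
    rw [h2, h10] at hd
    linear_combination hτ + hσ - hd⟩

/-- the elements `y` with `(tr y)² = (tr (J y))² = 1` -/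
noncomputable def typeThreeEquiv :
    {y : SL2 // (tr2 y) ^ 2 = 1 ∧ (tr2 (companion 0 * y)) ^ 2 = 1} ≃
      {τ : F // τ ^ 2 = 1} × {σ : F // σ ^ 2 = 1} × {k : SL2 // IsQuad 0 k} where
  toFun y := (⟨tr2 y.1, y.2.1⟩, ⟨tr2 (companion 0 * y.1), y.2.2⟩,
    ⟨quadEl (y.1.1 0 0 + tr2 y.1) (y.1.1 0 1 + (y.1.1 0 1 - y.1.1 1 0))
      (typeThree_det y.1 y.2.1 (by rw [← tr2_companion_zero_mul]; exact y.2.2)),
      isQuad_quadEl _ _ _⟩)
  invFun p := ⟨typeThreeEl p.1.1 p.2.1.1 p.1.2 p.2.1.2 p.2.2.1 p.2.2.2, by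
    have h3 : (3 : F) = 0 := three_eq_zero'
    have ht : tr2 (typeThreeEl p.1.1 p.2.1.1 p.1.2 p.2.1.2 p.2.2.1 p.2.2.2) = p.1.1 := by
      simp only [tr2, typeThreeEl, Matrix.of_apply, Matrix.cons_val', Matrix.cons_val_zero,
        Matrix.cons_val_one, Matrix.cons_val_fin_one]
      linear_combination (-p.1.1) * h3
    have hs : tr2 (companion 0 * typeThreeEl p.1.1 p.2.1.1 p.1.2 p.2.1.2 p.2.2.1 p.2.2.2)
        = p.2.1.1 := by
      rw [tr2_companion_zero_mul]
      simp only [typeThreeEl, Matrix.of_apply, Matrix.cons_val', Matrix.cons_val_zero,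
        Matrix.cons_val_one, Matrix.cons_val_fin_one]
      linear_combination (-p.2.1.1) * h3
    rw [ht, hs]
    exact ⟨p.1.2, p.2.1.2⟩⟩
  left_inv := by
    rintro ⟨y, hy1, hy2⟩
    have h3 : (3 : F) = 0 := three_eq_zero'
    apply Subtype.ext
    apply sl2_ext
    · simp only [typeThreeEl, quadEl, Matrix.of_apply, Matrix.cons_val', Matrix.cons_val_zero,
        Matrix.cons_val_one, Matrix.cons_val_fin_one]
      ring
    · simp only [typeThreeEl, quadEl, tr2_companion_zero_mul, Matrix.of_apply, Matrix.cons_val',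
        Matrix.cons_val_zero, Matrix.cons_val_one, Matrix.cons_val_fin_one]
      ring
    · simp only [typeThreeEl, quadEl, tr2_companion_zero_mul, Matrix.of_apply, Matrix.cons_val',
        Matrix.cons_val_zero, Matrix.cons_val_one, Matrix.cons_val_fin_one]
      linear_combination (y.1 0 1 - y.1 1 0) * h3
    · simp only [typeThreeEl, quadEl, tr2, Matrix.of_apply, Matrix.cons_val',
        Matrix.cons_val_zero, Matrix.cons_val_one, Matrix.cons_val_fin_one]
      linear_combination (-(y.1 0 0 + y.1 1 1)) * h3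
  right_inv := by
    rintro ⟨⟨τ, hτ⟩, ⟨σ, hσ⟩, ⟨k, hk⟩⟩
    have h3 : (3 : F) = 0 := three_eq_zero'
    have ht : tr2 (typeThreeEl τ σ hτ hσ k hk) = τ := by
      simp only [tr2, typeThreeEl, Matrix.of_apply, Matrix.cons_val', Matrix.cons_val_zero,
        Matrix.cons_val_one, Matrix.cons_val_fin_one]
      linear_combination (-τ) * h3
    have hs : tr2 (companion 0 * typeThreeEl τ σ hτ hσ k hk) = σ := by
      rw [tr2_companion_zero_mul]
      simp only [typeThreeEl, Matrix.of_apply, Matrix.cons_val', Matrix.cons_val_zero,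
        Matrix.cons_val_one, Matrix.cons_val_fin_one]
      linear_combination (-σ) * h3
    refine Prod.ext (Subtype.ext ht) (Prod.ext (Subtype.ext hs) (Subtype.ext ?_))
    obtain ⟨h1, h2⟩ := hk
    have h10 : k.1 1 0 = -k.1 0 1 := by linear_combination h1
    apply sl2_ext
    · simp only [typeThreeEl, quadEl, tr2, Matrix.of_apply, Matrix.cons_val',
        Matrix.cons_val_zero, Matrix.cons_val_one, Matrix.cons_val_fin_one]
      linear_combination (-τ) * h3
    · simp only [typeThreeEl, quadEl, Matrix.of_apply, Matrix.cons_val',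
        Matrix.cons_val_zero, Matrix.cons_val_one, Matrix.cons_val_fin_one]
      linear_combination (-σ) * h3
    · simp only [typeThreeEl, quadEl, Matrix.of_apply, Matrix.cons_val',
        Matrix.cons_val_zero, Matrix.cons_val_one, Matrix.cons_val_fin_one]
      linear_combination σ * h3 - h10
    · simp only [typeThreeEl, quadEl, tr2, Matrix.of_apply, Matrix.cons_val',
        Matrix.cons_val_zero, Matrix.cons_val_one, Matrix.cons_val_fin_one]
      linear_combination (-τ) * h3 - h2

theorem card_typeThree (hm : ∀ r : F, r * r ≠ -1) :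
    Nat.card {y : SL2 // (tr2 y) ^ 2 = 1 ∧ (tr2 (companion 0 * y)) ^ 2 = 1}
      = 4 * (Fintype.card F + 1) := by
  have h2 : (2 : F) ≠ 0 := two_ne_zero_of_char_three
  rw [Nat.card_congr typeThreeEquiv, Nat.card_prod, Nat.card_prod, card_sq_eq_one' h2,
    card_isQuad_zero hm]
  ring

/-- the solubilizer of a traceless element -/
theorem card_sol_companion_zero (hm : ∀ r : F, r * r ≠ -1) :
    Nat.card {y : SL2 // Group.IsSolvable ↥(Subgroup.closure ({companion 0, y} : Set SL2))} =
      2 * Fintype.card F * (Fintype.card F + 1) := by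
  have h2 : (2 : F) ≠ 0 := two_ne_zero_of_char_three
  have h3 : (3 : F) = 0 := three_eq_zero'
  have hJ : tr2 (companion 0 : SL2) = 0 := tr2_companion 0
  have hquad_tr : ∀ y : SL2, IsQuad 0 y → tr2 y = 2 * y.1 0 0 := by
    rintro y ⟨-, h⟩
    unfold tr2
    rw [h]; ring
  have hquad_sg : ∀ y : SL2, IsQuad 0 y → tr2 (companion 0 * y) = -2 * y.1 1 0 := by
    rintro y ⟨h, -⟩
    rw [tr2_companion_zero_mul, h]; ring
  have e : {y : SL2 // Group.IsSolvable ↥(Subgroup.closure ({companion 0, y} : Set SL2))} ≃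
      {y : SL2 // tr2 y = 0 ∨ ((tr2 (companion 0 * y) = 0 ∧ tr2 y ≠ 0) ∨
        ((IsQuad 0 y ∧ y.1 0 0 ≠ 0 ∧ y.1 1 0 ≠ 0) ∨
          ((tr2 y) ^ 2 = 1 ∧ (tr2 (companion 0 * y)) ^ 2 = 1)))} := by
    refine Equiv.subtypeEquivRight ?_
    intro y
    rw [isSolvable_invol_iff hm (companion 0) y hJ]
    constructor
    · rintro (h | h | h | h)
      · exact Or.inl h
      · by_cases h0 : tr2 y = 0
        · exact Or.inl h0
        · exact Or.inr (Or.inl ⟨h, h0⟩)
      · have hq : IsQuad 0 y := (mem_nsTorus_iff 0 y).mp ((mem_nsTorus_iff_commute 0 y).mpr h.symm)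
        by_cases h0 : y.1 0 0 = 0
        · left
          rw [hquad_tr y hq, h0, mul_zero]
        · by_cases h1 : y.1 1 0 = 0
          · have hσ : tr2 (companion 0 * y) = 0 := by rw [hquad_sg y hq, h1, mul_zero]
            by_cases h0' : tr2 y = 0
            · exact Or.inl h0'
            · exact Or.inr (Or.inl ⟨hσ, h0'⟩)
          · exact Or.inr (Or.inr (Or.inl ⟨hq, h0, h1⟩))
      · exact Or.inr (Or.inr (Or.inr h))
    · rintro (h | ⟨h, -⟩ | ⟨hq, -, -⟩ | h)
      · exact Or.inl h
      · exact Or.inr (Or.inl h)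
      · right; right; left
        exact ((mem_nsTorus_iff_commute 0 y).mp ((mem_nsTorus_iff 0 y).mpr hq)).symm
      · exact Or.inr (Or.inr (Or.inr h))
  have hR2 : Nat.card {y : SL2 // tr2 (companion 0 * y) = 0 ∧ tr2 y ≠ 0} + (Fintype.card F + 1)
      = Fintype.card F * (Fintype.card F - 1) := by
    rw [← card_tr2_companion_mul_eq_zero hm, ← card_isQuadInv_zero hm, ← card_or]
    · refine Nat.card_congr (Equiv.subtypeEquivRight ?_)
      intro y
      constructor
      · rintro (h | h)
        · exact h.1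
        · exact h.2
      · intro h
        by_cases h0 : tr2 y = 0
        · exact Or.inr ⟨h0, h⟩
        · exact Or.inl ⟨h, h0⟩
    · rintro y ⟨-, h⟩ ⟨h', -⟩
      exact h h'
  have hR3 := card_isQuad_generic hm
  rw [Nat.card_congr e, card_or, card_or, card_or, card_tr2_eq_zero hm, card_typeThree hm]
  · have hq : 1 ≤ Fintype.card F := Fintype.card_pos
    generalize Fintype.card F = q at *
    obtain ⟨m, rfl⟩ := Nat.exists_eq_add_of_le hq
    simp only [Nat.add_sub_cancel_left] at *
    nlinarith [hR2, hR3]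
  · rintro y ⟨hq, h0, h1⟩ ⟨hτ, hσ⟩
    rw [hquad_tr y hq] at hτ
    rw [hquad_sg y hq] at hσ
    have hn := isQuad_sq_add_sq hq
    apply h2
    linear_combination hτ + hσ - 4 * hn
  · rintro y ⟨hσ0, hτ0⟩ (⟨hq, h0, h1⟩ | ⟨hτ, hσ⟩)
    · rw [hquad_sg y hq] at hσ0
      rcases mul_eq_zero.mp hσ0 with h | h
      · apply h2
        linear_combination -h
      · exact h1 h
    · rw [hσ0] at hσ
      simp at hσ
  · rintro y hτ0 (⟨-, h⟩ | ⟨hq, h0, h1⟩ | ⟨hτ, hσ⟩)
    · exact h hτ0
    · rw [hquad_tr y hq] at hτ0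
      rcases mul_eq_zero.mp hτ0 with h | h
      · exact h2 h
      · exact h0 h
    · rw [hτ0] at hτ
      simp at hτ

end CharThree

end Cfsg.Agent.Lib.Helper39.Sol3
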