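import Mathlib
import Cfsg.Agent.Lib.Helper39.Sol3Count
import Cfsg.Agent.Lib.Helper68.SubnQuot
import Cfsg.Agent.Lib.Helper5.PSL2Small
import Cfsg.Agent.Lib.Helper41.SL2Nonsplit

/-!
# From `PSL₂(F)` to `SL₂(F)`: solubilizers and the type of an element by its order (helper39)
-/

set_option autoImplicit false

namespace Cfsg.Agent.Lib.Helper39.Sol3

open Cfsg.Agent.Lib.Helper41 Cfsg.Agent.Lib.Helper38.SolMat Cfsg.Agent.Lib.Helper38.SolGen
  Cfsg.Agent.Lib.Helper38.SolStruct Cfsg.Agent.Lib.Helper38.SolCount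

variable {F : Type*} [Field F]

local notation "SL2" => Matrix.SpecialLinearGroup (Fin 2) F
local notation "PSL2" => Matrix.ProjectiveSpecialLinearGroup (Fin 2) F

theorem card_sol_conj' {G : Type*} [Group G] (c X : G) :
    Nat.card {y : G // Group.IsSolvable ↥(Subgroup.closure ({X, y} : Set G))} =
    Nat.card {y : G // Group.IsSolvable ↥(Subgroup.closure ({c * X * c⁻¹, y} : Set G))} := by
  have h := card_sol_congr (MulAut.conj c : G ≃* G) X
  rw [MulAut.conj_apply] at h
  exact h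

/-- solvability can be tested in the central quotient -/
theorem isSolvable_closure_mk_iff (X Y : SL2) :
    Group.IsSolvable ↥(Subgroup.closure
      ({(QuotientGroup.mk X : PSL2), (QuotientGroup.mk Y : PSL2)} : Set PSL2)) ↔
    Group.IsSolvable ↥(Subgroup.closure ({X, Y} : Set SL2)) := by
  set π : SL2 →* PSL2 := QuotientGroup.mk' (Subgroup.center SL2) with hπ
  have hmap : Subgroup.closure ({(QuotientGroup.mk X : PSL2), (QuotientGroup.mk Y : PSL2)} : Set PSL2)
      = (Subgroup.closure ({X, Y} : Set SL2)).map π := by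
    rw [MonoidHom.map_closure, Set.image_pair]
    rfl
  rw [hmap]
  set H := Subgroup.closure ({X, Y} : Set SL2) with hH
  constructor
  · intro hs
    set φ := π.subgroupMap H with hφ
    have hker : Group.IsSolvable φ.ker := by
      apply Group.isSolvable_of_comm
      rintro ⟨a, ha⟩ ⟨b, hb⟩
      apply Subtype.ext
      apply Subtype.ext
      show a.1 * b.1 = b.1 * a.1
      have ha' : φ a = 1 := MonoidHom.mem_ker.mp ha
      have ha'' : π a.1 = 1 := by
        have := congrArg Subtype.val ha'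
        simpa [hφ] using this
      have hac : a.1 ∈ Subgroup.center SL2 := by
        rw [← QuotientGroup.ker_mk' (Subgroup.center SL2)]
        exact MonoidHom.mem_ker.mpr ha''
      exact (Subgroup.mem_center_iff.mp hac b.1).symm
    refine Group.isSolvable_of_ker_le_range φ.ker.subtype φ ?_
    rw [Subgroup.range_subtype]
  · intro hs
    exact Group.isSolvable_of_surjective (f := π.subgroupMap H) (π.subgroupMap_surjective H)

/-- the solubilizer in `SL₂(F)` is twice as big as the solubilizer in `PSL₂(F)` -/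
theorem card_sol_mk [Fintype F] (h2 : (2 : F) ≠ 0) (X : SL2) :
    Nat.card {Y : SL2 // Group.IsSolvable ↥(Subgroup.closure ({X, Y} : Set SL2))} =
      2 * Nat.card {y : PSL2 // Group.IsSolvable ↥(Subgroup.closure
        ({(QuotientGroup.mk X : PSL2), y} : Set PSL2))} := by
  have h1 := Cfsg.Agent.Lib.Helper68.Subn.card_preimage_mk' (Subgroup.center SL2)
    {y : PSL2 | Group.IsSolvable ↥(Subgroup.closure ({(QuotientGroup.mk X : PSL2), y} : Set PSL2))}
  rw [Cfsg.Agent.Lib.Helper5.card_center_SL2_of_two_ne_zero h2] at h1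
  rw [← Nat.card_congr (Equiv.subtypeEquivRight (fun Y => isSolvable_closure_mk_iff X Y))]
  exact h1

/-- a lift of an involution of `PSL₂(F)` is traceless -/
theorem tr2_eq_zero_of_mk_sq (h2 : (2 : F) ≠ 0) (X : SL2)
    (hx : (QuotientGroup.mk X : PSL2) ^ 2 = 1) (hx1 : (QuotientGroup.mk X : PSL2) ≠ 1) :
    tr2 X = 0 := by
  rcases (mk_pow_eq_one_iff X 2).mp hx with h | h
  · exfalso
    rw [pow_two] at h
    exact hx1 ((mk_eq_one_iff X).mpr (eq_one_or_neg_one_of_mul_self h2 X h))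
  · have hc := cayley_hamilton X
    rw [← pow_two, h] at hc
    have h0 : tr2 X • X.1 = 0 := by
      have := congrArg (· + (1 : Matrix (Fin 2) (Fin 2) F)) hc
      simpa using this.symm
    rcases smul_eq_zero.mp h0 with h | h
    · exact h
    · exfalso
      have hd := sl2_det X
      rw [h] at hd
      simp at hd

theorem orderOf_mk_dvd_two (X : SL2) (h : tr2 X = 0) :
    orderOf (QuotientGroup.mk X : PSL2) ∣ 2 := by
  apply orderOf_dvd_of_pow_eq_one
  rw [mk_pow_eq_one_iff, pow_two, ← Matrix.SpecialLinearGroup.coe_mul, coe_mul_self_of_tr2 X h]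
  exact Or.inr rfl

theorem orderOf_mk_dvd_three [CharP F 3] (X : SL2) (h : (tr2 X) ^ 2 = 4) :
    orderOf (QuotientGroup.mk X : PSL2) ∣ 3 := by
  have : Fact (Nat.Prime 3) := ⟨Nat.prime_three⟩
  apply orderOf_dvd_of_pow_eq_one
  rw [mk_pow_eq_one_iff]
  exact pow_char_of_tr2_sq_eq_four 3 X h

theorem orderOf_mk_dvd_add_one [Fintype F] (X : SL2) (h : ∀ r : F, r ^ 2 ≠ -1 + tr2 X * r) :
    orderOf (QuotientGroup.mk X : PSL2) ∣ Fintype.card F + 1 := by
  apply orderOf_dvd_of_pow_eq_one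
  rw [mk_pow_eq_one_iff]
  exact Or.inl (pow_card_add_one_eq_one X h)

theorem orderOf_mk_dvd_sub_one [Fintype F] (X : SL2) (u : Fˣ) (hu : IsConj (diagHom u) X) :
    orderOf (QuotientGroup.mk X : PSL2) ∣ Fintype.card F - 1 := by
  apply orderOf_dvd_of_pow_eq_one
  obtain ⟨c, hc⟩ := isConj_iff.mp hu
  have h1 : X ^ (Fintype.card F - 1) = 1 := by
    rw [← hc, conj_pow, ← map_pow]
    have : u ^ (Fintype.card F - 1) = 1 := by
      classical
      rw [← Fintype.card_units]
      exact pow_card_eq_one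
    rw [this, map_one, mul_one, mul_inv_cancel]
  rw [← QuotientGroup.mk_pow, h1]
  rfl

theorem dvd_two_of_dvd_sub_add (q d : ℕ) (hq : 1 ≤ q) (h1 : d ∣ q - 1) (h2 : d ∣ q + 1) : d ∣ 2 := by
  have := Nat.dvd_sub h2 h1
  have e : q + 1 - (q - 1) = 2 := by omega
  rwa [e] at this

theorem eq_one_of_dvd_three_sub (q d : ℕ) (hq : 1 ≤ q) (h3 : 3 ∣ q) (h1 : d ∣ 3) (h2 : d ∣ q - 1) :
    d = 1 := by
  have h4 : d ∣ q := dvd_trans h1 h3
  have := Nat.dvd_sub h4 h2
  have e : q - (q - 1) = 1 := by omega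
  rw [e] at this
  exact Nat.dvd_one.mp this

theorem eq_one_of_dvd_three_add (q d : ℕ) (h3 : 3 ∣ q) (h1 : d ∣ 3) (h2 : d ∣ q + 1) :
    d = 1 := by
  have h4 : d ∣ q := dvd_trans h1 h3
  have := Nat.dvd_sub h2 h4
  have e : q + 1 - q = 1 := by omega
  rw [e] at this
  exact Nat.dvd_one.mp this

theorem eq_one_or_two_of_dvd_two (d : ℕ) (h : d ∣ 2) : d = 1 ∨ d = 2 :=
  (Nat.dvd_prime Nat.prime_two).mp h

section Finite

variable [Fintype F] [CharP F 3]

omit [Fintype F] in
/-- an element of `PSL₂(F)` of order `3` has a unipotent lift -/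
theorem exists_lift_unipotent (x : PSL2) (hx : orderOf x = 3) :
    ∃ X : SL2, (QuotientGroup.mk X : PSL2) = x ∧ tr2 X = 2 ∧ X ≠ 1 := by
  have : Fact (Nat.Prime 3) := ⟨Nat.prime_three⟩
  obtain ⟨X₀, hX₀⟩ := QuotientGroup.mk_surjective x
  have hx3 : x ^ 3 = 1 := by rw [← hx]; exact pow_orderOf_eq_one x
  have h1 : X₀.1 ^ 3 = 1 ∨ X₀.1 ^ 3 = -1 := by
    rw [← mk_pow_eq_one_iff, hX₀]; exact hx3
  refine ⟨X₀ ^ 4, ?_, ?_, ?_⟩
  · rw [QuotientGroup.mk_pow, hX₀]
    calc x ^ 4 = x ^ 3 * x := by rw [pow_succ]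
      _ = x := by rw [hx3, one_mul]
  · have h3 : (X₀ ^ 4 : SL2).1 ^ 3 = 1 := by
      rw [Matrix.SpecialLinearGroup.coe_pow, ← pow_mul, mul_comm, pow_mul]
      rcases h1 with h | h
      · rw [h, one_pow]
      · rw [h]
        exact Even.neg_one_pow ⟨2, rfl⟩
    have hnil : ((X₀ ^ 4 : SL2).1 - 1) ^ 3 = 0 := by
      rw [sub_pow_char_of_commute 3 (Commute.one_right _), one_pow, h3, sub_self]
    have h4 : IsNilpotent ((X₀ ^ 4 : SL2).1 - 1) := ⟨3, hnil⟩
    have h5 := (Matrix.isNilpotent_trace_of_isNilpotent h4).eq_zero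
    rw [Matrix.trace_sub, Matrix.trace_one, ← tr2_eq_trace] at h5
    simp only [Fintype.card_fin, Nat.cast_ofNat] at h5
    linear_combination h5
  · intro h
    have : x = 1 := by
      have e : (QuotientGroup.mk (X₀ ^ 4) : PSL2) = x := by
        rw [QuotientGroup.mk_pow, hX₀]
        calc x ^ 4 = x ^ 3 * x := by rw [pow_succ]
          _ = x := by rw [hx3, one_mul]
      rw [← e, h]
      rfl
    rw [this, orderOf_one] at hx
    omega

/-- the lifts of an element of order dividing `q - 1` are split semisimple -/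
theorem split_of_orderOf_dvd_sub (h3q : 3 ∣ Fintype.card F) (X : SL2)
    (hx1 : (QuotientGroup.mk X : PSL2) ≠ 1) (hx2 : orderOf (QuotientGroup.mk X : PSL2) ≠ 2)
    (hdvd : orderOf (QuotientGroup.mk X : PSL2) ∣ Fintype.card F - 1) :
    ∃ u : Fˣ, IsConj (diagHom u) X ∧ (u : F) ≠ ((u⁻¹ : Fˣ) : F) := by
  have hq : 1 ≤ Fintype.card F := Fintype.card_pos
  have ho1 : orderOf (QuotientGroup.mk X : PSL2) ≠ 1 := by
    intro h; exact hx1 (orderOf_eq_one_iff.mp h)
  have hroot : ∃ r : F, r ^ 2 = -1 + tr2 X * r := by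
    by_contra hns
    push Not at hns
    have h1 := orderOf_mk_dvd_add_one X hns
    rcases eq_one_or_two_of_dvd_two _ (dvd_two_of_dvd_sub_add _ _ hq hdvd h1) with h | h
    · exact ho1 h
    · exact hx2 h
  have ht : (tr2 X) ^ 2 ≠ 4 := by
    intro h
    exact ho1 (eq_one_of_dvd_three_sub _ _ hq h3q (orderOf_mk_dvd_three X h) hdvd)
  obtain ⟨r, hr⟩ := hroot
  obtain ⟨u, hu⟩ := isConj_diagHom_of_root X ht r hr
  refine ⟨u, hu, ?_⟩
  intro hue
  apply ht
  obtain ⟨c, hc⟩ := isConj_iff.mp hu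
  have hlm : (u : F) * ((u⁻¹ : Fˣ) : F) = 1 := by
    rw [← Units.val_mul, mul_inv_cancel, Units.val_one]
  rw [← hc, tr2_conj, tr2_diagHom, ← hue]
  rw [← hue] at hlm
  linear_combination 4 * hlm

/-- the lifts of an element of order dividing `q + 1` are nonsplit semisimple -/
theorem nonsplit_of_orderOf_dvd_add (h3q : 3 ∣ Fintype.card F) (X : SL2)
    (hx1 : (QuotientGroup.mk X : PSL2) ≠ 1) (hx2 : orderOf (QuotientGroup.mk X : PSL2) ≠ 2)
    (hdvd : orderOf (QuotientGroup.mk X : PSL2) ∣ Fintype.card F + 1) :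
    (∀ r : F, r ^ 2 ≠ -1 + tr2 X * r) ∧ tr2 X ≠ 0 := by
  have hq : 1 ≤ Fintype.card F := Fintype.card_pos
  have ho1 : orderOf (QuotientGroup.mk X : PSL2) ≠ 1 := by
    intro h; exact hx1 (orderOf_eq_one_iff.mp h)
  constructor
  · intro r hr
    by_cases ht : (tr2 X) ^ 2 = 4
    · exact ho1 (eq_one_of_dvd_three_add _ _ h3q (orderOf_mk_dvd_three X ht) hdvd)
    · obtain ⟨u, hu⟩ := isConj_diagHom_of_root X ht r hr
      have h1 := orderOf_mk_dvd_sub_one X u hu
      rcases eq_one_or_two_of_dvd_two _ (dvd_two_of_dvd_sub_add _ _ hq h1 hdvd) with h | h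
      · exact ho1 h
      · exact hx2 h
  · intro h0
    rcases eq_one_or_two_of_dvd_two _ (orderOf_mk_dvd_two X h0) with h | h
    · exact ho1 h
    · exact hx2 h

end Finite

end Cfsg.Agent.Lib.Helper39.Sol3
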