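import Cfsg.Agent.Lib.Helper69.Aut.StrDefs
import Cfsg.Agent.Lib.Helper69.Aut.Diag

set_option autoImplicit false

/-!
# Project STR (S2159), module [CONJD] (helper69's sheet, board #4695): a conjugate of a diagonal
automorphism by an automorphism in normal form is diagonal
-/

namespace Cfsg.Agent.Lib.Helper39.Aut

open Cfsg Cfsg.Lie Cfsg.Agent.Lib.Helper18 Cfsg.Agent.Lib.Helper91.ChevGen Cfsg.Agent.Lib.Helper69.Aut

universe u

variable {F : Type u} [Field F] {D : ChevalleyDatum}

/-- a diagonal automorphism scales the root elements -/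
theorem diagonalAut_xS (hD : D ∈ [chevG2, chevB2, chevD4, chevF4, chevE6, chevE7, chevE8])
    (d : ↥(D.group F) ≃* ↥(D.group F)) (χ : ℕ → Fˣ) (hχ : D.IsRootCharacter χ)
    (h : ∀ g : ↥(D.group F), ((d g : GL D.Idx F) : Matrix D.Idx D.Idx F) =
      D.charDiag F χ * ((g : GL D.Idx F) : Matrix D.Idx D.Idx F) * D.charDiag F (fun r => (χ r)⁻¹))
    (r : ℕ) (hr : r < D.nroots) (t : F) :
    d (xS hD r t) = xS hD r ((χ r : F) * t) := by
  apply eq_xS hD
  rw [h]
  show D.charDiag F χ * D.x F r t * D.charDiag F (fun r => (χ r)⁻¹) = _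
  exact Cfsg.Agent.S2157.result D hD χ hχ r hr t

/-- STR-[CONJD] -/
theorem conj_diag_nf [Finite F] (hD : D ∈ [chevG2, chevB2, chevD4, chevF4, chevE6, chevE7, chevE8])
    (a d : MulAut ↥(D.group F)) (hd : D.IsDiagonalAut d) (π : Equiv.Perm (Fin D.rank))
    (c : Fin D.rank → Fˣ) (τ : F ≃+* F) (h : NF hD a π c τ) : D.IsDiagonalAut (a * d * a⁻¹) := by
  obtain ⟨χ, hχ, hdχ⟩ := hd
  obtain ⟨C⟩ := nonempty_chevData.{u} D hD
  have hsl : ∀ i : Fin D.rank, D.simple i < D.nroots := fun i => C.simple_lt i i.isLt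
  have hnl : ∀ i : Fin D.rank, D.neg (D.simple i) < D.nroots :=
    fun i => neg_lt_nroots D hD _ (hsl i)
  have hτχ0 : ∀ (i : Fin D.rank) (n : ℕ), (τ (χ (D.simple i) : F)) ^ n ≠ 0 := fun i n =>
    pow_ne_zero _ ((map_ne_zero τ).mpr (χ (D.simple i)).ne_zero)
  have hθa : ∀ y, (a * d * a⁻¹) (a y) = a (d y) := by
    intro y
    show a (d (a⁻¹ (a y))) = a (d y)
    rw [show a⁻¹ (a y) = y from MulEquiv.symm_apply_apply a y]
  -- the maps `s ↦ c (π i) * τ(s)^e` are bijective
  have hfinj : ∀ i : Fin D.rank, Function.Injective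
      (fun s : F => (c (π i) : F) * (τ s) ^ D.graphExp (ringChar F) i (π i)) := by
    intro i s s' hss
    have hss' : (c (π i) : F) * (τ s) ^ D.graphExp (ringChar F) i (π i) =
        (c (π i) : F) * (τ s') ^ D.graphExp (ringChar F) i (π i) := hss
    have h1 : a (xS hD (D.simple i) s) = a (xS hD (D.simple i) s') := by
      rw [(h i s).1, (h i s').1, hss']
    exact xS_injective hD _ (hsl i) (a.injective h1)
  have hginj : ∀ i : Fin D.rank, Function.Injective
      (fun s : F => (((c (π i))⁻¹ : Fˣ) : F) * (τ s) ^ D.graphExp (ringChar F) i (π i)) := by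
    intro i s s' hss
    have hss' : (((c (π i))⁻¹ : Fˣ) : F) * (τ s) ^ D.graphExp (ringChar F) i (π i) =
        (((c (π i))⁻¹ : Fˣ) : F) * (τ s') ^ D.graphExp (ringChar F) i (π i) := hss
    have h1 : a (xS hD (D.neg (D.simple i)) s) = a (xS hD (D.neg (D.simple i)) s') := by
      rw [(h i s).2, (h i s').2, hss']
    exact xS_injective hD _ (hnl i) (a.injective h1)
  have hfsurj := fun i => Finite.surjective_of_injective (hfinj i)
  have hgsurj := fun i => Finite.surjective_of_injective (hginj i)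
  have hpos : ∀ (i : Fin D.rank) (u : F), (a * d * a⁻¹) (xS hD (D.simple (π i)) u) =
      xS hD (D.simple (π i))
        ((τ (χ (D.simple i) : F)) ^ D.graphExp (ringChar F) i (π i) * u) := by
    intro i u
    obtain ⟨s, hs⟩ := hfsurj i u
    have hs' : (c (π i) : F) * (τ s) ^ D.graphExp (ringChar F) i (π i) = u := hs
    have e1 : xS hD (D.simple (π i)) u = a (xS hD (D.simple i) s) := by
      rw [(h i s).1, hs']
    have e2 : a (d (xS hD (D.simple i) s)) = xS hD (D.simple (π i))
        ((τ (χ (D.simple i) : F)) ^ D.graphExp (ringChar F) i (π i) * u) := by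
      rw [diagonalAut_xS hD d χ hχ hdχ _ (hsl i), (h i _).1, ← hs', map_mul, mul_pow]
      congr 1
      ring
    rw [e1, hθa, e2]
  have hneg : ∀ (i : Fin D.rank) (u : F), (a * d * a⁻¹) (xS hD (D.neg (D.simple (π i))) u) =
      xS hD (D.neg (D.simple (π i)))
        (((τ (χ (D.simple i) : F)) ^ D.graphExp (ringChar F) i (π i))⁻¹ * u) := by
    intro i u
    obtain ⟨s, hs⟩ := hgsurj i u
    have hs' : (((c (π i))⁻¹ : Fˣ) : F) * (τ s) ^ D.graphExp (ringChar F) i (π i) = u := hs
    have e1 : xS hD (D.neg (D.simple (π i))) u = a (xS hD (D.neg (D.simple i)) s) := by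
      rw [(h i s).2, hs']
    have e2 : a (d (xS hD (D.neg (D.simple i)) s)) = xS hD (D.neg (D.simple (π i)))
        (((τ (χ (D.simple i) : F)) ^ D.graphExp (ringChar F) i (π i))⁻¹ * u) := by
      rw [diagonalAut_xS hD d χ hχ hdχ _ (hnl i), (h i _).2, ← hs', hχ.1 _ (hsl i), map_mul,
        mul_pow]
      simp only [Units.val_inv_eq_inv_val, map_inv₀, inv_pow]
      congr 1
      ring
    rw [e1, hθa, e2]
  -- compare with the diagonal automorphism with the new constants
  obtain ⟨c'', hc''⟩ : ∃ c'' : Fin D.rank → Fˣ, ∀ k : Fin D.rank, ((c'' k : Fˣ) : F) =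
      (τ (χ (D.simple (π.symm k)) : F)) ^ D.graphExp (ringChar F) (π.symm k) k :=
    ⟨fun k => Units.mk0 ((τ (χ (D.simple (π.symm k)) : F)) ^
      D.graphExp (ringChar F) (π.symm k) k) (hτχ0 (π.symm k) _), fun k => rfl⟩
  obtain ⟨d'', hd''diag, hd''⟩ := exists_diagonalAut (F := F) hD c''
  have hθd : a * d * a⁻¹ = d'' := by
    have key : ((a * d * a⁻¹ : MulAut ↥(D.group F)) : ↥(D.group F) ≃* ↥(D.group F)).toMonoidHom =
        d''.toMonoidHom := by
      apply hom_ext_fund hD
      intro y i t hi hy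
      have hkπ : π (π.symm ⟨i, hi⟩) = ⟨i, hi⟩ := Equiv.apply_symm_apply π _
      rcases hy with hy | hy
      · have hy' : y = xS hD (D.simple (⟨i, hi⟩ : Fin D.rank)) t := eq_xS hD y _ t hy
        show (a * d * a⁻¹) y = d'' y
        rw [hy', (hd'' ⟨i, hi⟩ t).1, hc'']
        have := hpos (π.symm ⟨i, hi⟩) t
        rw [hkπ] at this
        exact this
      · have hy' : y = xS hD (D.neg (D.simple (⟨i, hi⟩ : Fin D.rank))) t := eq_xS hD y _ t hy
        show (a * d * a⁻¹) y = d'' y
        rw [hy', (hd'' ⟨i, hi⟩ t).2, Units.val_inv_eq_inv_val, hc'']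
        have := hneg (π.symm ⟨i, hi⟩) t
        rw [hkπ] at this
        exact this
    apply MulEquiv.ext
    intro y
    exact congrArg (fun φ : ↥(D.group F) →* ↥(D.group F) => φ y) key
  rw [hθd]
  exact hd''diag

end Cfsg.Agent.Lib.Helper39.Aut
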