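import Mathlib
import Cfsg.Agent.Lib.Helper43.SUMD.Basic
import Cfsg.Agent.Lib.Helper95.SumdRIso
import Cfsg.Agent.Lib.Helper95.SumdUZ
import Cfsg.Agent.Lib.Helper94.SumdUA2
import Cfsg.Agent.Lib.Helper94.SumdUA2Iso

/-!
# Project SUMD (helper43), module [T-ALPHA] (helper39)

For `v' ⟂ v, w` isotropic: `Z_{v'}` acts non-trivially on `C_V(Z_v)`.
-/

set_option autoImplicit false

namespace Cfsg.Agent.Lib.Helper43.SUMD

open Matrix Module Cfsg.Agent.S0837 Cfsg.Agent.S0781 Cfsg.Agent.S2644 Cfsg.Agent.Lib.Helper37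

namespace Alpha

section
variable {F : Type*} [Field F] (σ : F →+* F) {n : ℕ}

theorem Zsub_congr {z z' : Fin n → F} (e : z = z') (hz : hf σ z z = 0) (hz' : hf σ z' z' = 0) :
    Zsub σ z hz = Zsub σ z' hz' := by
  subst e
  rfl

/-- isotropy of `a v + b v'` -/
theorem iso_comb (hσ2 : ∀ a, σ (σ a) = a) (v v' : Fin n → F) (hv : hf σ v v = 0)
    (hv' : hf σ v' v' = 0) (hv'v : hf σ v' v = 0) (a b : F) :
    hf σ (a • v + b • v') (a • v + b • v') = 0 := by
  have hvv' : hf σ v v' = 0 := by rw [hf_symm σ hσ2, hv'v, map_zero]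
  simp only [hf_add_left, hf_add_right, hf_smul_left, hf_smul_right, hv, hv', hv'v, hvv']
  ring

end

section
variable {F : Type*} [Field F] [Fintype F] (σ : F →+* F) {n : ℕ}
variable {V : Type*} [AddCommGroup V] [Module ℂ V] [FiniteDimensional ℂ V]

/-- conjugating `Z_z` by `g` gives the fixed space `ρ g (C_V(Z_z))` for `Z_{g z}` -/
theorem fixedSp_Zsub_map (hσ2 : ∀ a, σ (σ a) = a) (ρ : Representation ℂ ↥(SUg σ n) V)
    (z z' : Fin n → F) (hz : hf σ z z = 0) (hz' : hf σ z' z' = 0) (g : ↥(SUg σ n))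
    (hg : smat g *ᵥ z = z') :
    fixedSp ρ (Zsub σ z' hz') = (fixedSp ρ (Zsub σ z hz)).map (ρ g) := by
  rw [← fixedSp_conj, Zsub_map_conj σ hσ2 z hz g]
  congr 1
  exact Zsub_congr σ hg.symm _ _

/-- the Siegel element `g_b` with `g_b v' = v'`, `g_b v = v + b v'` -/
theorem exists_shear (hσ2 : ∀ a, σ (σ a) = a) {v w : Fin n → F} (h : HP σ v w) (v' : Fin n → F)
    (hv' : hf σ v' v' = 0) (hv'v : hf σ v' v = 0) (hv'w : hf σ v' w = 0) (b : F) :
    ∃ g : ↥(SUg σ n), smat g *ᵥ v' = v' ∧ smat g *ᵥ v = v + b • v' := by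
  have hwv' : hf σ w v' = 0 := by rw [hf_symm σ hσ2, hv'w, map_zero]
  have hvv' : hf σ v v' = 0 := by rw [hf_symm σ hσ2, hv'v, map_zero]
  have hu : hf σ ((-(σ b)) • w) v' = 0 := by rw [hf_smul_left, hwv', mul_zero]
  have hβ : (0 : F) + σ 0 + hf σ ((-(σ b)) • w) ((-(σ b)) • w) = 0 := by
    rw [hf_smul_left, hf_smul_right, h.vv, map_zero]
    ring
  refine ⟨siegS σ hσ2 v' ((-(σ b)) • w) 0 hv' hu hβ, ?_, ?_⟩
  · rw [smat_siegS, sieg_mulVec, hv', zero_smul, hf_smul_right, hv'w, mul_zero, zero_smul,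
      add_zero, sub_zero]
  · rw [smat_siegS, sieg_mulVec, hvv', zero_smul, hf_smul_right, h.uv hσ2, map_neg, hσ2,
      mul_one, add_zero, neg_smul, sub_neg_eq_add]

end

end Alpha

section T
variable {F : Type*} [Field F] [Fintype F] (σ : F →+* F) {n : ℕ}
variable {V : Type*} [AddCommGroup V] [Module ℂ V] [FiniteDimensional ℂ V]

/-- **[T-ALPHA]** for `v' ⟂ v, w` isotropic: `Z_{v'}` acts non-trivially on `C_V(Z_v)` -/
theorem alpha (hσ : σ ≠ RingHom.id F) (hσ2 : ∀ a, σ (σ a) = a) (hn : 3 ≤ n) {v w : Fin n → F}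
    (h : HP σ v w) (v' : Fin n → F) (hv'0 : v' ≠ 0) (hv' : hf σ v' v' = 0)
    (hv'v : hf σ v' v = 0) (hv'w : hf σ v' w = 0) (ρ : Representation ℂ ↥(SUg σ n) V)
    (hnt : fixedSp ρ (Zsub σ v h.uu) ≠ ⊤) :
    ¬ fixedSp ρ (Zsub σ v h.uu) ≤ fixedSp ρ (Zsub σ v' hv') := by
  classical
  intro hle
  have hv0 : v ≠ 0 := h.ne_zero
  have hvv' : hf σ v v' = 0 := by rw [hf_symm σ hσ2, hv'v, map_zero]
  -- (1) `C_V(Z_{v'}) = U`
  have hUv' : fixedSp ρ (Zsub σ v' hv') = fixedSp ρ (Zsub σ v h.uu) := by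
    obtain ⟨g, hg⟩ := exists_smat_mulVec_eq σ hσ hσ2 hn v v' hv0 hv'0 h.uu hv'
    have hmap := Alpha.fixedSp_Zsub_map σ hσ2 ρ v v' h.uu hv' g hg
    have hinj : Function.Injective (ρ g) := by
      intro a b hab
      have := congrArg (ρ g⁻¹) hab
      simpa [← Module.End.mul_apply, ← map_mul] using this
    have hdim : finrank ℂ (fixedSp ρ (Zsub σ v' hv')) = finrank ℂ (fixedSp ρ (Zsub σ v h.uu)) := by
      rw [hmap]
      exact LinearEquiv.finrank_eq
        (Submodule.equivMapOfInjective (ρ g) hinj (fixedSp ρ (Zsub σ v h.uu))).symm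
    exact (Submodule.eq_of_le_of_finrank_eq hle hdim.symm).symm
  -- (2) `C_V(Z_{v + b v'}) = U`
  have hshear : ∀ b : F, ∀ hz : hf σ (v + b • v') (v + b • v') = 0,
      fixedSp ρ (Zsub σ (v + b • v') hz) = fixedSp ρ (Zsub σ v h.uu) := by
    intro b hz
    obtain ⟨g, hg1, hg2⟩ := Alpha.exists_shear σ hσ2 h v' hv' hv'v hv'w b
    have h1 := Alpha.fixedSp_Zsub_map σ hσ2 ρ v' v' hv' hv' g hg1
    have h2 := Alpha.fixedSp_Zsub_map σ hσ2 ρ v (v + b • v') h.uu hz g hg2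
    rw [h2, ← hUv']
    exact h1.symm
  -- (3) `C_V(Z_{a v + b v'}) = U` for `(a,b) ≠ 0`
  have hall : ∀ a b : F, (a ≠ 0 ∨ b ≠ 0) →
      fixedSp ρ (Zsub σ (a • v + b • v') (Alpha.iso_comb σ hσ2 v v' h.uu hv' hv'v a b)) =
        fixedSp ρ (Zsub σ v h.uu) := by
    intro a b hab
    by_cases ha : a = 0
    · have hb : b ≠ 0 := by
        rcases hab with h1 | h1
        · exact absurd ha h1
        · exact h1
      have e : a • v + b • v' = b • v' := by rw [ha, zero_smul, zero_add]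
      rw [Alpha.Zsub_congr σ e _
        (by rw [hf_smul_left, hf_smul_right, hv', mul_zero, mul_zero]),
        Zsub_smul σ hσ2 v' hv' b hb, hUv']
    · have e : a • v + b • v' = a • (v + (b / a) • v') := by
        rw [smul_add, smul_smul, mul_div_cancel₀ b ha]
      have hz : hf σ (v + (b / a) • v') (v + (b / a) • v') = 0 := by
        have := Alpha.iso_comb σ hσ2 v v' h.uu hv' hv'v 1 (b / a)
        rwa [one_smul] at this
      rw [Alpha.Zsub_congr σ e _
        (by rw [hf_smul_left, hf_smul_right, hz, mul_zero, mul_zero]),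
        Zsub_smul σ hσ2 _ hz a ha, hshear (b / a) hz]
  -- (4) `C_V(A₂) = U`
  have hA2fix : fixedSp ρ (A2 σ v v') = fixedSp ρ (Zsub σ v h.uu) := by
    apply le_antisymm
    · apply fixedSp_mono
      intro g hg
      obtain ⟨c, hc, hgc⟩ := hg
      apply Subgroup.subset_closure
      refine ⟨1, 0, c, hc, ?_⟩
      rw [hgc, one_smul, zero_smul, add_zero]
    · intro x hx
      rw [A2, mem_fixedSp_closure]
      rintro s ⟨a, b, c, hc, hs⟩
      by_cases hab : a ≠ 0 ∨ b ≠ 0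
      · have hx' : x ∈ fixedSp ρ (Zsub σ (a • v + b • v')
            (Alpha.iso_comb σ hσ2 v v' h.uu hv' hv'v a b)) := by
          rw [hall a b hab]; exact hx
        exact hx' s ⟨c, hc, hs⟩
      · rw [not_or, not_not, not_not] at hab
        have hs1 : s = 1 := by
          apply smat_injective
          rw [hs, hab.1, hab.2, zero_smul, zero_smul, add_zero, smat_one]
          show sieg σ 0 0 c = 1
          unfold sieg
          simp [Matrix.vecMulVec_zero]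
        rw [hs1, map_one]
        rfl
  -- (5) apply [R-ISO]
  have htop : fixedSp ρ (A2 σ v v') = ⊤ := by
    refine fixedSp_eq_top_of_iso ρ (A2 σ v v') (A2_comm σ hσ2 v v' h.uu hv' hvv')
      (ι := {p : F × F // p.1 ≠ 0 ∨ p.2 ≠ 0})
      (fun p => Zsub σ (p.1.1 • v + p.1.2 • v')
        (Alpha.iso_comb σ hσ2 v v' h.uu hv' hv'v p.1.1 p.1.2)) ?_ ?_ ?_
    · rintro ⟨⟨a, b⟩, hab⟩ g ⟨c, hc, hgc⟩
      exact Subgroup.subset_closure ⟨a, b, c, hc, hgc⟩
    · intro χ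
      obtain ⟨a, b, hab, hχ⟩ := A2_iso σ hσ hσ2 v v' h.uu hv' hvv' χ
      refine ⟨⟨(a, b), hab⟩, ?_⟩
      intro z hz
      exact hχ z hz
    · rintro ⟨⟨a, b⟩, hab⟩
      rw [hA2fix]
      exact hall a b hab
  exact hnt (by rw [← hA2fix]; exact htop)

end T

end Cfsg.Agent.Lib.Helper43.SUMD
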