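import Mathlib
import Cfsg.Agent.Lib.Helper43.SUMD.Basic
import Cfsg.Agent.Lib.Helper95.SumdRWt
import Cfsg.Agent.Lib.Helper95.SumdRHeis
import Cfsg.Agent.Lib.Helper95.SumdRChar
import Cfsg.Agent.Lib.Helper95.SumdUZ
import Cfsg.Agent.Lib.Helper94.SumdUQ
import Cfsg.Agent.Lib.Helper94.SumdUQCard

/-!
# Project SUMD (helper43), module [T-STEP1] (helper39)

`dim V ≥ dim C_V(Z_v) + (q-1) q^(n-2)` if `Z_v` acts non-trivially, `n ≥ 3`.
-/

set_option autoImplicit false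

namespace Cfsg.Agent.Lib.Helper43.SUMD

open Matrix Module Cfsg.Agent.S0837 Cfsg.Agent.S0781 Cfsg.Agent.S2644 Cfsg.Agent.Lib.Helper37

namespace Step1

/-- arithmetic: `q^(2n-3) ≤ q m²` forces `q^(n-2) ≤ m` -/
theorem pow_le_of_sq {q n m : ℕ} (hq : 1 ≤ q) (hn : 3 ≤ n) (h : q ^ (2 * n - 3) ≤ q * m ^ 2) :
    q ^ (n - 2) ≤ m := by
  by_contra hlt
  rw [not_le] at hlt
  have h1 : m + 1 ≤ q ^ (n - 2) := hlt
  have h2 : q * m ^ 2 < q * (q ^ (n - 2)) ^ 2 := by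
    apply Nat.mul_lt_mul_of_pos_left _ hq
    exact Nat.pow_lt_pow_left hlt (by norm_num)
  have h3 : q * (q ^ (n - 2)) ^ 2 = q ^ (2 * n - 3) := by
    rw [← pow_mul, ← pow_succ']
    congr 1
    omega
  omega

end Step1

section T
variable {F : Type*} [Field F] [Fintype F] (σ : F →+* F) {n : ℕ}
variable {V : Type*} [AddCommGroup V] [Module ℂ V] [FiniteDimensional ℂ V]

/-- **[T-STEP1]** `dim V ≥ dim C_V(Z_v) + (q-1) q^(n-2)` if `Z_v` acts non-trivially, `n ≥ 3` -/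
theorem step1 {q : ℕ} (hF : Fintype.card F = q ^ 2) (hσq : ∀ x, σ x = x ^ q)
    (hσ : σ ≠ RingHom.id F) (hσ2 : ∀ a, σ (σ a) = a) (hn : 3 ≤ n) {v w : Fin n → F}
    (h : HP σ v w) (ρ : Representation ℂ ↥(SUg σ n) V)
    (hnt : fixedSp ρ (Zsub σ v h.uu) ≠ ⊤) :
    finrank ℂ (fixedSp ρ (Zsub σ v h.uu)) + (q - 1) * q ^ (n - 2) ≤ finrank ℂ V := by
  classical
  have hv0 : v ≠ 0 := h.ne_zero
  have hq1 : 1 ≤ q := by
    rcases Nat.eq_zero_or_pos q with h0 | h0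
    · exfalso
      rw [h0] at hF
      have : 0 < Fintype.card F := Fintype.card_pos
      omega
    · exact h0
  -- `Z ≠ ⊥`
  have hZne : Zsub σ v h.uu ≠ ⊥ := by
    intro hbot
    apply hnt
    rw [fixedSp_eq_top_iff]
    intro g hg
    rw [hbot, Subgroup.mem_bot] at hg
    rw [hg, map_one]
  obtain ⟨χ, hχ⟩ := exists_char_ne_one (Zsub σ v h.uu) (Zsub_comm σ v h.uu) hZne
  have hcardZ : Nat.card (Zsub σ v h.uu) = q := card_Zsub σ hF hσq hσ2 v hv0 h.uu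
  have hwt := finrank_eq_fixedSp_add_wtSp ρ (Zsub σ v h.uu)
    (Zsub_conj_elts σ hσ hσ2 hn v hv0 h.uu) χ hχ
  rw [hcardZ] at hwt
  -- the fixed space is proper
  have hlt : finrank ℂ (fixedSp ρ (Zsub σ v h.uu)) < finrank ℂ V :=
    Submodule.finrank_lt hnt
  have hmpos : 0 < finrank ℂ (wtSp ρ (Zsub σ v h.uu) χ) := by
    rcases Nat.eq_zero_or_pos (finrank ℂ (wtSp ρ (Zsub σ v h.uu) χ)) with h0 | h0
    · rw [h0, mul_zero, add_zero] at hwt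
      omega
    · exact h0
  have hW : wtSp ρ (Zsub σ v h.uu) χ ≠ ⊥ := by
    intro hbot
    rw [hbot, finrank_bot] at hmpos
    exact lt_irrefl 0 hmpos
  -- an element of `Z` with `χ z ≠ 1`
  obtain ⟨z₀, hz₀⟩ : ∃ z : ↥(Zsub σ v h.uu), χ z ≠ 1 := by
    by_contra hall
    simp only [not_exists, not_not] at hall
    apply hχ
    ext z
    rw [hall z]
    rfl
  obtain ⟨c₀, hc₀, hzc₀⟩ := z₀.2
  have hz₀eq : (z₀ : ↥(SUg σ n)) = tvS σ hσ2 v c₀ h.uu hc₀ := by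
    apply smat_injective
    rw [hzc₀, smat_tvS]
  have hheis := heis_bound ρ (Qsub σ hσ2 v h.uu) (Zsub σ v h.uu) (Zsub_le_Qsub σ hσ2 v h.uu)
    (Zsub_central_Qsub σ hσ2 v h.uu) χ hW (by
      intro s hs hsZ
      obtain ⟨s', hs', hcomm⟩ := Qsub_comm_exists σ hσ hσ2 h s hs hsZ c₀ hc₀
      refine ⟨s', hs', z₀, ?_, hz₀⟩
      rw [hcomm, hz₀eq])
  rw [hcardZ] at hheis
  have hQ := card_Qsub_ge σ hF hσq hσ2 (by omega : 2 ≤ n) h
  have hm : q ^ (n - 2) ≤ finrank ℂ (wtSp ρ (Zsub σ v h.uu) χ) :=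
    Step1.pow_le_of_sq hq1 hn (le_trans hQ hheis)
  rw [hwt]
  exact Nat.add_le_add_left (Nat.mul_le_mul_left _ hm) _

end T

end Cfsg.Agent.Lib.Helper43.SUMD
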