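import Cfsg.Agent.Lib.Helper82.OneBlock.Criterion

/-!
# Project TB (S2441, helper82), module BL-[EXT] (helper39): extended first main theorem S0958 + third main
theorem S0936: a block whose defect group contains a conjugate of a `p`-subgroup `P` with `N_G(P)` having only
one block is the principal block.
-/

set_option autoImplicit false

open Cfsg Cfsg.Agent.Lib.Helper16 Cfsg.Agent.Lib.Helper82.OneBlock

namespace Cfsg.Agent.Lib.Helper39.TwoBlocks

/-- BL-[EXT]: extended first main theorem S0958 + third main theorem S0936 (pattern: the proof of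
`OneBlock.sameBlock_of_centralizers`). -/
theorem eq_principalBlock_of_normalizer {G : Type*} [Group G] [Finite G] (p : ℕ) [Fact p.Prime]
    (M : Ideal AlgInt) (hM : IsPModular p M) (B : Set (IrrCharacter G)) (hB : IsPBlock M B)
    (𝔇 : Subgroup G) (h𝔇 : IsDefectGroup p M B 𝔇) (P : Subgroup G) (hP : IsPGroup p P) (x : G)
    (hx : P.map (MulAut.conj x).toMonoidHom ≤ 𝔇)
    (h1 : HasOneBlock M ↥(Subgroup.normalizer (P : Set G))) : B = principalBlock M G := by
  classical
  haveI hMp : M.IsPrime := isPModular_isPrime hM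
  have hPH : P ⊔ Subgroup.centralizer (P : Set G) ≤ Subgroup.normalizer (P : Set G) :=
    sup_le Subgroup.le_normalizer (Subgroup.centralizer_le_normalizer (P : Set G))
  obtain ⟨b, hb⟩ := (Cfsg.Agent.S0958.result p M hM P (Subgroup.normalizer (P : Set G)) hP hPH le_rfl B hB).mpr
    ⟨𝔇, h𝔇, x, hx⟩
  have hbp : b = principalBlock M (Subgroup.normalizer (P : Set G)) := eq_principalBlock_of_oneBlock h1 hb.1
  have hb' : IsInducedBlock M (Subgroup.normalizer (P : Set G)) b (principalBlock M G) :=
    (Cfsg.Agent.S0936.result p M hM (Subgroup.normalizer (P : Set G)) b ⟨B, hb⟩).mpr hbp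
  exact isInducedBlock_unique hb hb'

end Cfsg.Agent.Lib.Helper39.TwoBlocks
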