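import Cfsg.Agent.Lib.Helper82.TwoBlocks.Defs
import Cfsg.Agent.Lib.Helper61.ChevJ.Basic
import Cfsg.Agent.Lib.Helper18.BN4

/-!
# Project TB (S2441, helper82), module LIN-[SUPP] (helper39): a positive root of `Φ_{i}` is the `i`-th
fundamental root (from the table check `suppOK`).
-/

set_option autoImplicit false
universe u
open Cfsg Cfsg.Lie Cfsg.Agent.Lib.Helper18 Cfsg.Agent.Lib.Helper61.ChevJ Cfsg.Agent.Lib.Helper82.TwoBlocks

namespace Cfsg.Agent.Lib.Helper39.TwoBlocks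

variable {D : ChevalleyDatum}

/-- LIN-[SUPP]: from `suppOK_spec`. -/
theorem eq_simple_of_inRootSub_singleton (hD : D ∈ [chevG2, chevB2, chevD4, chevF4, chevE6, chevE7, chevE8])
    (Z : LData.{u} D) (i : ℕ) (hi : i < D.rank) (r : ℕ) (hr : D.IsPosRoot r) (h : D.InRootSub {i} r) :
    r = D.simple i := by
  have hn : Z.Y.X.C.T.nroots = D.nroots := Z.Y.X.C.nroots_eq
  have hl : Z.Y.X.C.T.rank = D.rank := Z.Y.X.C.rank_eq
  obtain ⟨hr1, hr2⟩ := (isPosRoot_iff hD r).mp hr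
  obtain ⟨_, hsupp⟩ := (Z.Y.X.inRootSub_iff {i} r).mp h
  rw [Z.Y.X.C.hsimple i hi]
  apply suppOK_spec Z.Y.X.C.T Z.Y.X.C.simples Z.hsupp1 i (by rw [hl]; exact hi) r (by rw [hn]; exact hr2)
    (by rw [hn]; exact hr1)
  intro k hk hki
  exact hsupp k (by rw [← hl]; exact hk) (by rw [Set.mem_singleton_iff]; exact hki)

end Cfsg.Agent.Lib.Helper39.TwoBlocks
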