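import Mathlib

/-!
# Conjugate transpose calculus and eigenvector evaluation (helper39)

Tools for MODULE ORB of S2511 (board #2562):

* `dag σ M = (M.map σ)ᵀ` with its anti-multiplicative calculus, `dag_aeval`.
* `commute_aeval`, `mapMat_aeval_mulVec` (evaluation of polynomials in a matrix on an eigenvector
  over an extension field), `exists_eigenvector` (roots of the characteristic polynomial in an
  extension field have eigenvectors).
* `exists_pow_card_pow_eq_self`: an element algebraic over a finite field is fixed by a positive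
  power of the Frobenius.
-/

set_option autoImplicit false

namespace Cfsg.Agent.Lib.Helper39.UnitaryOrb

open Matrix Polynomial

section dag
variable {F : Type*} [Field F] {n : ℕ}

/-- conjugate transpose with respect to a ring endomorphism of the coefficients -/
def dag (σ : F →+* F) (M : Matrix (Fin n) (Fin n) F) : Matrix (Fin n) (Fin n) F := (M.map σ)ᵀ

theorem dag_apply (σ : F →+* F) (M : Matrix (Fin n) (Fin n) F) (i j : Fin n) :
    dag σ M i j = σ (M j i) := rfl

theorem dag_mul (σ : F →+* F) (M N : Matrix (Fin n) (Fin n) F) :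
    dag σ (M * N) = dag σ N * dag σ M := by
  unfold dag
  rw [Matrix.map_mul, Matrix.transpose_mul]

theorem dag_add (σ : F →+* F) (M N : Matrix (Fin n) (Fin n) F) :
    dag σ (M + N) = dag σ M + dag σ N := by
  ext i j
  simp [dag_apply]

theorem dag_sub (σ : F →+* F) (M N : Matrix (Fin n) (Fin n) F) :
    dag σ (M - N) = dag σ M - dag σ N := by
  ext i j
  simp [dag_apply]

theorem dag_smul (σ : F →+* F) (c : F) (M : Matrix (Fin n) (Fin n) F) :
    dag σ (c • M) = σ c • dag σ M := by
  ext i j
  simp [dag_apply]

theorem dag_one (σ : F →+* F) : dag σ (1 : Matrix (Fin n) (Fin n) F) = 1 := by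
  unfold dag
  rw [Matrix.map_one σ (map_zero σ) (map_one σ), Matrix.transpose_one]

theorem dag_zero (σ : F →+* F) : dag σ (0 : Matrix (Fin n) (Fin n) F) = 0 := by
  ext i j
  simp [dag_apply]

theorem dag_dag (σ : F →+* F) (hσ : ∀ a : F, σ (σ a) = a) (M : Matrix (Fin n) (Fin n) F) :
    dag σ (dag σ M) = M := by
  ext i j
  simp [dag_apply, hσ]

theorem dag_pow (σ : F →+* F) (M : Matrix (Fin n) (Fin n) F) (i : ℕ) :
    dag σ (M ^ i) = dag σ M ^ i := by
  induction i with
  | zero => rw [pow_zero, pow_zero, dag_one]
  | succ i ih => rw [pow_succ, dag_mul, ih, pow_succ']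

theorem dag_aeval (σ : F →+* F) (A : Matrix (Fin n) (Fin n) F) (f : F[X]) :
    dag σ (aeval A f) = aeval (dag σ A) (f.map σ) := by
  induction f using Polynomial.induction_on' with
  | add f g hf hg => rw [map_add, dag_add, hf, hg, Polynomial.map_add, map_add]
  | monomial i a =>
    rw [Polynomial.map_monomial, aeval_monomial, aeval_monomial, ← Algebra.smul_def,
      ← Algebra.smul_def, dag_smul, dag_pow]

end dag

section comm
variable {F : Type*} [Field F] {R : Type*} [Ring R] [Algebra F R]

theorem commute_aeval (X B : R) (h : Commute X B) (g : F[X]) : Commute X (aeval B g) := by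
  induction g using Polynomial.induction_on' with
  | add f g hf hg =>
    rw [map_add]
    exact hf.add_right hg
  | monomial i a =>
    rw [aeval_monomial]
    exact (Algebra.commute_algebraMap_right a X).mul_right (h.pow_right i)

theorem commute_aeval_aeval (A B : R) (h : Commute A B) (f g : F[X]) :
    Commute (aeval A f) (aeval B g) :=
  commute_aeval _ _ (commute_aeval _ _ h.symm f).symm g

end comm

section eigen
variable {F : Type*} [Field F] {K : Type*} [Field K] [Algebra F K] {n : ℕ}

theorem mapMat_smul (a : F) (X : Matrix (Fin n) (Fin n) F) :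
    (algebraMap F K).mapMatrix (a • X) = algebraMap F K a • (algebraMap F K).mapMatrix X := by
  ext i j
  simp

theorem mapMat_pow_mulVec (M : Matrix (Fin n) (Fin n) F) (v : Fin n → K) (c : K)
    (h : (algebraMap F K).mapMatrix M *ᵥ v = c • v) (i : ℕ) :
    (algebraMap F K).mapMatrix (M ^ i) *ᵥ v = c ^ i • v := by
  induction i with
  | zero => rw [pow_zero, map_one, Matrix.one_mulVec, pow_zero, one_smul]
  | succ i ih =>
    rw [pow_succ, map_mul, ← Matrix.mulVec_mulVec, h, Matrix.mulVec_smul, ih, smul_smul, pow_succ']

/-- a polynomial in `M`, base-changed to `K`, acts on an eigenvector of `M` over `K` through the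
value of the polynomial at the eigenvalue -/
theorem mapMat_aeval_mulVec (M : Matrix (Fin n) (Fin n) F) (v : Fin n → K) (c : K)
    (h : (algebraMap F K).mapMatrix M *ᵥ v = c • v) (g : F[X]) :
    (algebraMap F K).mapMatrix (aeval M g) *ᵥ v = aeval c g • v := by
  induction g using Polynomial.induction_on' with
  | add f g hf hg => rw [map_add, map_add, Matrix.add_mulVec, hf, hg, map_add, add_smul]
  | monomial i a =>
    rw [aeval_monomial, aeval_monomial, ← Algebra.smul_def, mapMat_smul, Matrix.smul_mulVec,
      mapMat_pow_mulVec M v c h, smul_smul]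

/-- a root of the characteristic polynomial in an extension field has an eigenvector there -/
theorem exists_eigenvector (A : Matrix (Fin n) (Fin n) F) (y : K)
    (hy : aeval y A.charpoly = 0) :
    ∃ v : Fin n → K, v ≠ 0 ∧ (algebraMap F K).mapMatrix A *ᵥ v = y • v := by
  have h1 : ((algebraMap F K).mapMatrix A).charpoly.eval y = 0 := by
    rw [RingHom.mapMatrix_apply, Matrix.charpoly_map, Polynomial.eval_map_algebraMap]
    exact hy
  rw [Matrix.eval_charpoly] at h1
  obtain ⟨v, hv, hv0⟩ := Matrix.exists_mulVec_eq_zero_iff.mpr h1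
  refine ⟨v, hv, ?_⟩
  rw [Matrix.sub_mulVec, sub_eq_zero] at hv0
  rw [← hv0]
  ext i
  simp [Matrix.scalar_apply, Matrix.mulVec, dotProduct, Matrix.diagonal_apply]

end eigen

section period
variable {F : Type*} [Field F] [Fintype F] {K : Type*} [Field K] [Algebra F K]

/-- an element algebraic over a finite field is fixed by a positive power of the Frobenius -/
theorem exists_pow_card_pow_eq_self (y : K) (hy : IsIntegral F y) :
    ∃ d : ℕ, 0 < d ∧ y ^ (Fintype.card F ^ d) = y := by
  classical
  have hirr := minpoly.irreducible hy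
  have : Fact (Irreducible (minpoly F y)) := ⟨hirr⟩
  have : Module.Finite F (AdjoinRoot (minpoly F y)) :=
    (AdjoinRoot.powerBasis hirr.ne_zero).finite
  have : Finite (AdjoinRoot (minpoly F y)) := Module.finite_of_finite F
  have : Fintype (AdjoinRoot (minpoly F y)) := Fintype.ofFinite _
  set i : AdjoinRoot (minpoly F y) →ₐ[F] K :=
    AdjoinRoot.liftAlgHom (minpoly F y) (Algebra.ofId F K) y (by
      simpa [aeval_def] using minpoly.aeval F y) with hi
  have hiroot : i (AdjoinRoot.root (minpoly F y)) = y := by simp [hi]
  have hcard : Fintype.card (AdjoinRoot (minpoly F y)) =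
      Fintype.card F ^ Module.finrank F (AdjoinRoot (minpoly F y)) :=
    Module.card_eq_pow_finrank
  refine ⟨Module.finrank F (AdjoinRoot (minpoly F y)), Module.finrank_pos, ?_⟩
  have h1 : (AdjoinRoot.root (minpoly F y)) ^ Fintype.card (AdjoinRoot (minpoly F y)) =
      AdjoinRoot.root (minpoly F y) := FiniteField.pow_card _
  have h2 := congrArg i h1
  rw [map_pow, hiroot, hcard] at h2
  exact h2

end period

end Cfsg.Agent.Lib.Helper39.UnitaryOrb
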