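import Mathlib
import Cfsg.Agent.Lib.Helper39.UnitaryOrbA
import Cfsg.Agent.Lib.Helper29.FinFieldIrr
import Cfsg.Agent.Lib.Helper40.UnitaryCharpoly

/-!
# MODULE ORB of S2511 (board #2562), helper39

`unitary_single_orbit_of_no_idem`: if a unitary matrix `A` over `F`, `|F| = q²`, commutes with no
non-trivial self-adjoint idempotent, then the eigenvalues of `A` in any extension field form a
single orbit under `z ↦ (z ^ q)⁻¹`.
-/

set_option autoImplicit false

namespace Cfsg.Agent.Lib.Helper39.UnitaryOrb

open Matrix Polynomial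

section key
variable {F : Type*} [Field F] {K : Type*} [Field K] [Algebra F K] {n : ℕ}

/-- polynomials killing `A` vanish at the roots of the characteristic polynomial -/
theorem aeval_eq_zero_of_aeval_matrix (A : Matrix (Fin n) (Fin n) F) (g : F[X])
    (hg : aeval A g = 0) (z : K) (hz : aeval z A.charpoly = 0) : aeval z g = 0 := by
  obtain ⟨v, hv, hAv⟩ := exists_eigenvector A z hz
  have h1 := mapMat_aeval_mulVec A v z hAv g
  rw [hg, map_zero, Matrix.zero_mulVec] at h1
  rcases smul_eq_zero.mp h1.symm with h | h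
  · exact h
  · exact absurd h hv

/-- the key dichotomy: with no non-trivial self-adjoint idempotent commuting with the
`σ`-unitary matrix `A`, every eigenvalue `z` of `A` satisfies `h z = 0` or
`(h^σ) z⁻¹ = 0`, `h` the minimal polynomial of a fixed eigenvalue `y`. -/
theorem key_dichotomy (σ : F →+* F) (hσ : ∀ a : F, σ (σ a) = a)
    (A : Matrix (Fin n) (Fin n) F) (hA : dag σ A * A = 1)
    (hno : ∀ E : Matrix (Fin n) (Fin n) F, E * E = E → E * A = A * E → dag σ E = E →
      E = 0 ∨ E = 1)
    (y : K) (hy : aeval y A.charpoly = 0) :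
    ∃ f : F[X], (∀ z : K, aeval z A.charpoly = 0 → aeval z f = 0 → aeval z (minpoly F y) = 0) ∧
      ∀ z : K, aeval z A.charpoly = 0 → aeval z f = 0 ∨ aeval z⁻¹ (f.map σ) = 0 := by
  classical
  have hyint : IsIntegral F y := ⟨A.charpoly, Matrix.charpoly_monic A, hy⟩
  set h := minpoly F y with hh
  have hirr : Irreducible h := minpoly.irreducible hyint
  have hyh : aeval y h = 0 := minpoly.aeval F y
  have hint : IsIntegral F A := Algebra.IsIntegral.isIntegral A
  have hμ0 : minpoly F A ≠ 0 := minpoly.ne_zero hint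
  have hμy : aeval y (minpoly F A) = 0 :=
    aeval_eq_zero_of_aeval_matrix A _ (minpoly.aeval F A) y hy
  have hhμ : h ∣ minpoly F A := minpoly.dvd F y hμy
  have hfin : FiniteMultiplicity h (minpoly F A) :=
    FiniteMultiplicity.of_not_isUnit hirr.not_isUnit hμ0
  obtain ⟨g2, hg2, hfg2⟩ := hfin.exists_eq_pow_mul_and_not_dvd
  set a := multiplicity h (minpoly F A) with ha
  have ha0 : a ≠ 0 := by
    intro h0
    rw [h0, pow_zero, one_mul] at hg2
    exact hfg2 (hg2 ▸ hhμ)
  have hcop : IsCoprime (h ^ a) g2 := ((hirr.coprime_iff_not_dvd).2 hfg2).pow_left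
  obtain ⟨u, v, huv⟩ := hcop
  -- the polynomial `f` and the matrices `P`, `Q`
  refine ⟨u * h ^ a, ?_, ?_⟩
  · -- roots of `f` among the eigenvalues are roots of `h`
    intro z hz hzf
    by_contra hzh
    have hzμ : aeval z (minpoly F A) = 0 :=
      aeval_eq_zero_of_aeval_matrix A _ (minpoly.aeval F A) z hz
    rw [map_mul, map_pow] at hzf
    have hzu : aeval z u = 0 := by
      rcases mul_eq_zero.mp hzf with h1 | h1
      · exact h1
      · exact absurd (pow_eq_zero_iff ha0 |>.mp h1) hzh
    have h2 := congrArg (aeval z) huv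
    rw [map_add, map_mul, map_mul, hzu, zero_mul, zero_add, map_one] at h2
    have hzg2 : aeval z g2 ≠ 0 := by
      intro h3
      rw [h3, mul_zero] at h2
      exact zero_ne_one h2
    rw [hg2, map_mul, map_pow] at hzμ
    rcases mul_eq_zero.mp hzμ with h1 | h1
    · exact hzh (pow_eq_zero_iff ha0 |>.mp h1)
    · exact hzg2 h1
  · intro z hz
    set f := u * h ^ a with hf
    set B := dag σ A with hB
    have hAB : A * B = 1 := mul_eq_one_comm.mp hA
    have hcAB : Commute A B := by
      rw [Commute, SemiconjBy, hAB, hA]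
    set P := aeval A f with hP
    set Q := aeval B (f.map σ) with hQ
    have hQP : Q = dag σ P := by rw [hQ, hP, dag_aeval]
    have hPP : P * P = P := by
      rw [hP, ← map_mul]
      have : f * f = f - u * v * minpoly F A := by
        rw [hf]
        linear_combination (u * h ^ a) * huv + (u * v) * hg2
      rw [this, map_sub, map_mul _ (u * v), minpoly.aeval, mul_zero, sub_zero]
    have hQQ : Q * Q = Q := by
      rw [hQP, ← dag_mul, hPP]
    have hcPQ : Commute P Q := commute_aeval_aeval A B hcAB f (f.map σ)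
    have hEE : (P * Q) * (P * Q) = P * Q := by
      calc (P * Q) * (P * Q) = P * (Q * P) * Q := by simp only [mul_assoc]
        _ = P * (P * Q) * Q := by rw [hcPQ.eq]
        _ = (P * P) * (Q * Q) := by simp only [mul_assoc]
        _ = P * Q := by rw [hPP, hQQ]
    have hEd : dag σ (P * Q) = P * Q := by
      rw [dag_mul, hQP, dag_dag σ hσ]
    have hcPA : Commute P A := (commute_aeval A A (Commute.refl A) f).symm
    have hcQA : Commute Q A := (commute_aeval A B hcAB (f.map σ)).symm
    have hEA : (P * Q) * A = A * (P * Q) := by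
      rw [mul_assoc, hcQA.eq, ← mul_assoc, hcPA.eq, mul_assoc]
    obtain ⟨w, hw, hAw⟩ := exists_eigenvector A z hz
    have hBA : (algebraMap F K).mapMatrix B * (algebraMap F K).mapMatrix A = 1 := by
      rw [← map_mul, hA, map_one]
    -- `z ≠ 0` and `B w = z⁻¹ w`
    have hBw0 : z • ((algebraMap F K).mapMatrix B *ᵥ w) = w := by
      rw [← Matrix.mulVec_smul, ← hAw, Matrix.mulVec_mulVec, hBA, Matrix.one_mulVec]
    have hz0 : z ≠ 0 := by
      rintro rfl
      rw [zero_smul] at hBw0
      exact hw hBw0.symm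
    have hBw : (algebraMap F K).mapMatrix B *ᵥ w = z⁻¹ • w := by
      rw [← hBw0, smul_smul, inv_mul_cancel₀ hz0, one_smul, hBw0]
    have hPw : (algebraMap F K).mapMatrix P *ᵥ w = aeval z f • w :=
      mapMat_aeval_mulVec A w z hAw f
    have hQw : (algebraMap F K).mapMatrix Q *ᵥ w = aeval z⁻¹ (f.map σ) • w :=
      mapMat_aeval_mulVec B w z⁻¹ hBw (f.map σ)
    rcases hno (P * Q) hEE hEA hEd with hE | hE
    · -- `P * Q = 0`
      have h1 : (algebraMap F K).mapMatrix (P * Q) *ᵥ w = 0 := by
        rw [hE, map_zero, Matrix.zero_mulVec]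
      rw [map_mul, ← Matrix.mulVec_mulVec, hQw, Matrix.mulVec_smul, hPw, smul_smul] at h1
      rcases smul_eq_zero.mp h1 with h2 | h2
      · rcases mul_eq_zero.mp h2 with h3 | h3
        · exact Or.inr h3
        · exact Or.inl h3
      · exact absurd h2 hw
    · -- `P * Q = 1` is impossible: look at an eigenvector for `y`
      exfalso
      obtain ⟨w', hw', hAw'⟩ := exists_eigenvector A y hy
      have hPw' : (algebraMap F K).mapMatrix P *ᵥ w' = aeval y f • w' :=
        mapMat_aeval_mulVec A w' y hAw' f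
      have hfy : aeval y f = 0 := by
        rw [hf, map_mul, map_pow, hyh, zero_pow ha0, mul_zero]
      rw [hfy, zero_smul] at hPw'
      have h1 : (algebraMap F K).mapMatrix (P * Q) *ᵥ w' = w' := by
        rw [hE, map_one, Matrix.one_mulVec]
      rw [hcPQ.eq, map_mul, ← Matrix.mulVec_mulVec, hPw', Matrix.mulVec_zero] at h1
      exact hw' h1.symm

end key

section main
variable {F : Type*} [Field F] [Fintype F]

/-- MODULE ORB of board #2562 (S2511), exact statement. -/
theorem unitary_single_orbit_of_no_idem (p : ℕ) [Fact p.Prime]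
    [CharP F p] (k : ℕ) (hF : Fintype.card F = (p ^ k) ^ 2) {n : ℕ}
    (A : Matrix (Fin n) (Fin n) F) (hA : Aᵀ * A.map (· ^ (p ^ k)) = 1)
    (hno : ¬ ∃ π : Matrix (Fin n) (Fin n) F, π * π = π ∧ π ≠ 0 ∧ π ≠ 1 ∧ π * A = A * π ∧
      πᵀ = π.map (· ^ (p ^ k)))
    {K : Type*} [Field K] [Algebra F K] (y y' : K) (hy : aeval y A.charpoly = 0)
    (hy' : aeval y' A.charpoly = 0) :
    ∃ j : ℕ, y' = (fun z : K => (z ^ (p ^ k))⁻¹)^[j] y := by
  classical
  set σ := iterateFrobenius F p k with hσ
  have hσfun : (fun x : F => x ^ (p ^ k)) = ⇑σ := by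
    funext x
    rw [hσ, iterateFrobenius_def]
  have hσσ : ∀ a : F, σ (σ a) = a := by
    intro a
    rw [hσ, iterateFrobenius_def, iterateFrobenius_def, ← pow_mul, ← pow_two, ← hF,
      FiniteField.pow_card]
  have hA' : dag σ A * A = 1 := by
    have := congrArg Matrix.transpose hA
    rw [Matrix.transpose_mul, Matrix.transpose_transpose, Matrix.transpose_one, hσfun] at this
    exact this
  have hno' : ∀ E : Matrix (Fin n) (Fin n) F, E * E = E → E * A = A * E → dag σ E = E →
      E = 0 ∨ E = 1 := by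
    intro E h1 h2 h3
    by_contra hcon
    rw [not_or] at hcon
    apply hno
    refine ⟨E, h1, hcon.1, hcon.2, h2, ?_⟩
    rw [hσfun]
    have := congrArg Matrix.transpose h3
    unfold dag at this
    rw [Matrix.transpose_transpose] at this
    exact this.symm
  obtain ⟨f, hf1, hf2⟩ := key_dichotomy σ hσσ A hA' hno' y hy
  set ψ : K → K := fun z : K => (z ^ (p ^ k))⁻¹ with hψ
  have hψψ : ∀ z : K, ψ (ψ z) = z ^ Fintype.card F := by
    intro z
    simp only [hψ]
    rw [inv_pow, inv_inv, ← pow_mul, ← pow_two, ← hF]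
  have hψ2 : ∀ (j : ℕ) (z : K), ψ^[2 * j] z = z ^ (Fintype.card F ^ j) := by
    intro j
    induction j with
    | zero => intro z; simp
    | succ j ih =>
      intro z
      rw [show 2 * (j + 1) = 2 * j + 2 by ring, Function.iterate_add_apply]
      simp only [Function.iterate_succ, Function.iterate_zero, Function.comp_apply, id]
      rw [ih, hψψ, ← pow_mul, pow_succ']
  have hirr : Irreducible (minpoly F y) :=
    minpoly.irreducible ⟨A.charpoly, Matrix.charpoly_monic A, hy⟩
  have hyh : aeval y (minpoly F y) = 0 := minpoly.aeval F y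
  rcases hf2 y' hy' with h1 | h1
  · have h2 := hf1 y' hy' h1
    obtain ⟨j, hj⟩ := Cfsg.Agent.Lib.Helper29.exists_pow_card_pow_eq_of_irreducible
      (minpoly F y) hirr y y' hyh h2
    exact ⟨2 * j, by rw [hψ2, hj]⟩
  · -- `ψ y'` is a root of `f`, and an eigenvalue
    have h2 : aeval (ψ y') f = 0 := by
      have h3 := Cfsg.Agent.Lib.Helper40.aeval_pow_frob p k (f.map σ) (y'⁻¹ : K)
      rw [h1, zero_pow (pow_pos (Fact.out : p.Prime).pos k).ne', Polynomial.map_map] at h3
      have h8 : σ.comp σ = RingHom.id F := by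
        apply RingHom.ext
        intro a
        rw [RingHom.comp_apply, hσσ]
        rfl
      rw [h8, Polynomial.map_id, inv_pow] at h3
      exact h3.symm
    have h4 : aeval (ψ y') A.charpoly = 0 := by
      have := Cfsg.Agent.Lib.Helper40.aeval_inv_pow_charpoly_of_unitary p k hF A hA y' hy'
      rw [inv_pow] at this
      exact this
    have h5 := hf1 (ψ y') h4 h2
    obtain ⟨j, hj⟩ := Cfsg.Agent.Lib.Helper29.exists_pow_card_pow_eq_of_irreducible
      (minpoly F y) hirr y (ψ y') hyh h5
    obtain ⟨d, hd, hdy⟩ := exists_pow_card_pow_eq_self (F := F) y'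
      ⟨A.charpoly, Matrix.charpoly_monic A, hy'⟩
    refine ⟨(2 * d - 1) + 2 * j, ?_⟩
    rw [Function.iterate_add_apply, hψ2 j y, ← hj, ← Function.iterate_succ_apply,
      show (2 * d - 1).succ = 2 * d by omega, hψ2, hdy]

end main

end Cfsg.Agent.Lib.Helper39.UnitaryOrb
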