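import Mathlib
import Cfsg.Agent.Lib.Helper77.WAT.Defs
import Cfsg.Agent.Lib.Helper82.NilAbelLocal
import Cfsg.Agent.Lib.Helper16.NilStab
import Cfsg.Agent.S4655

/-!
# Project WAT (S4644), module WAT-[MAXQ] (helper39)

The restricted pair `(P_L, e_L)`, `L = C_G(Q)`, is a maximal pair of `f_Q = subFQ p M P e Q`.
-/

set_option autoImplicit false
set_option linter.style.haveILetI false

namespace Cfsg.Agent.Lib.Helper39.WAT

open Cfsg Cfsg.Agent.Lib.Helper16 Cfsg.Agent.Lib.Helper16.BP Cfsg.Agent.Lib.Helper77.WAT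
open scoped ComplexConjugate

universe u

variable {G : Type u} [Group G] [Fintype G] {M : Ideal AlgInt} {p : ℕ} [Fact p.Prime]
  {B : Set (IrrCharacter G)} {P : Subgroup G}
  {e : Set (IrrCharacter (Subgroup.centralizer (P : Set G)))}

/-- `subFQ` is the unique block below `(P, e)` at `Q`. -/
theorem subFQ_eq_of_subpairLE (hM : IsPModular p M) (hPe : IsBrauerPair p M P e)
    {Q : Subgroup G} (hQP : Q ≤ P) {f : Set (IrrCharacter (Subgroup.centralizer (Q : Set G)))}
    (hf : IsPBlock M f) (hle : SubpairLE p M Q f P e) : subFQ p M P e Q = f := by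
  classical
  have hex : ∃ f : Set (IrrCharacter (Subgroup.centralizer (Q : Set G))),
      IsPBlock M f ∧ SubpairLE p M Q f P e := ⟨f, hf, hle⟩
  unfold subFQ
  rw [dif_pos hex]
  obtain ⟨f₀, _, huniq⟩ := Cfsg.Agent.S4655.result p M hM P Q e hPe hQP
  rw [huniq _ hex.choose_spec, huniq f ⟨hf, hle⟩]

/-- `subFQ` is a block below `(P, e)`. -/
theorem subFQ_spec (hM : IsPModular p M) (hPe : IsBrauerPair p M P e)
    {Q : Subgroup G} (hQP : Q ≤ P) :
    IsPBlock M (subFQ p M P e Q) ∧ SubpairLE p M Q (subFQ p M P e Q) P e := by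
  obtain ⟨f₀, hf₀, _⟩ := Cfsg.Agent.S4655.result p M hM P Q e hPe hQP
  rw [subFQ_eq_of_subpairLE hM hPe hQP hf₀.1 hf₀.2]
  exact hf₀

/-- WAT-[MAXQ] : the restricted pair is a maximal pair of `f_Q` -/
theorem isMaximalBrauerPair_subFQ (hM : IsPModular p M) (hmax : IsMaximalBrauerPair p M B P e)
    (hPab : ∀ x ∈ P, ∀ y ∈ P, x * y = y * x) {Q : Subgroup G} (hQP : Q ≤ P)
    (hPL : P ≤ Subgroup.centralizer (Q : Set G))
    (hCP : Subgroup.centralizer (P : Set G) ≤ Subgroup.centralizer (Q : Set G)) :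
    IsMaximalBrauerPair p M (subFQ p M P e Q) (P.subgroupOf (Subgroup.centralizer (Q : Set G)))
      (pullBlock (centEquivIn (Subgroup.centralizer (Q : Set G)) P hPL hCP) e) := by
  classical
  haveI : Fintype ↥(Subgroup.centralizer (Q : Set G)) := Fintype.ofFinite _
  obtain ⟨f, hle, hfB, hpair⟩ := Cfsg.Agent.Lib.Helper82.NilAbel.exists_local_pair hM hmax hQP hPL hCP
  have hQL : Q ≤ Subgroup.centralizer (Q : Set G) := hQP.trans hPL
  rw [subFQ_eq_of_subpairLE hM hmax.1.1 hQP hfB.1.2 hle]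
  exact isMaximalBrauerPair_restrictPair hM hmax hQL le_rfl hQP hPL hCP hpair

end Cfsg.Agent.Lib.Helper39.WAT
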