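import Mathlib
import Cfsg.Agent.Lib.Helper77.WAT.Defs
import Cfsg.Agent.Lib.Helper39.WatMaxQ
import Cfsg.Agent.Lib.Helper16.BPNorm
import Cfsg.Agent.Lib.Helper82.PullRank

/-!
# Project WAT (S4644), module WAT-[CENT] (helper39), conditional on WAT-[LOC]

A central element of `C_G(Q)` does not change the local rank.
-/

set_option autoImplicit false
set_option linter.style.haveILetI false

namespace Cfsg.Agent.Lib.Helper39.WAT

open Cfsg Cfsg.Agent.Lib.Helper16 Cfsg.Agent.Lib.Helper16.BP Cfsg.Agent.Lib.Helper77.WAT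
open Cfsg.Agent.Lib.Helper82
open scoped ComplexConjugate

universe u

variable {G : Type u} [Group G] [Fintype G] {M : Ideal AlgInt} {p : ℕ} [Fact p.Prime]
  {B : Set (IrrCharacter G)} {P : Subgroup G}
  {e : Set (IrrCharacter (Subgroup.centralizer (P : Set G)))}

/-- WAT-[CENT] with the instance of WAT-[LOC] it uses as a hypothesis. -/
theorem rk_sup_zpowers_of_central_of_loc (hM : IsPModular p M)
    (hmax : IsMaximalBrauerPair p M B P e)
    (hPab : ∀ x ∈ P, ∀ y ∈ P, x * y = y * x) {Q : Subgroup G} (hQP : Q ≤ P) {v : G} (hv : v ∈ P)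
    (hvc : ∀ g ∈ Subgroup.centralizer (Q : Set G), g * v = v * g)
    [Fintype ↥(Subgroup.centralizer (Q : Set G))]
    (hPL : P ≤ Subgroup.centralizer (Q : Set G))
    (hCP : Subgroup.centralizer (P : Set G) ≤ Subgroup.centralizer (Q : Set G))
    (hvL : v ∈ Subgroup.centralizer (Q : Set G))
    (hLOC : blockRank p (subF p M (P.subgroupOf (Subgroup.centralizer (Q : Set G)))
        (pullBlock (centEquivIn (Subgroup.centralizer (Q : Set G)) P hPL hCP) e)
        (⟨v, hvL⟩ : ↥(Subgroup.centralizer (Q : Set G)))) =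
      rk p M P e (Q ⊔ Subgroup.zpowers v)) :
    rk p M P e (Q ⊔ Subgroup.zpowers v) = rk p M P e Q := by
  classical
  haveI hMp := isPModular_isPrime hM
  have hmaxL := isMaximalBrauerPair_subFQ hM hmax hPab hQP hPL hCP
  have hvPL : (⟨v, hvL⟩ : ↥(Subgroup.centralizer (Q : Set G))) ∈
      P.subgroupOf (Subgroup.centralizer (Q : Set G)) := Subgroup.mem_subgroupOf.mpr hv
  have hind := isInducedBlock_subF hM hmaxL hvPL
  have htop : locC (⟨v, hvL⟩ : ↥(Subgroup.centralizer (Q : Set G))) = ⊤ := by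
    rw [eq_top_iff]
    intro g _
    rw [locC_mem_iff]
    show (⟨v, hvL⟩ : ↥(Subgroup.centralizer (Q : Set G))) * g = g * ⟨v, hvL⟩
    apply Subtype.ext
    exact (hvc g g.2).symm
  haveI : Fintype ↥(locC (⟨v, hvL⟩ : ↥(Subgroup.centralizer (Q : Set G)))) := Fintype.ofFinite _
  have hb := hind.1
  have hB' := hind.2.1
  have heq := (isInducedBlock_iff_of_eq_top htop hb hB').mp hind
  rw [← hLOC, heq, blockRank_pullBlock]
  rfl

end Cfsg.Agent.Lib.Helper39.WAT
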