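import Mathlib
import Cfsg.Agent.Lib.Helper77.WAT.Defs
import Cfsg.Agent.S4437
import Cfsg.Agent.Lib.Helper77.CyclicAutomizer
import Cfsg.Agent.Lib.Helper77.BrauerStab
import Cfsg.Agent.Lib.Helper77.NrmAct
import Cfsg.Agent.Lib.Helper16.StabGroup
import Cfsg.Agent.Lib.Helper16.AbelianDefect
import Cfsg.Agent.Lib.Helper16.MaxPair
import Cfsg.Agent.Lib.Helper16.InducedPair

/-!
# Project WAT (S4644), module WAT-[INERT] (helper39)

The inertial index `|N_G(P, e) : C_G(P)|` of a maximal pair with abelian `P` is prime to `p`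
(extended first main theorem, S4437).
-/

set_option autoImplicit false
set_option linter.style.haveILetI false

namespace Cfsg.Agent.Lib.Helper39.WAT

open Cfsg Cfsg.Agent.Lib.Helper16 Cfsg.Agent.Lib.Helper16.BP Cfsg.Agent.Lib.Helper77.WAT
open Cfsg.Agent.Lib Cfsg.Agent.Lib.Helper77 Cfsg.Agent.Lib.Helper78
open scoped ComplexConjugate

attribute [local instance] Cfsg.Agent.Lib.Helper77.nrmMulAction

universe u

variable {G : Type u} [Group G] [Fintype G] {M : Ideal AlgInt} {p : ℕ} [Fact p.Prime]
  {B : Set (IrrCharacter G)} {P : Subgroup G}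
  {e : Set (IrrCharacter (Subgroup.centralizer (P : Set G)))}

/-- `IsInertial` in the normalizer/stabilizer form. -/
theorem isInertial_iff {T : Subgroup G} (hT : IsInertial T P e) (g : G) :
    g ∈ T ↔ (g ∈ Subgroup.normalizer (P : Set G) ∧
      StabilizesBlock (Subgroup.centralizer (P : Set G)) e g) := by
  rw [hT g]
  constructor
  · intro h
    exact stabilizes_of_conjPair_eq_self h
  · rintro ⟨h1, h2⟩
    exact conjPair_eq_self_of_stabilizes h1 h2

/-- WAT-[INERT] : the inertial index is prime to `p` (S4437) -/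
theorem not_dvd_relIndex_inertial (hM : IsPModular p M) (hmax : IsMaximalBrauerPair p M B P e)
    (hPab : ∀ x ∈ P, ∀ y ∈ P, x * y = y * x) {T : Subgroup G} (hT : IsInertial T P e) :
    T ≤ Subgroup.normalizer (P : Set G) ∧ Subgroup.centralizer (P : Set G) ≤ T ∧
      ¬ p ∣ (Subgroup.centralizer (P : Set G)).relIndex T := by
  classical
  haveI : Fintype ↥(Subgroup.centralizer (P : Set G)) := Fintype.ofFinite _
  haveI hMp := isPModular_isPrime hM
  have hpp : p.Prime := Fact.out
  have hPp : IsPGroup p P := hmax.1.1.1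
  have hB : IsPBlock M B := hmax.1.2.1
  have hPD : IsDefectGroup p M B P := isDefectGroup_of_isMaximalBrauerPair hM B P e hmax
  have hPC : P ≤ Subgroup.centralizer (P : Set G) := by
    intro a ha
    rw [Subgroup.mem_centralizer_iff]
    intro b hb
    exact hPab b hb a ha
  have hc : IsInducedBlock M (Subgroup.centralizer (P : Set G)) e B :=
    isInducedBlock_of_isBrauerPairOf hM hPC hmax.1
  have hTiff := isInertial_iff hT
  have hH : Subgroup.centralizer (P : Set G) = P ⊔ Subgroup.centralizer (P : Set G) :=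
    (sup_eq_right.mpr hPC).symm
  haveI hPn : (P.subgroupOf (Subgroup.centralizer (P : Set G))).Normal := by
    constructor
    intro n hn g
    rw [Subgroup.mem_subgroupOf] at hn ⊢
    have hg := g.2 (n : G) hn
    show (g : G) * (n : G) * (g : G)⁻¹ ∈ P
    rw [← hg, mul_inv_cancel_right]
    exact hn
  have hbP : IsDefectGroup p M e (P.subgroupOf (Subgroup.centralizer (P : Set G))) := by
    obtain ⟨Db, hDb⟩ := exists_isDefectGroup p hc.1
    have h1 : P.subgroupOf (Subgroup.centralizer (P : Set G)) ≤ Db :=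
      normal_pGroup_le_defectGroup hM (P.subgroupOf (Subgroup.centralizer (P : Set G)))
        hPp.comap_subtype hc.1 hDb
    obtain ⟨E, hE, hle⟩ := Cfsg.Agent.S0917.result p M hM _ e hc.1 B hB hc Db hDb
    have h2 : Nat.card E = Nat.card P := by
      rw [card_defectGroup hM hB hE, card_defectGroup hM hB hPD]
    have h3 : Nat.card Db ≤ Nat.card E := by
      rw [← Subgroup.card_subtype (Subgroup.centralizer (P : Set G)) Db]
      exact Nat.le_of_dvd Nat.card_pos (Subgroup.card_dvd_of_le hle)
    have h4 : Nat.card (P.subgroupOf (Subgroup.centralizer (P : Set G))) = Nat.card P :=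
      Nat.card_congr (Subgroup.subgroupOfEquivOfLe hPC).toEquiv
    have hEQ : P.subgroupOf (Subgroup.centralizer (P : Set G)) = Db :=
      Subgroup.eq_of_le_of_card_ge h1 (by rw [h4, ← h2]; exact h3)
    rw [hEQ]
    exact hDb
  have hT' : ∀ g : G, g ∈ T ↔ (g ∈ Subgroup.normalizer (P : Set G) ∧ ∀ θ ∈ e,
      ∀ θ' : IrrCharacter (Subgroup.centralizer (P : Set G)),
      (∀ h h' : Subgroup.centralizer (P : Set G), (h' : G) = g * h * g⁻¹ →
        (θ' : _ → ℂ) h' = (θ : _ → ℂ) h) → θ' ∈ e) := by
    intro g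
    rw [hTiff]
    apply and_congr_right
    intro hg
    have hu := normalizer_le_normalizer_centralizer' P hg
    rw [stabilizesBlock_iff (Subgroup.centralizer (P : Set G)) ⟨g, hu⟩ e]
    constructor
    · intro h θ hθ θ' hθ'
      have := eq_smul_of_isConjCharOf (Subgroup.centralizer (P : Set G)) ⟨g, hu⟩ θ θ' hθ'
      rw [this, ← h]
      exact Set.smul_mem_smul_set hθ
    · intro h
      rw [← stabilizesBlock_iff]
      refine ⟨hu, fun χ hχ => ⟨(⟨g, hu⟩ : Subgroup.normalizer
        ((Subgroup.centralizer (P : Set G) : Subgroup G) : Set G)) • χ, ?_, ?_⟩⟩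
      · exact h χ hχ _ (isConjCharOf_smul (Subgroup.centralizer (P : Set G)) ⟨g, hu⟩ χ)
      · exact isConjCharOf_smul (Subgroup.centralizer (P : Set G)) ⟨g, hu⟩ χ
  have hidx : ¬ p ∣ (Subgroup.centralizer (P : Set G)).relIndex T :=
    (Cfsg.Agent.S4437.result p M hM P hPp (Subgroup.centralizer (P : Set G)) hH e hc.1 hbP B hc
      T hT').mp hPD
  refine ⟨fun g hg => ((hTiff g).mp hg).1, ?_, hidx⟩
  intro c hc'
  rw [hTiff]
  exact ⟨Subgroup.centralizer_le_normalizer _ hc',
    stabilizesBlock_of_mem_sup_centralizer P e (Subgroup.mem_sup_right hc')⟩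

end Cfsg.Agent.Lib.Helper39.WAT
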