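import Mathlib
import Cfsg.Agent.Lib.Helper77.WAT.Defs
import Cfsg.Agent.Lib.Helper16.PairRestrict
import Cfsg.Agent.Lib.Helper16.PairConj

/-!
# Project WAT (S4644), module WAT-[INERTQ] (helper39)

The inertial group of the restricted pair `(P_L, e_L)`, `L = C_G(Q)`, is `T ∩ C_G(Q)`.
-/

set_option autoImplicit false

namespace Cfsg.Agent.Lib.Helper39.WAT

open Cfsg Cfsg.Agent.Lib.Helper16 Cfsg.Agent.Lib.Helper16.BP Cfsg.Agent.Lib.Helper77.WAT
open scoped ComplexConjugate

universe u

variable {G : Type u} [Group G] {P : Subgroup G}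
  {e : Set (IrrCharacter (Subgroup.centralizer (P : Set G)))}

/-- WAT-[INERTQ] : the inertial group of the restricted pair is `T ∩ C_G(Q)` -/
theorem isInertial_restrict {T : Subgroup G} (hT : IsInertial T P e) {Q : Subgroup G}
    (hPL : P ≤ Subgroup.centralizer (Q : Set G))
    (hCP : Subgroup.centralizer (P : Set G) ≤ Subgroup.centralizer (Q : Set G)) :
    IsInertial (T.subgroupOf (Subgroup.centralizer (Q : Set G)))
      (P.subgroupOf (Subgroup.centralizer (Q : Set G)))
      (pullBlock (centEquivIn (Subgroup.centralizer (Q : Set G)) P hPL hCP) e) := by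
  intro t
  have ha' : P.map (MulAut.conj (t : G)).toMonoidHom ≤ Subgroup.centralizer (Q : Set G) :=
    map_conj_le_of_mem hPL t.2
  have hC' : Subgroup.centralizer ((P.map (MulAut.conj (t : G)).toMonoidHom : Subgroup G) :
      Set G) ≤ Subgroup.centralizer (Q : Set G) := centralizer_map_conj_le hCP t.2
  have h1 := restrictPair_conjPair (Subgroup.centralizer (Q : Set G)) P e hPL hCP t ha' hC'
  rw [Subgroup.mem_subgroupOf, hT (t : G)]
  constructor
  · intro h
    have h2 : conjPair t (restrictPair (Subgroup.centralizer (Q : Set G))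
        (⟨P, e⟩ : BrauerPairIdx G) hPL hCP) =
        restrictPair (Subgroup.centralizer (Q : Set G)) (⟨P, e⟩ : BrauerPairIdx G) hPL hCP := by
      rw [← h1]
      have h3 : (⟨P.map (MulAut.conj (t : G)).toMonoidHom, conjBlock P (t : G) e⟩ :
          BrauerPairIdx G) = ⟨P, e⟩ := h
      congr 1
    exact h2
  · intro ht
    have ht' : conjPair t (restrictPair (Subgroup.centralizer (Q : Set G))
        (⟨P, e⟩ : BrauerPairIdx G) hPL hCP) =
        restrictPair (Subgroup.centralizer (Q : Set G)) (⟨P, e⟩ : BrauerPairIdx G) hPL hCP := ht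
    rw [ht'] at h1
    exact restrictPair_injective (a := (⟨P.map (MulAut.conj (t : G)).toMonoidHom,
        conjBlock P (t : G) e⟩ : BrauerPairIdx G)) (b := (⟨P, e⟩ : BrauerPairIdx G))
        ha' hC' hPL hCP h1

end Cfsg.Agent.Lib.Helper39.WAT
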